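import Cfsg.Statements.S4551
import Cfsg.Agent.BLK.AlperinDade

set_option autoImplicit false
open Cfsg

namespace Cfsg.Agent.S4551

open CL.Char CL.Blk

/-- Let N be a normal subgroup of the finite group G of index prime to p, P a Sylow p-subgroup of G with G = N·C_G(P), and M a maximal ideal of the algebraic integers containing p. Then restriction to N is a bijection from the principal p-block of G onto the principal p-block of N: every member of the principal block of G restricts to a member of the principal block of N, and every member of the principal block of N is the restriction of exactly one member of the principal block of G. -/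
theorem result {G : Type*} [Group G] [Finite G] (p : ℕ) [Fact p.Prime] (M : Ideal Cfsg.AlgInt) (hM : Cfsg.IsPModular p M) (N : Subgroup G) [N.Normal] (hidx : ¬ p ∣ N.index) (P : Sylow p G) (hsup : N ⊔ Subgroup.centralizer ((P : Subgroup G) : Set G) = ⊤) : (∀ χ ∈ Cfsg.principalBlock M G, ∃ θ ∈ Cfsg.principalBlock M ↥N, ∀ n : N, (χ : G → ℂ) n = (θ : N → ℂ) n) ∧ ∀ θ ∈ Cfsg.principalBlock M ↥N, ∃! χ : Cfsg.IrrCharacter G, χ ∈ Cfsg.principalBlock M G ∧ ∀ n : N, (χ : G → ℂ) n = (θ : N → ℂ) n := by
  have := Fintype.ofFinite N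
  have hcov : CosetCov p N := cosetCov_of_sup_centralizer (fun h => ?_) hsup
  · refine ⟨fun χ hχ => ?_, fun θ hθ => ?_⟩
    · obtain ⟨θ, hθ, h⟩ := (χ.2.isCharacter.res N).exists_irr_inner_ne_zero
        fun h => χ.2.one_ne_zero (congrFun h 1)
      have := Fintype.ofFinite G
      have h1 := principal_of_under hM N hχ (θ := ⟨θ, hθ⟩) h
      obtain ⟨η, hη, e⟩ := exists_ext_of_not_dvd_index hM hcov hidx h1
      rw [eq_of_principal_of_ext hM hcov hidx hχ hη (funext e ▸ hθ) (funext e ▸ h)]
      exact ⟨_, h1, e⟩
    · obtain ⟨η, hη, e⟩ := exists_ext_of_not_dvd_index hM hcov hidx hθ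
      exact ⟨η, ⟨hη, e⟩, fun χ hχ => eq_of_principal_of_ext hM hcov hidx hχ.1 hη (funext e ▸ θ.2)
        (by rw [funext e, funext hχ.2, θ.2.inner_self]; exact one_ne_zero)⟩
  · have hPN : (P : Subgroup G) ≤ N := by
      obtain ⟨_ | k, hk⟩ := P.2.index (N.subgroupOf P)
      · exact Subgroup.relIndex_eq_one.1 hk
      · exact absurd ((dvd_pow_self p k.succ_ne_zero).trans
          (hk ▸ Subgroup.relIndex_dvd_index_of_normal N P)) hidx
    exact P.not_dvd_index (h.trans (Subgroup.relIndex_dvd_index_of_le hPN))

end Cfsg.Agent.S4551
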