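import Cfsg.Statements.S5738
-- import your own Cfsg.Agent.* helpers here

set_option autoImplicit false
open Cfsg

namespace Cfsg.Agent.S5738

/-- Let F ⊆ K be finite fields with |F| = q and [K : F] = n ≥ 2, so |K| = q^n. Regard K as an n-dimensional F-vector space; the multiplications by non-zero elements of K form a cyclic subgroup of GL_F(K) of order q^n − 1 acting regularly on the non-zero vectors (a Singer group). Its normaliser in GL_F(K) has order n·(q^n − 1). -/
theorem result {F K : Type*} [Field F] [Fintype F] [Field K] [Fintype K] [Algebra F K] (n : ℕ) (hn : 2 ≤ n) (hdim : Module.finrank F K = n) :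
    Nat.card (Subgroup.normalizer (((Units.map ((Algebra.lmul F K : K →ₐ[F] Module.End F K) : K →* Module.End F K)).range : Subgroup (Module.End F K)ˣ) : Set (Module.End F K)ˣ)) = n * (Fintype.card K - 1) := by
  classical
  set S : Subgroup (Module.End F K)ˣ := (Units.map ((Algebra.lmul F K : K →ₐ[F] Module.End F K) : K →* Module.End F K)).range with hS
  let L : Kˣ →* (Module.End F K)ˣ := Units.map ((Algebra.lmul F K : K →ₐ[F] Module.End F K) : K →* Module.End F K)
  have hL : ∀ (a : Kˣ) (x : K), (L a : Module.End F K) x = a * x := fun a x => rfl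
  let G : (K ≃ₐ[F] K) → (Module.End F K)ˣ := fun σ =>
    (LinearMap.GeneralLinearGroup.generalLinearEquiv F K).symm σ.toLinearEquiv
  have hG : ∀ σ x, (G σ : Module.End F K) x = σ x := fun σ x => rfl
  have hGi : ∀ σ x, ((G σ)⁻¹ : (Module.End F K)ˣ).1 x = σ.symm x := fun σ x => rfl
  have hmem : ∀ (a : Kˣ) (σ : K ≃ₐ[F] K), L a * G σ ∈ Subgroup.normalizer (S : Set (Module.End F K)ˣ) := by
    intro a σ
    refine Subgroup.mul_mem _ (Subgroup.le_normalizer ⟨a, rfl⟩) ?_
    have : Finite (S : Set (Module.End F K)ˣ) := (Set.finite_range L).to_subtype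
    apply Subgroup.mem_normalizer_fintype
    rintro _ ⟨b, rfl⟩
    refine ⟨Units.map (σ : K →* K) b, ?_⟩
    ext x
    change (L _ : Module.End F K) x = (G σ : Module.End F K) ((L b : Module.End F K) (((G σ)⁻¹ : (Module.End F K)ˣ).1 x))
    rw [hGi, hL, hL, hG]
    simp
  let Φ : Kˣ × (K ≃ₐ[F] K) → Subgroup.normalizer (S : Set (Module.End F K)ˣ) :=
    fun p => ⟨L p.1 * G p.2, hmem _ _⟩
  have hΦ : Function.Bijective Φ := by
    constructor
    · rintro ⟨a, σ⟩ ⟨b, τ⟩ h
      have h1 : ∀ x, (a : K) * σ x = b * τ x := by
        intro x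
        exact congrArg (fun u : Subgroup.normalizer (S : Set (Module.End F K)ˣ) =>
          ((u : (Module.End F K)ˣ) : Module.End F K) x) h
      have hab : a = b := by
        have := h1 1
        simpa [Units.ext_iff] using this
      subst hab
      congr 1
      ext x
      exact mul_left_cancel₀ a.ne_zero (h1 x)
    · rintro ⟨φ, hφ⟩
      have hinj : Function.Injective (φ : Module.End F K) :=
        ((LinearMap.GeneralLinearGroup.generalLinearEquiv F K) φ).injective
      have h1 : (φ : Module.End F K) 1 ≠ 0 := by
        intro h0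
        exact one_ne_zero (hinj (h0.trans (map_zero _).symm))
      have key : ∀ k x : K, (φ : Module.End F K) (k * x) * (φ : Module.End F K) 1 =
          (φ : Module.End F K) k * (φ : Module.End F K) x := by
        intro k x
        by_cases hk : k = 0
        · simp [hk]
        · obtain ⟨c, hc⟩ := (Subgroup.mem_normalizer_iff.mp hφ (L (Units.mk0 k hk))).mp ⟨_, rfl⟩
          have hc' : L c * φ = φ * L (Units.mk0 k hk) := by
            rw [show L c = _ from hc]; group
          have h2 : ∀ y, (c : K) * (φ : Module.End F K) y = (φ : Module.End F K) (k * y) := by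
            intro y
            exact congrArg (fun u : (Module.End F K)ˣ => (u : Module.End F K) y) hc'
          have h3 := h2 1
          rw [mul_one] at h3
          rw [← h2, ← h3]; ring
      let σ₀ : K →ₐ[F] K := AlgHom.ofLinearMap
        ((LinearMap.mulLeft F ((φ : Module.End F K) 1)⁻¹).comp (φ : Module.End F K))
        (by simp [h1]) (by
          intro x y
          have := key x y
          simp only [LinearMap.comp_apply, LinearMap.mulLeft_apply]
          field_simp
          rw [mul_comm]
          exact this)
      refine ⟨⟨Units.mk0 _ h1, AlgEquiv.ofBijective σ₀ σ₀.bijective⟩, ?_⟩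
      apply Subtype.ext
      ext x
      change (φ : Module.End F K) 1 * (((φ : Module.End F K) 1)⁻¹ * (φ : Module.End F K) x) = _
      field_simp
  rw [← Nat.card_eq_of_bijective Φ hΦ, Nat.card_prod, Nat.card_units, IsGalois.card_aut_eq_finrank,
    hdim, Nat.card_eq_fintype_card, mul_comm]

end Cfsg.Agent.S5738
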