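import Cfsg.Statements.S5947
import Cfsg.Agent.PERM.HupPair
import Cfsg.Agent.KSG.Zsigmondy
import Cfsg.Agent.S3784

set_option autoImplicit false
open Cfsg

namespace Cfsg.Agent.S5947

/-- Let F ⊆ K be finite fields with |F| = q and [K : F] = n ≥ 2, regard K as an n-dimensional F-vector space, and let M ≤ GL_F(K) be the Singer group of multiplications by non-zero elements of K (cyclic of order q^n − 1). Assume (n, q) ≠ (6, 2), and that it is not the case that n = 2 with q a prime such that q + 1 is a power of 2. Then every abelian subgroup of GL_F(K) of order q^n − 1 is conjugate to M. -/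
theorem result {F K : Type*} [Field F] [Fintype F] [Field K] [Fintype K] [Algebra F K] (n : ℕ) (hn : 2 ≤ n) (hdim : Module.finrank F K = n)
    (hex1 : ¬ (n = 6 ∧ Fintype.card F = 2))
    (hex2 : ¬ (n = 2 ∧ (Fintype.card F).Prime ∧ ∃ a : ℕ, Fintype.card F + 1 = 2 ^ a))
    (U : Subgroup (Module.End F K)ˣ) (hU : IsMulCommutative U) (hcard : Nat.card U = Fintype.card K - 1) :
    ∃ g : (Module.End F K)ˣ, U.map (MulAut.conj g).toMonoidHom = (Units.map ((Algebra.lmul F K : K →ₐ[F] Module.End F K) : K →* Module.End F K)).range := by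
  classical
  have hK : Fintype.card K = Fintype.card F ^ n := by rw [← hdim]; exact Module.card_eq_pow_finrank
  obtain ⟨r, hr, hrd, hrk⟩ := CL.Zsig.exists_zsigmondy_prime (Fintype.card F) n Fintype.one_lt_card
    (by omega) (fun h => hex1 ⟨h.2, h.1⟩) (by
      rintro ⟨h2, m, hm⟩
      refine hex2 ⟨h2, ?_, m, hm⟩
      obtain ⟨p, hp, k, hpr, hk⟩ := FiniteField.card' F
      have hm1 : 1 ≤ m := by
        rcases m with _ | m
        · simp at hm
        · omega
      rcases Cfsg.Agent.S3784.result 2 p m k Nat.prime_two hpr hm1 k.2 (by rw [← hm, hk]) with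
        h | h | h
      · rw [hk, h.2.1, pow_one]; exact hpr
      · have h3 := h.2.2.2
        have : 2 ≤ 2 ^ (k : ℕ) := Nat.le_self_pow k.2.ne' 2
        omega
      · have h3 : 2 ∣ 2 ^ m := dvd_pow_self 2 (by omega)
        rw [h.1] at h3; omega)
  have : Fact r.Prime := ⟨hr⟩
  have : Finite (Module.End F K) := Module.finite_of_finite F
  obtain ⟨x, hx⟩ := exists_prime_orderOf_dvd_card' (G := U) r (by rw [hcard, hK]; exact hrd)
  have hirr := CL.Hup.irr_of_primitive (r := r) (f := ((x : (Module.End F K)ˣ) : Module.End F K))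
    (by rw [← Units.val_pow_eq_pow_val, ← Subgroup.coe_pow, ← hx, pow_orderOf_eq_one]; rfl)
    (fun h => by
      have : x = 1 := Subtype.ext (Units.ext h)
      rw [this, orderOf_one] at hx
      exact hr.one_lt.ne hx)
    (by rw [hdim, Nat.card_eq_fintype_card]; exact hrk)
    (by
      rw [Nat.card_eq_fintype_card, hr.coprime_iff_not_dvd]
      intro h
      have h1 : r ∣ Fintype.card F ^ n := h.trans (dvd_pow_self _ (by omega))
      have h2 := Nat.dvd_sub h1 hrd
      rw [Nat.sub_sub_self (Nat.one_le_pow _ _ Fintype.card_pos)] at h2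
      exact hr.one_lt.ne' (Nat.dvd_one.1 h2))
  let A := Algebra.adjoin F (Units.val '' (U : Set (Module.End F K)ˣ))
  have hUA : ∀ u ∈ U, (u : Module.End F K) ∈ A := fun u hu => Algebra.subset_adjoin ⟨u, hu, rfl⟩
  have hc : IsMulCommutative A := Algebra.isMulCommutative_adjoin F (by
    rintro _ ⟨a, ha, rfl⟩ _ ⟨b, hb, rfl⟩
    rw [← Units.val_mul, ← Units.val_mul, setLike_mul_comm ha hb])
  have hA : ∀ a ∈ A, ∀ b ∈ A, a * b = b * a := fun a ha b hb => setLike_mul_comm ha hb
  have hinj : ∀ a ∈ A, ∀ w : K, w ≠ 0 → a w = 0 → a = 0 := fun a ha w hw h0 => by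
    rcases hirr (LinearMap.ker a) (fun v hv => by
      rw [LinearMap.mem_ker] at hv ⊢
      rw [← Module.End.mul_apply, hA _ ha _ (hUA _ x.2), Module.End.mul_apply, hv, map_zero]) with
      h | h
    · exact absurd ((Submodule.eq_bot_iff _).1 h w h0) hw
    · exact LinearMap.ker_eq_top.1 h
  let ev : A →ₗ[F] K := (LinearMap.applyₗ (1 : K)).comp A.val.toLinearMap
  have hev : ∀ a : A, ev a = (a : Module.End F K) 1 := fun a => rfl
  have hev1 : Function.Injective ev := (injective_iff_map_eq_zero _).2 fun a ha =>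
    Subtype.ext (hinj a a.2 1 one_ne_zero ha)
  have hev2 : Function.Surjective ev := by
    rcases hirr (LinearMap.range ev) (by
      rintro _ ⟨a, rfl⟩
      exact ⟨⟨_, hUA _ x.2⟩ * a, rfl⟩) with h | h
    · exact absurd ((Submodule.eq_bot_iff _).1 h _ ⟨1, rfl⟩) (by rw [hev]; simp)
    · exact LinearMap.range_eq_top.1 h
  let e := LinearEquiv.ofBijective ev ⟨hev1, hev2⟩
  have hrk : Module.finrank F A = Module.finrank F K := e.finrank_eq
  have : NoZeroDivisors A := ⟨fun {a b} h => by
    by_contra hc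
    push Not at hc
    have h1 : ev b ≠ 0 := fun h2 => hc.2 (hev1 (h2.trans (map_zero _).symm))
    exact hc.1 (Subtype.ext (hinj a a.2 _ h1 (by
      rw [hev, ← Module.End.mul_apply, ← Subalgebra.coe_mul, h]; rfl)))⟩
  have : IsDomain A := NoZeroDivisors.to_isDomain A
  have hψ : Nonempty (A →ₐ[F] K) := by
    let : CommRing A := { (inferInstance : Ring A) with
      mul_comm := fun a b => Subtype.ext (hA _ a.2 _ b.2) }
    let : Field A := (Finite.isField_of_domain A).toField
    exact FiniteField.nonempty_algHom_of_finrank_dvd (F := F) (K := A) (L := K) (dvd_of_eq hrk)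
  obtain ⟨ψ⟩ := hψ
  have hψ1 : Function.Injective ψ := (injective_iff_map_eq_zero _).2 fun a ha => by
    by_contra h0
    obtain ⟨b, hb⟩ := (Finite.injective_iff_surjective.1 (mul_right_injective₀ h0)) 1
    have := congrArg ψ hb
    simp [ha] at this
  let e' := LinearEquiv.ofBijective ψ.toLinearMap
    ⟨hψ1, (Finite.injective_iff_surjective_of_equiv e.toEquiv).1 hψ1⟩
  let g := LinearMap.GeneralLinearGroup.ofLinearEquiv (e.symm.trans e')
  refine ⟨g, Subgroup.eq_of_le_of_card_ge ?_ ?_⟩
  · rintro _ ⟨u, hu, rfl⟩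
    have h1 : ψ ⟨u, hUA u hu⟩ ≠ 0 := fun h => u.ne_zero
      (congrArg Subtype.val (hψ1 (h.trans (map_zero _).symm)))
    refine ⟨Units.mk0 _ h1, ?_⟩
    change _ = g * u * g⁻¹
    rw [eq_mul_inv_iff_mul_eq]
    ext v
    obtain ⟨a, rfl⟩ := e.surjective v
    have h2 : (u : Module.End F K) (e a) = e (⟨u, hUA u hu⟩ * a) := rfl
    change ψ ⟨u, hUA u hu⟩ * e' (e.symm (e a)) = e' (e.symm ((u : Module.End F K) (e a)))
    rw [h2, e.symm_apply_apply, e.symm_apply_apply]
    exact (map_mul ψ _ _).symm
  · rw [Subgroup.card_map_of_injective (MulAut.conj g).injective, hcard]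
    refine (Nat.card_le_card_of_surjective _ (MonoidHom.rangeRestrict_surjective _)).trans ?_
    rw [Nat.card_units, Nat.card_eq_fintype_card]

end Cfsg.Agent.S5947
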