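import Cfsg.Statements.S0717
import Cfsg.Agent.PERM.PermAlg

set_option autoImplicit false
open Cfsg

namespace Cfsg.Agent.S0717

/-- All suborbits of a transitive group are self-paired (every pair of points is interchanged by some group element) if and only if the permutation character is multiplicity-free and each of its irreducible constituents is real-valued. -/
theorem result {G : Type*} [Group G] [Fintype G] {Ω : Type*} [Fintype Ω] [MulAction G Ω] [MulAction.IsPretransitive G Ω] : (∀ a b : Ω, ∃ g : G, g • a = b ∧ g • b = a) ↔ ∀ χ : G → ℂ, Cfsg.IsIrrCharacter G χ → Cfsg.classInner (fun g : G => (Nat.card (MulAction.fixedBy Ω g) : ℂ)) χ ≠ 0 → Cfsg.classInner (fun g : G => (Nat.card (MulAction.fixedBy Ω g) : ℂ)) χ = 1 ∧ ∀ g : G, (starRingEnd ℂ) (χ g) = χ g := by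
  classical
  rw [show (fun g : G => (Nat.card (MulAction.fixedBy Ω g) : ℂ)) = _ from
    CL.PermAlg.character_eq.symm]
  constructor
  · intro h χ hχ h0
    have hs : ∀ T : Module.End ℂ (Ω → ℂ), (∀ g, Commute T (CL.Char.permRep G Ω g)) →
        (LinearMap.toMatrix' T).transpose = LinearMap.toMatrix' T := by
      intro T hT
      ext x y
      obtain ⟨g, h1, h2⟩ := h x y
      rw [Matrix.transpose_apply, ← CL.PermAlg.invMat_toMatrix' hT g x y, h1, h2]
    have h1 := (CL.PermAlg.multFree_of_commute (CL.Char.permRep G Ω) (fun S T hS hT => by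
      apply LinearMap.toMatrix'.injective
      rw [← hs _ fun g => (hS g).mul_left (hT g), LinearMap.toMatrix'_mul,
        LinearMap.toMatrix'_mul, Matrix.transpose_mul, hs S hS, hs T hT]) hχ).resolve_left h0
    refine ⟨h1, fun g => ?_⟩
    have h2 := hs _ fun g => CL.PermAlg.idem_comm _ hχ.isClassFunction g
    rw [CL.PermAlg.transpose_idem hχ.isCharacter] at h2
    have h3 := LinearMap.toMatrix'.injective h2
    have h4 := CL.PermAlg.trace_idem_mul (CL.Char.permRep G Ω) hχ g
    have h5 := CL.PermAlg.trace_idem_mul (CL.Char.permRep G Ω) hχ.conj g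
    have h6 := CL.Char.classInner_conj_conj (CL.Char.permRep G Ω).character χ
    have h7 : (fun g => (starRingEnd ℂ) ((CL.Char.permRep G Ω).character g)) =
        (CL.Char.permRep G Ω).character := by
      ext g
      simp [CL.PermAlg.character_eq]
    rw [h7, h1, map_one] at h6
    rw [h3, h6, hχ.isCharacter.conj_one, h4, h1] at h5
    simpa [CL.Char.card_ne_zero G] using h5.symm
  · intro h a b
    have h1 := CL.PermAlg.mem_span_idem (CL.Char.permRep G Ω)
      (fun χ hχ => (em _).imp_right fun h0 => (h χ hχ h0).1)
      (CL.PermAlg.commute_toLin' (CL.PermMod.invMat_adj ℂ (CL.PermMod.cls G a b)))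
    have h2 : ∀ T ∈ Submodule.span ℂ {E | ∃ χ, IsIrrCharacter G χ ∧
        classInner (CL.Char.permRep G Ω).character χ = 1 ∧
          E = CL.PermAlg.idem (CL.Char.permRep G Ω) χ},
        (LinearMap.toMatrix' T).transpose = LinearMap.toMatrix' T := by
      intro T hT
      induction hT using Submodule.span_induction with
      | mem x hx =>
        obtain ⟨χ, hχ, h1, rfl⟩ := hx
        rw [CL.PermAlg.transpose_idem hχ.isCharacter]
        congr 2
        exact funext (h χ hχ (by simp [h1])).2
      | zero => simp
      | add x y _ _ hx hy => rw [map_add, Matrix.transpose_add, hx, hy]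
      | smul a x _ hx => rw [map_smul, Matrix.transpose_smul, hx]
    have h3 := congrFun (congrFun (h2 _ h1) a) b
    rw [LinearMap.toMatrix'_toLin', Matrix.transpose_apply, CL.PermMod.adj_apply,
      CL.PermMod.adj_apply, if_pos rfl] at h3
    refine CL.PermMod.cls_eq_iff.1 ?_
    by_contra hc
    rw [if_neg hc] at h3
    exact zero_ne_one h3

end Cfsg.Agent.S0717
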