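import Cfsg.Statements.S3099
import Cfsg.Agent.INV.ABG.QGroup
import Cfsg.Agent.INV.ZStarCor
import Cfsg.Agent.SPOR.Model3

set_option autoImplicit false
open Cfsg

namespace Cfsg.Agent.S3099

open Subgroup in
theorem not_four {X : Type*} [Group X] [Finite X] (h1 : Cfsg.PRankLE 2 1 X)
    (E : Subgroup (X ⧸ Cfsg.oddCore X)) : ¬ IsKleinFour E := fun hE => by
  obtain ⟨P⟩ : Nonempty (Sylow 2 X) := inferInstance
  obtain ⟨Q, -, ⟨f⟩⟩ := CL.QDS.exists_sylow_quot P
  obtain ⟨g, hg⟩ := CL.ABG.exists_conj_le_sylow Q (P := E)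
    (IsPGroup.of_card (n := 2) hE.card_four)
  let φ : E →* X := (P : Subgroup X).subtype.comp (f.symm.toMonoidHom.comp
    (((MulAut.conj g).toMonoidHom.comp E.subtype).codRestrict _ fun x => hg x x.2))
  have hφ : Function.Injective φ := (P : Subgroup X).subtype_injective.comp (f.symm.injective.comp
    fun x y h => Subtype.ext ((MulAut.conj g).injective (congrArg Subtype.val h)))
  have := hE.isMulCommutative
  have h2 := h1 φ.range inferInstance (by
    rintro _ ⟨x, rfl⟩
    rw [← map_pow, sq, IsKleinFour.mul_self, map_one])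
  rw [← Nat.card_congr (MonoidHom.ofInjective hφ).toEquiv, hE.card_four] at h2
  omega

open Subgroup CL.GW CL.ABG in
theorem core_free {Y : Type*} [Group Y] [Finite Y] [hP : Group.IsPerfect Y]
    (hE : ∀ E : Subgroup Y, ¬ IsKleinFour E) (hO : Cfsg.oddCore Y = ⊥) (h2 : 2 ∣ Nat.card Y) :
    (∃ (F : Type) (_ : Field F) (_ : Fintype F), Odd (Fintype.card F) ∧ 3 < Fintype.card F ∧
        Nonempty (Y ≃* Matrix.SpecialLinearGroup (Fin 2) F)) ∨
      Cfsg.IsNonsplitDoubleCover Y ↥(alternatingGroup (Fin 7)) := by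
  obtain ⟨z, hz⟩ := exists_prime_orderOf_dvd_card' 2 h2
  have hzc := CL.BS.zstar_center (CL.BS.isolated_of_no_kleinFour hE hz) hO
  have hc : ∀ y ∈ zpowers z, ∀ x, x * y = y * x := fun y hy =>
    mem_center_iff.1 (zpowers_le.2 hzc hy)
  have hn : (zpowers z).Normal := ⟨fun y hy g => by rwa [hc y hy, mul_inv_cancel_right]⟩
  have hu : ∀ x : Y, x * x = 1 → x ∈ zpowers z := fun x hx => by
    by_contra h
    exact hE _ (CL.BS.isKleinFour_closure_pair (a := x)
      (orderOf_eq_prime (by rw [sq, hx]) fun h' => h (h' ▸ one_mem _)) hz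
      (fun h' => h (h' ▸ mem_zpowers _)) (hc z (mem_zpowers z) x))
  have hZ : IsPGroup 2 (zpowers z) := IsPGroup.of_card (n := 1) (by rw [Nat.card_zpowers, hz]; rfl)
  obtain ⟨P⟩ : Nonempty (Sylow 2 Y) := inferInstance
  have hD : D2 (Y ⧸ zpowers z) := by
    rcases CL.PCyc.isCyclic_or_quaternion P.isPGroup' (fun x y hx hy hxy => by
      by_contra h
      exact hE _ (CL.BS.isKleinFour_closure_pair (a := (x : Y)) (b := y) (by rwa [orderOf_coe])
        (by rwa [orderOf_coe]) (fun h' => h (Subtype.ext h' ▸ mem_zpowers _))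
        (congrArg Subtype.val hxy))) with h | ⟨-, n, ⟨e⟩⟩
    · exact d2_of_sylow (P.mapSurjective (QuotientGroup.mk'_surjective _))
        (CorD.map (Or.inl h) P.isPGroup' _)
    · have h1 : ∀ i, ∃ k : ℤ, ((e.symm (.a 1) : Y) ^ k)⁻¹ * e.symm (.a i) ∈ zpowers z := fun i =>
        ⟨i.val, by
          rw [zpow_natCast, ← coe_pow, ← map_pow, QuaternionGroup.a_one_pow, ZMod.natCast_zmod_val,
            inv_mul_cancel]
          exact one_mem _⟩
      refine d2_quot_of P (e.symm (.a 1)).2 (e.symm (.xa 0)).2 (hu _ ?_) ?_ fun x hx => ?_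
      · rw [← coe_mul, ← coe_mul, ← map_mul, ← map_mul, ← sq, ← sq, ← pow_mul,
          QuaternionGroup.xa_pow_four, map_one, coe_one]
      · rw [← coe_inv, ← coe_mul, ← coe_mul, ← coe_mul, ← map_inv, ← map_mul, ← map_mul, ← map_mul,
          show (QuaternionGroup.xa 0 * .a 1 * (QuaternionGroup.xa 0)⁻¹ * .a 1 :
            QuaternionGroup (2 ^ (n + 1))) = 1 from by
              rw [mul_eq_one_iff_eq_inv, mul_inv_eq_iff_eq_mul, eq_inv_mul_iff_mul_eq]; simp,
          map_one]
        exact one_mem _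
      · obtain ⟨y, hy⟩ := e.symm.surjective ⟨x, hx⟩
        obtain rfl : (e.symm y : Y) = x := congrArg Subtype.val hy
        rcases y with i | i
        · exact (h1 i).imp fun _ => Or.inl
        · rw [← coe_mul, ← map_mul, QuaternionGroup.xa_mul_xa]
          exact (h1 _).imp fun _ => Or.inr
  have hO' := oddCore_quot_eq_bot hO hc
  have hi := index_ne_two_of_perfect hP.commutator_eq_top
  have : Nontrivial (Y ⧸ zpowers z) := by
    by_contra h
    rw [not_nontrivial_iff_subsingleton, QuotientGroup.subsingleton_iff] at h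
    exact hi ⊥ (by rw [index_bot, ← card_top, ← h, Nat.card_zpowers, hz])
  obtain ⟨Q⟩ : Nonempty (Sylow 2 (Y ⧸ zpowers z)) := inferInstance
  obtain ⟨n, ⟨c⟩⟩ := hD.exists_coord_of_perfect Group.IsPerfect.commutator_eq_top Q
  have e : (Y ⧸ zpowers z) ≃* (Y ⧸ zpowers z) ⧸ oddCore (Y ⧸ zpowers z) :=
    (QuotientGroup.quotientBot.symm).trans (QuotientGroup.quotientMulEquivOfEq hO'.symm)
  rcases Cfsg.Agent.S0483.result Q (2 ^ n) (Nat.le_self_pow (by have := c.hn; omega) 2)
    (c.isSub_self.dihedral le_rfl) with ⟨F, _, _, h3, h4, ⟨f⟩⟩ | ⟨⟨f⟩⟩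
  · obtain ⟨ι, h5, h6, h7⟩ := exists_iota h3 hc hZ (L := ⊤) (topEquiv.trans (e.trans f)) (K := ⊤)
      (fun _ _ => trivial) fun x _ => hu x
    refine Or.inl ⟨F, _, _, h3, h4, ⟨(MulEquiv.ofBijective ι ⟨h5, fun x => ?_⟩).symm⟩⟩
    obtain ⟨s, y, hy, rfl⟩ := h7 x trivial
    have h8 : ι (-1) ∈ zpowers z := hu _ (by rw [← map_mul]; simp)
    have h9 : zpowers (ι (-1)) = zpowers z := eq_of_le_of_card_ge (zpowers_le.2 h8) (by
      rw [Nat.card_zpowers, Nat.card_zpowers, orderOf_injective ι h5, hz,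
        CL.Dk.orderOf_neg_one_SL2 (two_ne_zero_of_odd' h3)])
    obtain ⟨k, rfl⟩ := h9 ▸ hy
    exact ⟨s * (-1) ^ k, by rw [map_mul, map_zpow]⟩
  · have := alternatingGroup.isSimpleGroup (α := Fin 7) (by simp)
    refine Or.inr (CL.CE.isNonsplitDoubleCover_of ?_ hzc hz (e.trans f).symm hi)
    refine (inferInstance : (center (alternatingGroup (Fin 7))).Normal).eq_bot_or_eq_top.resolve_right
      fun h => ?_
    have h3 : Group.IsPerfect (alternatingGroup (Fin 7)) :=
      .ofSurjective (f := (e.trans f).toMonoidHom) (e.trans f).surjective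
    have h4 := h3.commutator_eq_top
    rw [(commutator_eq_bot_iff_center_eq_top _).2 h] at h4
    exact bot_ne_top h4


/-- Let X be a finite perfect group of 2-rank exactly 1 (X has even order and contains no Klein four-group). Then X modulo its largest normal subgroup of odd order is isomorphic to the special linear group of dimension 2 over a field with q elements for some odd q > 3, or is a non-split double cover of the alternating group of degree 7. -/
theorem result {X : Type*} [Group X] [Finite X] (hP : Group.IsPerfect X) (h1 : Cfsg.PRankLE 2 1 X) (h2 : Even (Nat.card X)) :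
    (∃ (F : Type) (_ : Field F) (_ : Fintype F), Odd (Fintype.card F) ∧ 3 < Fintype.card F ∧
        Nonempty (X ⧸ Cfsg.oddCore X ≃* Matrix.SpecialLinearGroup (Fin 2) F)) ∨
      Cfsg.IsNonsplitDoubleCover (X ⧸ Cfsg.oddCore X) ↥(alternatingGroup (Fin 7)) := by
  exact core_free (not_four h1) (CL.pPrimeCore_quotient_pPrimeCore 2 X)
    ((CL.coprime_card_pPrimeCore 2 X).symm.dvd_of_dvd_mul_right
      (Subgroup.card_eq_card_quotient_mul_card_subgroup (Cfsg.oddCore X) ▸ h2.two_dvd))

end Cfsg.Agent.S3099
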