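import Cfsg.Statements.S3946
import Cfsg.Agent.FGS.Kegel

set_option autoImplicit false
open Cfsg

namespace Cfsg.Agent.S3946

/-- Call an automorphism α of order n of a group G splitting when x · α(x) · α²(x) ⋯ α^(n−1)(x) = 1 for every x ∈ G. A finite group admitting a splitting automorphism of prime order is nilpotent (this contains the case of a fixed-point-free automorphism of prime order). -/
theorem result {G : Type*} [Group G] [Finite G] (α : MulAut G) (hp : (orderOf α).Prime)
    (hsplit : ∀ x : G, (((List.range (orderOf α)).map (fun i : ℕ => (α ^ i) x)).prod = 1)) : Group.IsNilpotent G := by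
  set p := orderOf α with hpdef
  let A := Subgroup.zpowers α
  let Γ := SemidirectProduct G A A.subtype
  have : Finite Γ := Finite.of_equiv _ (SemidirectProduct.equivProd).symm
  have : Fact p.Prime := ⟨hp⟩
  have hcard : Nat.card A = p := Nat.card_zpowers α
  let a : A := ⟨α, Subgroup.mem_zpowers α⟩
  have ha1 : a ≠ 1 := by
    intro h
    have : α = 1 := congrArg Subtype.val h
    rw [hpdef, this, orderOf_one] at hp
    exact Nat.not_prime_one hp
  have hap : a ^ p = 1 := Subtype.ext (pow_orderOf_eq_one α)
  have key : ∀ (x : G) (n : ℕ), (⟨x, a⟩ : Γ) ^ n =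
      ⟨((List.range n).map (fun i : ℕ => (α ^ i) x)).prod, a ^ n⟩ := by
    intro x n
    induction n with
    | zero => rfl
    | succ n ih =>
      rw [pow_succ, ih, List.range_succ, List.map_append, List.prod_append, pow_succ]
      refine SemidirectProduct.ext ?_ rfl
      simp [a]
  have h1 : ∀ g : Γ, SemidirectProduct.rightHom g = a → g ^ p = 1 := by
    rintro ⟨x, b⟩ hb
    have : b = a := hb
    subst this
    rw [key, hsplit, hap]
    rfl
  have h2 : ∀ g : Γ, g ∉ (SemidirectProduct.rightHom : Γ →* A).ker → g ^ p = 1 := by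
    intro g hg
    obtain ⟨j, hj⟩ : a ∈ Submonoid.powers (SemidirectProduct.rightHom g) :=
      mem_powers_of_prime_card hcard hg
    have hj' : SemidirectProduct.rightHom g ^ j = a := hj
    have hgp : SemidirectProduct.rightHom g ^ p = 1 := by
      rw [← hcard]; exact pow_card_eq_one'
    have e1 := h1 (g ^ j) (by rw [map_pow, hj'])
    have e2 := h1 (g ^ (j + p)) (by rw [map_pow, pow_add, hj', hgp, mul_one])
    rw [← pow_mul] at e1 e2
    rw [add_mul, pow_add, e1, one_mul] at e2
    have hpj : ¬ p ∣ j := by
      rintro ⟨k, rfl⟩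
      rw [pow_mul, hgp, one_pow] at hj'
      exact ha1 hj'.symm
    have e3 := Nat.dvd_gcd (orderOf_dvd_of_pow_eq_one e1) (orderOf_dvd_of_pow_eq_one e2)
    rw [Nat.gcd_mul_right, ((Nat.Prime.coprime_iff_not_dvd hp).2 hpj).symm, one_mul] at e3
    exact orderOf_dvd_iff_pow_eq_one.1 e3
  have h3 := CL.FGS.isNilpotent_of_forall_not_mem_pow_prime hp Γ _ inferInstance (by
    intro h
    have : (⟨1, a⟩ : Γ) ∈ (SemidirectProduct.rightHom : Γ →* A).ker := h ▸ Subgroup.mem_top _
    exact ha1 this) h2
  rw [← SemidirectProduct.range_inl_eq_ker_rightHom] at h3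
  exact Group.nilpotent_of_mulEquiv (MonoidHom.ofInjective
    (SemidirectProduct.inl_injective (φ := A.subtype))).symm
end Cfsg.Agent.S3946
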