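import Cfsg.Statements.S4069
import Cfsg.Agent.FGS.CycSylPerf
import Cfsg.Agent.INV.GW.Cor
import Cfsg.Agent.CLAS.OutGrp
import Cfsg.Agent.CLAS.AutPSL

set_option autoImplicit false
open Cfsg

namespace Cfsg.Agent.S4069

open Subgroup CL.CycS CL.PGL2 CL.Dk CL.ABG
open scoped MatrixGroups commutatorElement

theorem exists_psi {K : Type*} [Group K] [Finite K] [Nontrivial K] [Group.IsPerfect K] {F : Type*}
    [Field F] [Finite F] (h4 : 4 ≤ Nat.card F)
    (h : Nonempty (K ≃* PSL(2, F)) ∨ Nonempty (K ≃* SL(2, F))) : ∃ ψ : K →* PSL(2, F),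
      Function.Surjective ψ ∧ ψ.ker = center K ∧
        ∀ z ∈ center K, ∀ w ∈ center K, z ≠ 1 → w ≠ 1 → z = w := by
  have key : ∀ {L : Type _} [Group L] (e : K ≃* L) (x : K), e x ∈ center L ↔ x ∈ center K :=
    fun e x => by
      rw [mem_center_iff, mem_center_iff, e.surjective.forall]
      simp only [← map_mul, e.injective.eq_iff]
  rcases h with ⟨⟨e⟩⟩ | ⟨⟨e⟩⟩
  · have : Group.IsPerfect SL(2, F) := isPerfect_SL2 h4
    have h1 : center K = ⊥ := eq_bot_iff.2 fun x hx => by
      have := (key e x).2 hx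
      rw [Group.IsPerfect.center_quotient_center_eq_bot, mem_bot] at this
      exact e.injective (this.trans (map_one e).symm)
    exact ⟨e, e.surjective, by rw [h1, MonoidHom.ker_eq_bot_iff]; exact e.injective,
      fun z hz _ _ h => absurd (mem_bot.1 (h1 ▸ hz)) h⟩
  · refine ⟨(QuotientGroup.mk' _).comp e.toMonoidHom,
      (QuotientGroup.mk'_surjective _).comp e.surjective,
      Subgroup.ext fun x => (QuotientGroup.eq_one_iff _).trans (key e x), fun z hz w hw h1 h2 => ?_⟩
    have := fun u hu (h : u ≠ 1) => (mem_center_SL2 ((key e u).2 hu)).resolve_left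
      fun e' => h (e.injective (e'.trans (map_one e).symm))
    exact e.injective ((this z hz h1).trans (this w hw h2).symm)

theorem ci_quot {G : Type*} [Group G] [Finite G]
    (h2 : ∀ S : Sylow 2 G, ∃ C : Subgroup ↥(S : Subgroup G), IsCyclic C ∧ C.index ∣ 2)
    (N : Subgroup G) [N.Normal] : CI (G ⧸ N) := ci_of_sylow fun S => by
  obtain ⟨T, rfl⟩ := Sylow.mapSurjective_surjective (QuotientGroup.mk'_surjective N) 2 S
  obtain ⟨C, h1, h3⟩ := h2 T
  exact ⟨C.map ((QuotientGroup.mk' N).subgroupMap T),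
    isCyclic_of_surjective _ (MonoidHom.subgroupMap_surjective _ C),
    (index_map_dvd C (MonoidHom.subgroupMap_surjective _ _)).trans h3⟩

theorem card_aut (p : ℕ) [Fact p.Prime] (h : Odd p) :
    Nat.card (MulAut PSL(2, ZMod p)) = 2 * Nat.card PSL(2, ZMod p) := by
  have h1 := CL.AutPSL.card_range_gam (ι := Fin 2) (F := ZMod p)
  have : Subsingleton (ZMod p ≃+* ZMod p) := inferInstance
  rw [CL.AutPSL.range_gam_eq_top (by simp), card_top, Nat.card_of_subsingleton (RingEquiv.refl _),
    one_mul] at h1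
  rw [h1, ← (pslIn (ZMod p)).index_mul_card, index_pslIn_of_odd (by simpa using h),
    Nat.card_congr (pslInEquiv _).toEquiv]

/-- Let G be a finite non-solvable group whose Sylow subgroups of odd order are cyclic and whose Sylow 2-subgroups contain a cyclic subgroup of index at most 2. Then G has a normal subgroup G₀ of index at most 2 that is an internal direct product X × L of normal subgroups, where X has odd order and is an extension of a cyclic group by a cyclic group, L is isomorphic to PSL₂(p) or SL₂(p) for some prime p ≥ 5, and the orders of X and L are coprime. -/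
theorem result {G : Type*} [Group G] [Finite G] (hns : ¬ Group.IsSolvable G)
    (hodd : ∀ p : ℕ, p.Prime → p ≠ 2 → ∀ P : Sylow p G, IsCyclic P)
    (h2 : ∀ S : Sylow 2 G, ∃ C : Subgroup ↥(S : Subgroup G), IsCyclic C ∧ C.index ∣ 2) :
    ∃ G₀ : Subgroup G, G₀.Normal ∧ G₀.index ∣ 2 ∧
      ∃ X L : Subgroup ↥G₀, X.Normal ∧ L.Normal ∧ X ⊓ L = ⊥ ∧ X ⊔ L = ⊤ ∧ (Nat.card X).Coprime (Nat.card L) ∧
        Odd (Nat.card X) ∧ (∃ (C : Subgroup ↥X) (_ : C.Normal), IsCyclic C ∧ IsCyclic (↥X ⧸ C)) ∧
        ∃ (p : ℕ) (_ : Fact p.Prime), 5 ≤ p ∧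
          (Nonempty (↥L ≃* Matrix.ProjectiveSpecialLinearGroup (Fin 2) (ZMod p)) ∨
           Nonempty (↥L ≃* Matrix.SpecialLinearGroup (Fin 2) (ZMod p))) := by
  obtain ⟨K, _, hKp, hK1⟩ := CL.GW.exists_perfect_normal hns
  have hc := oc_of_sylow hodd
  have : Group.IsPerfect K := isPerfect_iff.2 hKp
  have := (nontrivial_iff_ne_bot K).2 hK1
  obtain ⟨p, hp, h5, hK⟩ := perfect_cases (hc.of_injective K.subtype_injective)
    ((ci_of_sylow h2).of_injective K.subtype_injective)
  have hpo : Odd p := hp.out.odd_of_ne_two (by omega)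
  obtain ⟨ψ, hψ, hker, hZ⟩ := exists_psi (by simp; omega) hK
  set C := centralizer (K : Set G) with hC
  have hcen : ∀ x : K, x ∈ center K ↔ (x : G) ∈ C := fun x => by
    simp [hC, mem_center_iff, mem_centralizer_iff, Subtype.ext_iff]
  have cen : ∀ z ∈ C ⊓ K, ∀ g, g * z * g⁻¹ = z := fun z hz g => by
    have h1 := (inferInstance : (C ⊓ K).Normal).conj_mem z hz g
    by_cases e : z = 1
    · simp [e]
    · exact congrArg Subtype.val (hZ ⟨_, h1.2⟩ ((hcen _).2 h1.1) ⟨z, hz.2⟩ ((hcen _).2 hz.1)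
        (fun h => e (by simpa using congrArg Subtype.val h)) fun h => e (congrArg Subtype.val h))
  have step : ∀ t ∈ C, t * t ∈ K → t ∈ K := fun t ht htt => by
    by_contra hn
    let π := QuotientGroup.mk' (C ⊓ K)
    let θ := (psl2pgl (ZMod p)).comp ψ
    have key : ∀ x y : K, π x = π y ↔ θ x = θ y := fun x y => by
      rw [show θ x = θ y ↔ ψ x = ψ y from psl2pgl_injective.eq_iff, ← inv_mul_eq_one (a := ψ x),
        ← map_inv, ← map_mul, ← MonoidHom.mem_ker, hker, hcen]
      exact QuotientGroup.eq.trans (and_iff_left (x⁻¹ * y).2)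
    obtain ⟨x, y, hx, hy, hxy⟩ := exists_quaternion_pair (F := ZMod p)
    obtain ⟨a, ha⟩ := hψ x
    obtain ⟨b, hb⟩ := hψ y
    have ha' : θ a = sl2pgl _ x := congrArg (psl2pgl (ZMod p)) ha
    have hb' : θ b = sl2pgl _ y := congrArg (psl2pgl (ZMod p)) hb
    have h1 := neg_one_ne_one_SL2 (CL.ABG.two_ne_zero_of_odd (F := ZMod p) (by simpa using hpo))
    have sq : ∀ (u : K) s, θ u = sl2pgl _ s → s * s = -1 → π u * π u = 1 ∧ π u ≠ 1 :=
      fun u s e h => ⟨(key (u * u) 1).2 (by
        rw [map_mul, e, ← map_mul, h, sl2pgl_neg, map_one, map_one]), fun e' => by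
          have := (key u 1).1 e'
          rw [e, map_one, sl2pgl_eq_one_iff] at this
          rcases this with rfl | rfl <;> exact h1 (by simpa using h.symm)⟩
    have cm : ∀ u : K, π u * π t = π t * π u := fun u => congrArg π (ht u u.2)
    have := (ci_quot h2 (C ⊓ K)).rank (c := π t) (sq a x ha' hx).1 (sq b y hb' hy).1
      ((QuotientGroup.eq_one_iff (t * t)).2 ⟨mul_mem ht ht, htt⟩)
      ((key (a * b) (b * a)).2 (by
        rw [map_mul, map_mul, ha', hb', ← map_mul, ← map_mul, hxy, sl2pgl_neg])) (cm a) (cm b)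
      (sq a x ha' hx).2 (sq b y hb' hy).2 (fun e => hn ((QuotientGroup.eq_one_iff t).1 e).2)
      fun e => by
        have := (key a b).1 e
        rw [ha', hb', sl2pgl_eq_iff] at this
        rcases this with rfl | rfl
        · exact h1 (by simpa [hy] using hxy)
        · exact h1 (Eq.symm (by simpa [hy] using hxy))
    have fin : ∀ u ∈ K, π t = π u → t ∈ K := fun u hu e => by
      simpa using mul_mem hu (QuotientGroup.eq.1 e.symm).2
    rcases this with e | e | e
    exacts [hn (fin _ a.2 e), hn (fin _ b.2 e), hn (fin _ (a * b).2 e)]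
  have two : ∀ k : ℕ, ∀ t ∈ C, t ^ 2 ^ k = 1 → t ∈ K := fun k => by
    induction k with
    | zero => intro t _ h; simp [show t = 1 by simpa using h]
    | succ k ih =>
      exact fun t ht h => step t ht (ih _ (mul_mem ht ht) (by rwa [← pow_two, ← pow_mul, ← pow_succ']))
  have hind : (K ⊔ C).index ∣ 2 := by
    let π := QuotientGroup.mk' C
    have hπ := QuotientGroup.mk'_surjective C
    have : (K.map π).Normal := Normal.map inferInstance π hπ
    obtain ⟨e⟩ := CL.OutGrp.nonempty_equiv_of_ker_eq (π.subgroupMap_surjective K) hψ (by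
      rw [hker]
      exact Subgroup.ext fun x => Subtype.ext_iff.trans
        ((QuotientGroup.eq_one_iff _).trans (hcen x).symm))
    have h1 : ⁅⁅K, (centralizer (K.map π : Set (G ⧸ C))).comap π⁆, K⁆ = ⊥ :=
      commutator_eq_bot_iff_le_centralizer.2 (commutator_le.2 fun a ha g hg =>
        (QuotientGroup.eq_one_iff _).1 ((map_commutatorElement π a g).trans
          (commutatorElement_eq_one_iff_mul_comm.2 (hg _ ⟨a, ha, rfl⟩))))
    have h3 := commutator_commutator_eq_bot_of_rotate h1 (by rwa [commutator_comm K] at h1)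
    rw [hKp, commutator_comm, commutator_eq_bot_iff_le_centralizer] at h3
    obtain ⟨J, -, ⟨f⟩⟩ := CL.GW.exists_aut_subgroup (eq_bot_iff.2 fun g hg => by
      obtain ⟨g, rfl⟩ := hπ g
      exact (QuotientGroup.eq_one_iff g).2 (h3 hg)) e
    have h4 := J.card_subgroup_dvd_card
    rw [card_aut p hpo, ← Nat.card_congr f.toEquiv, ← Nat.card_congr e.toEquiv,
      ← (K.map π).index_mul_card, mul_dvd_mul_iff_right Nat.card_pos.ne',
      ← index_comap_of_surjective _ hπ, comap_map_eq, QuotientGroup.ker_mk'] at h4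
    exact h4
  obtain ⟨T⟩ : Nonempty (Sylow 2 C) := inferInstance
  have hTK : ∀ t ∈ (T : Subgroup C), (t : G) ∈ K := fun t ht => by
    obtain ⟨k, hk⟩ := T.isPGroup' ⟨t, ht⟩
    exact two k t t.2 (congrArg Subtype.val (congrArg Subtype.val hk))
  have hT : normalizer (T : Set C) ≤ centralizer (T : Set C) := fun g _ t ht =>
    Subtype.ext (mul_inv_eq_iff_eq_mul.1 (cen t ⟨t.2, hTK t ht⟩ g)).symm
  have hY := MonoidHom.ker_transferSylow_isComplement' T hT
  have hYo := MonoidHom.not_dvd_card_ker_transferSylow T hT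
  set Y := (MonoidHom.transferSylow T hT).ker
  have hYC : Y.map C.subtype ≤ C := map_subtype_le _
  have hle : Y.map C.subtype ≤ K ⊔ C := hYC.trans le_sup_right
  have hXo : (Nat.card ((Y.map C.subtype).subgroupOf (K ⊔ C))).Coprime 2 := by
    rwa [Nat.card_congr (subgroupOfEquivOfLe hle).toEquiv, card_subtype, Nat.coprime_comm,
      Nat.prime_two.coprime_iff_not_dvd]
  have hbot : (Y.map C.subtype).subgroupOf (K ⊔ C) ⊓ K.subgroupOf (K ⊔ C) = ⊥ :=
    eq_bot_iff.2 fun x hx => by
      by_contra hn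
      have h1 : (x : G) ≠ 1 := fun e => hn (Subtype.ext e)
      have h3 := (hcen ⟨x, hx.2⟩).2 (hYC hx.1)
      have h4 : (x : G)⁻¹ = x := congrArg Subtype.val (hZ _ (inv_mem h3) _ h3
        (fun e => h1 (by simpa using congrArg Subtype.val e)) fun e => h1 (congrArg Subtype.val e))
      have h6 : orderOf x = 2 := orderOf_eq_prime (Subtype.ext (by
        simpa [pow_two] using mul_eq_one_iff_inv_eq.2 h4)) hn
      exact absurd (Nat.eq_one_of_dvd_coprimes hXo (h6 ▸ orderOf_dvd_natCard _ hx.1) dvd_rfl)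
        (by decide)
  have hc' := hc.of_injective (K ⊔ C).subtype_injective
  have := (hc'.of_injective (subtype_injective _)).isZGroup hXo
  refine ⟨K ⊔ C, inferInstance, hind, (Y.map C.subtype).subgroupOf _, K.subgroupOf _,
    (normal_subgroupOf_iff_le_normalizer hle).2 (sup_le ?_ ?_), inferInstance, hbot, ?_, ?_,
    Nat.coprime_two_right.1 hXo, ⟨commutator _, inferInstance, IsZGroup.isCyclic_commutator _,
      IsZGroup.isCyclic_abelianization⟩, p, hp, h5,
    hK.imp (Nonempty.map (subgroupOfEquivOfLe le_sup_left).trans)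
      (Nonempty.map (subgroupOfEquivOfLe le_sup_left).trans)⟩
  · exact (le_centralizer_iff.1 hYC).trans (centralizer_le_normalizer _)
  · refine le_trans ?_ (le_normalizer_map _)
    rw [normalizer_eq_top, ← MonoidHom.range_eq_map, range_subtype]
  · rw [← subgroupOf_sup hle le_sup_left, subgroupOf_eq_top]
    refine sup_le le_sup_right fun g hg => ?_
    obtain ⟨⟨y, t⟩, e⟩ := hY.2 ⟨g, hg⟩
    rw [← show ((y : C) : G) * (t : C) = g from congrArg Subtype.val e]
    exact mul_mem_sup ⟨y, y.2, rfl⟩ (hTK t t.2)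
  · refine Nat.coprime_of_dvd' fun r hr h1 h3 => ?_
    have := Fact.mk hr
    obtain ⟨x, hx⟩ := exists_prime_orderOf_dvd_card' r h1
    obtain ⟨l, hl⟩ := exists_prime_orderOf_dvd_card' r h3
    have h4 := hc'.mem_zpowers hr (by
      rintro rfl
      exact absurd (Nat.eq_one_of_dvd_coprimes hXo h1 dvd_rfl) (by decide))
      ((orderOf_coe x).trans hx) ((orderOf_coe l).trans hl) (Subtype.ext (hYC x.2 _ l.2).symm)
    have h6 : (l : ↥(K ⊔ C)) ∈ (⊥ : Subgroup _) := hbot ▸ ⟨zpowers_le.2 x.2 h4, l.2⟩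
    rw [show l = 1 from Subtype.ext h6, orderOf_one] at hl
    exact hl ▸ dvd_rfl

end Cfsg.Agent.S4069
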