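import Cfsg.Statements.S0999
import Cfsg.Agent.INV.Def1Br4

set_option autoImplicit false
open Cfsg

namespace Cfsg.Agent.S0999

/-- Let G be a non-cyclic finite simple group and p a prime divisor of its order with p^3 > |G|. Then p > 3 and G is isomorphic to the projective special linear group of dimension 2 over the field with p elements, or p - 1 is a power of 2 and G is isomorphic to that group over the field with p - 1 elements. -/
theorem result {G : Type*} [Group G] [Finite G] [IsSimpleGroup G] (hG : ¬ IsCyclic G) (p : ℕ) (hp : p.Prime) (hdvd : p ∣ Nat.card G) (hbig : Nat.card G < p ^ 3) : (∃ (F : Type) (_ : Field F) (_ : Fintype F), Fintype.card F = p ∧ 3 < p ∧ Nonempty (G ≃* Matrix.ProjectiveSpecialLinearGroup (Fin 2) F)) ∨ (∃ (m : ℕ) (F : Type) (_ : Field F) (_ : Fintype F), Fintype.card F = 2 ^ m ∧ p = 2 ^ m + 1 ∧ 3 < p ∧ Nonempty (G ≃* Matrix.ProjectiveSpecialLinearGroup (Fin 2) F)) := by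
  have := Fact.mk hp
  have hG' := CL.Small.not_comm_of_not_isCyclic hG
  obtain ⟨P⟩ : Nonempty (Sylow p G) := inferInstance
  have hv := CL.Small.one_lt_card_sylow hG' hdvd
  have hv' : p + 1 ≤ Nat.card (Sylow p G) := by
    have h1 := Nat.mod_add_div' (Nat.card (Sylow p G)) p
    rw [CL.Small.card_sylow_mod] at h1
    have : 1 ≤ Nat.card (Sylow p G) / p := Nat.pos_of_ne_zero fun h => by simp [h] at h1; omega
    nlinarith
  have hP : Nat.card P = p := by
    obtain ⟨k, hk⟩ := P.isPGroup'.exists_card_eq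
    have h1 := CL.Small.card_sylow_mul_card_normalizer P
    have h2 := Subgroup.card_le_of_le (P : Subgroup G).le_normalizer
    have h3 : k ≠ 0 := by
      rintro rfl
      exact P.ne_bot_of_dvd_card hdvd (Subgroup.card_eq_one.1 (by simpa using hk))
    have h4 : p ^ (k + 1) < p ^ 3 := by
      rw [pow_succ', ← hk]
      calc _ ≤ _ := Nat.mul_le_mul (by omega) h2
        _ < _ := h1 ▸ hbig
    have h5 := (Nat.pow_lt_pow_iff_right hp.one_lt).1 h4
    rw [hk, show k = 1 by omega, pow_one]
  obtain ⟨e, c, h1, -, h3, -, -, h6⟩ := CL.Small.prime_sylow_data hG' P hP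
  have h7 : Nat.card (Sylow p G) * c * e < p ^ 2 :=
    Nat.lt_of_mul_lt_mul_left (a := p) (by rw [h6] at hbig; linarith)
  have h8 : 0 < c := Nat.pos_of_mul_pos_left (h3 ▸ Nat.card_pos)
  have h9 := Nat.mul_le_mul (Nat.mul_le_mul_left (Nat.card (Sylow p G)) h8) h1
  have h10 := Nat.mul_le_mul (Nat.mul_le_mul_right c hv') h1
  refine CL.D1.brauer_simple hG' P hP (by nlinarith) ?_
  rw [h3]
  obtain ⟨k, rfl⟩ : ∃ k, p = k + 1 := ⟨p - 1, by have := hp.pos; omega⟩
  rw [Nat.add_sub_cancel, mul_comm]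
  exact Nat.mul_le_mul (by nlinarith) (by omega)

end Cfsg.Agent.S0999
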