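import Cfsg.Statements.S3968
import Cfsg.Agent.CHAR.FTSylow
import Cfsg.Agent.CHAR.Faithful
import Cfsg.Agent.PLOC.PNormal

set_option autoImplicit false
open Cfsg

namespace Cfsg.Agent.S3968

/-- Let `p` be a prime and `G` a finite group with a faithful irreducible complex character of degree `p` (so `G` is an irreducible linear group in `p` variables). If `p ^ 2` divides the order of `G`, then the centre of `G` is nontrivial. -/
theorem result {G : Type*} [Group G] [Finite G] (p : ℕ) (hp : p.Prime) (χ : Cfsg.IrrCharacter G) (hdeg : χ.1 1 = p) (hfaith : ∀ g : G, χ.1 g = χ.1 1 → g = 1) (hdiv : p ^ 2 ∣ Nat.card G) : Subgroup.center G ≠ ⊥ := by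
  classical
  intro hZ
  have := Fact.mk hp
  obtain ⟨χ, hχ⟩ := χ
  dsimp only at hdeg hfaith
  have hker : CL.Char.charKer χ = ⊥ := by
    rw [eq_bot_iff]
    exact fun g hg => hfaith g (hχ.mem_charKer.mp hg)
  have hd : charDegree χ = p := CL.Char.charDegree_eq_of_apply_one hdeg
  obtain ⟨P⟩ : Nonempty (Sylow p G) := inferInstance
  have := Fintype.ofFinite P
  obtain ⟨k, hk⟩ := IsPGroup.iff_card.1 P.isPGroup'
  have hP : p ^ 2 ∣ Nat.card P := P.pow_dvd_card_of_pow_dvd_card hdiv
  have h0 : ∀ z : P, z ∈ Subgroup.center P → z ≠ 1 → χ z = 0 := by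
    intro z hz hz1
    refine (hχ.eq_zero_or_norm_eq z ?_).resolve_right fun h => hz1 ?_
    · rw [hd, hp.coprime_iff_not_dvd]
      refine fun h => P.not_dvd_index (h.trans (Subgroup.index_dvd_of_le fun x hx => ?_))
      exact Subgroup.mem_centralizer_singleton_iff.mpr
        (congrArg Subtype.val (Subgroup.mem_center_iff.mp hz ⟨x, hx⟩))
    · have h1 := hχ.mem_charCenter.mpr h
      rw [hχ.charCenter_eq_center hker, hZ, Subgroup.mem_bot] at h1
      exact Subtype.ext h1
  have hnt : Nontrivial P := by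
    rw [← Finite.one_lt_card_iff_nontrivial]
    exact (Nat.one_lt_pow two_ne_zero hp.one_lt).trans_le (Nat.le_of_dvd Nat.card_pos hP)
  have h1 : ∀ ψ, IsIrrCharacter P ψ → classInner (fun x : P => χ x) ψ ≠ 0 → ψ 1 = 1 := by
    intro ψ hψ hne
    have h2 := (hχ.isCharacter.res P).charDegree_le_of_inner_ne_zero hψ hne
    rw [CL.Char.charDegree_res, hd] at h2
    rcases h2.eq_or_lt with h | h
    · obtain ⟨z, -, hz, hzp⟩ := CL.PN.exists_mem_center_orderOf_eq P.isPGroup' ⊤ top_ne_bot
      have h3 := (hχ.isCharacter.res P).eq_of_inner_ne_zero_of_degree hψ hne (by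
        rw [hψ.apply_one_eq_charDegree, h]; exact hdeg)
      have h4 := hψ.mem_charCenter.mp (hψ.center_le_charCenter hz)
      rw [← h3] at h4
      simp only at h4
      rw [h0 z hz (by rintro rfl; rw [orderOf_one] at hzp; exact hp.one_lt.ne hzp),
        CL.Char.charDegree_res, hd, norm_zero] at h4
      exact (hp.ne_zero (by exact_mod_cast h4.symm)).elim
    · exact hψ.isCharacter.charDegree_eq_one_iff.mp
        (CL.Char.eq_one_of_dvd_pow_of_lt hp (hk ▸ hψ.charDegree_dvd_card) h)
  have h2 : ∀ z : P, z ∈ Subgroup.center P := by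
    have : commutator P = ⊥ := by
      rw [eq_bot_iff]
      intro g hg
      have h := (hχ.isCharacter.res P).isClassFunction.apply_eq_of_constituents (g := g)
        fun ψ hψ hne => by rw [hψ.isCharacter.eq_one_of_mem_commutator (h1 ψ hψ hne) hg, h1 ψ hψ hne]
      exact Subtype.ext (hfaith _ h)
    rw [commutator_eq_bot_iff_center_eq_top] at this
    exact fun z => this ▸ Subgroup.mem_top z
  obtain ⟨n, hn⟩ := (hχ.isCharacter.res P).exists_nat_inner CL.Char.isCharacter_one
  rw [CL.Char.classInner_def, Finset.sum_eq_single 1 (fun z _ hz => by rw [h0 z (h2 z) hz, zero_mul])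
    (by simp), inv_mul_eq_iff_eq_mul₀ (by exact_mod_cast Nat.card_pos.ne')] at hn
  simp only [OneMemClass.coe_one, hdeg, map_one, mul_one] at hn
  have h3 : p = Nat.card P * n := by exact_mod_cast hn
  have h4 := Nat.le_of_dvd hp.pos (hP.trans (Dvd.intro _ h3.symm))
  have := hp.one_lt
  nlinarith

end Cfsg.Agent.S3968
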