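import Cfsg.Statements.S1011
import Cfsg.Agent.INV.SmallTI2

set_option autoImplicit false
open Cfsg

namespace Cfsg.Agent.S1011

/-- A simple group of order 504 is isomorphic to the projective special linear group of dimension 2 over the field with 8 elements. -/
theorem result {G : Type*} [Group G] [Finite G] [IsSimpleGroup G] (h : Nat.card G = 504) {F : Type*} [Field F] [Fintype F] (hF : Fintype.card F = 8) : Nonempty (G ≃* Matrix.ProjectiveSpecialLinearGroup (Fin 2) F) := by
  classical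
  open Subgroup CL.Small CL.D1 CL.Char in
  have hG := not_comm_of_not_prime (G := G) (by rw [h]; norm_num)
  have h7 : Nat.Prime 7 := by norm_num
  have := Fact.mk h7
  have := Fact.mk Nat.prime_three
  obtain ⟨P, n, z, c, D, hP, θ, hθ, h1⟩ := exists_SC_of_surv (p := 7) (e := 2)
    (f := fun s d => s == {8} && d == 9) hG (by rw [h]; norm_num) (by rw [h]; decide +kernel)
  simp only [Bool.and_eq_true, beq_iff_eq] at h1
  have h23 := D.no_order_mul hθ h1.1 (q := 2) (r := 3) Nat.prime_two Nat.prime_three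
    (by rw [h]; norm_num) (by
      rw [show charDegree θ.1 = 9 by rcases D.ε_sign with h | h <;> rw [h] at h1 <;> omega, h]
      norm_num) hP
  have h27 : ∀ g : G, 2 ∣ orderOf g → ¬ 7 ∣ orderOf g := fun g h2 h3 => by
    rw [hP.orderOf_sing h3] at h2; omega
  have h37 : ∀ g : G, 3 ∣ orderOf g → ¬ 7 ∣ orderOf g := fun g h2 h3 => by
    rw [hP.orderOf_sing h3] at h2; omega
  have hr : ∀ r, r.Prime → r ∣ Nat.card G → r = 2 ∨ r = 3 ∨ r = 7 := fun r hr h' =>
    eq_of_prime_dvd_three (i := 3) (j := 2) (k := 1) Nat.prime_two Nat.prime_three h7 hr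
      (h'.trans (dvd_of_eq h))
  have h9 : ∀ Q : Sylow 3 G, Nat.card Q = 3 ^ 2 := fun Q =>
    card_sylow_eq_of_factor Q (m := 56) (by rw [h]; norm_num) (by norm_num)
  have h8 : ∀ Q : Sylow 2 G, Nat.card Q = 2 ^ 3 := fun Q =>
    card_sylow_eq_of_factor Q (m := 63) (by rw [h]; norm_num) (by norm_num)
  have hC := centralizer_eq_of_card_sq h9 fun g hg r hr1 hr' => by
    rcases hr r hr1 (hr'.trans (orderOf_dvd_natCard g)) with rfl | rfl | rfl
    exacts [absurd hg (h23 g hr'), rfl, absurd hr' (h37 g hg)]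
  have h2 : ∀ g : G, 2 ∣ orderOf g → ∀ r, r.Prime → r ∣ orderOf g → r = 2 := fun g hg r hr1 hr' => by
    rcases hr r hr1 (hr'.trans (orderOf_dvd_natCard g)) with rfl | rfl | rfl
    exacts [rfl, absurd hr' (h23 g hg), absurd hr' (h27 g hg)]
  obtain ⟨Q⟩ : Nonempty (Sylow 3 G) := inferInstance
  obtain ⟨T⟩ : Nonempty (Sylow 2 G) := inferInstance
  have hn : Nat.card (Sylow 3 G) = 28 := by
    have h2 := card_sylow_modEq_of_TI Q (TI_of_centralizer hC Q)
    have h3 := card_sylow_dvd_of_factor (G := G) (p := 3) (a := 2) (m := 56) (by rw [h]; norm_num)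
      (by norm_num)
    have h4 := one_lt_card_sylow (p := 3) hG (by rw [h]; norm_num)
    rw [h9] at h2
    exact (by decide : ∀ m ∈ Nat.divisors 56, m % 3 ^ 2 = 1 % 3 ^ 2 → 1 < m → m = 28) _
      (Nat.mem_divisors.2 ⟨h3, by norm_num⟩) h2 h4
  have h3 := card_eq_of_three_primes Nat.prime_two Nat.prime_three h7 (by norm_num) (by norm_num)
    (by norm_num) hr h23 h27 h37
  have h4 := hP.card_G
  rw [card_pElements_of_TI Q (TI_of_centralizer hC Q), card_pElements_of_TI P
    fun R hR => sylow_inf_eq_bot_of_card_prime hP.card_P hR, hn, h9, hP.hv, hP.card_P, h] at h3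
  obtain ⟨t, ht, ht1, ht2⟩ := center_inf_ne_bot T.2 (T.ne_bot_of_dvd_card (by rw [h]; norm_num))
  have h5 := card_centralizer_mul_card_conj t
  rw [centralizer_eq_of_le h2 T ht ht1 fun y hy => mem_centralizer_singleton_iff'.2 (ht2 y hy).symm,
    h8, h] at h5
  obtain ⟨k, hk⟩ := orderOf_mem_sylow T ht
  have h6 : ∀ y : G, y ≠ 1 → (∃ k, orderOf y = 2 ^ k) → IsConj t y := by
    have h6 := (Function.Injective.bijective_of_nat_card_le (f := fun y : {y : G // IsConj t y} =>
      (⟨y.1, fun h => ht1 (isConj_one_left.1 (h ▸ y.2)), k, (orderOf_eq_of_isConj y.2).trans hk⟩ :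
        {y : G // y ≠ 1 ∧ ∃ k, orderOf y = 2 ^ k}))
      (fun _ _ h => Subtype.ext (Subtype.mk.inj h)) (by rw [h] at h4; omega)).2
    intro y hy hy'
    obtain ⟨x, hx⟩ := h6 ⟨y, hy, hy'⟩
    exact (Subtype.mk.inj hx) ▸ x.2
  obtain ⟨u, hu⟩ := exists_prime_orderOf_dvd_card' (G := G) 2 (by rw [h]; norm_num)
  have h10 := orderOf_eq_of_isConj (h6 u (by rintro rfl; simp at hu) ⟨1, hu⟩)
  have hC2 := centralizer_eq_of_comm (fun R => by
    have h11 : ∀ w ∈ (R : Subgroup G), w⁻¹ = w := fun w hw => by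
      by_cases hw1 : w = 1
      · simp [hw1]
      exact inv_eq_of_mul_eq_one_right (by rw [← sq, ← hu, h10, ← orderOf_eq_of_isConj
        (h6 w hw1 (orderOf_mem_sylow R hw)), pow_orderOf_eq_one])
    refine ⟨⟨fun a b => Subtype.ext ?_⟩⟩
    rw [coe_mul, coe_mul, ← h11 _ (mul_mem a.2 b.2), mul_inv_rev, h11 _ a.2, h11 _ b.2]) h2
  have hn2 : Nat.card (Sylow 2 G) = 9 := by
    have h11 := card_pElements_of_TI T (TI_of_centralizer hC2 T)
    rw [h8, h] at *
    omega
  exact psl_of_z2_even (z2_sylow (TI_of_centralizer hC2)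
    (fun R x hx hx1 b hb => (hC2 R x hx hx1).le (mem_centralizer_singleton_iff'.2 hb.symm))
    (fun R => by rw [hn2, h8]; rfl) (by rw [h]; norm_num)) (by rw [hn2, hF]) (by rw [hF]; decide)
    (by rw [h, hF]; rfl)

end Cfsg.Agent.S1011
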