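import Cfsg.Statements.S4249
import Cfsg.Agent.FGS.Kegel
import Cfsg.Agent.FGS.CyclicCrit

set_option autoImplicit false
open Cfsg

namespace Cfsg.Agent.S4249

/-- Let G be a finite group and p a prime such that G is not a p-group, and suppose the Hughes subgroup H_p(G), generated by all elements g with g^p ≠ 1, is a proper subgroup. Then H_p(G) is nilpotent and has index p in G. -/
theorem result {G : Type*} [Group G] [Finite G] (p : ℕ) (hp : p.Prime) (hG : ¬ IsPGroup p G)
    (hH : Subgroup.closure {g : G | g ^ p ≠ 1} ≠ ⊤) :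
    Group.IsNilpotent (Subgroup.closure {g : G | g ^ p ≠ 1}) ∧ (Subgroup.closure {g : G | g ^ p ≠ 1}).index = p := by
  set H := Subgroup.closure {g : G | g ^ p ≠ 1} with hHdef
  have : Fact p.Prime := ⟨hp⟩
  have hHn : H.Normal := by
    refine ⟨fun n hn g => ?_⟩
    have : H.map (MulAut.conj g).toMonoidHom ≤ H := by
      rw [hHdef, MonoidHom.map_closure]
      apply Subgroup.closure_mono
      rintro _ ⟨a, ha, rfl⟩ h
      apply ha
      rw [← map_pow] at h
      exact (MulAut.conj g).injective (h.trans (map_one _).symm)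
    exact this ⟨n, hn, rfl⟩
  have hpow : ∀ g, g ∉ H → g ^ p = 1 := fun g hg => by
    by_contra h
    exact hg (Subgroup.subset_closure h)
  have hnil := CL.FGS.isNilpotent_of_forall_not_mem_pow_prime hp G H hHn hH hpow
  refine ⟨hnil, ?_⟩
  have hQ : IsPGroup p (G ⧸ H) := by
    intro g
    obtain ⟨g, rfl⟩ := QuotientGroup.mk'_surjective H g
    refine ⟨1, ?_⟩
    by_cases hg : g ∈ H
    · have : QuotientGroup.mk' H g = 1 := (QuotientGroup.eq_one_iff g).2 hg
      rw [this, one_pow]
    · rw [pow_one, ← map_pow, hpow g hg, map_one]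
  by_contra hidx
  -- a minimal normal `q`-subgroup inside `H`
  have hHp : ¬ IsPGroup p H := fun h => hG (by
    have := IsPGroup.comap_of_ker_isPGroup (H := (⊤ : Subgroup (G ⧸ H))) (hQ.to_subgroup ⊤)
      (QuotientGroup.mk' H) (by rwa [QuotientGroup.ker_mk'])
    rw [Subgroup.comap_top] at this
    exact this.of_equiv Subgroup.topEquiv)
  obtain ⟨q, hq, hqd, hqp⟩ : ∃ q : ℕ, q.Prime ∧ q ∣ Nat.card H ∧ q ≠ p := by
    by_contra h
    push Not at h
    exact hHp (CL.isPGroup_iff_isPiNum.2 fun q hq hd => h q hq hd)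
  have : Fact q.Prime := ⟨hq⟩
  obtain ⟨Q⟩ : Nonempty (Sylow q H) := inferInstance
  have hQn : (Q : Subgroup H).Normal := CL.isNilpotent_iff_sylow_normal.1 hnil q inferInstance Q
  have hQc : (Q : Subgroup H).Characteristic := Q.characteristic_of_normal hQn
  have hQ' : ((Q : Subgroup H).map H.subtype).Normal := ConjAct.normal_of_characteristic_of_normal
  obtain ⟨V, hV, hVQ⟩ := CL.exists_isMinNormal_le ((Q : Subgroup H).map H.subtype) (by
    rw [Ne, Subgroup.map_eq_bot_iff_of_injective _ H.subtype_injective]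
    exact Q.ne_bot_of_dvd_card hqd)
  have hVq : IsPGroup q V := (Q.isPGroup'.map H.subtype).to_le hVQ
  have hVH : V ≤ H := hVQ.trans (Subgroup.map_subtype_le _)
  have := hV.normal
  have hVab : IsMulCommutative V := (hV.isElementaryAbelian_of_isPGroup hVq).1
  -- a central element of order `p` of `G / H`
  have hnt : Nontrivial (G ⧸ H) := QuotientGroup.nontrivial_iff.2 hH
  have := hQ.isNilpotent
  obtain ⟨z, hzZ, hz⟩ := CL.FGS.exists_center_orderOf_eq_prime (G := G ⧸ H) hp (by
    obtain ⟨k, hk⟩ := IsPGroup.iff_card.1 hQ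
    rw [hk]
    refine dvd_pow_self p ?_
    rintro rfl
    exact Finite.one_lt_card.ne' hk)
  have hzn : (Subgroup.zpowers z).Normal := CL.normal_of_le_center (by simpa using hzZ)
  set L := (Subgroup.zpowers z).comap (QuotientGroup.mk' H) with hL
  have hHL : H ≤ L := CL.le_comap_mk' H _
  have hLtop : L ≠ ⊤ := by
    intro h
    apply hidx
    have h1 := CL.relIndex_comap_mk' H (Subgroup.zpowers z)
    rw [← hL, h, Subgroup.relIndex_top_right, Nat.card_zpowers, hz] at h1
    exact h1
  obtain ⟨P⟩ : Nonempty (Sylow p G) := inferInstance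
  have hHP := CL.sup_sylow_eq_top_of_isPGroup_quotient H hQ P
  have hdec : ∀ g : G, ∃ h ∈ H, ∃ x ∈ (P : Subgroup G), h * x = g := fun g =>
    Subgroup.mem_sup_of_normal_left.1 (hHP ▸ Subgroup.mem_top g)
  obtain ⟨x, hxP, hxz⟩ : ∃ x ∈ (P : Subgroup G), QuotientGroup.mk' H x = z := by
    obtain ⟨g, rfl⟩ := QuotientGroup.mk'_surjective H z
    obtain ⟨h, hh, x, hx, rfl⟩ := hdec g
    refine ⟨x, hx, ?_⟩
    have : QuotientGroup.mk' H h = 1 := (QuotientGroup.eq_one_iff h).2 hh
    rw [map_mul, this, one_mul]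
  have hxH : x ∉ H := by
    intro h
    have : QuotientGroup.mk' H x = 1 := (QuotientGroup.eq_one_iff x).2 h
    rw [← hxz, this, orderOf_one] at hz
    exact hp.one_lt.ne hz
  obtain ⟨y, hyP, hyL⟩ : ∃ y ∈ (P : Subgroup G), y ∉ L := by
    by_contra h
    push Not at h
    exact hLtop (eq_top_iff.2 (hHP ▸ sup_le hHL h))
  apply hV.ne_bot
  refine CL.FGS.eq_bot_of_coset_pow_prime_eq_one hp V ((P : Subgroup G) ⊓ L) (y := y) ?_ ?_ ?_ ?_
  · refine CL.le_normalizer_inf (A := (P : Subgroup G)) Subgroup.le_normalizer ?_ hyP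
    rw [Subgroup.normalizer_eq_top_iff.2 inferInstance]; exact le_top
  · intro v hv s hs
    apply hpow
    intro h
    have := hHL h
    rw [L.mul_mem_cancel_left (hHL (hVH hv)), L.mul_mem_cancel_left hs.2] at this
    exact hyL this
  · rw [eq_bot_iff]
    rintro c ⟨hcV, hc⟩
    have hxS : x ∈ (P : Subgroup G) ⊓ L := ⟨hxP, by
      show QuotientGroup.mk' H x ∈ Subgroup.zpowers z
      rw [hxz]; exact Subgroup.mem_zpowers z⟩
    have hcomm : Commute c x := (hc x hxS).symm
    have h1 : (c * x) ^ p = 1 := hpow _ fun h => hxH ((H.mul_mem_cancel_left (hVH hcV)).1 h)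
    rw [hcomm.mul_pow, hpow x hxH, mul_one] at h1
    obtain ⟨k, hk⟩ := hVq ⟨c, hcV⟩
    have hk' : c ^ q ^ k = 1 := by simpa using congrArg Subtype.val hk
    have := Nat.eq_one_of_dvd_coprimes (((Nat.coprime_primes hq hp).2 hqp).pow_left k)
      (orderOf_dvd_of_pow_eq_one hk') (orderOf_dvd_of_pow_eq_one h1)
    exact orderOf_eq_one_iff.1 this
  · exact IsPGroup.coprime_card_of_ne q p hqp _ _ hVq (P.isPGroup'.to_le inf_le_left)
end Cfsg.Agent.S4249
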