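import Cfsg.Statements.S4550
import Cfsg.Agent.BLK.Princ2
-- import your own Cfsg.Agent.* helpers here

set_option autoImplicit false
open Cfsg

namespace Cfsg.Agent.S4550

/-- Let G be a finite group of even order and M a maximal ideal of the algebraic integers containing 2. Let k be a natural number with g ^ k = g ^ 3 for every 2-element g and g ^ k = g for every element g of odd order (such k exist); an irreducible character χ is unchanged by g ↦ g ^ k exactly when it is fixed by the field automorphism that cubes the 2-power roots of unity and fixes the roots of unity of odd order. Then the number of members χ of the principal 2-block of odd degree with χ (g ^ k) = χ g for all g is even. -/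
theorem result {G : Type*} [Group G] [Finite G] (M : Ideal Cfsg.AlgInt) (hM : Cfsg.IsPModular 2 M) (hev : Even (Nat.card G)) (k : ℕ) (hk₁ : ∀ g : G, (∃ j : ℕ, orderOf g = 2 ^ j) → g ^ k = g ^ 3) (hk₂ : ∀ g : G, Odd (orderOf g) → g ^ k = g) : Even (Nat.card {χ : Cfsg.IrrCharacter G // χ ∈ Cfsg.principalBlock M G ∧ Odd (Cfsg.charDegree (χ : G → ℂ)) ∧ ∀ g : G, (χ : G → ℂ) (g ^ k) = (χ : G → ℂ) g}) := by
  classical
  have := Fintype.ofFinite G
  have hcop : k.Coprime (Nat.card G) := by
    rw [Nat.coprime_comm, Nat.coprime_iff_gcd_eq_one]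
    by_contra h
    obtain ⟨r, hr, hd⟩ := Nat.exists_prime_and_dvd h
    have : Fact r.Prime := ⟨hr⟩
    obtain ⟨g, hg⟩ := exists_prime_orderOf_dvd_card' r (hd.trans (Nat.gcd_dvd_left _ _))
    have h1 : g ^ k = 1 := orderOf_dvd_iff_pow_eq_one.1 (hg ▸ hd.trans (Nat.gcd_dvd_right _ _))
    rcases hr.eq_two_or_odd' with rfl | ho
    · rw [hk₁ g ⟨1, by simpa using hg⟩, ← orderOf_dvd_iff_pow_eq_one, hg] at h1
      omega
    · rw [hk₂ g (hg ▸ ho)] at h1
      rw [h1, orderOf_one] at hg
      exact hr.one_lt.ne hg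
  -- iterating the power map
  obtain ⟨e, he⟩ : ∃ e : ℕ, ∀ g : G, g ^ k ^ 2 ^ e = g := by
    refine ⟨(Nat.card G).factorization 2, fun g => ?_⟩
    obtain ⟨u, s, rfl, hc, ⟨j, hj⟩, hs⟩ := CL.Blk.exists_isPPart Nat.prime_two g
    have hs' : ∀ m : ℕ, s ^ k ^ m = s := fun m => by
      induction m with
      | zero => simp
      | succ m ih => rw [pow_succ, pow_mul, ih, hk₂ s (Nat.odd_iff.2 (by omega))]
    have hu' : ∀ m : ℕ, u ^ k ^ m = u ^ 3 ^ m := fun m => by
      induction m with
      | zero => simp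
      | succ m ih =>
        rw [pow_succ, pow_mul, ih, hk₁ _ (CL.Blk.exists_orderOf_eq_pow_of_dvd Nat.prime_two ⟨j, hj⟩
          (orderOf_pow_dvd _)), ← pow_mul, pow_succ]
    rw [hc.mul_pow, hs', hu']
    congr 1
    have hje : j ≤ (Nat.card G).factorization 2 :=
      (Nat.prime_two.pow_dvd_iff_le_factorization Nat.card_pos.ne').1 (hj ▸ orderOf_dvd_natCard u)
    have h3 : 3 ^ 2 ^ (Nat.card G).factorization 2 ≡ 1 [MOD orderOf u] := by
      have h4 := Nat.ModEq.pow_totient (x := 3) (n := 2 ^ ((Nat.card G).factorization 2 + 1))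
        (Nat.Coprime.pow_right _ (by norm_num))
      rw [Nat.totient_prime_pow_succ Nat.prime_two] at h4
      rw [hj]
      exact (by simpa using h4 : 3 ^ 2 ^ (Nat.card G).factorization 2 ≡ 1
        [MOD 2 ^ ((Nat.card G).factorization 2 + 1)]).of_dvd (pow_dvd_pow _ (by omega))
    rw [pow_eq_pow_iff_modEq.2 h3, pow_one]
  let X := {χ : IrrCharacter G // χ ∈ principalBlock M G ∧ Odd (charDegree χ.1)}
  let F : Function.End X := fun χ => ⟨CL.Char.powIrr hcop χ.1,
    (CL.Blk.powIrr_mem_principal_iff hM hcop _).2 χ.2.1, by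
      have : charDegree (CL.Char.powIrr hcop χ.1).1 = charDegree χ.1.1 := by
        simp only [charDegree, CL.Char.powIrr_apply, one_pow]
      rw [this]; exact χ.2.2⟩
  have hF : ∀ (m : ℕ) (χ : X) (g : G), ((F ^ m) χ).1.1 g = χ.1.1 (g ^ k ^ m) := fun m => by
    induction m with
    | zero => intro χ g; simp; rfl
    | succ m ih =>
      intro χ g
      rw [pow_succ', pow_succ', pow_mul, ← ih]
      rfl
  have h1 := Equiv.Perm.card_fixedPoints_modEq (f := F) (p := 2) (n := e)
    (funext fun χ => Subtype.ext (Subtype.ext (funext fun g => by rw [hF, he]; rfl)))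
  have h2 : Nat.card {χ : Cfsg.IrrCharacter G // χ ∈ Cfsg.principalBlock M G ∧
      Odd (Cfsg.charDegree (χ : G → ℂ)) ∧ ∀ g : G, (χ : G → ℂ) (g ^ k) = (χ : G → ℂ) g} =
      Fintype.card F.fixedPoints := by
    rw [← Nat.card_eq_fintype_card]
    exact Nat.card_congr
      { toFun := fun χ => ⟨⟨χ.1, χ.2.1, χ.2.2.1⟩, Subtype.ext (Subtype.ext (funext χ.2.2.2))⟩
        invFun := fun χ => ⟨χ.1.1, χ.1.2.1, χ.1.2.2,
          fun g => congrFun (congrArg (fun x : X => x.1.1) χ.2) g⟩
        left_inv := fun _ => rfl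
        right_inv := fun _ => rfl }
  rw [h2, even_iff_two_dvd, ← (h1.dvd_iff dvd_rfl), ← CL.Blk.natCast_mem_nonunits_iff hM]
  obtain ⟨y, hy⟩ := exists_prime_orderOf_dvd_card' 2 hev.two_dvd
  have h3 := CL.Blk.sum_degree_mul_eq_zero hM CL.Blk.isPBlock_principalBlock (y := y) (by rw [hy])
  have h4 : (Fintype.card X : ℂ) = ∑ χ with χ ∈ principalBlock M G,
      (if Odd (charDegree χ.1) then (1 : ℂ) else 0) := by
    rw [Fintype.card_subtype, ← Finset.sum_filter, Finset.filter_filter]
    simp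
  rw [← sub_zero (Fintype.card X : ℂ), ← h3, h4, ← Finset.sum_sub_distrib]
  refine sum_mem fun χ _ => ?_
  have h5 := CL.Blk.char_sub_one_mem hM χ.2.isCharacter (x := y) ⟨1, by simpa using hy⟩
  have h6 : ((if Odd (charDegree χ.1) then (1 : ℂ) else 0) - χ.1 1 * χ.1 1) ∈ (CL.Blk.V M).nonunits := by
    rw [CL.Blk.irr_one_eq]
    have : ((if Odd (charDegree χ.1) then (1 : ℂ) else 0) - (charDegree χ.1 : ℂ) * charDegree χ.1) =
        (((if Odd (charDegree χ.1) then 1 else 0) - (charDegree χ.1 : ℤ) * charDegree χ.1 : ℤ) : ℂ) := by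
      push_cast; rfl
    rw [this, CL.Blk.intCast_mem_nonunits_iff hM]
    split_ifs with h
    · obtain ⟨m, hm⟩ := h
      exact ⟨-(2 * m * m + 2 * m), by rw [hm]; push_cast; ring⟩
    · obtain ⟨m, hm⟩ := Nat.not_odd_iff_even.1 h
      exact ⟨-(2 * m * m), by rw [hm]; push_cast; ring⟩
  have := sub_mem h6 (CL.Blk.mul_mem_nonunits_left (CL.Blk.irr_mem_V χ 1) h5)
  convert this using 1
  ring

end Cfsg.Agent.S4550
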