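import Cfsg.Statements.S4888
import Cfsg.Agent.BLK.Princ3
-- import your own Cfsg.Agent.* helpers here

set_option autoImplicit false
open Cfsg

namespace Cfsg.Agent.S4888

/-- Let G be a finite group, p a prime and M a maximal ideal of the algebraic integers containing p. Then all height-zero irreducible characters of the principal p-block of G (equivalently, all its characters of degree prime to p) have the same degree if and only if G has a normal p-complement. -/
theorem result {G : Type*} [Group G] [Finite G] (p : ℕ) [Fact p.Prime] (M : Ideal Cfsg.AlgInt) (hM : Cfsg.IsPModular p M) : (∃ d : ℕ, ∀ χ : Cfsg.IrrCharacter G, χ ∈ (Cfsg.principalBlock M G) → Cfsg.blockHeight p (Cfsg.principalBlock M G) (χ : G → ℂ) = 0 → Cfsg.charDegree (χ : G → ℂ) = d) ↔ Cfsg.HasNormalPComplement p G := by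
  have hp : p.Prime := Fact.out
  constructor
  · rintro ⟨d, hd⟩
    have h1 : d = 1 := by
      rw [← hd (CL.Char.irrOne G) (CL.Blk.mem_principal_of_reg_ker hM _ fun _ _ => rfl)
        (CL.Blk.blockHeight_one hp _)]
      exact CL.Blk.charDegree_one
    refine CL.Blk.hasNPC_of_linear hM fun χ hχ h => ?_
    rw [CL.Blk.irr_one_eq, hd χ hχ (CL.Blk.blockHeight_of_not_dvd _ h), h1, Nat.cast_one]
  · intro h
    obtain ⟨k, hk⟩ := CL.Blk.hasNPC_iff_index_pPrimeCore.1 h
    refine ⟨1, fun χ hχ h0 => ?_⟩
    obtain ⟨ψ, rfl⟩ := (CL.Char.mem_range_irrInfl (QuotientGroup.mk' (pPrimeCore p G))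
      (QuotientGroup.mk'_surjective _) χ).2 fun n hn =>
        CL.Blk.pPrimeCore_ker_of_mem_principal hM hχ n ((QuotientGroup.eq_one_iff n).1 hn)
    have hd : charDegree (CL.Char.irrInfl (QuotientGroup.mk' (pPrimeCore p G))
        (QuotientGroup.mk'_surjective _) ψ : G → ℂ) = charDegree ψ.1 := by
      unfold charDegree
      rw [CL.Char.irrInfl_apply, map_one]
    rw [CL.Blk.blockHeight_principal hM, hd] at h0
    rw [hd]
    have hdvd := CL.Blk.charDegree_dvd_card ψ
    rw [← Subgroup.index_eq_card, hk] at hdvd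
    obtain ⟨j, -, hj⟩ := (Nat.dvd_prime_pow hp).1 hdvd
    rw [hj, Nat.Prime.factorization_pow hp, Finsupp.single_eq_same] at h0
    rw [hj, h0, pow_zero]

end Cfsg.Agent.S4888
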