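import Cfsg.Statements.S4549
import Cfsg.Agent.S4550
import Cfsg.Agent.S4888
import Cfsg.Agent.BLK.Princ3
import Cfsg.Agent.BLK.GCanon

set_option autoImplicit false
open Cfsg

namespace Cfsg.Agent.S4549

open CL.Char CL.Blk in
theorem back {G : Type*} [Group G] [Finite G] {M : Ideal AlgInt} (hM : IsPModular 2 M) {k : ℕ}
    (hk₁ : ∀ g : G, (∃ j : ℕ, orderOf g = 2 ^ j) → g ^ k = g ^ 3)
    (hk₂ : ∀ g : G, Odd (orderOf g) → g ^ k = g)
    (h : ∀ χ ∈ principalBlock M G, Odd (charDegree (χ : G → ℂ)) →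
      (∀ g : G, (χ : G → ℂ) (g ^ k) = (χ : G → ℂ) g) → charDegree (χ : G → ℂ) = 1) :
    HasNormalPComplement 2 G := by
  classical
  have hp : Nat.Prime 2 := Nat.prime_two
  rw [CL.hasNPC_iff_not_dvd_card_pResidual]
  intro hdvd
  obtain ⟨P⟩ : Nonempty (Sylow 2 G) := inferInstance
  obtain ⟨a, ha⟩ := CL.exists_pResidual_index (p := 2) (G := G)
  have hsup := CL.pResidual_sup_sylow P
  have hperf : pResidual 2 (pResidual 2 G) = ⊤ := CL.pResidual_pResidual
  generalize hN : pResidual 2 G = N at hdvd ha hsup hperf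
  have : N.Normal := hN ▸ inferInstance
  have hr : ∀ g, ¬ 2 ∣ orderOf g → g ∈ N := fun g hg => mem_of_reg_of_index hp ha hg
  have := Fintype.ofFinite G
  have := Fintype.ofFinite N
  have hk : k.Coprime (Nat.card G) := by
    refine Nat.Coprime.symm (Nat.coprime_of_dvd fun q hq hqG hqk => ?_)
    have := Fact.mk hq
    obtain ⟨g, hg⟩ := exists_prime_orderOf_dvd_card' q hqG
    have h1 : g ^ k = 1 := orderOf_dvd_iff_pow_eq_one.1 (hg ▸ hqk)
    have h2 : g ^ k = g := by
      rcases hq.eq_two_or_odd' with rfl | ho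
      · rw [hk₁ g ⟨1, by rw [hg, pow_one]⟩, pow_succ, ← hg, pow_orderOf_eq_one, one_mul]
      · exact hk₂ g (hg ▸ ho)
    rw [h1] at h2
    rw [← h2, orderOf_one] at hg
    exact hq.ne_one hg.symm
  have hcop : ∀ {d : ℕ}, ¬ 2 ∣ d → N.index.Coprime d := fun hd => by
    rw [ha]; exact Nat.Coprime.pow_left _ ((Nat.Prime.coprime_iff_not_dvd hp).2 hd)
  let Q : IrrCharacter N → Prop := fun θ => θ ∈ principalBlock M N ∧ Odd (charDegree θ.1) ∧
    ∀ n : N, θ.1 (n ^ k) = θ.1 n
  have h1 : Even (Nat.card {θ : IrrCharacter N // Q θ}) :=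
    Cfsg.Agent.S4550.result (G := N) M hM (even_iff_two_dvd.2 hdvd) k
      (fun g hg => Subtype.ext (by
        simpa using hk₁ g (by simpa only [Subgroup.orderOf_coe] using hg)))
      (fun g hg => Subtype.ext (by
        simpa using hk₂ g (by simpa only [Subgroup.orderOf_coe] using hg)))
  have hQ : ∀ u : G, ∀ θ, Q θ → Q (irrCj N u θ) := fun u θ hθ =>
    ⟨(irrCj_mem_principal_iff N hM u θ).2 hθ.1, by
      have : charDegree (irrCj N u θ).1 = charDegree θ.1 := by
        simp only [charDegree, coe_irrCj, conjN_apply_one]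
      rw [this]; exact hθ.2.1, fun n => by
      change θ.1 (conjEquiv N u (n ^ k)) = θ.1 (conjEquiv N u n)
      rw [map_pow, hθ.2.2]⟩
  have hQ' : ∀ u : G, ∀ θ, Q (irrCj N u θ) ↔ Q θ := fun u θ => ⟨fun hq => by
    have := hQ u⁻¹ _ hq
    rwa [← irrCj_mul, mul_inv_cancel, show irrCj N 1 θ = θ from Subtype.ext (conjN_one _)] at this,
    hQ u θ⟩
  have h2 := sum_sub_sum_inv_mem N hM P.isPGroup' (fun θ => if Q θ then (1 : ℂ) else 0)
    (fun θ => by
      split_ifs
      exacts [one_mem _, zero_mem _])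
    (fun u _ θ => by simp only [hQ'])
  have h3 : ∑ θ, (if Q θ then (1 : ℂ) else 0) ∈ (V M).nonunits := by
    rw [Finset.sum_boole, natCast_mem_nonunits_iff hM, ← Fintype.card_subtype,
      ← Nat.card_eq_fintype_card]
    exact h1.two_dvd
  rw [mem_nonunits_iff_of_sub h2] at h3
  -- the invariant linear characters of the principal block
  let L : Subgroup (N →* ℂˣ) := linPrinc hM N ⊓
    { carrier := {lam | ∀ u ∈ (P : Subgroup G), irrCj N u (irrOfHom lam) = irrOfHom lam}
      one_mem' := fun u _ => rfl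
      mul_mem' := fun {a b} ha hb u hu => Subtype.ext (funext fun n => by
        have e1 := congrFun (congrArg Subtype.val (ha u hu)) n
        have e2 := congrFun (congrArg Subtype.val (hb u hu)) n
        simp only [irrCj_apply, irrOfHom_apply, MonoidHom.mul_apply, Units.val_mul] at e1 e2 ⊢
        rw [e1, e2])
      inv_mem' := fun {a} ha u hu => Subtype.ext (funext fun n => by
        have e1 := congrFun (congrArg Subtype.val (ha u hu)) n
        simp only [irrCj_apply, irrOfHom_apply, MonoidHom.inv_apply,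
          Units.val_inv_eq_inv_val] at e1 ⊢
        rw [e1]) }
  have hidx := not_dvd_index_commutator_of_pResidual hperf
  have hL : ¬ 2 ∣ Nat.card L := fun hd => hidx (by
    rw [← card_hom]; exact hd.trans (Subgroup.card_subgroup_dvd_card L))
  have hlk : ∀ (l : N →* ℂˣ) (n : N), l (n ^ k) = l n := fun l n => by
    obtain ⟨x, y, -, hc, ⟨j, hj⟩, hy, rfl⟩ := CL.exists_p_part_mul_p'_part (p := 2) n
    have hx : l x = 1 := by
      have e1 : l x ^ 2 ^ j = 1 := by rw [← map_pow, hj, map_one]
      have e2 : l x ^ (commutator N).index = 1 := by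
        rw [← map_pow]
        exact Abelianization.commutator_subset_ker l (Subgroup.pow_index_mem _ x)
      have := pow_gcd_eq_one.2 ⟨e1, e2⟩
      rwa [Nat.Coprime.pow_left j ((Nat.Prime.coprime_iff_not_dvd hp).2 hidx), pow_one] at this
    have hy' : y ^ k = y := Subtype.ext (by
      simpa using hk₂ y (by
        rw [Subgroup.orderOf_coe]; exact Nat.coprime_two_right.1 hy))
    rw [map_pow, map_mul, hx, one_mul, ← map_pow, hy']
  apply hL
  rw [← natCast_mem_nonunits_iff hM]
  have hcard : (Nat.card L : ℂ) = ∑ θ with (∀ u ∈ (P : Subgroup G), irrCj N u θ = θ),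
      if Q θ then 1 else 0 := by
    rw [Finset.sum_boole, Finset.filter_filter, ← Nat.card_eq_finsetCard]
    congr 1
    refine Nat.card_congr (Equiv.ofBijective (fun l => ⟨irrOfHom l.1, by
      simp only [Finset.mem_filter, Finset.mem_univ, true_and]
      refine ⟨l.2.2, l.2.1, ?_, fun n => by rw [irrOfHom_apply, irrOfHom_apply, hlk]⟩
      rw [charDegree_of_eq (n := 1) (by simp [irrOfHom_apply])]
      exact odd_one⟩) ⟨fun a b e => ?_, ?_⟩)
    · exact Subtype.ext (irrOfHom_injective (congrArg Subtype.val e))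
    · rintro ⟨θ, hθ⟩
      simp only [Finset.mem_filter, Finset.mem_univ, true_and] at hθ
      obtain ⟨hi, hB, hd, hf⟩ := hθ
      have hd' : ¬ 2 ∣ charDegree θ.1 := hd.not_two_dvd_nat
      obtain ⟨χ, he, ho⟩ := exists_canon_ext N ha (inertia_eq_top_of_sup N hsup hi) hd'
        (not_dvd_detOrder_of_pResidual hperf _)
      have hχ := (mem_principal_iff_of_under hM N hr (inner_res_ne_zero_of_ext he)).2 hB
      have hχk : ∀ g, χ.1 (g ^ k) = χ.1 g := fun g => by
        refine congrFun (ext_unique_of_coprime _ θ.2 (irr_one_eq θ) (hcop hd')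
          (χ.2.isCharacter.pow_coprime hk) χ.2.isCharacter (fun n => ?_) he
          (hcop fun h => ho (h.trans (CL.Glb.detOrder_pow_dvd χ.2.isCharacter hk))) (hcop ho)) g
        rw [← hf n, ← he]; rfl
      have e := h χ hχ (by rwa [charDegree_eq_of_ext he]) hχk
      rw [charDegree_eq_of_ext he] at e
      obtain ⟨lam, hl⟩ := θ.2.isCharacter.exists_hom (by rw [irr_one_eq, e, Nat.cast_one])
      have e : irrOfHom lam = θ := Subtype.ext hl.symm
      subst e
      exact ⟨⟨lam, hB, hi⟩, rfl⟩
  rw [hcard]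
  exact h3

/-- Let G be a finite group and M a maximal ideal of the algebraic integers containing 2. Let k be a natural number with g ^ k = g ^ 3 for every 2-element g and g ^ k = g for every element g of odd order (such k exist); an irreducible character χ is unchanged by g ↦ g ^ k exactly when it is fixed by the field automorphism that cubes the 2-power roots of unity and fixes the roots of unity of odd order. Then G has a normal 2-complement if and only if every member χ of the principal 2-block of odd degree with χ (g ^ k) = χ g for all g has degree one. -/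
theorem result {G : Type*} [Group G] [Finite G] (M : Ideal Cfsg.AlgInt) (hM : Cfsg.IsPModular 2 M) (k : ℕ) (hk₁ : ∀ g : G, (∃ j : ℕ, orderOf g = 2 ^ j) → g ^ k = g ^ 3) (hk₂ : ∀ g : G, Odd (orderOf g) → g ^ k = g) : Cfsg.HasNormalPComplement 2 G ↔ ∀ χ ∈ Cfsg.principalBlock M G, Odd (Cfsg.charDegree (χ : G → ℂ)) → (∀ g : G, (χ : G → ℂ) (g ^ k) = (χ : G → ℂ) g) → Cfsg.charDegree (χ : G → ℂ) = 1 := by
  refine ⟨fun h χ hχ hodd _ => ?_, back hM hk₁ hk₂⟩
  obtain ⟨d, hd⟩ := (Cfsg.Agent.S4888.result 2 M hM).2 h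
  rw [hd χ hχ (CL.Blk.blockHeight_of_not_dvd _ hodd.not_two_dvd_nat),
    ← hd (CL.Char.irrOne G) (CL.Blk.mem_principal_of_reg_ker hM _ fun _ _ => rfl)
      (CL.Blk.blockHeight_one Nat.prime_two _)]
  exact CL.Blk.charDegree_one

end Cfsg.Agent.S4549
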