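import Cfsg.Statements.S4548
import Cfsg.Agent.S4549
import Cfsg.Agent.BLK.S2.Fix
import Cfsg.Agent.PLOC.PFrattini
import Cfsg.Agent.INV.GW.GenD2

set_option autoImplicit false
open Cfsg

namespace Cfsg.Agent.S4548

open CL.Char CL.Blk CL.S2F in
/-- with a normal 2-complement the fixed characters are the linear characters of order at most two -/
theorem count {G : Type*} [Group G] [Finite G] {M : Ideal AlgInt} (hM : IsPModular 2 M)
    (hev : Even (Nat.card G)) (P : Sylow 2 G) {k : ℕ}
    (hk₁ : ∀ g : G, (∃ j : ℕ, orderOf g = 2 ^ j) → g ^ k = g ^ 3)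
    (hk₂ : ∀ g : G, Odd (orderOf g) → g ^ k = g) (h : HasNormalPComplement 2 G) :
    Nat.card {χ : IrrCharacter G // χ ∈ principalBlock M G ∧ Odd (charDegree (χ : G → ℂ)) ∧
      ∀ g : G, (χ : G → ℂ) (g ^ k) = (χ : G → ℂ) g} = (frattini (P : Subgroup G)).index := by
  have hlin := (Cfsg.Agent.S4549.result M hM k hk₁ hk₂).1 h
  have hreg := (hasNPC_iff_reg_ker hM).1 h
  obtain ⟨P', N, hN, hc⟩ := h
  have hodd : ¬ 2 ∣ Nat.card N := by
    rw [← hc.index_eq_card]; exact P'.not_dvd_index
  let e : (G ⧸ N) ≃* (P : Subgroup G) := hc.symm.QuotientMulEquiv.trans (Sylow.equiv P' P)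
  let π : G →* (P : Subgroup G) := e.toMonoidHom.comp (QuotientGroup.mk' N)
  have hπ : Function.Surjective π := e.surjective.comp (QuotientGroup.mk'_surjective N)
  have hker : ∀ g, π g = 1 ↔ g ∈ N := fun g => by
    simp [π]
  have hP := P.isPGroup'
  let Φ : Subgroup G := (frattini (P : Subgroup G)).comap π
  have hΦ : commutator G ≤ Φ := by
    rw [← Subgroup.map_le_iff_le_comap, commutator_def, Subgroup.map_commutator]
    exact (Subgroup.commutator_mono le_top le_top).trans (CL.PG.commutator_le_frattini hP)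
  have hko : Odd k := Nat.coprime_two_right.1
    ((coprime_k hk₁ hk₂).coprime_dvd_right hev.two_dvd)
  rw [← Subgroup.index_comap_of_surjective _ hπ, ← card_hom_trivial_on Φ hΦ]
  symm
  refine Nat.card_congr (Equiv.ofBijective (fun l => ⟨irrOfHom l.1, ?_, ?_, fun g => ?_⟩)
    ⟨fun a b e => Subtype.ext (irrOfHom_injective (congrArg Subtype.val e)), ?_⟩)
  · refine mem_principal_of_reg_ker hM _ fun g hg => ?_
    have h1 : π g = 1 := by
      obtain ⟨j, hj⟩ := hP (π g)
      have h2 : orderOf (π g) ∣ Nat.gcd (2 ^ j) (orderOf g) :=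
        Nat.dvd_gcd (orderOf_dvd_of_pow_eq_one hj) (orderOf_map_dvd π g)
      rwa [Nat.Coprime.pow_left j ((Nat.Prime.coprime_iff_not_dvd Nat.prime_two).2 hg),
        Nat.dvd_one, orderOf_eq_one_iff] at h2
    rw [irrOfHom_apply, irrOfHom_apply, map_one, l.2 g (by
      change π g ∈ frattini _
      rw [h1]; exact one_mem _)]
  · rw [charDegree_of_eq (n := 1) (by simp [irrOfHom_apply])]
    exact odd_one
  · obtain ⟨m, hm⟩ := hko
    rw [irrOfHom_apply, irrOfHom_apply, hm, pow_succ, map_mul, mul_comm 2 m, pow_mul,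
      l.2 _ (by
        change π _ ∈ frattini _
        rw [map_pow]; exact CL.PG.pow_mem_frattini hP _), one_mul]
  · rintro ⟨χ, hB, hd, hf⟩
    obtain ⟨lam, hl⟩ := χ.2.isCharacter.exists_hom (by rw [irr_one_eq, hlin χ hB hd hf, Nat.cast_one])
    have e : irrOfHom lam = χ := Subtype.ext hl.symm
    subst e
    refine ⟨⟨lam, ?_⟩, rfl⟩
    have hNk : ∀ g ∈ N, lam g = 1 := fun g hg => by
      have := hreg _ hB g fun hd => hodd (hd.trans (Subgroup.orderOf_dvd_natCard N hg))
      rw [irrOfHom_apply, irrOfHom_apply, map_one] at this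
      exact Units.ext this
    have hle : frattini (P : Subgroup G) ≤ lam.ker.map π := by
      refine CL.PG.frattini_le_of_commutator_le_of_pow_mem (p := 2) ?_ fun q => ?_
      · rw [commutator_def, ← Subgroup.map_top_of_surjective π hπ, ← Subgroup.map_commutator]
        exact Subgroup.map_mono fun g hg => hom_apply_of_mem_commutator lam hg
      · obtain ⟨g, rfl⟩ := hπ q
        obtain ⟨⟨n, x⟩, rfl⟩ := (hc.existsUnique g).exists
        refine ⟨x.1 ^ 2, ?_, by
          simp only [map_mul, map_pow, (hker _).2 n.2, one_mul]⟩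
        obtain ⟨j, hj⟩ := P'.isPGroup' x
        have h1 := hf x.1
        rw [hk₁ x.1 (by
          obtain ⟨i, -, hi⟩ := (Nat.dvd_prime_pow Nat.prime_two).1 (orderOf_dvd_of_pow_eq_one hj)
          exact ⟨i, by rw [Subgroup.orderOf_coe, hi]⟩), irrOfHom_apply, irrOfHom_apply] at h1
        have h2 : lam (x.1 ^ 3) = lam x.1 := Units.ext h1
        rw [pow_succ, map_mul] at h2
        exact mul_eq_right.1 h2
    intro g hg
    obtain ⟨m, hm, hmg⟩ := hle hg
    have := hNk (m⁻¹ * g) ((hker _).1 (by rw [map_mul, map_inv, hmg, inv_mul_cancel]))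
    rwa [map_mul, map_inv, show lam m = 1 from hm, inv_one, one_mul] at this


/-- Let G be a finite group of even order with Sylow 2-subgroup P and M a maximal ideal of the algebraic integers containing 2. Let k be a natural number with g ^ k = g ^ 3 for every 2-element g and g ^ k = g for every element g of odd order (such k exist); an irreducible character χ is unchanged by g ↦ g ^ k exactly when it is fixed by the field automorphism that cubes the 2-power roots of unity and fixes the roots of unity of odd order. Then P is cyclic if and only if exactly two members χ of the principal 2-block of odd degree satisfy χ (g ^ k) = χ g for all g. -/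
theorem result {G : Type*} [Group G] [Finite G] (M : Ideal Cfsg.AlgInt) (hM : Cfsg.IsPModular 2 M) (hev : Even (Nat.card G)) (P : Sylow 2 G) (k : ℕ) (hk₁ : ∀ g : G, (∃ j : ℕ, orderOf g = 2 ^ j) → g ^ k = g ^ 3) (hk₂ : ∀ g : G, Odd (orderOf g) → g ^ k = g) : IsCyclic P ↔ Nat.card {χ : Cfsg.IrrCharacter G // χ ∈ Cfsg.principalBlock M G ∧ Odd (Cfsg.charDegree (χ : G → ℂ)) ∧ ∀ g : G, (χ : G → ℂ) (g ^ k) = (χ : G → ℂ) g} = 2 := by
  classical
  have hP := P.isPGroup'
  have hnt : Nontrivial (P : Subgroup G) := by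
    rw [Subgroup.nontrivial_iff_ne_bot]
    exact P.ne_bot_of_dvd_card hev.two_dvd
  constructor
  · intro hc
    rw [count hM hev P hk₁ hk₂ (CL.GW.hasNPC_of_isCyclic P hc)]
    have h1 := CL.PG.frattini_ne_top (P := (P : Subgroup G))
    rw [Ne, ← Subgroup.index_eq_one] at h1
    obtain ⟨x, hx⟩ := hc.exists_generator
    have h2 : (frattini (P : Subgroup G)).index ∣ 2 := by
      have : IsCyclic ((P : Subgroup G) ⧸ frattini (P : Subgroup G)) :=
        isCyclic_of_surjective _ (QuotientGroup.mk'_surjective _)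
      rw [Subgroup.index_eq_card, ← IsCyclic.exponent_eq_card]
      refine Monoid.exponent_dvd_of_forall_pow_eq_one fun q => ?_
      obtain ⟨g, rfl⟩ := QuotientGroup.mk_surjective q
      rw [← QuotientGroup.mk_pow, QuotientGroup.eq_one_iff]
      exact CL.PG.pow_mem_frattini hP g
    exact ((Nat.dvd_prime Nat.prime_two).1 h2).resolve_left h1
  · intro h2
    have hk := CL.S2F.coprime_k hk₁ hk₂
    obtain ⟨e, he⟩ := CL.S2F.exists_iter hk hk₂
    have h1 : HasNormalPComplement 2 G := by
      refine Cfsg.Agent.S4549.back hM hk₁ hk₂ fun χ hB hd hf => ?_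
      by_cases h0 : χ = CL.Char.irrOne G
      · rw [h0]; exact CL.Blk.charDegree_one
      have hone : CL.Char.irrOne G ∈ principalBlock M G ∧ Odd (charDegree (CL.Char.irrOne G).1) ∧
          ∀ g : G, (CL.Char.irrOne G).1 (g ^ k) = (CL.Char.irrOne G).1 g :=
        ⟨CL.Blk.mem_principal_of_reg_ker hM _ fun _ _ => rfl, by
          rw [show charDegree (CL.Char.irrOne G).1 = 1 from CL.Blk.charDegree_one]; exact odd_one,
          fun _ => rfl⟩
      have hset : (Finset.univ.filter fun ψ : IrrCharacter G => ψ ∈ principalBlock M G ∧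
          Odd (charDegree ψ.1) ∧ ∀ g, ψ.1 (g ^ k) = ψ.1 g) = {χ, CL.Char.irrOne G} := by
        symm
        refine Finset.eq_of_subset_of_card_le (fun ψ hψ => ?_) ?_
        · rcases Finset.mem_insert.1 hψ with rfl | hψ
          · exact Finset.mem_filter.2 ⟨Finset.mem_univ _, hB, hd, hf⟩
          · rw [Finset.mem_singleton.1 hψ]
            exact Finset.mem_filter.2 ⟨Finset.mem_univ _, hone⟩
        · rw [Finset.card_pair h0, ← h2, ← Fintype.card_subtype, Nat.card_eq_fintype_card]
      refine CL.Blk.charDegree_of_eq (n := 1) ?_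
      rw [Nat.cast_one]
      refine CL.S2F.lin_of_unit hM χ fun y hy hz => ?_
      have h3 := CL.S2F.fix_sum hM hev hk he hy fun ψ => by
        rw [hk₂ y (Nat.odd_iff.2 (by omega))]
      rw [hset, Finset.sum_pair h0] at h3
      exact CL.Blk.one_notMem_nonunits (by simpa [CL.Char.irrOne_apply] using sub_mem h3 hz)
    rw [count hM hev P hk₁ hk₂ h1] at h2
    have : IsCyclic ((P : Subgroup G) ⧸ frattini (P : Subgroup G)) :=
      isCyclic_of_prime_card (p := 2) h2
    exact CL.PG.isCyclic_of_quotient_le_frattini le_rfl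

end Cfsg.Agent.S4548
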