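import Cfsg.Statements.S0268
import Mathlib

set_option autoImplicit false
open Cfsg

namespace Cfsg.Agent.S0268

/-- For q odd, -1 is the unique involution of SL_2(q). -/
theorem result {F : Type*} [Field F] [Fintype F] (hF : Odd (Fintype.card F)) (g : Matrix.SpecialLinearGroup (Fin 2) F) (h1 : g ≠ 1) (h2 : g * g = 1) : (g : Matrix (Fin 2) (Fin 2) F) = -1 := by
  have h2ne : (2 : F) ≠ 0 := by
    intro h
    have := FiniteField.even_card_iff_char_two (F := F)
    have hc : ringChar F = 2 := by
      have := ringChar.dvd (R := F) (x := 2) (by exact_mod_cast h)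
      rcases (Nat.dvd_prime Nat.prime_two).1 this with h1 | h1
      · exact absurd h1 CharP.ringChar_ne_one
      · exact h1
    have h3 := this.1 hc
    obtain ⟨k, hk⟩ := hF
    omega
  have hdet := g.2
  rw [Matrix.det_fin_two] at hdet
  have hm : (g : Matrix (Fin 2) (Fin 2) F) * g = 1 := congrArg Subtype.val h2
  have e00 := congrFun (congrFun hm 0) 0
  have e01 := congrFun (congrFun hm 0) 1
  have e10 := congrFun (congrFun hm 1) 0
  have e11 := congrFun (congrFun hm 1) 1
  simp [Matrix.mul_apply, Fin.sum_univ_two] at e00 e01 e10 e11
  set a := g.1 0 0 with ha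
  set b := g.1 0 1 with hb
  set c := g.1 1 0 with hc
  set d := g.1 1 1 with hd
  have ht : a + d ≠ 0 := by
    intro h
    apply h2ne
    linear_combination a * h - e00 - hdet
  have hb0 : b = 0 := by
    apply mul_right_cancel₀ ht; linear_combination e01
  have hc0 : c = 0 := by
    apply mul_right_cancel₀ ht; linear_combination e10
  have had : a = d := by
    apply mul_right_cancel₀ ht; linear_combination e00 - e11
  have haa : (a - 1) * (a + 1) = 0 := by
    rw [hb0] at e00; linear_combination e00
  rcases mul_eq_zero.1 haa with h | h
  · exfalso; apply h1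
    ext i j
    have h' : a = 1 := by linear_combination h
    fin_cases i <;> fin_cases j
    · exact h'
    · exact hb0
    · exact hc0
    · exact had.symm.trans h'
  · have h' : a = -1 := by linear_combination h
    ext i j
    fin_cases i <;> fin_cases j
    · simpa using h'
    · simpa using hb0
    · simpa using hc0
    · simpa using had.symm.trans h'

end Cfsg.Agent.S0268
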