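import Cfsg.Statements.S1073
import Cfsg.Agent.CHEV.TwG2

set_option autoImplicit false
open Cfsg

namespace Cfsg.Agent.S1073

/-- ²G₂(3^(2m+1)) is simple for `m ≥ 1`. -/
theorem result {K : Type*} [Field K] [Fintype K] {m : ℕ} (hm : 1 ≤ m) (hK : Fintype.card K = 3 ^ (2 * m + 1)) :
    IsSimpleGroup ↥(Cfsg.Lie.twistedG2 K (3 ^ m)) ∧ ¬ IsMulCommutative ↥(Cfsg.Lie.twistedG2 K (3 ^ m)) := by
  obtain ⟨T, θ, h, -, hM, hgen, hz⟩ := CL.Chev.exists_twist_G2 (Nat.card_eq_fintype_card.trans hK)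
  have : Nonempty (Fin Cfsg.Lie.chevG2.rank) := ⟨(0 : Fin 2)⟩
  exact hM.isSimpleGroup CL.Chev.stG_good (CL.Chev.jG_injective _) CL.Chev.stG_adjoint CL.Chev.rootSys_irred
    (h.h4 CL.Chev.stG_good hM) (hM.commutator_eq_top CL.Chev.stG_good (CL.Chev.jG_injective _) hgen
      (h.pos_le_commutator CL.Chev.stG_good hM CL.Chev.stG_adjoint hgen hm))

end Cfsg.Agent.S1073
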