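import Cfsg.Statements.S1158
import Mathlib
import Cfsg.Agent.CHEV.ReeConcrete
import Cfsg.Agent.CHEV.ReeTori

set_option autoImplicit false
open Cfsg

namespace Cfsg.Agent.S1158

theorem key {G : Type*} [Group G] [Finite G] {A C : Subgroup G} {k n : ℕ} (T : CL.HT.Tor A C) (h1 : Nat.card A = k)
    (h2 : Nat.card (Subgroup.normalizer (C : Set G)) = n) : ∃ A : Subgroup G, IsCyclic A ∧ Nat.card A = k ∧
      Nat.card (Subgroup.normalizer (A : Set G)) = n ∧ ∀ A₀ : Subgroup G, A₀ ≤ A → A₀ ≠ ⊥ →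
        Subgroup.normalizer (A₀ : Set G) = Subgroup.normalizer (A : Set G) :=
  ⟨A, T.cyc, h1, T.normalizer_eq le_rfl T.ne ▸ h2, fun _ h h0 =>
    (T.normalizer_eq h h0).trans (T.normalizer_eq le_rfl T.ne).symm⟩

/-- In the small Ree group ²G₂(q), q = 3^(2m+1) with m ≥ 1, realised as G¹ inside the Chevalley group G₂ over the field with q elements (θ the 3^m-th power map), with `r = 3^(m+1)` (so `r² = 3q`): for each `k ∈ {(q-1)/2, (q+1)/4, q - r + 1, q + r + 1}` there is a cyclic subgroup `A` of order `k` whose normaliser has order `2(q-1)`, `6(q+1)`, `6(q-r+1)`, `6(q+r+1)` respectively, and `N(A₀) = N(A)` for every non-trivial `A₀ ≤ A`. -/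
theorem result {K : Type*} [Field K] [Fintype K] {m : ℕ} (hm : 1 ≤ m) (hK : Fintype.card K = 3 ^ (2 * m + 1)) :
    ∀ kn ∈ ({((3 ^ (2 * m + 1) - 1) / 2, 2 * (3 ^ (2 * m + 1) - 1)), ((3 ^ (2 * m + 1) + 1) / 4, 6 * (3 ^ (2 * m + 1) + 1)),
        (3 ^ (2 * m + 1) - 3 ^ (m + 1) + 1, 6 * (3 ^ (2 * m + 1) - 3 ^ (m + 1) + 1)),
        (3 ^ (2 * m + 1) + 3 ^ (m + 1) + 1, 6 * (3 ^ (2 * m + 1) + 3 ^ (m + 1) + 1))} : Set (ℕ × ℕ)),
      ∃ A : Subgroup ↥(Cfsg.Lie.twistedG2 K (3 ^ m)), IsCyclic A ∧ Nat.card A = kn.1 ∧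
        Nat.card (Subgroup.normalizer (A : Set ↥(Cfsg.Lie.twistedG2 K (3 ^ m)))) = kn.2 ∧
        ∀ A₀ : Subgroup ↥(Cfsg.Lie.twistedG2 K (3 ^ m)), A₀ ≤ A → A₀ ≠ ⊥ →
          Subgroup.normalizer (A₀ : Set ↥(Cfsg.Lie.twistedG2 K (3 ^ m))) = Subgroup.normalizer (A : Set ↥(Cfsg.Lie.twistedG2 K (3 ^ m))) := by
  have := CL.Ree.charP_three hK
  have hK' := Nat.card_eq_fintype_card.trans hK
  set M := CL.Ree.model hK'
  have := M.finite_G
  have hq := CL.Ree.three_lt_card hm hK'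
  rintro _ (rfl | rfl | rfl | rfl)
  · exact key (M.tor_A₁ hq) (hK' ▸ M.card_A₁) (by rw [M.normalizer_H hq, M.card_N, hK'])
  · exact key (M.tor_A₂ hq) (hK' ▸ M.card_A₂) (hK' ▸ M.card_normalizer_D hq)
  · obtain ⟨C, T, h1, h2⟩ := M.exists_tor hm hK' (Or.inl rfl)
    exact key T h1 h2
  · obtain ⟨C, T, h1, h2⟩ := M.exists_tor hm hK' (Or.inr rfl)
    exact key T h1 h2

end Cfsg.Agent.S1158
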