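import Cfsg.Statements.S1159
import Mathlib
import Cfsg.Agent.CHEV.ReeConcrete
import Cfsg.Agent.CHEV.ReeTori

set_option autoImplicit false
open Cfsg

namespace Cfsg.Agent.S1159

/-- In the small Ree group ²G₂(q), q = 3^(2m+1) with m ≥ 1, realised as G¹ inside the Chevalley group G₂ over the field with q elements (θ the 3^m-th power map), with `r = 3^(m+1)`: a natural number is the order of an element of `G¹` iff it divides one of `6`, `9`, `q - 1`, `(q + 1)/2`, `q - r + 1`, `q + r + 1`. -/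
theorem result {K : Type*} [Field K] [Fintype K] {m : ℕ} (hm : 1 ≤ m) (hK : Fintype.card K = 3 ^ (2 * m + 1)) (d : ℕ) :
    (∃ g : ↥(Cfsg.Lie.twistedG2 K (3 ^ m)), orderOf g = d) ↔
      (d ∣ 6 ∨ d ∣ 9 ∨ d ∣ 3 ^ (2 * m + 1) - 1 ∨ d ∣ (3 ^ (2 * m + 1) + 1) / 2 ∨
        d ∣ 3 ^ (2 * m + 1) - 3 ^ (m + 1) + 1 ∨ d ∣ 3 ^ (2 * m + 1) + 3 ^ (m + 1) + 1) := by
  have := CL.Ree.charP_three hK
  have hK' := Nat.card_eq_fintype_card.trans hK
  set M := CL.Ree.model hK'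
  have := M.finite_G
  have hq := CL.Ree.three_lt_card hm hK'
  obtain ⟨C₁, T₁, h₁, -⟩ := M.exists_tor hm hK' (Or.inl rfl)
  obtain ⟨C₂, T₂, h₂, -⟩ := M.exists_tor hm hK' (Or.inr rfl)
  obtain ⟨k, hk, -, e, -⟩ := M.exists_k
  have h2 : (Nat.card K + 1) / 2 = 2 * Nat.card M.A₂ := by omega
  rw [← h₁, ← h₂, ← hK', h2]
  constructor
  · rintro ⟨g, rfl⟩
    rcases M.order_cases g with (h | h) | h | h | h
    · exact Or.inl h
    · exact Or.inr (Or.inl h)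
    · exact Or.inr (Or.inr (Or.inl (M.card_H ▸ (M.tor_A₁ hq).orderOf_dvd h)))
    · obtain ⟨k, hk⟩ := (M.tor_A₂ hq).exists_conj_mem_C h
      refine Or.inr (Or.inr (Or.inr (Or.inl ?_)))
      rw [← CL.HT.orderOf_inv_conj k, orderOf_dvd_iff_pow_eq_one, pow_mul, sq, ← orderOf_dvd_iff_pow_eq_one]
      exact M.A₂.orderOf_dvd_natCard (M.mem_A₂.mpr ⟨_, hk, rfl⟩)
    · rw [hK', ← CL.Ree.kMinus_mul_kPlus, ← h₁, ← h₂, Nat.coprime_mul_iff_right, not_and_or] at h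
      exact Or.inr (Or.inr (Or.inr (Or.inr (h.imp T₁.orderOf_dvd T₂.orderOf_dvd))))
  · have key : ∀ n, (∃ g : ↥(Cfsg.Lie.twistedG2 K (3 ^ m)), orderOf g = n) → d ∣ n →
        ∃ g : ↥(Cfsg.Lie.twistedG2 K (3 ^ m)), orderOf g = d := by
      rintro _ ⟨g, rfl⟩ h
      exact ⟨_, orderOf_pow_orderOf_div (orderOf_pos g).ne' h⟩
    rintro (h | h | h | h | h | h) <;> refine key _ ?_ h
    · exact ⟨_, M.orderOf_u_ε one_ne_zero⟩
    · exact ⟨_, M.orderOf_of_not_mem_Y (M.u_mem_U 1 0 0) fun h => one_ne_zero (M.u_mem_Y_iff.mp h)⟩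
    · obtain ⟨g, hg⟩ := M.H.isCyclic_iff_exists_zpowers_eq_top.mp M.isCyclic_H
      exact ⟨g, by rw [← Nat.card_zpowers, hg, M.card_H]⟩
    · obtain ⟨g, hg, e⟩ := (M.tor_A₂ hq).exists_orderOf dvd_rfl
      exact ⟨_, e ▸ M.orderOf_ε_mul M.ε_mem_V M.ε_ne_one hg⟩
    · exact (T₁.exists_orderOf dvd_rfl).imp fun _ h => h.2
    · exact (T₂.exists_orderOf dvd_rfl).imp fun _ h => h.2

end Cfsg.Agent.S1159
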