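import Cfsg.Statements.S0804
import Cfsg.Agent.CLAS.PGL2Subfield
import Cfsg.Agent.S0252

set_option autoImplicit false
open Cfsg

namespace Cfsg.Agent.S0804

open CL.Dk CL.PGL2

/-- PSL_2(q) has a subgroup isomorphic to A_5 iff 5 ∣ q(q² − 1). -/
theorem result {F : Type*} [Field F] [Fintype F] {q : ℕ} (hF : Fintype.card F = q) : (∃ H : Subgroup (Matrix.ProjectiveSpecialLinearGroup (Fin 2) F), Nonempty (H ≃* alternatingGroup (Fin 5))) ↔ 5 ∣ q * (q ^ 2 - 1) := by
  have hq : Nat.card F = q := by rw [Nat.card_eq_fintype_card, hF]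
  rw [exists_psl_subgroup_iff, ← hq]
  refine ⟨fun ⟨H, _, e⟩ => five_dvd_of_alt_five e, fun h => ?_⟩
  by_cases h2 : (2 : F) = 0
  · have : CharP F 2 := CharTwo.of_one_ne_zero_of_two_eq_zero one_ne_zero h2
    obtain ⟨n, h1, hn⟩ := exists_card_eq_char_pow (F := F) 2
    have he : Even n := by
      by_contra ho
      obtain ⟨m, rfl⟩ := Nat.not_even_iff_odd.1 ho
      rw [five_dvd_iff, hn, pow_succ, pow_mul] at h
      have : (2 ^ 2) ^ m % 5 = 1 ∨ (2 ^ 2) ^ m % 5 = 4 := by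
        clear hn h h1 ho
        induction m with
        | zero => simp
        | succ m ih => rw [pow_succ]; omega
      omega
    obtain ⟨m, rfl⟩ := he
    obtain ⟨k, hk⟩ := exists_subfield_card (F := F) 2 (a := 2) (m := m) two_ne_zero (by
      rw [hn, ← pow_mul, two_mul])
    have := Fintype.ofFinite k
    obtain ⟨e⟩ := Cfsg.Agent.S0252.result (F := k) (by rw [← Nat.card_eq_fintype_card, hk]; rfl)
    exact ⟨pslOf k.subtype, pslOf_le_pslIn _, ⟨(pslOfEquiv _).symm.trans e⟩⟩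
  · obtain ⟨t, ht⟩ := exists_golden_of_five_dvd h
    obtain ⟨B⟩ := nonempty_QB_of_finite (F := F)
    obtain ⟨H, -, h1, h3⟩ := exists_icosa h2 B ht
    exact ⟨H, h1, h3⟩

end Cfsg.Agent.S0804
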