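import Cfsg.Statements.S0802
import Cfsg.Agent.S0804
import Cfsg.Agent.KSG.AltBasic

set_option autoImplicit false
open Cfsg

namespace Cfsg.Agent.S0802

open CL.Dk CL.PGL2

/-- PSL_2(p^n) has a subgroup isomorphic to A_4 if and only if it is not the case that p = 2 and n is odd. -/
theorem result {F : Type*} [Field F] [Fintype F] (p n : ℕ) [Fact p.Prime] [CharP F p] (hF : Fintype.card F = p ^ n) : (∃ H : Subgroup (Matrix.ProjectiveSpecialLinearGroup (Fin 2) F), Nonempty (H ≃* alternatingGroup (Fin 4))) ↔ ¬ (p = 2 ∧ Odd n) := by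
  have hq : Nat.card F = p ^ n := by rw [Nat.card_eq_fintype_card, hF]
  constructor
  · rw [exists_psl_subgroup_iff]
    rintro ⟨H, -, e⟩ ⟨rfl, m, rfl⟩
    have hc := card_of_alt_four e
    have hN : NoCycNormal H := by
      obtain ⟨e⟩ := e
      refine NoCycNormal.of_mulEquiv e.symm ?_
      intro g hg
      by_contra h1
      have key : ∀ σ : Equiv.Perm (Fin 4), Equiv.Perm.sign σ = 1 → σ ≠ 1 →
          ∃ τ : Equiv.Perm (Fin 4), Equiv.Perm.sign τ = 1 ∧ τ * σ * τ⁻¹ ≠ 1 ∧ τ * σ * τ⁻¹ ≠ σ ∧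
            τ * σ * τ⁻¹ ≠ σ ^ 2 ∧ (σ ^ 2 = 1 ∨ σ ^ 3 = 1) := by decide +kernel
      obtain ⟨τ, h2, h3, h4, h5, h6⟩ := key g g.2 (fun e => h1 (Subtype.ext e))
      obtain ⟨k, hk⟩ := (mem_zpowers_iff_mem_range_orderOf).1
        (hg.conj_mem g (Subgroup.mem_zpowers g) ⟨τ, h2⟩) |> Finset.mem_image.1
      have h7 : orderOf g ≤ 3 := by
        rcases h6 with h6 | h6
        · exact (orderOf_le_of_pow_eq_one two_pos (Subtype.ext h6)).trans (by decide)
        · exact orderOf_le_of_pow_eq_one three_pos (Subtype.ext h6)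
      have h8 := Finset.mem_range.1 hk.1
      have h9 : (g : Equiv.Perm (Fin 4)) ^ k = τ * g * τ⁻¹ := congrArg Subtype.val hk.2
      have : k < 3 := by omega
      interval_cases k
      · exact h3 (by simpa using h9.symm)
      · exact h4 (by simpa using h9.symm)
      · exact h5 h9.symm
    rcases dickson_sub (algebraMap F (AlgebraicClosure F)) 2 H with ⟨x, hx⟩ | ⟨x, y, h1, -, h3⟩ |
      ⟨-, h⟩ | ⟨-, h⟩ | ⟨k, h, h1, h3 | ⟨h3, -⟩⟩
    · have h1 := Subgroup.card_dvd_of_le hx
      rw [hc, card_stabilizer_P1, hq] at h1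
      have h2 := (show 3 ∣ 12 by decide).trans h1
      have h4 : 2 ^ (2 * m + 1) % 3 = 2 := by
        rw [pow_succ, pow_mul, Nat.mul_mod, Nat.pow_mod]
        simp
      rw [Nat.prime_three.dvd_mul] at h2
      clear h1 hq hF
      generalize 2 ^ (2 * m + 1) = a at *
      omega
    · exact hN.not_le_pairN (by omega) (mapG_injective _) h1 h3
    · exact h (by rw [hc]; decide)
    · omega
    · rw [h3, card_cjs, card_pglOf] at hc
      have : 3 * (3 ^ 2 - 1) ≤ Nat.card k * (Nat.card k ^ 2 - 1) :=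
        Nat.mul_le_mul h1 (Nat.sub_le_sub_right (Nat.pow_le_pow_left h1 2) 1)
      omega
    · exact Nat.not_even_iff_odd.2 h3 (even_iff_two_dvd.2 (char_dvd_card 2))
  · intro h
    by_cases hp : p = 2
    · subst hp
      have he : Even n := Nat.not_odd_iff_even.1 fun h' => h ⟨rfl, h'⟩
      obtain ⟨m, rfl⟩ := he
      obtain ⟨H, ⟨e⟩⟩ := (Cfsg.Agent.S0804.result hF).2 (by
        rw [five_dvd_iff, ← two_mul, pow_mul]
        clear hF hq h
        induction m with
        | zero => simp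
        | succ m ih => rw [pow_succ]; omega)
      obtain ⟨φ, hφ, -⟩ := CL.KSG.exists_alt_embedding (Fin.castSuccEmb (n := 4))
      let ψ := (H.subtype.comp e.symm.toMonoidHom).comp φ
      exact ⟨ψ.range, ⟨(MonoidHom.ofInjective (f := ψ)
        ((H.subtype_injective.comp e.symm.injective).comp hφ)).symm⟩⟩
    · have h2 := two_ne_zero_of_odd (odd_card_of_char_ne_two (F := F) p hp)
      obtain ⟨B⟩ := nonempty_QB_of_finite (F := F)
      exact exists_psl_subgroup_iff.2 ⟨tetra B, tetra_le_pslIn B, tetra_equiv h2 B⟩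

end Cfsg.Agent.S0802
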