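import Cfsg.Statements.S0801
import Cfsg.Agent.CLAS.SL2Lift

set_option autoImplicit false
open Cfsg

namespace Cfsg.Agent.S0801

open CL.Dk CL.PGL2 Matrix
open scoped MatrixGroups

theorem tau_cases {F : Type*} [Field F] [CharP F 3] {H : Subgroup PGL(2, F)}
    (e : Nonempty (H ≃* alternatingGroup (Fin 5))) {g : PGL(2, F)} (hg : g ∈ H) :
    tau g = 0 ∨ tau g = 1 ∨ tau g ^ 2 = -1 := by
  have h3 : (3 : F) = 0 := by exact_mod_cast CharP.cast_eq_zero F 3
  by_cases h1 : g = 1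
  · right; left
    rw [h1, tau_one]
    linear_combination h3
  rcases pow_eq_one_of_equiv_alt_five e ⟨g, hg⟩ with h | h | h
  · exact Or.inl ((sq_eq_one_iff_tau h1).1 (congrArg Subtype.val h))
  · exact Or.inr (Or.inl ((cube_eq_one_iff_tau h1).1 (congrArg Subtype.val h)))
  · have := (pow_five_eq_one_iff_tau h1).1 (congrArg Subtype.val h)
    right; right
    linear_combination this + tau g * h3

theorem sq_eq_neg_one {F : Type*} [Field F] [CharP F 3] {μ : F}
    (h1 : ((2 + 1 * μ) ^ 2) ^ 2 = -1) (h2 : ((2 + 1 * (-μ)) ^ 2) ^ 2 = -1) : μ ^ 2 = -1 := by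
  have h3 : (3 : F) = 0 := by exact_mod_cast CharP.cast_eq_zero F 3
  have h0 : μ ≠ 0 := by
    rintro rfl
    have : (1 : F) = 0 := by linear_combination -h1 + 6 * h3
    exact one_ne_zero this
  have : μ * (μ ^ 2 + 1) = 0 := by linear_combination h1 - h2 - (5 * μ ^ 3 + 21 * μ) * h3
  exact eq_neg_of_add_eq_zero_left ((mul_eq_zero.1 this).resolve_left h0)

theorem aff_one_inv {F : Type*} [Field F] (b : F) : (aff 1 b)⁻¹ = aff 1 (-b) := by
  rw [aff_inv]; simp

theorem exists_alt_five {F : Type*} [Field F] [Finite F] [CharP F 3] (hF : Nat.card F = 9)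
    {lam : F} (h : lam ^ 2 = -1) : ∃ A : Subgroup PGL(2, F), Nat.card A = 60 ∧ low 1 ∈ A ∧
      aff 1 lam ∈ A := by
  have : Fact (Nat.Prime 3) := ⟨Nat.prime_three⟩
  have h2 : (2 : F) ≠ 0 := two_ne_zero_of_odd (by rw [hF]; decide)
  obtain ⟨B⟩ := nonempty_QB_of_finite (F := F)
  obtain ⟨t, ht⟩ := exists_golden_of_five_dvd (F := F) (by rw [hF]; decide)
  obtain ⟨A, -, -, ⟨e⟩⟩ := exists_icosa h2 B ht
  let ρ : alternatingGroup (Fin 5) →* PGL(2, F) := A.subtype.comp e.symm.toMonoidHom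
  have hρ : Function.Injective ρ := A.subtype_injective.comp e.symm.injective
  have hne1 : ∀ {σ}, σ ≠ 1 → ρ σ ≠ 1 := fun h e => h (hρ (e.trans (map_one ρ).symm))
  have hpow : ∀ {σ} (n : ℕ), σ ^ n = 1 → ρ σ ^ n = 1 := fun n h => by rw [← map_pow, h, map_one]
  let a : alternatingGroup (Fin 5) := sw2 0 2 0 1
  let b : alternatingGroup (Fin 5) := sw2 2 4 2 3
  have ha : ρ a ^ 3 ^ 1 = 1 := hpow _ (by decide +kernel)
  have hb : ρ b ^ 3 ^ 1 = 1 := hpow _ (by decide +kernel)
  obtain ⟨x, hx⟩ := exists_fixed_of_pow_char_pow 3 ha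
  obtain ⟨y, hy⟩ := exists_fixed_of_pow_char_pow 3 hb
  have hx' := mem_unipAt_of_pow_char_pow 3 hx ha
  have hy' := mem_unipAt_of_pow_char_pow 3 hy hb
  have hxy : x ≠ y := by
    rintro rfl
    have := pow_char_eq_one_of_mem_unipAt 3 (mul_mem hx' hy')
    rw [← map_mul, ← map_pow] at this
    exact hne1 (by decide +kernel) this
  obtain ⟨k, μ, h4, h5⟩ := exists_conj_unip_pair hxy hx' hy' (hne1 (by decide))
  have h3 : (3 : F) = 0 := by exact_mod_cast CharP.cast_eq_zero F 3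
  have t1 := (pow_five_eq_one_iff_tau (hne1 (σ := a * b) (by decide))).1
    (hpow 5 (by decide +kernel))
  have t2 := (pow_five_eq_one_iff_tau (hne1 (σ := a * b⁻¹) (by decide))).1
    (hpow 5 (by decide +kernel))
  rw [← tau_conj k, map_mul, show k * (ρ a * ρ b) * k⁻¹ = (k * ρ a * k⁻¹) * (k * ρ b * k⁻¹) by
    group, h4, h5, tau_low_mul_aff] at t1
  rw [← tau_conj k, map_mul, map_inv,
    show k * (ρ a * (ρ b)⁻¹) * k⁻¹ = (k * ρ a * k⁻¹) * (k * ρ b * k⁻¹)⁻¹ by group, h4, h5,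
    aff_one_inv, tau_low_mul_aff] at t2
  have hμ : μ ^ 2 = -1 := sq_eq_neg_one (by linear_combination t1 + (2 + 1 * μ) ^ 2 * h3)
    (by linear_combination t2 + (2 + 1 * -μ) ^ 2 * h3)
  have m1 : low 1 ∈ cjs k A := h4 ▸ conj_mem_cjs.2 (e.symm a).2
  have m2 : aff 1 μ ∈ cjs k A := h5 ▸ conj_mem_cjs.2 (e.symm b).2
  refine ⟨cjs k A, by rw [card_cjs, Nat.card_congr e.toEquiv, card_alt_five], m1, ?_⟩
  rcases sq_eq_sq_iff_eq_or_eq_neg.1 (h.trans hμ.symm) with rfl | rfl
  · exact m2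
  · rw [← aff_one_inv]
    exact inv_mem m2

/-- Let F be a finite field of odd characteristic and λ ≠ 0 an element generating F as a field. Then the lower and upper unitriangular matrices with off-diagonal entries 1 and λ generate SL_2(F), unless |F| = 9 and λ² = −1, in which case they generate a subgroup of order 120. -/
theorem result {F : Type*} [Field F] [Fintype F] (h2 : (2 : F) ≠ 0) (lam : F) (hlam : lam ≠ 0) (hgen : Subfield.closure ({lam} : Set F) = ⊤) : (Subgroup.closure {g : Matrix.SpecialLinearGroup (Fin 2) F | (g : Matrix (Fin 2) (Fin 2) F) = !![1, 0; 1, 1] ∨ (g : Matrix (Fin 2) (Fin 2) F) = !![1, lam; 0, 1]} = ⊤ ∧ ¬ (Fintype.card F = 9 ∧ lam ^ 2 = -1)) ∨ (Fintype.card F = 9 ∧ lam ^ 2 = -1 ∧ Nat.card ↥(Subgroup.closure {g : Matrix.SpecialLinearGroup (Fin 2) F | (g : Matrix (Fin 2) (Fin 2) F) = !![1, 0; 1, 1] ∨ (g : Matrix (Fin 2) (Fin 2) F) = !![1, lam; 0, 1]}) = 120) := by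
  obtain ⟨p, hp⟩ := CharP.exists F
  have : Fact p.Prime := ⟨CharP.char_is_prime F p⟩
  have hp2 : p ≠ 2 := by
    rintro rfl
    exact h2 (by exact_mod_cast CharP.cast_eq_zero F 2)
  set H := Subgroup.closure {g : Matrix.SpecialLinearGroup (Fin 2) F |
    (g : Matrix (Fin 2) (Fin 2) F) = !![1, 0; 1, 1] ∨
      (g : Matrix (Fin 2) (Fin 2) F) = !![1, lam; 0, 1]} with hH
  set H' := H.map (sl2pgl F) with hH'
  have hx : low 1 ∈ H' := ⟨⟨!![1, 0; 1, 1], by simp [det_fin_two]⟩,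
    Subgroup.subset_closure (Or.inl rfl), sl2pgl_apply _⟩
  have hy : aff 1 lam ∈ H' := ⟨⟨!![1, lam; 0, 1], by simp [det_fin_two]⟩,
    Subgroup.subset_closure (Or.inr rfl), sl2pgl_apply _⟩
  have hle : ∀ A : Subgroup PGL(2, F), low 1 ∈ A → aff 1 lam ∈ A → H' ≤ A := by
    intro A h1 h3
    rw [hH', Subgroup.map_le_iff_le_comap, hH, Subgroup.closure_le]
    rintro g (hg | hg)
    · rw [SetLike.mem_coe, Subgroup.mem_comap, sl2pgl_apply]
      simp only [hg]
      exact h1
    · rw [SetLike.mem_coe, Subgroup.mem_comap, sl2pgl_apply]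
      simp only [hg]
      exact h3
  have hy1 : aff 1 lam ≠ 1 := fun e => hlam (aff_eq_one_iff.1 e).2
  have hyu : aff 1 lam ∈ unipAt (inf : P1 F) := mem_unipAt_inf.2 ⟨lam, rfl⟩
  have hyp : orderOf (aff 1 lam) = p := orderOf_eq_prime (pow_char_eq_one_of_mem_unipAt p hyu) hy1
  have hneg : 2 ∣ Nat.card H' → (-1 : SL(2, F)) ∈ H := fun h =>
    neg_one_mem_of_even h2 (h.trans (Subgroup.card_map_dvd _ _))
  rcases dickson_sub (algebraMap F (AlgebraicClosure F)) p H' with ⟨x, hx'⟩ | ⟨x, y, h1, -, h3⟩ |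
    ⟨-, h⟩ | ⟨e, rfl⟩ | ⟨k, h, h1, h3⟩
  · exfalso
    rcases (mem_unipAt.1 hyu).2 x (hx' hy) with rfl | e
    · exact one_ne_zero ((low_smul_inf_iff 1).1 (hx' hx))
    · exact hy1 e
  · exfalso
    have h4 := mem_pairT_of_mul_self_ne_one (mapG_injective _) h1 (h3 hy) (by
      intro e
      have := orderOf_dvd_of_pow_eq_one ((sq _).trans e)
      rw [hyp] at this
      exact hp2 ((Nat.prime_dvd_prime_iff_eq Fact.out Nat.prime_two).1 this))
    have h5 := (mapG_mem_unipAt_iff (algebraMap F (AlgebraicClosure F)) _ _).2 hyu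
    have h6 : mapG (algebraMap F (AlgebraicClosure F)) (aff 1 lam) ≠ 1 := fun e =>
      hy1 (mapG_injective _ (e.trans (map_one _).symm))
    exact h1 ((((mem_unipAt.1 h5).2 x (mem_pairT.1 h4).1).resolve_right h6).trans
      (((mem_unipAt.1 h5).2 y (mem_pairT.1 h4).2).resolve_right h6).symm)
  · exact absurd (hyp ▸ Subgroup.orderOf_dvd_natCard H' hy) h
  · right
    have h3 : (3 : F) = 0 := by exact_mod_cast CharP.cast_eq_zero F 3
    have hc : Nat.card H' = 60 := by
      obtain ⟨e⟩ := e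
      rw [Nat.card_congr e.toEquiv, card_alt_five]
    have hd : 60 ∣ Nat.card F * (Nat.card F ^ 2 - 1) := by
      rw [← card_PGL2, ← hc]
      exact Subgroup.card_subgroup_dvd_card _
    have hq : 1 < Nat.card F := Finite.one_lt_card
    have hl : lam ^ 3 ^ 1 ≠ lam := by
      intro e
      have := card_le_of_pow_eq 3 hgen one_ne_zero e
      generalize Nat.card F = q at *
      interval_cases q <;> omega
    have t1 := tau_cases e (mul_mem hx hy)
    have t2 := tau_cases e (mul_mem hx (inv_mem hy))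
    rw [aff_one_inv] at t2
    rw [tau_low_mul_aff] at t1 t2
    have key : ∀ μ : F, μ ^ 3 ^ 1 ≠ μ →
        (2 + 1 * μ) ^ 2 = 0 ∨ (2 + 1 * μ) ^ 2 = 1 ∨ ((2 + 1 * μ) ^ 2) ^ 2 = -1 →
        ((2 + 1 * μ) ^ 2) ^ 2 = -1 := by
      rintro μ hμ (h | h | h)
      · exact absurd (by
          rw [pow_eq_zero_iff two_ne_zero] at h
          linear_combination (μ ^ 2 - 2 * μ + 3) * h - 2 * h3) hμ
      · exact absurd (by linear_combination (μ - 4) * h + 4 * (μ + 1) * h3) hμ
      · exact h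
    have hl2 := sq_eq_neg_one (key _ hl t1) (key _ (fun e => hl (by linear_combination -e)) t2)
    have h9 := card_le_of_pow_eq 3 hgen two_ne_zero (by
      rw [show 3 ^ 2 = 2 * 4 + 1 by rfl, pow_succ, pow_mul, hl2]; ring)
    obtain ⟨n, -, hn⟩ := FiniteField.card F 3
    have h10 : Fintype.card F = 9 := by
      rw [Nat.card_eq_fintype_card] at h9 hd
      have h11 : (n : ℕ) ≤ 2 := (Nat.pow_le_pow_iff_right (by decide)).1 (hn ▸ h9)
      have h12 := n.pos
      rw [hn] at hd ⊢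
      generalize (n : ℕ) = m at *
      interval_cases m
      · omega
      · rfl
    refine ⟨h10, hl2, ?_⟩
    rw [card_eq_two_mul_card_map h2 (hneg (by rw [hc]; decide)), ← hH', hc]
  · left
    have hk : H' ≤ cjs h (pglOf k.subtype) := by
      rcases h3 with h3 | ⟨-, h3⟩ <;> rw [h3]
      exact cjs_mono _ (pslOf_le_pglOf _)
    have t1 := tau_mem_of_mem_cjs_pglOf (hk (mul_mem hx hy))
    have t2 := tau_mem_of_mem_cjs_pglOf (hk (mul_mem hx (inv_mem hy)))
    rw [aff_one_inv] at t2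
    rw [tau_low_mul_aff, Subfield.fieldRange_subtype] at t1 t2
    have hlk : lam ∈ k := by
      have e : lam = (2 * 2 * 2)⁻¹ * ((2 + 1 * lam) ^ 2 - (2 + 1 * -lam) ^ 2) := by
        field_simp
        ring
      rw [e]
      exact mul_mem (inv_mem (mul_mem (mul_mem (ofNat_mem k 2) (ofNat_mem k 2)) (ofNat_mem k 2)))
        (sub_mem t1 t2)
    have hkt : k = ⊤ := by
      rw [eq_top_iff, ← hgen, Subfield.closure_le, Set.singleton_subset_iff]
      exact hlk
    have hs : Function.Surjective k.subtype := fun x => ⟨⟨x, hkt ▸ trivial⟩, rfl⟩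
    have hL : pslIn F ≤ H' := by
      rcases h3 with h3 | ⟨-, h3⟩ <;> rw [h3]
      · rw [pglOf_eq_top hs, cjs_of_normal]
        exact le_top
      · rw [pslOf_eq_pslIn hs, cjs_of_normal]
    refine ⟨?_, ?_⟩
    · obtain ⟨B⟩ := nonempty_QB_of_finite (F := F)
      have h4 := Subgroup.card_dvd_of_le ((fourQ_le_pslIn h2 B).trans hL)
      rw [(isKleinFour_fourQ h2 B).card_four] at h4
      rw [← comap_map_sl2pgl (hneg ((by decide : 2 ∣ 4).trans h4)), eq_top_iff]
      intro g _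
      exact hL (sl2pgl_mem_pslIn g)
    · rintro ⟨h9, hl2⟩
      rw [← Nat.card_eq_fintype_card] at h9
      have hp3 : p = 3 := by
        obtain ⟨n, -, hn⟩ := FiniteField.card F p
        rw [← Nat.card_eq_fintype_card, h9] at hn
        have : p ∣ 3 ^ 2 := by
          rw [show 3 ^ 2 = 9 by rfl, hn]
          exact dvd_pow_self p n.ne_zero
        exact (Nat.prime_dvd_prime_iff_eq Fact.out Nat.prime_three).1
          ((Fact.out : p.Prime).dvd_of_dvd_pow this)
      subst hp3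
      obtain ⟨A, hA, a1, a2⟩ := exists_alt_five h9 hl2
      have h4 := Subgroup.card_le_of_le (hL.trans (hle A a1 a2))
      have h5 := gcd_mul_card_pslIn (F := F)
      rw [h9] at h5
      norm_num at h5
      omega

end Cfsg.Agent.S0801
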