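import Cfsg.Statements.S2360
import Cfsg.Agent.CLAS.U3Inv
import Cfsg.Agent.CLAS.U3Syl
import Cfsg.Agent.INV.InvCalc

set_option autoImplicit false
open Cfsg

namespace Cfsg.Agent.S2360

/-- Let q be odd, F the field with q² elements and S = SU_3(F) (determinant-one isometries of the standard Hermitian form). Then all involutions of S are conjugate; there are exactly q²(q²−q+1) of them; the centralizer of an involution has order q(q+1)(q²−1), the order of the full unitary group of degree 2; and for two distinct commuting involutions t and x there is exactly one further involution commuting with both. -/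
theorem result {F : Type*} [Field F] [Fintype F] {q : ℕ} (hq : Odd q)
    (hF : Fintype.card F = q ^ 2) (t : ↥(Cfsg.SU 3 F q)) (ht : t ≠ 1) (ht2 : t * t = 1) :
    (∀ x : ↥(Cfsg.SU 3 F q), x ≠ 1 → x * x = 1 → ∃ g : ↥(Cfsg.SU 3 F q), g * t * g⁻¹ = x) ∧
    Nat.card {x : ↥(Cfsg.SU 3 F q) // x ≠ 1 ∧ x * x = 1} = q ^ 2 * (q ^ 2 - q + 1) ∧
    Nat.card ↥(Subgroup.centralizer ({t} : Set ↥(Cfsg.SU 3 F q))) = q * (q + 1) * (q ^ 2 - 1) ∧
    ∀ x : ↥(Cfsg.SU 3 F q), x ≠ 1 → x * x = 1 → x ≠ t → Commute t x →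
      Nat.card {y : ↥(Cfsg.SU 3 F q) // y ≠ 1 ∧ y * y = 1 ∧ y ≠ t ∧ y ≠ x ∧ Commute t y ∧ Commute x y} = 1 := by
  open CL.Uni CL.Witt in
  have h2 := two_ne_zero_of_odd hF hq
  set f := std hF (Fin 3)
  have hf : f.Nondeg := std_nondeg hF (Fin 3)
  have h3 : Module.finrank F (Fin 3 → F) = 3 := by simp
  set e := suEquiv hF 3
  obtain ⟨u, hu, rfl⟩ := exists_eq_I e h2 hf h3 ht ht2
  have hq2 := CL.SqField.two_le hF
  have hpos : 0 < q ^ 2 - 1 := by
    have : 2 ^ 2 ≤ q ^ 2 := Nat.pow_le_pow_left hq2 2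
    omega
  have hconj : ∀ x : ↥(Cfsg.SU 3 F q), x ≠ 1 → x * x = 1 →
      ∃ g : ↥(Cfsg.SU 3 F q), g * I e u * g⁻¹ = x := fun x hx1 hx => by
    obtain ⟨v, hv, rfl⟩ := exists_eq_I e h2 hf h3 hx1 hx
    exact exists_conj_I h2 hf h3 hu hv
  have hcard : Nat.card {x : ↥(Cfsg.SU 3 F q) // x ≠ 1 ∧ x * x = 1} =
      q ^ 2 * (q ^ 2 - q + 1) := by
    have := card_invol (e := e) h2 hf h3 fun _ => True
    simp only [and_true] at this
    rw [card_q_ne_zero_three hf h3] at this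
    exact Nat.eq_of_mul_eq_mul_right hpos this
  refine ⟨hconj, hcard, ?_, fun x hx1 hx hxt hc => ?_⟩
  · have h1 := CL.Inv.card_isConj_mul_card_centralizer (I e u)
    rw [Nat.card_congr (Equiv.subtypeEquivRight (q := fun x => x ≠ 1 ∧ x * x = 1) fun x => ?_),
      hcard, CL.U3.card_SU3 hF] at h1
    · refine Nat.eq_of_mul_eq_mul_left (show 0 < q ^ 2 * (q ^ 2 - q + 1) by positivity)
        (h1.trans ?_)
      zify [show q ≤ q ^ 2 by nlinarith]
      ring
    · rw [isConj_iff]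
      refine ⟨?_, fun h => hconj x h.1 h.2⟩
      rintro ⟨g, rfl⟩
      exact ⟨by simpa using ht, by rw [conj_mul, ht2]; simp⟩
  · obtain ⟨v, hv, rfl⟩ := exists_eq_I e h2 hf h3 hx1 hx
    have huv := ((commute_I_iff h2 h3 hu hv).1 hc).resolve_left fun h =>
      hxt ((I_eq_iff h2 h3 hu hv).2 h).symm
    obtain ⟨z, hz, h1, h1'⟩ := exists_q_ne_zero_perp (sig_ne_id hF) hf h3.ge hu hv huv
    have hz' : f.q z ≠ 0 := by simp [hz]
    have hne : ∀ {w}, f.q w ≠ 0 → f.B w z = 0 → I e z ≠ I e w := fun {w} hw hwz h => by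
      obtain ⟨c, rfl⟩ := (I_eq_iff h2 h3 hw hz').1 h.symm
      rw [f.B_smul_right, ← f.herm_q, mul_eq_zero, or_iff_left hw] at hwz
      simp [hwz, f.q_zero] at hz'
    rw [Nat.card_eq_one_iff_exists]
    refine ⟨⟨I e z, I_ne_one h2 h3 hz', I_mul_self h3 hz', hne hu h1, hne hv h1',
      (commute_I_iff h2 h3 hu hz').2 (Or.inr h1), (commute_I_iff h2 h3 hv hz').2 (Or.inr h1')⟩, ?_⟩
    rintro ⟨y, hy1, hy, hyu, hyv, c1, c2⟩
    obtain ⟨w, hw, rfl⟩ := exists_eq_I e h2 hf h3 hy1 hy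
    have a1 := ((commute_I_iff h2 h3 hu hw).1 c1).resolve_left fun h =>
      hyu ((I_eq_iff h2 h3 hu hw).2 h).symm
    have a2 := ((commute_I_iff h2 h3 hv hw).1 c2).resolve_left fun h =>
      hyv ((I_eq_iff h2 h3 hv hw).2 h).symm
    exact Subtype.ext ((I_eq_iff h2 h3 hz' hw).2
      (exists_smul_of_perp_pair hf h3 hu hv huv (ne_zero_of_q hz') h1 h1' a1 a2).2).symm

end Cfsg.Agent.S2360
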