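import Cfsg.Statements.S1645
import Cfsg.Agent.INV.STD.AltN

set_option autoImplicit false
open Cfsg

namespace Cfsg.Agent.S1645

/-- If some involution of a finite simple group has centraliser a non-split double cover of the alternating group of degree n ≥ 5, then n is 8 or 11 (the McLaughlin and Lyons cases). -/
theorem result {G : Type*} [Group G] [Finite G] [IsSimpleGroup G] (n : ℕ) (hn : 5 ≤ n) (z : G) (hz : orderOf z = 2) (hcov : Cfsg.IsNonsplitDoubleCover (Subgroup.centralizer ({z} : Set G)) (alternatingGroup (Fin n))) : n = 8 ∨ n = 11 := by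
  open CL.StdA CL.StdE Subgroup in
  obtain ⟨σ, ζ, D, hc⟩ := exists_dc hcov
  have hm : z ∈ centralizer ({z} : Set G) := mem_centralizer_singleton_iff.2 rfl
  have key : ∀ t : G, t ≠ 1 → (∀ x ∈ centralizer ({z} : Set G), x * t = t * x) → t = ζ := fun t h1 h2 =>
    congrArg Subtype.val (((hc ⟨t, mem_centralizer_singleton_iff.2 (h2 z hm).symm⟩).1
      (mem_center_iff.2 fun x => Subtype.ext (h2 x x.2))).resolve_left fun e => h1 (congrArg Subtype.val e))
  have z1 : z ≠ 1 := CL.TwoInv.ne_one_of_orderOf_eq_two hz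
  have e : z = ζ := key z z1 fun x hx => mem_centralizer_singleton_iff.1 hx
  have hF : Full ζ (centralizer ({z} : Set G)).subtype := fun h hh =>
    ⟨⟨h, mem_centralizer_singleton_iff.2 (e ▸ hh)⟩, rfl⟩
  have hM : M ζ (centralizer ({z} : Set G)).subtype := ⟨subtype_injective _, by rw [← orderOf_coe, ← e, hz], hc,
    fun g hg x => hF _ (Commute.mul_left (Commute.mul_left hg (congrArg Subtype.val (D.comm x)))
      (Commute.inv_left hg)), fun g t h1 h2 h3 => by
    have t1 := CL.TwoInv.ne_one_of_orderOf_eq_two h1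
    have e1 := key t t1 fun x hx => mem_Kf.1 h2 ⟨x, hx⟩
    have e2 := key _ (fun e => t1 (conj_eq_one_iff.1 e)) fun x hx => mem_Kf.1 h3 ⟨x, hx⟩
    rw [e1] at e2
    exact T.comm_of_cj e2⟩
  obtain ⟨g, h1, h2⟩ := exists_conj (G := G) (((inferInstance : (oddCore G).Normal).eq_bot_or_eq_top).resolve_right
    fun h => (CL.Rec.odd_orderOf_of_mem CL.Rec.odd_card_oddCore (h ▸ mem_top z)).not_two_dvd_nat (hz ▸ dvd_rfl)) hz
    fun h => by
      have h' := ((inferInstance : (center G).Normal).eq_bot_or_eq_top).resolve_left fun e => z1 (mem_bot.1 (e ▸ h))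
      obtain ⟨x, -, hx⟩ := D.lift2 (a := ⟨0, by omega⟩) (b := ⟨1, by omega⟩) (c := ⟨2, by omega⟩) (d := ⟨3, by omega⟩)
        (by simp)
      rcases (hc x).1 (mem_center_iff.2 fun y => Subtype.ext (mem_center_iff.1 (h'.ge (mem_top (x : G))) y)) with e | e
      · exact D.ne (by rw [← hx, e, one_mul])
      · exact D.ne (by rw [← hx, e, D.zsq])
  have e' : (centralizer ({z} : Set G)).subtype ζ = z := e.symm
  exact eight_or_eleven D hM hF (g := g) (by rwa [e']) (by rwa [e'])

end Cfsg.Agent.S1645
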