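import Cfsg.Statements.S1623
import Mathlib
import Cfsg.Agent.PERM.J2
import Cfsg.Agent.PLOC.PFrattini
import Cfsg.Agent.CLAS.OrthOmega

set_option autoImplicit false
open Quaternion
open Cfsg

namespace Cfsg.Agent.S1623

/-- A reflection centraliser in the Hall–Janko group is an extension of an extraspecial group of order 32 by the alternating group of degree 5. -/
theorem result (f : Equiv.Perm ↥Cfsg.Spor.icoLeech) (hf : Cfsg.Spor.IsIcoReflection f) (hfm : f ∈ Cfsg.Spor.twoJ2) : ∃ (Q : Subgroup ↥(Subgroup.centralizer {(QuotientGroup.mk ⟨f, hfm⟩ : Cfsg.Spor.J2)})) (_ : Q.Normal), Nat.card Q = 32 ∧ Cfsg.IsExtraspecial 2 Q ∧ Nonempty (↥(Subgroup.centralizer {(QuotientGroup.mk ⟨f, hfm⟩ : Cfsg.Spor.J2)}) ⧸ Q ≃* alternatingGroup (Fin 5)) := by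
  obtain ⟨r, hr, rfl⟩ := CL.Ico.isRefl_iff.1 hf
  obtain ⟨g, -, e⟩ := CL.J2.exists_conj_rf hr
  obtain ⟨F, hF, hc, ⟨h1, h2, h3⟩, h4⟩ := CL.J2.model.exists_hom_A5
  have e1 : (QuotientGroup.mk ⟨_, hfm⟩ : Cfsg.Spor.J2) =
      MulAut.conj (g : Cfsg.Spor.J2) (CL.CG.elt CL.J2.φ CL.J2.c0) := by
    rw [CL.J2.elt_c0]
    exact congrArg QuotientGroup.mk e
  rw [e1]
  generalize (MulAut.conj (g : Cfsg.Spor.J2)) = α
  have e2 : (Subgroup.centralizer {α (CL.CG.elt CL.J2.φ CL.J2.c0)}).map α.symm.toMonoidHom =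
      CL.J2.H CL.J2.φ := by
    rw [← CL.J2.model.centralizer_t]
    ext x
    rw [Subgroup.mem_map_equiv, Subgroup.mem_centralizer_singleton_iff,
      Subgroup.mem_centralizer_singleton_iff, MulEquiv.symm_symm, ← map_mul, ← map_mul,
      α.injective.eq_iff]
  let β := (α.symm.subgroupMap _).trans (MulEquiv.subgroupCongr e2)
  have e3 : (F.comp β.toMonoidHom).ker.map β.toMonoidHom = F.ker := by
    rw [← MonoidHom.comap_ker, Subgroup.map_comap_eq_self_of_surjective β.surjective]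
  let γ := ((β.subgroupMap _).trans (MulEquiv.subgroupCongr e3)).symm
  have := Fact.mk Nat.prime_two
  refine ⟨(F.comp β.toMonoidHom).ker, inferInstance, (Nat.card_congr γ.toEquiv).symm.trans hc,
    ⟨⟨h1.of_equiv γ, ?_, ?_⟩, ?_⟩,
    ⟨QuotientGroup.quotientKerEquivOfSurjective _ (hF.comp β.surjective)⟩⟩
  · rw [← CL.PG.frattini_map_eq_of_surjective h1 γ.toMonoidHom γ.surjective, h2,
      CL.OrthE.map_center_mulEquiv]
  · rw [← CL.OrthE.map_commutator_mulEquiv γ, h3, CL.OrthE.map_center_mulEquiv]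
  · rw [← Nat.card_congr (Subgroup.centerCongr γ).toEquiv, h4]

end Cfsg.Agent.S1623
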