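import Cfsg.Statements.S2476
import Cfsg.Agent.KSG.GLnSmall

set_option autoImplicit false
open Cfsg

namespace Cfsg.Agent.S2476

open CL.GLn Polynomial Module

theorem pow_eq_pow_iff {M : Type*} [CommMonoid M] {a b : M} {e : ℕ} (h : a ^ e * b = 1) (N : ℕ) :
    a ^ N = b ^ N ↔ a ^ ((e + 1) * N) = 1 := by
  have h1 : (a ^ e) ^ N * b ^ N = 1 := by rw [← mul_pow, h, one_pow]
  rw [add_mul, pow_add, pow_mul, one_mul]
  refine ⟨fun h2 => h2 ▸ h1, fun h2 => ?_⟩
  calc a ^ N = a ^ N * ((a ^ e) ^ N * b ^ N) := by rw [h1, mul_one]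
    _ = ((a ^ e) ^ N * a ^ N) * b ^ N := by ac_rfl
    _ = b ^ N := by rw [h2, one_mul]

theorem gcd_a {q : ℕ} (hq : 2 ≤ q) : Nat.gcd (q ^ 2 + q + 1) (q - 1) = Nat.gcd 3 (q - 1) := by
  obtain ⟨m, rfl⟩ : ∃ m, q = m + 1 := ⟨q - 1, by omega⟩
  rw [Nat.add_sub_cancel, show (m + 1) ^ 2 + (m + 1) + 1 = 3 + m * (m + 3) by ring,
    Nat.gcd_add_mul_left_left]

theorem gcd_b {q : ℕ} (hq : 2 ≤ q) : Nat.gcd (q ^ 2 - 1) (q + 1 + 1) = Nat.gcd 3 (q - 1) := by
  obtain ⟨m, rfl⟩ : ∃ m, q = m + 2 := ⟨q - 2, by omega⟩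
  rw [show (m + 2) ^ 2 - 1 = 3 + (m + 2 + 1 + 1) * m from Nat.sub_eq_of_eq_add (by ring),
    Nat.gcd_add_mul_left_left, show m + 2 + 1 + 1 = m + 2 - 1 + 3 by omega, Nat.gcd_add_self_right]

theorem div_a {q : ℕ} (hq : 2 ≤ q) : (q ^ 3 - 1) / (q - 1) = q ^ 2 + q + 1 := by
  obtain ⟨m, rfl⟩ : ∃ m, q = m + 1 := ⟨q - 1, by omega⟩
  exact Nat.div_eq_of_eq_mul_right (by omega) (Nat.sub_eq_of_eq_add (by simp; ring))

theorem div_b {q : ℕ} (hq : 2 ≤ q) : (q ^ 2 - 1) / (q - 1) = q + 1 := by
  obtain ⟨m, rfl⟩ : ∃ m, q = m + 1 := ⟨q - 1, by omega⟩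
  exact Nat.div_eq_of_eq_mul_right (by omega) (Nat.sub_eq_of_eq_add (by simp; ring))

theorem result {F : Type*} [Field F] [Fintype F] (p : ℕ) [Fact p.Prime] [CharP F p] :
    Set.range (orderOf : Matrix.ProjectiveSpecialLinearGroup (Fin 3) F → ℕ) =
      {m : ℕ | m ∣ (Fintype.card F ^ 2 + Fintype.card F + 1) / Nat.gcd 3 (Fintype.card F - 1) ∨
        m ∣ (Fintype.card F ^ 2 - 1) / Nat.gcd 3 (Fintype.card F - 1) ∨ m ∣ Fintype.card F - 1 ∨
        m ∣ p * (Fintype.card F - 1) / Nat.gcd 3 (Fintype.card F - 1) ∨ (p = 2 ∧ m ∣ 4)} := by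
  have hp : p.Prime := Fact.out
  have hq : 2 ≤ Fintype.card F := Fintype.one_lt_card
  have hq2 : 0 < Fintype.card F ^ 2 - 1 := by
    have : 1 < Fintype.card F ^ 2 := Nat.one_lt_pow two_ne_zero hq
    omega
  have hpd : p * (Fintype.card F - 1) / Nat.gcd 3 (Fintype.card F - 1) =
      p * ((Fintype.card F - 1) / Nat.gcd (Fintype.card F - 1) 3) := by
    rw [Nat.mul_div_assoc _ (Nat.gcd_dvd_right _ _), Nat.gcd_comm]
  ext m
  simp only [Set.mem_range, Set.mem_ofPred_eq]
  constructor
  · rintro ⟨y, rfl⟩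
    induction y using QuotientGroup.induction_on with
    | H A =>
    obtain ⟨s, hs⟩ := exists_hasED (Matrix.toLin' (A : Matrix (Fin 3) (Fin 3) F))
    have hdet := hs.prod_norm_eq_one
    have hX := fun x => hs.not_dvd_X_of_det_ne_zero (x := x) (sl_det_ne_zero A)
    have hirr := fun x hx => (hs.1 x hx).2.1
    simp only [orderOf_dvd_iff_pow_eq_one, psl_pow_eq_one_iff,
      hs.matrix_pow_eq_algebraMap_iff' p (sl_det_ne_zero A)]
    rcases hs.1.cases_three (by simpa using hs.sum_eq_card) with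
      ⟨P, hP, rfl⟩ | ⟨a, rfl⟩ | ⟨P, b, hP, rfl⟩ | ⟨a, b, rfl⟩ | ⟨a, b, c, rfl⟩
    · left
      have hP1 : Irreducible P := hirr (P, 1) (by simp)
      have := Fact.mk hP1
      have h1 := algebraMap_norm_root hP1
      simp only [Multiset.map_singleton, Multiset.prod_singleton, pow_one] at hdet
      rw [hdet, map_one, hP, div_a hq] at h1
      have h2 : AdjoinRoot.root P ≠ 0 := by
        intro h
        rw [h, zero_pow (by omega)] at h1
        exact one_ne_zero h1
      simp only [Multiset.mem_singleton, forall_eq, Nat.clog_one_right, pow_zero, one_dvd, and_true,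
        dvd_X_pow_sub_C_iff]
      rw [pow_mem_range_algebraMap_iff h2, ← orderOf_dvd_iff_pow_eq_one]
      refine (orderOf_dvd_of_pow_eq_one h1.symm).trans ?_
      rw [dvd_mul_iff_div_gcd_dvd (by omega), gcd_a hq]
    · simp only [Multiset.mem_singleton, forall_eq, X_sub_C_dvd_X_pow_sub_C_iff, exists_and_right,
        exists_eq', true_and]
      by_cases h2 : p = 2
      · subst h2
        exact Or.inr (Or.inr (Or.inr (Or.inr ⟨rfl, by decide⟩)))
      · rw [clog_three_of_ne hp h2, pow_one, hpd]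
        exact Or.inr (Or.inr (Or.inr (Or.inl (dvd_mul_right _ _))))
    · right; left
      have hP1 : Irreducible P := hirr (P, 1) (by simp)
      have := Fact.mk hP1
      have h1 := algebraMap_norm_root hP1
      simp only [Multiset.insert_eq_cons, Multiset.map_cons, Multiset.map_singleton,
        Multiset.prod_cons, Multiset.prod_singleton, pow_one, norm_root_X_sub_C] at hdet
      rw [hP, div_b hq] at h1
      have h2 := congrArg (algebraMap F (AdjoinRoot P)) hdet
      rw [map_mul, h1, map_one] at h2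
      have h3 := dvd_X_pow_card_pow_sub_one hP1 (hX (P, 1) (by simp))
      rw [← C_1, dvd_X_pow_sub_C_iff, map_one, hP] at h3
      simp only [Multiset.insert_eq_cons, Multiset.mem_cons, Multiset.mem_singleton,
        forall_eq_or_imp, forall_eq, Nat.clog_one_right, pow_zero, one_dvd, and_true,
        X_sub_C_dvd_X_pow_sub_C_iff, exists_eq_right']
      rw [dvd_X_pow_sub_C_iff, map_pow, pow_eq_pow_iff h2, ← orderOf_dvd_iff_pow_eq_one]
      refine (orderOf_dvd_of_pow_eq_one h3).trans ?_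
      rw [dvd_mul_iff_div_gcd_dvd hq2, gcd_b hq]
    · right; right; right; left
      simp only [Multiset.insert_eq_cons, Multiset.map_cons, Multiset.map_singleton,
        Multiset.prod_cons, Multiset.prod_singleton, pow_one, norm_root_X_sub_C] at hdet
      have ha : a ≠ 0 := by
        rintro rfl
        simp at hdet
      simp only [Multiset.insert_eq_cons, Multiset.mem_cons, Multiset.mem_singleton,
        forall_eq_or_imp, forall_eq, Nat.clog_one_right, pow_zero, one_dvd, and_true,
        X_sub_C_dvd_X_pow_sub_C_iff, exists_eq_right', clog_two hp, pow_one, hpd]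
      refine ⟨?_, dvd_mul_right _ _⟩
      rw [pow_eq_pow_iff hdet, ← orderOf_dvd_iff_pow_eq_one]
      refine (orderOf_dvd_of_pow_eq_one (FiniteField.pow_card_sub_one_eq_one a ha)).trans ?_
      rw [dvd_mul_iff_div_gcd_dvd (by omega)]
      exact dvd_mul_left _ _
    · right; right; left
      simp only [Multiset.insert_eq_cons, Multiset.map_cons, Multiset.map_singleton,
        Multiset.prod_cons, Multiset.prod_singleton, pow_one, norm_root_X_sub_C] at hdet
      have ha : a ≠ 0 := by
        rintro rfl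
        simp at hdet
      have hb : b ≠ 0 := by
        rintro rfl
        simp at hdet
      have hc : c ≠ 0 := by
        rintro rfl
        simp at hdet
      refine ⟨1, ?_⟩
      simp [X_sub_C_dvd_X_pow_sub_C_iff, FiniteField.pow_card_sub_one_eq_one, ha, hb, hc,
        -map_one]
  · suffices h : ∀ N, (N = (Fintype.card F ^ 2 + Fintype.card F + 1) / Nat.gcd 3 (Fintype.card F - 1)
        ∨ N = (Fintype.card F ^ 2 - 1) / Nat.gcd 3 (Fintype.card F - 1) ∨ N = Fintype.card F - 1 ∨
        N = p * (Fintype.card F - 1) / Nat.gcd 3 (Fintype.card F - 1) ∨ (p = 2 ∧ N = 4)) →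
        ∃ y : Matrix.ProjectiveSpecialLinearGroup (Fin 3) F, orderOf y = N by
      have h' : ∀ N, m ∣ N → (∃ y : Matrix.ProjectiveSpecialLinearGroup (Fin 3) F, orderOf y = N) →
          ∃ y : Matrix.ProjectiveSpecialLinearGroup (Fin 3) F, orderOf y = m := by
        rintro _ h1 ⟨y, rfl⟩
        exact exists_orderOf_eq_of_dvd_orderOf h1
      rintro (h1 | h1 | h1 | h1 | ⟨h1, h2⟩)
      · exact h' _ h1 (h _ (by tauto))
      · exact h' _ h1 (h _ (by tauto))
      · exact h' _ h1 (h _ (by tauto))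
      · exact h' _ h1 (h _ (by tauto))
      · exact h' _ h2 (h _ (by tauto))
    obtain ⟨a, ha0, ha⟩ := exists_orderOf_eq_of_dvd_card_sub_one (F := F) dvd_rfl
    rintro N (rfl | rfl | rfl | rfl | ⟨rfl, rfl⟩)
    · obtain ⟨x, hx⟩ := exists_extension_orderOf (F := F) p 3
        (m := Fintype.card F ^ 2 + Fintype.card F + 1)
        (div_a hq ▸ Nat.div_dvd_of_dvd (Nat.sub_one_dvd_pow_sub_one _ _))
      have hx0 : x ≠ 0 := by
        rintro rfl
        rw [orderOf_zero] at hx
        omega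
      obtain ⟨y, hy⟩ := exists_psl_of_algebra (F := F) (n := Fin 3)
        (by simp only [FiniteField.finrank_extension, Fintype.card_fin]) x (by
          apply (algebraMap F (FiniteField.Extension F p 3)).injective
          rw [FiniteField.algebraMap_norm_eq_pow, natCard_extension', Nat.card_eq_fintype_card,
            div_a hq, ← hx, pow_orderOf_eq_one, map_one])
      refine ⟨y, orderOf_eq_of_forall_iff fun k => ?_⟩
      rw [hy, pow_mem_range_algebraMap_iff hx0, ← orderOf_dvd_iff_pow_eq_one, hx,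
        dvd_mul_iff_div_gcd_dvd (by omega), gcd_a hq]
    · obtain ⟨x, hx⟩ := exists_extension_orderOf (F := F) p 2 dvd_rfl
      have hx0 : x ≠ 0 := by
        rintro rfl
        rw [orderOf_zero] at hx
        omega
      have h1 : Algebra.norm F x * (Algebra.norm F x)⁻¹ = 1 :=
        mul_inv_cancel₀ (Algebra.norm_ne_zero_iff.2 hx0)
      obtain ⟨y, hy⟩ := exists_psl_of_algebra (F := F) (n := Fin 3) (R := _ × F)
        (by simp only [finrank_prod, FiniteField.finrank_extension, Fintype.card_fin, finrank_self])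
        (x, (Algebra.norm F x)⁻¹) (by rw [norm_prod_mk, Algebra.norm_self, MonoidHom.id_apply, h1])
      have h2 := congrArg (algebraMap F (FiniteField.Extension F p 2)) h1
      rw [map_mul, FiniteField.algebraMap_norm_eq_pow, natCard_extension', Nat.card_eq_fintype_card,
        div_b hq, map_one] at h2
      refine ⟨y, orderOf_eq_of_forall_iff fun k => ?_⟩
      simp only [hy, Prod.pow_mk, Prod.algebraMap_apply, Prod.mk.injEq, Algebra.algebraMap_self,
        RingHom.id_apply, exists_eq_right']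
      rw [map_pow, pow_eq_pow_iff h2, ← orderOf_dvd_iff_pow_eq_one, hx,
        dvd_mul_iff_div_gcd_dvd hq2, gcd_b hq]
    · obtain ⟨y, hy⟩ := exists_psl_orderOf_of_lt (F := F) (n := Fin 3) (R := F × F)
        (by simp) (a, a⁻¹) (by rw [norm_prod_mk, Algebra.norm_self]; simp [ha0])
      exact ⟨y, by rw [hy, Prod.orderOf_mk, orderOf_inv_field, Nat.lcm_self, ha]⟩
    · have h1 : a ^ 2 * (a ^ 2)⁻¹ = 1 := mul_inv_cancel₀ (pow_ne_zero _ ha0)
      have := finiteDimensional_adjoinRoot ((monic_X_sub_C a).pow 2).ne_zero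
      obtain ⟨y, hy⟩ := exists_psl_of_algebra (F := F) (n := Fin 3) (R := _ × F)
        (by simp [finrank_prod, finrank_adjoinRoot])
        (AdjoinRoot.root ((X - C a) ^ 2), (a ^ 2)⁻¹)
        (by rw [norm_prod_mk, Algebra.norm_self, MonoidHom.id_apply,
          norm_root_X_sub_C_pow a two_pos, h1])
      refine ⟨y, orderOf_eq_of_forall_iff fun k => ?_⟩
      simp only [hy, Prod.pow_mk, Prod.algebraMap_apply, Prod.mk.injEq, Algebra.algebraMap_self,
        RingHom.id_apply, exists_eq_right']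
      rw [root_X_sub_C_pow_pow_eq_iff p ha0 two_pos, pow_eq_pow_iff h1,
        ← orderOf_dvd_iff_pow_eq_one, ha, dvd_mul_iff_div_gcd_dvd (by omega), clog_two hp, pow_one,
        hpd]
      have h2 : p.Coprime ((Fintype.card F - 1) / Nat.gcd (Fintype.card F - 1) 3) :=
        (char_coprime_card_sub_one p).coprime_dvd_right
          (Nat.div_dvd_of_dvd (Nat.gcd_dvd_left _ _))
      exact ⟨fun h => h2.mul_dvd_of_dvd_of_dvd h.2 h.1,
        fun h => ⟨(dvd_mul_left _ _).trans h, (dvd_mul_right _ _).trans h⟩⟩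
    · have := finiteDimensional_adjoinRoot ((monic_X_sub_C (1 : F)).pow 3).ne_zero
      obtain ⟨y, hy⟩ := exists_psl_of_algebra (F := F) (n := Fin 3)
        (by rw [finrank_adjoinRoot_X_sub_C_pow, Fintype.card_fin]) (AdjoinRoot.root ((X - C (1 : F)) ^ 3))
        (by rw [norm_root_X_sub_C_pow 1 three_pos, one_pow])
      refine ⟨y, orderOf_eq_of_forall_iff fun k => ?_⟩
      simp only [hy, root_X_sub_C_pow_pow_eq_iff 2 (one_ne_zero (α := F)) three_pos,
        exists_and_right, exists_eq', true_and]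
      rfl

end Cfsg.Agent.S2476
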