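import Cfsg.Statements.S0197
import Mathlib
import Cfsg.Agent.CHAR.GL23Centralizer

set_option autoImplicit false
open Cfsg

namespace Cfsg.Agent.S0197

theorem sylow_prime {G : Type*} [Group G] [Finite G] [IsSimpleGroup G] (p m : ℕ) [hp : Fact p.Prime]
    (h : Nat.card G = p * m) (hm : ¬ p ∣ m) (hm1 : m ≠ 1) :
    ∃ P : Sylow p G, Nat.card P = p ∧ (Subgroup.normalizer (P : Set G)).index ∣ m ∧
      (Subgroup.normalizer (P : Set G)).index % p = 1 ∧
      (Subgroup.normalizer (P : Set G)).index ≠ 1 := by
  obtain ⟨P⟩ : Nonempty (Sylow p G) := inferInstance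
  have hm0 : m ≠ 0 := by
    rintro rfl
    exact hm (dvd_zero p)
  have hP : Nat.card P = p := by
    rw [P.card_eq_multiplicity, h, Nat.factorization_mul hp.out.ne_zero hm0, Finsupp.add_apply,
      hp.out.factorization_self, Nat.factorization_eq_zero_of_not_dvd hm, add_zero, pow_one]
  have hi : (P : Subgroup G).index = m := by
    have := (P : Subgroup G).card_mul_index
    rw [hP, h] at this
    exact Nat.eq_of_mul_eq_mul_left hp.out.pos this
  refine ⟨P, hP, ?_, ?_, fun h1 => ?_⟩
  · rw [← P.card_eq_index_normalizer, ← hi]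
    exact P.card_dvd_index
  · rw [← P.card_eq_index_normalizer]
    exact Eq.trans (card_sylow_modEq_one p G) (Nat.mod_eq_of_lt hp.out.one_lt)
  · rw [Subgroup.index_eq_one, ← P.coe_coe, Subgroup.normalizer_eq_top_iff] at h1
    rcases h1.eq_bot_or_eq_top with h2 | h2
    · rw [h2, Subgroup.card_bot] at hP
      exact hp.out.one_lt.ne hP
    · rw [h2, Subgroup.index_top] at hi
      exact hm1 hi.symm

/-- If a finite simple group has an involution whose centralizer is isomorphic to the general linear group GL(2, 3), then the group has order 5616 or 7920. -/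
theorem result {G : Type*} [Group G] [Finite G] [IsSimpleGroup G] (t : G) (ht : orderOf t = 2) (e : Subgroup.centralizer ({t} : Set G) ≃* Matrix.GeneralLinearGroup (Fin 2) (ZMod 3)) : Nat.card G = 5616 ∨ Nat.card G = 7920 := by
  have hG : ∀ M : Subgroup G, M.index ≠ 2 := by
    intro M hM
    rcases (Subgroup.normal_of_index_eq_two hM).eq_bot_or_eq_top with h | h
    · have h1 : Nat.card (Subgroup.centralizer ({t} : Set G)) = 48 := by
        rw [Nat.card_congr (e.trans CL.Char.GL23.equivT).toEquiv, Nat.card_eq_fintype_card,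
          CL.Char.GL23.card_T]
      have h2 := Subgroup.card_subgroup_dvd_card (Subgroup.centralizer ({t} : Set G))
      rw [h, Subgroup.index_bot] at hM
      rw [h1, hM] at h2
      omega
    · simp [h] at hM
  obtain ⟨hcl, hC, h | h | h | h⟩ := CL.Char.GL23.card_cases hG ht e
  · exact Or.inl h
  · exact Or.inr h
  · exfalso
    have : Fact (Nat.Prime 13) := ⟨by norm_num⟩
    obtain ⟨P, -, h1, h2, h3⟩ := sylow_prime 13 816 h (by norm_num) (by norm_num)
    have key : ∀ d ∈ Nat.divisors 816, d % 13 = 1 → d = 1 := by decide +kernel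
    exact h3 (key _ (Nat.mem_divisors.2 ⟨h1, by norm_num⟩) h2)
  · exfalso
    have : Fact (Nat.Prime 19) := ⟨by norm_num⟩
    obtain ⟨P, hP, h1, h2, h3⟩ := sylow_prime 19 720 h (by norm_num) (by norm_num)
    have key : ∀ d ∈ Nat.divisors 720, d % 19 = 1 → d = 1 ∨ d = 20 := by decide +kernel
    have h4 := (key _ (Nat.mem_divisors.2 ⟨h1, by norm_num⟩) h2).resolve_left h3
    have h5 := (Subgroup.normalizer (P : Set G)).card_mul_index
    rw [h4, h] at h5
    have : IsCyclic (P : Subgroup G) := isCyclic_of_prime_card hP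
    have h6 : (P : Subgroup G).normalizerMonoidHom.ker.index ∣ 18 := by
      rw [Subgroup.index_ker]
      have := Subgroup.card_subgroup_dvd_card (P : Subgroup G).normalizerMonoidHom.range
      rwa [IsCyclic.card_mulAut, hP] at this
    have h7 := (P : Subgroup G).normalizerMonoidHom.ker.card_mul_index
    have h8 : Nat.card (Subgroup.normalizer ((P : Subgroup G) : Set G)) = 684 := by
      rw [P.coe_coe]; omega
    rw [h8] at h7
    have h9 : 2 ∣ Nat.card (P : Subgroup G).normalizerMonoidHom.ker := by
      obtain ⟨c, hc⟩ := h6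
      have : 18 * Nat.card (P : Subgroup G).normalizerMonoidHom.ker = 684 * c := by
        rw [hc, ← h7]; ring
      omega
    obtain ⟨u, hu⟩ := exists_prime_orderOf_dvd_card' 2 h9
    have hu2 := Subgroup.mem_subgroupOf.1 ((P : Subgroup G).normalizerMonoidHom_ker.le u.2)
    obtain ⟨g, hg⟩ := isConj_iff.1 (hcl u.1.1 (by rw [Subgroup.orderOf_coe, Subgroup.orderOf_coe, hu]))
    obtain ⟨w, hw⟩ := exists_prime_orderOf_dvd_card' (G := (P : Subgroup G)) 19 (by rw [hP])
    have hw1 : g⁻¹ * w * g ∈ Subgroup.centralizer ({t} : Set G) := by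
      rw [Subgroup.mem_centralizer_singleton_iff]
      have := Subgroup.mem_centralizer_iff.1 hu2 w w.2
      rw [← hg] at this
      calc g⁻¹ * w * g * t = g⁻¹ * (w * (g * t * g⁻¹)) * g := by group
        _ = g⁻¹ * ((g * t * g⁻¹) * w) * g := by rw [this]
        _ = t * (g⁻¹ * w * g) := by group
    have hw2 := Subgroup.orderOf_dvd_natCard _ hw1
    have hw3 : orderOf (g⁻¹ * w * g) = 19 := by
      have := (MulAut.conj g⁻¹).orderOf_eq (w : G)
      rw [Subgroup.orderOf_coe, hw] at this
      simpa using this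
    rw [hC, hw3] at hw2
    omega

end Cfsg.Agent.S0197
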