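import Cfsg.Statements.S0810
import Cfsg.Agent.CLAS.PGL2Solv

set_option autoImplicit false
open Cfsg

namespace Cfsg.Agent.S0810

open CL.Dk CL.PGL2

/-- PSL_2(q) is minimal simple iff q is 2^r (r prime), 3^r (r an odd prime), a prime greater than 5 congruent to 2 or 3 mod 5, or 5. -/
theorem result {F : Type*} [Field F] [Fintype F] {q : ℕ} (hF : Fintype.card F = q) : Cfsg.IsMinimalSimple (Matrix.ProjectiveSpecialLinearGroup (Fin 2) F) ↔ ((∃ r : ℕ, r.Prime ∧ q = 2 ^ r) ∨ (∃ r : ℕ, r.Prime ∧ r ≠ 2 ∧ q = 3 ^ r) ∨ (q.Prime ∧ 5 < q ∧ (q % 5 = 2 ∨ q % 5 = 3)) ∨ q = 5) := by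
  have hq : Nat.card F = q := by rw [Nat.card_eq_fintype_card, hF]
  obtain ⟨p, hp⟩ := CharP.exists F
  have hpp : p.Prime := CharP.char_is_prime F p
  have : Fact p.Prime := ⟨hpp⟩
  obtain ⟨n, hn1, hn⟩ := exists_card_eq_char_pow (F := F) p
  have h1q : 1 < Nat.card F := Finite.one_lt_card
  constructor
  · rintro ⟨hs, hc, hsolv⟩
    have key : ∀ H : Subgroup (Matrix.ProjGenLinGroup (Fin 2) F), H ≤ pslIn F → ¬ pslIn F ≤ H →
        Group.IsSolvable H := by
      intro H h1 h2
      refine isSolvable_of_mulEquiv (comapEquivOfLe psl2pgl_injective h1).symm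
        (hsolv _ fun e => h2 ?_)
      rintro _ ⟨g, rfl⟩
      have : g ∈ H.comap (psl2pgl F) := by rw [e]; trivial
      exact this
    have hA : (2 : F) ≠ 0 → 6 ≤ Nat.card F → ¬ (Nat.card F % 5 = 1 ∨ Nat.card F % 5 = 4) := by
      intro h2 h6 h5
      obtain ⟨B⟩ := nonempty_QB_of_finite (F := F)
      obtain ⟨t, ht⟩ := exists_golden_of_five_dvd (F := F) (five_dvd_iff.2 (Or.inr h5))
      obtain ⟨A, -, h3, e⟩ := exists_icosa h2 B ht
      refine not_isSolvable_of_alt_five e (key A h3 fun h => ?_)
      have := Subgroup.card_le_of_le h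
      have := sixty_lt_card_pslIn h6
      have := card_of_alt_five e
      omega
    have h4 : 4 ≤ Nat.card F := by
      by_contra h
      have hL := CL.SL.gcd_mul_card_PSL_two (F := F)
      have h5 : Nat.card (Matrix.ProjectiveSpecialLinearGroup (Fin 2) F) = 2 ^ 1 * 3 ∨
          Nat.card (Matrix.ProjectiveSpecialLinearGroup (Fin 2) F) = 2 ^ 2 * 3 := by
        have : Nat.card F = 2 ∨ Nat.card F = 3 := by omega
        rcases this with h | h <;> rw [h] at hL <;> norm_num at hL <;> omega
      have h6 := CL.Small.two_mul_card_dvd_factorial_card_sylow (p := 2) hc (by omega)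
      have h7 : Nat.card (Sylow 2 (Matrix.ProjectiveSpecialLinearGroup (Fin 2) F)) ∣ 3 := by
        rcases h5 with h5 | h5 <;> exact CL.Small.card_sylow_dvd_of_factor h5 (by decide)
      rcases (Nat.dvd_prime Nat.prime_three).1 h7 with h8 | h8 <;> rw [h8] at h6 <;>
        rcases h5 with h5 | h5 <;> rw [h5] at h6 <;> revert h6 <;> decide
    rcases hn1.eq_or_lt with rfl | hn2
    · rw [pow_one] at hn
      have hp2 : p ≠ 2 := by omega
      have h2 := two_ne_zero_of_odd (odd_card_of_char_ne_two (F := F) p hp2)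
      by_cases h5 : q = 5
      · exact Or.inr (Or.inr (Or.inr h5))
      have h6 : p % 5 ≠ 0 := fun h => h5 (by
        rw [← hq, hn]
        exact ((Nat.prime_dvd_prime_iff_eq Nat.prime_five hpp).1 (Nat.dvd_of_mod_eq_zero h)).symm)
      have h7 := hpp.eq_two_or_odd
      have := hA h2 (by omega)
      exact Or.inr (Or.inr (Or.inl ⟨by rw [← hq, hn]; exact hpp, by omega, by omega⟩))
    · obtain ⟨r, hr, m, rfl⟩ := Nat.exists_prime_and_dvd (n := n) (by omega)
      have hm : m ≠ 0 := by
        rintro rfl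
        omega
      obtain ⟨k, hk⟩ := exists_subfield_card (F := F) p (a := m) (m := r) hm (by
        rw [hn, ← pow_mul, mul_comm])
      have h5 : Nat.card k < 4 := by
        by_contra h
        refine not_isSolvable_psl (not_lt.1 h) (isSolvable_of_mulEquiv (pslOfEquiv k.subtype)
          (key _ (pslOf_le_pslIn _) fun e => not_pslIn_le_cjs_pglOf k.subtype hr.two_le
            (by rw [hk, hn, ← pow_mul, mul_comm]) 1 ?_))
        rw [cjs_one]
        exact e.trans (pslOf_le_pglOf _)
      have h6 : m = 1 := by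
        by_contra h
        have : 2 ^ 2 ≤ p ^ m :=
          (Nat.pow_le_pow_left hpp.two_le 2).trans (Nat.pow_le_pow_right hpp.pos (by omega))
        omega
      subst h6
      rw [pow_one] at hk
      rw [mul_one] at hn
      have := hpp.two_le
      have h7 : p = 2 ∨ p = 3 := by omega
      rcases h7 with rfl | rfl
      · exact Or.inl ⟨r, hr, by rw [← hq, hn]⟩
      · refine Or.inr (Or.inl ⟨r, hr, ?_, by rw [← hq, hn]⟩)
        rintro rfl
        exact hA (two_ne_zero_of_odd (odd_card_of_char_ne_two (F := F) 3 (by decide)))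
          (by omega) (by omega)
  · intro h
    have h4 : 4 ≤ Nat.card F := by
      rw [hq]
      rcases h with ⟨r, hr, rfl⟩ | ⟨r, hr, -, rfl⟩ | h | h
      · exact Nat.pow_le_pow_right (n := 2) (i := 2) (by decide) hr.two_le
      · exact (by decide : 4 ≤ 3 ^ 2).trans (Nat.pow_le_pow_right (by decide) hr.two_le)
      · omega
      · omega
    refine ⟨Matrix.ProjectiveSpecialLinearGroup.rank_two_simple h4, not_isMulCommutative_psl,
      fun H hH => ?_⟩
    refine isSolvable_of_mulEquiv (H.equivMapOfInjective _ psl2pgl_injective) ?_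
    have hne : ¬ pslIn F ≤ H.map (psl2pgl F) := fun h => hH (by
      rw [eq_top_iff, ← Subgroup.map_le_map_iff_of_injective psl2pgl_injective,
        ← MonoidHom.range_eq_map]
      exact h)
    generalize H.map (psl2pgl F) = H' at *
    rcases isSolvable_or p H' with h1 | ⟨e, h2, h5⟩ | ⟨k, g, h1, h2⟩
    · exact h1
    · exfalso
      have h6 := five_dvd_iff.1 (five_dvd_of_alt_five e)
      rcases h with ⟨r, hr, h⟩ | ⟨r, hr, hr2, h⟩ | h | h
      · exact h2 (eq_char_of_dvd_card p Nat.prime_two (by
          rw [hq, h]; exact dvd_pow_self 2 hr.ne_zero)).symm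
      · have := pow_mod_five_of_odd (p := 3) (by decide) (hr.odd_of_ne_two hr2)
        omega
      · omega
      · exact h5 (eq_char_of_dvd_card p Nat.prime_five (by rw [hq, h])).symm
    · exfalso
      rcases surjective_or_exists_pow k.subtype with hs | ⟨m, hm, hm'⟩
      · apply hne
        rcases h2 with h3 | ⟨-, h3⟩ <;> rw [h3]
        · rw [pglOf_eq_top hs, cjs_of_normal]
          exact le_top
        · rw [pslOf_eq_pslIn hs, cjs_of_normal]
      · have key : ∀ s r : ℕ, s.Prime → r.Prime → s ≤ 3 → q ≠ s ^ r := by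
          intro s r hs hr h3 e
          rw [hq, e] at hm'
          obtain ⟨a, -, ha⟩ := (Nat.dvd_prime_pow hs).1
            (hm' ▸ dvd_pow_self _ (by omega) : Nat.card k ∣ s ^ r)
          rw [ha, ← pow_mul] at hm'
          have h7 := Nat.pow_right_injective hs.two_le hm'
          have h8 : m = r := ((Nat.dvd_prime hr).1 (Dvd.intro_left _ h7)).resolve_left (by omega)
          rw [h8] at h7
          have h9 : a = 1 := Nat.eq_of_mul_eq_mul_right hr.pos (h7.trans (one_mul r).symm)
          rw [h9, pow_one] at ha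
          omega
        rcases h with ⟨r, hr, h⟩ | ⟨r, hr, -, h⟩ | h | h
        · exact key 2 r Nat.prime_two hr (by decide) h
        · exact key 3 r Nat.prime_three hr le_rfl h
        · exact not_exists_pow_of_prime h.1 hm (hm'.trans hq)
        · exact not_exists_pow_of_prime Nat.prime_five hm ((hm'.trans hq).trans h)

end Cfsg.Agent.S0810
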