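import Cfsg.Statements.S0196
import Mathlib.Tactic.Group
import Mathlib.Algebra.BigOperators.Ring.Finset
import Mathlib.Algebra.BigOperators.Group.Finset.Piecewise
import Mathlib.GroupTheory.GroupAction.Quotient

set_option autoImplicit false
open Cfsg

namespace Cfsg.Agent.S0196

theorem dvd_card_of_stabilizer_index {H X : Type*} [Group H] [MulAction H X] [Finite X] (d : ℕ)
    (h : ∀ x : X, (MulAction.stabilizer H x).index = d) : d ∣ Nat.card X := by
  classical
  have := Fintype.ofFinite (MulAction.orbitRel.Quotient H X)
  have hfin : ∀ ω : MulAction.orbitRel.Quotient H X,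
      Finite (H ⧸ MulAction.stabilizer H ω.out) := fun ω =>
    Finite.of_equiv _ (MulAction.orbitEquivQuotientStabilizer H ω.out)
  rw [Nat.card_congr (MulAction.selfEquivSigmaOrbitsQuotientStabilizer H X), Nat.card_sigma]
  exact Finset.dvd_sum fun ω _ => by rw [← h ω.out]; rfl

/-- Let A be a subgroup of a finite group G that equals the centralizer of each of its non-identity elements, and let N be its normalizer. Then the index of A in N divides |A| − 1 (N/A permutes the non-identity elements of A in orbits of full length). -/
theorem result {G : Type*} [Group G] [Finite G] (A : Subgroup G) (hA : ∀ x ∈ A, x ≠ 1 → Subgroup.centralizer ({x} : Set G) = A) : (A.subgroupOf (Subgroup.normalizer (A : Set G))).index ∣ Nat.card A - 1 := by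
  classical
  set N := Subgroup.normalizer (A : Set G) with hN
  let X := {x : G // x ∈ A ∧ x ≠ 1}
  let act : MulAction N X :=
    { smul := fun g x => ⟨g * x * (g : G)⁻¹, (Subgroup.mem_normalizer_iff.mp g.2 x).mp x.2.1, by
        intro h
        apply x.2.2
        have : (x : G) = (g : G)⁻¹ * (g * x * (g : G)⁻¹) * g := by group
        rw [this, h]; group⟩
      one_smul := fun x => Subtype.ext (by show ((1 : N) : G) * x * ((1 : N) : G)⁻¹ = x; simp)
      mul_smul := fun g h x => Subtype.ext (by
        show ((g * h : N) : G) * x * ((g * h : N) : G)⁻¹ = g * (h * x * (h : G)⁻¹) * (g : G)⁻¹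
        simp only [Subgroup.coe_mul]; group) }
  have hstab : ∀ x : X, MulAction.stabilizer N x = A.subgroupOf N := by
    intro x
    ext g
    rw [MulAction.mem_stabilizer_iff, Subgroup.mem_subgroupOf, Subtype.ext_iff]
    show (g : G) * x * (g : G)⁻¹ = x ↔ _
    conv_rhs => rw [← hA x x.2.1 x.2.2]
    rw [Subgroup.mem_centralizer_singleton_iff, mul_inv_eq_iff_eq_mul]
  have hX : Nat.card X = Nat.card A - 1 := by
    have e : X ≃ {a : A // a ≠ 1} :=
      { toFun := fun x => ⟨⟨x.1, x.2.1⟩, fun h => x.2.2 (congrArg Subtype.val h)⟩
        invFun := fun a => ⟨a.1.1, a.1.2, fun h => a.2 (Subtype.ext h)⟩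
        left_inv := fun x => rfl
        right_inv := fun a => rfl }
    rw [Nat.card_congr e]
    have := Fintype.ofFinite A
    rw [Nat.card_eq_fintype_card, Nat.card_eq_fintype_card, Fintype.card_subtype_compl]
    simp
  rw [← hX]
  exact dvd_card_of_stabilizer_index _ (fun x => by rw [hstab])

end Cfsg.Agent.S0196
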