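import Cfsg.Statements.S1947
import Cfsg.Agent.TECH.Crit4
import Cfsg.Agent.TECH.CharP
import Cfsg.Agent.PLOC.FrobeniusNPC

set_option autoImplicit false
set_option linter.unusedVariables false
open Cfsg

namespace Cfsg.Agent.S1947

open scoped commutatorElement


/-- Let G be a finite group and p a prime. If every element of G of order dividing p (dividing 4 when p = 2) lies in some fixed term Z_n(G) of the upper central series, then G has a normal p-complement. -/
theorem result {G : Type*} [Group G] [Finite G] {p : ℕ} [Fact p.Prime] (n : ℕ)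
    (h : ∀ a : G, (a ^ p = 1 ∨ (p = 2 ∧ a ^ 4 = 1)) → a ∈ Subgroup.upperCentralSeries G n) : Cfsg.HasNormalPComplement p G := by

  rw [CL.Tr.hasNPC_iff_forall_isPGroup]
  intro Q hQ g hg ho
  obtain ⟨D, hle, hn, hs, -, hf⟩ := CL.PG.exists_small_critical_ambient hQ
  refine hf g hg ho ?_
  have := CL.MSS.mem_centralizer_of_chain ho n
    (fun i => D ⊓ Subgroup.upperCentralSeries G (n - i))
    (fun i _ => hQ.to_le (inf_le_left.trans hle)) (fun i hi r hr => ⟨?_, ?_⟩) (by simp)
  · exact fun d hd => this d ⟨hd, h d (hs d hd)⟩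
  · rw [commutatorElement_def, mul_assoc, mul_assoc, ← mul_assoc g]
    exact D.mul_mem hr.1 ((Subgroup.mem_normalizer_iff.1 (hn hg) _).1 (D.inv_mem hr.1))
  · have h1 : r ∈ Subgroup.upperCentralSeries G (n - (i + 1) + 1) := by
      rw [show n - (i + 1) + 1 = n - i by omega]; exact hr.2
    exact Subgroup.mem_upperCentralSeries_succ_iff.1 h1 g

end Cfsg.Agent.S1947
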