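import Cfsg.Statements.S2429
import Cfsg.Agent.KSG.SL2Torus

set_option autoImplicit false
open Cfsg CL.GL2 CL.Char

namespace Cfsg.Agent.S2429

/-- Let F be a finite field with q elements, q odd. Then SL₂ over F contains a cyclic subgroup T′ of order q + 1 (a non-split torus) with the following properties: T′ is its own centraliser, and indeed the centraliser of each element of T′ other than 1 and −1 is exactly T′; every element of SL₂ having no eigenvector in F² is conjugate to an element of T′; the normaliser of T′ has order 2(q + 1) and exactly (q + 7)/2 conjugacy classes; and every element of that normaliser outside T′ has square −1. -/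
theorem result {F : Type*} [Field F] [Fintype F] (hodd : Odd (Fintype.card F)) :
    ∃ T' : Subgroup (Matrix.SpecialLinearGroup (Fin 2) F), IsCyclic T' ∧ Nat.card T' = Fintype.card F + 1 ∧
      Subgroup.centralizer ((T' : Set (Matrix.SpecialLinearGroup (Fin 2) F))) = T' ∧
      (∀ g : Matrix.SpecialLinearGroup (Fin 2) F, g ∈ T' → (g : Matrix (Fin 2) (Fin 2) F) ≠ 1 → (g : Matrix (Fin 2) (Fin 2) F) ≠ -1 → Subgroup.centralizer ({g} : Set (Matrix.SpecialLinearGroup (Fin 2) F)) = T') ∧
      (∀ g : Matrix.SpecialLinearGroup (Fin 2) F, (∀ (c : F) (v : Fin 2 → F), v ≠ 0 → (g : Matrix (Fin 2) (Fin 2) F).mulVec v ≠ c • v) → ∃ h : Matrix.SpecialLinearGroup (Fin 2) F, h * g * h⁻¹ ∈ T') ∧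
      Nat.card (Subgroup.normalizer (T' : Set (Matrix.SpecialLinearGroup (Fin 2) F))) = 2 * (Fintype.card F + 1) ∧
      Nat.card (ConjClasses (Subgroup.normalizer (T' : Set (Matrix.SpecialLinearGroup (Fin 2) F)))) = (Fintype.card F + 7) / 2 ∧
      ∀ g : Matrix.SpecialLinearGroup (Fin 2) F, g ∈ Subgroup.normalizer (T' : Set (Matrix.SpecialLinearGroup (Fin 2) F)) → g ∉ T' → ((g * g) : Matrix (Fin 2) (Fin 2) F) = -1 := by
  classical
  obtain ⟨d, hd⟩ := exists_noEig_SL (F := F)
  have hr := reg_of_noEig hd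
  have hc := card_centSL_noEig hd
  have := Fact.mk hd
  refine ⟨centSL (d : Matrix (Fin 2) (Fin 2) F), hr.isCyclic, hc, centralizer_centSL hr.not_isScal,
    fun g hg h1 h2 => ?_, fun g hg => ?_, by rw [hr.card_normalizer, hc], ?_,
    fun g hg hg' => SL_ext_iff.1 (hr.mul_self hg hg')⟩
  · rw [centralizer_SL]
    refine centSL_eq_of_mem hr.not_isScal (fun hs => ?_) (mem_centSL.1 hg)
    rcases isScal_SL_iff.1 hs with e | e
    · exact h1 (SL_ext_iff.1 e)
    · exact h2 (SL_ext_iff.1 e)
  · obtain ⟨x, z, hx, -, e⟩ := exists_semiconj_emb (d : Matrix (Fin 2) (Fin 2) F) (show NoEig _ from hg)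
    have hz : QuadraticAlgebra.norm z = 1 := by
      rw [← det_emb, det_of_semiconj (hx ▸ one_ne_zero) e, g.2]
    refine ⟨mkSL x hx, ?_⟩
    have : mkSL x hx * g * (mkSL x hx)⁻¹ = torElt _ z hz := by
      rw [mul_inv_eq_iff_eq_mul]; exact SL_ext_iff.2 e
    rw [this]
    exact (torElt _ z hz).2
  · have := hr.two_mul_card_conjClasses (two_ne_zero_of_odd hodd)
    omega

end Cfsg.Agent.S2429
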