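import Cfsg.Statements.S0063

set_option autoImplicit false
open Cfsg

namespace Cfsg.Agent.S0063

universe u

theorem card_quot_dvd {G : Type*} [Group G] [Finite G] [Nontrivial G] (p n : ℕ) [Fact p.Prime]
    (h : Nat.card G ∣ p ^ (n + 1)) : Nat.card (G ⧸ Subgroup.center G) ∣ p ^ n := by
  have hG : IsPGroup p G := IsPGroup.of_card_dvd_pow h
  have hZ : p ∣ Nat.card (Subgroup.center G) := by
    rcases (hG.to_subgroup (Subgroup.center G)).card_eq_or_dvd with h1 | h1
    · exact absurd (Subgroup.card_eq_one.1 h1) hG.bot_lt_center.ne'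
    · exact h1
  rw [Subgroup.card_eq_card_quotient_mul_card_subgroup (Subgroup.center G), pow_succ] at h
  exact Nat.dvd_of_mul_dvd_mul_right (Fact.out : p.Prime).pos
    ((Nat.mul_dvd_mul_left _ hZ).trans h)

theorem aux (p : ℕ) [Fact p.Prime] (n : ℕ) : ∀ (G : Type u) [Group G] [Finite G],
    Nat.card G ∣ p ^ (n + 2) → Group.nilpotencyClass G ≤ n + 1 := by
  induction n with
  | zero =>
    intro G _ _ h
    have : Group.IsNilpotent G := (IsPGroup.of_card_dvd_pow h).isNilpotent
    rcases subsingleton_or_nontrivial G with hs | hs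
    · rw [Group.nilpotencyClass_zero_iff_subsingleton.2 hs]; omega
    · have h1 := card_quot_dvd p 1 h
      rw [pow_one] at h1
      have := isCyclic_of_card_dvd_prime h1
      exact Group.IsNilpotent.nilpotencyClass_le_one_iff.2
        (isMulCommutative_of_isCyclic_quotient_center_self G)
  | succ n ih =>
    intro G _ _ h
    have : Group.IsNilpotent G := (IsPGroup.of_card_dvd_pow h).isNilpotent
    rcases subsingleton_or_nontrivial G with hs | hs
    · rw [Group.nilpotencyClass_zero_iff_subsingleton.2 hs]; omega
    · have h1 := ih _ (card_quot_dvd p (n + 2) h)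
      rw [Group.nilpotencyClass_eq_quotient_center_plus_one]
      omega

/-- A finite group of prime-power order p ^ m with m > 1 is nilpotent of class at most m - 1. -/
theorem result {G : Type*} [Group G] [Finite G] (p m : ℕ) [Fact p.Prime]
    (hG : Nat.card G = p ^ m) (hm : 1 < m) : Group.nilpotencyClass G ≤ m - 1 := by
  obtain ⟨n, rfl⟩ : ∃ n, m = n + 2 := ⟨m - 2, by omega⟩
  exact aux p n G hG.dvd

end Cfsg.Agent.S0063
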