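import Cfsg.Statements.S2034
import Mathlib
import Cfsg.Agent.KSG.SchurFin
import Cfsg.Agent.KSG.MathieuMdl

set_option autoImplicit false
open Cfsg

namespace Cfsg.Agent.S2034

open CL CL.K CL.SchurC CL.Golay CL.MathMdl

noncomputable def c2 : Cert :=
  { p := 2, s := 0, r := 0, n := 4, B := 7, d := 0, T := 5, b := 1, bu := 1, dn := 6
    ctb := 0x2721013100110000
    cms := 0x4200
    cft := 0xddc1547211
    fix := 0x101000000
    rels := [.c 0x2 0x2 0x2, .c 0x4 0x4 0x4, .c 0x8 0x8 0x8, .c 0x2 0x2 0x8,
      .c 0x2 0x4 0x4, .c 0x4 0x8 0x8, .f 0 [2, 2] [0], .f 0 [1, 1] [0],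
      .f 1 [3, 3] []]
    cV := [0x20,
      0x4020,
      0x0,
      0x0]
    cC := []
    Wu := 9
    utb := 0x3860002021fe2c010000213 }

def lv2 : List (ℕ × ℕ × List ℕ) :=
  [(12, 2, [0x8]), (5, 4, [0x2, 0x4]), (1, 2, [0x1])]

def a2 : List ℕ :=
  [0x7a8eb98628bb9aca5930a8ca231240,
   0x3aef6289c6ac5ac551237a27280480,
   0xb3d758a272515ac3dd21a11c311a00,
   0x5556f898b2b4d8db9d21a09d022060,
   0xbaa959ca28795a93d990591c610c20,
   0x796ebb49c63c444a4d30a8d4d43020]

noncomputable def c3 : Cert :=
  { p := 3, s := 0, r := 0, n := 2, B := 8, d := 0, T := 4, b := 2, bu := 2, dn := 4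
    ctb := 0x100
    cms := 0x0
    cft := 0x84219411
    fix := 0x1010000
    rels := [.f 0 [0, 1] [1, 0], .f 0 [1, 1, 1] [], .f 1 [2, 2, 2] []]
    cV := [0x0,
      0x0]
    cC := []
    Wu := 6
    utb := 0x180a0 }

def lv3 : List (ℕ × ℕ × List ℕ) :=
  [(5, 3, [0x1]), (1, 3, [0x6])]

def a3 : List ℕ :=
  [0x8dab750a815cc6c2b9b0399f249100,
   0xa1ed1986ed5b88c2a849a99f092060,
   0xb9eb47b6309964652c88b31c910c20,
   0x89eb470ee82cc4c5a890b19e993420]

/-- The Schur multiplier of the Mathieu group M₁₁ (the stabiliser of a dodecad and one of its points in the automorphism group of the length-24 binary code) is trivial; here the Schur multiplier is described through stem extensions, as in the definitions: surjective homomorphisms onto the group from a finite group, whose kernel is central in that finite group and contained in that finite group's commutator subgroup. -/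
theorem result : Cfsg.HasCyclicSchurMultiplier ↥Cfsg.Spor.M11 1 := by
  have hc := card_M11
  have h2 := c2.pbound_perm E Nat.prime_two Cfsg.Spor.M11 (A := a2) (lv := lv2)
    (all11 (by decide +kernel)) (by rw [hc]; decide +kernel) (by decide +kernel)
    (by decide +kernel)
  have h3 := c3.pbound_perm E Nat.prime_three Cfsg.Spor.M11 (A := a3) (lv := lv3)
    (all11 (by decide +kernel)) (by rw [hc]; decide +kernel) (by decide +kernel)
    (by decide +kernel)
  exact trivial_of_pbound h2 h3 (pbound_rest hc 23 1 [] (by decide +kernel) (by decide +kernel)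
    (by simp))

end Cfsg.Agent.S2034
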