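import Cfsg.Statements.S3102
import Cfsg.Agent.SYL.NE7

set_option autoImplicit false
open Cfsg

namespace Cfsg.Agent.S3102

/-- Let X be a finite group with no normal subgroup of index 2 and no isolated involution (no involution commuting with none of its other conjugates), and let S be a Sylow 2-subgroup of X of 2-rank at least 3 which has no normal elementary abelian subgroup of order 8. Suppose that for some normal Klein four-subgroup U of S the three involutions of U are conjugate in X. Then S is isomorphic to a Sylow 2-subgroup of the Chevalley group of type G₂ over a field with q elements, q ≡ 1 or 7 mod 8, or to a Sylow 2-subgroup of the second Janko group, or to a Sylow 2-subgroup of the Lyons group. -/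
theorem result {X : Type*} [Group X] [Finite X] (hidx : ∀ N : Subgroup X, N.Normal → N.index ≠ 2) (hiso : ∀ z : X, ¬ Cfsg.IsIsolatedInvolution z)
    (S : Sylow 2 X) (h3 : ¬ Cfsg.PRankLE 2 2 ↥(S : Subgroup X))
    (h8 : ∀ E : Subgroup ↥(S : Subgroup X), E.Normal → Cfsg.IsElementaryAbelian 2 E → Nat.card ↥E ≠ 8)
    (U : Subgroup ↥(S : Subgroup X)) (hU : IsKleinFour ↥U) (hUn : U.Normal)
    (hconj : ∀ u ∈ U, ∀ v ∈ U, u ≠ 1 → v ≠ 1 → IsConj (u : X) (v : X)) :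
    (∃ (F : Type) (_ : Field F) (_ : Fintype F), (Fintype.card F % 8 = 1 ∨ Fintype.card F % 8 = 7) ∧
        ∃ P : Sylow 2 ↥(Cfsg.Lie.chevG2.group F), Nonempty (↥(S : Subgroup X) ≃* ↥(P : Subgroup ↥(Cfsg.Lie.chevG2.group F)))) ∨
      (∃ P : Sylow 2 Cfsg.Spor.J2, Nonempty (↥(S : Subgroup X) ≃* ↥(P : Subgroup Cfsg.Spor.J2))) ∨
      (∃ P : Sylow 2 Cfsg.Spor.Ly, Nonempty (↥(S : Subgroup X) ≃* ↥(P : Subgroup Cfsg.Spor.Ly))) := by
  have h : CL.NE.Pre (S : Subgroup X) (U.map (S : Subgroup X).subtype) :=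
    ⟨S.isPGroup', Subgroup.map_subtype_le U, CL.Four.isKleinFour_map hU (S : Subgroup X).subtype_injective,
      by rintro g hg _ ⟨x, hx, rfl⟩; exact ⟨_, hUn.conj_mem x hx ⟨g, hg⟩, rfl⟩, CL.NE.k4_of S.isPGroup' h8⟩
  obtain ⟨t, ht, t2, tU⟩ := h.exists_t h3
  obtain ⟨α, s, z, hc⟩ := h.exists_Ctx (fun l => tU (l ht)) (by
    rintro _ ⟨u, hu, rfl⟩ _ ⟨v, hv, rfl⟩ u1 v1
    exact hconj u hu v hv (fun e => u1 (by simp [e])) fun e => v1 (by simp [e]))
  rcases hc.main (fun H e => hidx H (Subgroup.normal_of_index_eq_two e) e) ht t2 tU with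
    ⟨n, a, b, c, s, h1, h2, h3, h4, h5, h6, h7, h8, h9, k1, k2, k3, k4⟩ |
    ⟨e0, e1, f0, f1, z0, z1, s, h1, h2, h3, h4, k1, k2, k3, k4⟩ |
    ⟨e0, e1, f0, f1, z0, z1, c, s, h1, h2, h3, h4, h5, h6, h7, h8, k1, k2, k3, k4, k5⟩
  · obtain ⟨F, _, _, e, P⟩ := CL.Syl.equiv_G2 h1 h2 h3 h4 h5 h6 h7 h8 h9 k1 k2 k3 k4
    exact .inl ⟨F, _, _, .inl e, P⟩
  · obtain ⟨P⟩ : Nonempty (Sylow 2 Cfsg.Spor.J2) := inferInstance
    obtain ⟨f⟩ := h1.equiv_J2 h2 h3 h4 k1 k2 k3 k4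
    obtain ⟨g⟩ := CL.Syl.J7.equiv_J2 P
    exact .inr (.inl ⟨P, ⟨f.trans g.symm⟩⟩)
  · exact .inr (.inr (h1.equiv_Ly h2 h3 h4 h5 h6 h7 h8 k1 k2 k3 k4 k5))

end Cfsg.Agent.S3102
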