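import Cfsg.Statements.S4398
import Cfsg.Agent.SOLV.MaxClass

set_option autoImplicit false
open Cfsg

namespace Cfsg.Agent.S4398

theorem aux {S T : Type*} [Group S] [Group T] {H : Subgroup S} (e : H ≃* T) (hc : Nat.card T = 8)
    (h1 : ∃ a b : T, a * b ≠ b * a) (h2 : ∀ a b : T, b * (a * a) = a * a * b) :
    Nat.card H = 2 ^ 3 ∧ ¬ IsMulCommutative H ∧
      ∀ a ∈ H, a * a ∈ Subgroup.centralizer (H : Set S) := by
  refine ⟨(Nat.card_congr e.toEquiv).trans hc, fun h => ?_, fun a ha b hb => ?_⟩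
  · obtain ⟨a, b, hab⟩ := h1
    apply hab
    have := congrArg e (mul_comm' (e.symm a) (e.symm b))
    simpa using this
  · have : (⟨b, hb⟩ : H) * (⟨a, ha⟩ * ⟨a, ha⟩) = ⟨a, ha⟩ * ⟨a, ha⟩ * ⟨b, hb⟩ := by
      apply e.injective
      simp only [map_mul]
      exact h2 _ _
    exact congrArg Subtype.val this

/-- Let S be a finite 2-group of sectional 2-rank at most 2 that contains a subgroup isomorphic to the dihedral group of order 8 or to the quaternion group of order 8. Then S is dihedral of order at least 8, semidihedral of order at least 16 (order 2^(k+4) with an element a of order 2^(k+3) and an involution b with b a b⁻¹ = a^(2^(k+2)−1)), or generalized quaternion of order at least 8. -/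
theorem result {S : Type*} [Group S] [Finite S] (h2 : IsPGroup 2 S) (hr : Cfsg.SectionalPRankLE 2 2 S)
    (hsub : ∃ H : Subgroup S, Nonempty (↥H ≃* DihedralGroup 4) ∨ Nonempty (↥H ≃* QuaternionGroup 2)) :
    ((∃ k : ℕ, Nonempty (S ≃* DihedralGroup (2 ^ (k + 2)))) ∨
      (∃ k : ℕ, Nat.card S = 2 ^ (k + 4) ∧ ∃ a b : S, orderOf a = 2 ^ (k + 3) ∧ orderOf b = 2 ∧ b * a * b⁻¹ = a ^ (2 ^ (k + 2) - 1)) ∨
      (∃ k : ℕ, Nonempty (S ≃* QuaternionGroup (2 ^ (k + 1))))) := by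
  obtain ⟨B, hB, hna, hsq⟩ : ∃ B : Subgroup S, Nat.card B = 2 ^ 3 ∧ ¬ IsMulCommutative B ∧
      ∀ a ∈ B, a * a ∈ Subgroup.centralizer (B : Set S) := by
    obtain ⟨H, ⟨⟨e⟩⟩ | ⟨⟨e⟩⟩⟩ := hsub
    · exact ⟨H, aux e DihedralGroup.nat_card (by decide) (by decide)⟩
    · exact ⟨H, aux e (by simp [QuaternionGroup.card]) (by decide) (by decide)⟩
  obtain ⟨n, hn⟩ := IsPGroup.iff_card.1 h2
  have h3 : 3 ≤ n :=
    (Nat.pow_le_pow_iff_right one_lt_two).1 (hB ▸ hn ▸ Subgroup.card_le_card_group B)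
  obtain ⟨m, rfl⟩ : ∃ m, n = m + 3 := ⟨n - 3, by omega⟩
  by_cases hC : Subgroup.centralizer (B : Set S) ≤ B
  · obtain ⟨a, b, h⟩ := CL.PCyc.exists_isDQS_of_nilpotencyClass hn
      (CL.PCyc.nilpotencyClass_of_nonabelian_cube hn hB hna hC)
    exact h.types
  exfalso
  classical
  obtain ⟨c, hcC, hcB, hc2⟩ : ∃ c ∈ Subgroup.centralizer (B : Set S), c ∉ B ∧ c * c ∈ B := by
    obtain ⟨d, hd, hdB⟩ := SetLike.not_le_iff_exists.1 hC
    have hex : ∃ k, d ^ 2 ^ k ∈ B := by
      obtain ⟨k, hk⟩ := h2 d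
      exact ⟨k, hk ▸ B.one_mem⟩
    have h0 : Nat.find hex ≠ 0 := fun h => hdB (by simpa [h] using Nat.find_spec hex)
    obtain ⟨k, hk⟩ := Nat.exists_eq_succ_of_ne_zero h0
    refine ⟨d ^ 2 ^ k, pow_mem hd _, Nat.find_min hex (by omega), ?_⟩
    have := Nat.find_spec hex
    rwa [hk, pow_succ, pow_mul, sq] at this
  set N := B ⊓ Subgroup.centralizer (B : Set S) with hN
  set H := B ⊔ Subgroup.zpowers c with hH
  have hcB' : Subgroup.zpowers c ≤ Subgroup.centralizer (B : Set S) := (Subgroup.zpowers_le).2 hcC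
  have hHN : H ≤ Subgroup.centralizer (N : Set S) :=
    sup_le (Subgroup.le_centralizer_iff.1 inf_le_right)
      (hcB'.trans (Subgroup.centralizer_le fun x hx => (Subgroup.mem_inf.1 hx).1))
  have hn' : (N.subgroupOf H).Normal :=
    CL.normal_subgroupOf_of_le_normalizer (hHN.trans (Subgroup.centralizer_le_normalizer _))
  have hsq' : ∀ g : H ⧸ N.subgroupOf H, g * g = 1 := by
    intro g
    obtain ⟨⟨g, hg⟩, rfl⟩ := QuotientGroup.mk_surjective g
    rw [← QuotientGroup.mk_mul, QuotientGroup.eq_one_iff, Subgroup.mem_subgroupOf]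
    obtain ⟨y, hy, _, ⟨i, rfl⟩, rfl⟩ := (CL.mem_sup_of_le_normalizer'
      (hcB'.trans (Subgroup.centralizer_le_normalizer _))).1 hg
    have e : y * c ^ i * (y * c ^ i) = y * y * (c * c) ^ i := by
      have h1 : y * c ^ i = c ^ i * y := zpow_mem hcC i y hy
      rw [(Commute.refl c).mul_zpow]
      calc y * c ^ i * (y * c ^ i) = y * (c ^ i * y) * c ^ i := by group
        _ = _ := by rw [← h1]; group
    change y * c ^ i * (y * c ^ i) ∈ N
    rw [e]
    exact mul_mem ⟨mul_mem hy hy, hsq y hy⟩ (zpow_mem (Subgroup.mem_inf.2 ⟨hc2, mul_mem hcC hcC⟩) i)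
  have h4 := hr H (N.subgroupOf H) ⊤ ⟨⟨fun a b => Subtype.ext (by
    calc a.1 * b.1 = (a.1 * b.1)⁻¹ := (inv_eq_of_mul_eq_one_right (hsq' _)).symm
      _ = b.1 * a.1 := by
        rw [mul_inv_rev, inv_eq_of_mul_eq_one_right (hsq' a.1),
          inv_eq_of_mul_eq_one_right (hsq' b.1)])⟩⟩ (fun a _ => by rw [sq, hsq'])
  rw [Subgroup.card_top] at h4
  have h5 := Subgroup.card_eq_card_quotient_mul_card_subgroup (N.subgroupOf H)
  rw [CL.card_subgroupOf_of_le (inf_le_left.trans le_sup_left)] at h5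
  have h6 := CL.PCyc.mul_card_le_of_lt (h2.to_subgroup H) (H := B) (lt_of_le_of_ne le_sup_left
    fun e => hcB (e ▸ Subgroup.mem_sup_right (Subgroup.mem_zpowers c)))
  have h7 : Nat.card N ≤ 2 := by
    obtain ⟨x, hx, y, hy, hxy⟩ : ∃ x ∈ B, ∃ y ∈ B, x * y ≠ y * x := by
      by_contra hcon
      push Not at hcon
      exact hna ⟨⟨fun a b => Subtype.ext (hcon a a.2 b b.2)⟩⟩
    have h1 : N < B ⊓ Subgroup.centralizer {x} := by
      refine lt_of_le_of_ne (inf_le_inf_left _ (Subgroup.centralizer_le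
        (Set.singleton_subset_iff.2 hx))) fun e => hxy ?_
      have : x ∈ N := e ▸ ⟨hx, Subgroup.mem_centralizer_singleton_iff.2 rfl⟩
      exact (this.2 y hy).symm
    have h1' : B ⊓ Subgroup.centralizer {x} < B := by
      refine inf_lt_left.2 fun e => hxy ?_
      exact (Subgroup.mem_centralizer_singleton_iff.1 (e hy)).symm
    have h8 := CL.PCyc.mul_card_le_of_lt (h2.to_subgroup _) h1
    have h9 := CL.PCyc.mul_card_le_of_lt (h2.to_subgroup _) h1'
    omega
  have := Nat.mul_le_mul h4 h7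
  rw [← h5] at this
  omega

end Cfsg.Agent.S4398
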