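import Cfsg.Statements.S2037
import Mathlib
import Cfsg.Agent.KSG.SchurFin
import Cfsg.Agent.KSG.MathieuMdl

set_option autoImplicit false
open Cfsg

namespace Cfsg.Agent.S2037

open CL CL.K CL.SchurC CL.Golay CL.MathMdl

noncomputable def c2 : Cert :=
  { p := 2, s := 0, r := 0, n := 7, B := 8, d := 1, T := 17, b := 1, bu := 1, dn := 9
    ctb := 0x76e4c70506040032428382020000116141010000000080808000000000404000000000002000000000000
    cms := 0xf8e0c0000000
    cft := 0x3d4e4a9cb156008b81308149016207840608081a10279010201840e08081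
    fix := 0x202020202010101010101000000000000
    rels := [.c 0x20 0x20 0x20, .c 0x10 0x10 0x10, .c 0x2 0x10 0x10, .c 0x1 0x8 0x40,
      .c 0x40 0x40 0x40, .c 0x4 0x10 0x10, .c 0x8 0x8 0x20, .c 0x8 0x20 0x20,
      .c 0x10 0x20 0x20, .c 0x4 0x20 0x20, .c 0x8 0x8 0x10, .c 0x8 0x8 0x40,
      .c 0x4 0x40 0x40, .c 0x10 0x10 0x40, .c 0x10 0x40 0x40, .c 0x20 0x20 0x40,
      .c 0x20 0x40 0x40, .c 0x8 0x20 0x40, .f 0 [2, 3] [3, 2], .f 0 [2, 5] [5, 2, 0],
      .f 0 [4, 4] [0], .f 1 [8, 8] [], .f 1 [10, 10] [6], .f 1 [11, 11] [7, 6],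
      .f 1 [8, 10] [10, 8, 6], .f 1 [9, 10] [10, 9, 7, 6], .f 2 [13, 13] []]
    cV := [0x40000000,
      0xc0000000,
      0x2000c0000000,
      0x0,
      0xa00040000000,
      0x0,
      0x0]
    cC := []
    Wu := 27
    utb := 0xab1fe0c0000002b3d1de80000000008b2000180a80012c04029f6eacccc5af0996ac032a5500004aa00009575932d100000000000000000645a000000812010080433af0006f8a00011a802072680035a20000018000de14000002000002e }

def lv2 : List (ℕ × ℕ × List ℕ) :=
  [(13, 2, [0x40]), (2, 4, [0x10, 0x20]), (0, 16, [0x1, 0x2, 0x4, 0x8])]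

def a2 : List ℕ :=
  [0xba6a69c825031ae5a2ca1d20438a2f,
   0xbbaa09c8ea359a95c1858bd0408874,
   0xb9aa99c94773da05c681858642890c,
   0xb96a79c8090a1aa5b20ea0ec4309f1,
   0xbbeae12d43499b490411830e42cd16,
   0xbd2ac58941b01af98cc783a242c909,
   0xb8da514a8c446a15d8e97c1c404cca,
   0xbd04e936237da69ac0c5430e452c20,
   0xba88f58a36315b09310e181353cc34,
   0xbcaa182ac03cda24196f4c68471583]

noncomputable def c3 : Cert :=
  { p := 3, s := 0, r := 0, n := 2, B := 8, d := 0, T := 4, b := 2, bu := 2, dn := 4
    ctb := 0x100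
    cms := 0x0
    cft := 0x44218411
    fix := 0x1010000
    rels := [.f 0 [0, 1] [1, 0], .f 0 [1, 1, 1] [], .f 1 [2, 2, 2] []]
    cV := [0x0,
      0x0]
    cC := []
    Wu := 6
    utb := 0x80a0 }

def lv3 : List (ℕ × ℕ × List ℕ) :=
  [(1, 3, [0x4]), (0, 3, [0x1])]

def a3 : List ℕ :=
  [0xbda4358a2a341a52392c79d1305434,
   0xbd8089d22a3c0225b9b233ea460d25,
   0xbc4b49a2c673d2259db2542a41b020,
   0xbc4685d2c681c359bdb2538442812c]

/-- The Schur multiplier of the Mathieu group M₂₃ (the stabiliser of a point in the automorphism group of the length-24 binary code) is trivial; here the Schur multiplier is described through stem extensions, as in the definitions: surjective homomorphisms onto the group from a finite group, whose kernel is central in that finite group and contained in that finite group's commutator subgroup. -/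
theorem result : Cfsg.HasCyclicSchurMultiplier ↥Cfsg.Spor.M23 1 := by
  have hc := card_M23
  have h2 := c2.pbound_perm E Nat.prime_two Cfsg.Spor.M23 (A := a2) (lv := lv2)
    (all23 (by decide +kernel)) (by rw [hc]; decide +kernel) (by decide +kernel)
    (by decide +kernel)
  have h3 := c3.pbound_perm E Nat.prime_three Cfsg.Spor.M23 (A := a3) (lv := lv3)
    (all23 (by decide +kernel)) (by rw [hc]; decide +kernel) (by decide +kernel)
    (by decide +kernel)
  exact trivial_of_pbound h2 h3 (pbound_rest hc 23 1 [] (by decide +kernel) (by decide +kernel)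
    (by simp))

end Cfsg.Agent.S2037
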