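import Cfsg.Statements.S1233
import Cfsg.Agent.S1232
import Cfsg.Agent.SOLV.SemiR2
import Cfsg.Agent.SIG.HHSA

set_option autoImplicit false
open Cfsg

namespace Cfsg.Agent.S1233

open Subgroup CL.SR1 QuaternionGroup
open scoped commutatorElement

abbrev M := QuaternionGroup 2 × QuaternionGroup 2

def rel (x y : M) : Prop := x = y ∨ x = y * (a 2, a 2)

instance : DecidableRel rel := fun _ _ => by unfold rel; infer_instance

def cm (x y : M) : Prop := rel (x * y) (y * x)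

instance : DecidableRel cm := fun _ _ => by unfold cm; infer_instance

def zz (x y : M) : Prop := rel x y ∨ rel x (y * (a 2, 1))

instance : DecidableRel zz := fun _ _ => by unfold zz; infer_instance

structure Gd (p q : QuaternionGroup 2) : Prop where
  sq : ∀ x : M, cm x (a 1, p) → cm x (xa 0, q) → rel (x ^ 2) 1
  ab : ∀ x : M, cm x (a 1, p) → cm x (xa 0, q) → ∀ y : M, cm y (a 1, p) → cm y (xa 0, q) → cm x y
  card : Fintype.card {x : M // cm x (a 1, p) ∧ cm x (xa 0, q)} = 16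
  c1 : cm (a 1, p) (xa 0, q)
  gen : ∀ x : M, ∃ i j k l : Fin 4,
    x = (a 1, 1) ^ i.1 * (xa 0, 1) ^ j.1 * (a 1, p) ^ k.1 * (xa 0, q) ^ l.1
  sw : ∀ y : M, rel (y * y) (a 2, 1) → cm y (a 1, p) →
    rel (y * (xa 0, q)) ((xa 0, q) * y * (a 2, 1)) →
    ∀ y' : M, rel (y' * y') (a 2, 1) → cm y' (xa 0, q) →
    rel (y' * (a 1, p)) ((a 1, p) * y' * (a 2, 1)) → rel (y * y') (y' * y * (a 2, 1)) →
    (zz y (1, p) ∧ zz y' (1, q)) ∨ ∃ m : M, cm m (a 1, p) ∧ cm m (xa 0, q) ∧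
      rel (m * (a 1, 1) * m⁻¹) y ∧ rel (m * (xa 0, 1) * m⁻¹) y'

set_option synthInstance.maxSize 4000 in
theorem gd1 : Gd (a 1) (xa 0) := by
  constructor <;> decide +kernel

set_option synthInstance.maxSize 4000 in
theorem gd2 : Gd (xa 0) (a 1 * xa 0) := by
  constructor <;> decide +kernel

variable {S : Type*} [Group S] [Finite S]

theorem swap (hS : IsPGroup 2 S) (φ : M →* S) (hφ : ∀ x y, φ x = φ y ↔ rel x y)
    (hC : centralizer (φ.range : Set S) ≤ φ.range) {p q : QuaternionGroup 2} (h : Gd p q) :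
    SectionalPRankLE 2 4 S ∨ ∃ g : S, Commute g (φ (a 1, p)) ∧ Commute g (φ (xa 0, q)) ∧
      Commute g (φ (a 2, 1)) ∧ (∃ y, g * φ (a 1, 1) * g⁻¹ = φ y ∧ zz y (1, p)) ∧
      ∃ y, g * φ (xa 0, 1) * g⁻¹ = φ y ∧ zz y (1, q) := by
  have : Fact (Nat.Prime 2) := ⟨Nat.prime_two⟩
  have hcm : ∀ x y, cm x y ↔ Commute (φ x) (φ y) := fun x y => by
    rw [cm, ← hφ, map_mul, map_mul]; rfl
  let A := φ.range ⊓ centralizer ({φ (a 1, p), φ (xa 0, q)} : Set S)
  have hA : ∀ x, φ x ∈ A ↔ cm x (a 1, p) ∧ cm x (xa 0, q) := fun x => by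
    simp only [A, mem_inf, MonoidHom.mem_range, exists_apply_eq_apply, true_and, mem_centralizer_iff,
      Set.mem_insert_iff, Set.mem_singleton_iff, forall_eq_or_imp, forall_eq, hcm]
    exact and_congr eq_comm eq_comm
  have hAc : ∀ x ∈ A, ∀ y ∈ A, Commute x y := by
    rintro _ hx _ hy
    obtain ⟨x, rfl⟩ := hx.1
    obtain ⟨y, rfl⟩ := hy.1
    rw [hA] at hx hy
    exact (hcm _ _).1 (h.ab x hx.1 hx.2 y hy.1 hy.2)
  have a1 : φ (a 1, p) ∈ A := (hA _).2 ⟨.inl rfl, h.c1⟩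
  have a2 : φ (xa 0, q) ∈ A := (hA _).2 ⟨(hcm _ _).2 ((hcm _ _).1 h.c1).symm, .inl rfl⟩
  have hz : ∀ x : M, Commute x (a 2, 1) := by unfold Commute SemiconjBy; decide +kernel
  have a3 : φ (a 2, 1) ∈ A := (hA _).2 ⟨.inl (hz _).symm, .inl (hz _).symm⟩
  by_cases hle : centralizer (A : Set S) ≤ φ.range
  · left
    refine Cfsg.Agent.S1232.result hS A ⟨⟨⟨fun x y => Subtype.ext (hAc _ x.2 _ y.2)⟩⟩, fun x hx => ?_⟩
      ?_ (le_antisymm (fun c hc => ⟨hle hc, ?_⟩) fun x hx y hy => hAc y hy x hx)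
    · obtain ⟨x, rfl⟩ := hx.1
      rw [hA] at hx
      rw [← map_pow, (hφ _ _).2 (h.sq x hx.1 hx.2), map_one]
    · have h1 := relIndex_comap ⊥ φ (A.comap φ)
      rw [map_comap_eq_self (inf_le_left : A ≤ _), relIndex_bot_left] at h1
      have h2 := relIndex_mul_relIndex ⊥ (comap φ ⊥) (A.comap φ) bot_le (comap_mono bot_le)
      have h3 : Nat.card (A.comap φ) = 16 := by
        rw [← h.card, ← Nat.card_eq_fintype_card]
        exact Nat.card_congr (Equiv.subtypeEquivRight hA)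
      have h4 : Nat.card (comap φ ⊥) = 2 := by
        refine Eq.trans ?_ (show Fintype.card {x : M // rel x 1} = 2 by decide +kernel)
        rw [← Nat.card_eq_fintype_card]
        exact Nat.card_congr (Equiv.subtypeEquivRight fun x => by
          rw [← hφ, map_one]; rfl)
      rw [relIndex_bot_left, relIndex_bot_left, h1, h3, h4] at h2
      change 2 * Nat.card A = 16 at h2; omega
    · rintro _ (rfl | rfl)
      exacts [hc _ a1, hc _ a2]
  right
  have hn : φ.range ≤ normalizer (A : Set S) := by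
    rintro _ ⟨m, rfl⟩
    refine mem_normalizer_fintype fun x hx => ?_
    obtain ⟨x, rfl⟩ := hx.1
    have key : ∀ m x : M, m * x * m⁻¹ = x ∨ m * x * m⁻¹ = x * (a 2, 1) ∨
      m * x * m⁻¹ = x * (1, a 2) ∨ m * x * m⁻¹ = x * (a 2, a 2) := by decide +kernel
    have k2 : φ (a 2, a 2) = 1 := by rw [← map_one φ, hφ]; decide
    have k3 : φ (1, a 2) = φ (a 2, 1) := by rw [hφ]; decide
    rw [← map_inv, ← map_mul, ← map_mul]
    rcases key m x with e | e | e | e <;> rw [e]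
    · exact hx
    · exact map_mul φ _ _ ▸ mul_mem hx a3
    · rw [map_mul, k3]; exact mul_mem hx a3
    · rwa [map_mul, k2, mul_one]
  obtain ⟨g, hg, hgQ, hc⟩ := CL.HHS.exists_not_mem_commutator_mem (p := 2) (P := φ.range)
    (hS.to_subgroup _) (hS.to_subgroup _) (hn.trans fun g hg => mem_normalizer_fintype fun c hc => by
      intro x hx
      have := hc _ ((mem_normalizer_iff.1 (inv_mem hg) x).1 hx)
      calc _ = g * (g⁻¹ * x * g⁻¹⁻¹ * c) * g⁻¹ := by group
        _ = _ := by rw [this]; group) hle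
  have hc' : ∀ x, ∃ y, g * φ x * g⁻¹ = φ y := fun x => by
    obtain ⟨y, hy⟩ := mul_mem (hc _ ⟨x, rfl⟩) ⟨x, rfl⟩
    exact ⟨y, by rw [hy, commutatorElement_def]; group⟩
  have g1 : g * φ (a 1, p) * g⁻¹ = φ (a 1, p) := by rw [← hg _ a1]; group
  have g2 : g * φ (xa 0, q) * g⁻¹ = φ (xa 0, q) := by rw [← hg _ a2]; group
  have g3 : g * φ (a 2, 1) * g⁻¹ = φ (a 2, 1) := by rw [← hg _ a3]; group
  obtain ⟨y, hy⟩ := hc' (a 1, 1)
  obtain ⟨y', hy'⟩ := hc' (xa 0, 1)
  have mul : ∀ {x x' u u' : M}, g * φ x * g⁻¹ = φ u → g * φ x' * g⁻¹ = φ u' →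
      g * φ (x * x') * g⁻¹ = φ (u * u') := fun e e' => by
    rw [map_mul, map_mul, ← e, ← e']; group
  have tr : ∀ {x x' u u' : M}, g * φ x * g⁻¹ = φ u → g * φ x' * g⁻¹ = φ u' → x = x' → rel u u' :=
    fun e e' e'' => by rw [← hφ, ← e, ← e', e'']
  rcases h.sw y (tr (mul hy hy) g3 (by decide)) (tr (mul hy g1) (mul g1 hy) (by simp))
    (tr (mul hy g2) (mul (mul g2 hy) g3) (Prod.ext (by dsimp only [Prod.fst_mul]; decide) (by simp)))
    y' (tr (mul hy' hy') g3 (by decide)) (tr (mul hy' g2) (mul g2 hy') (by simp))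
    (tr (mul hy' g1) (mul (mul g1 hy') g3) (Prod.ext (by dsimp only [Prod.fst_mul]; decide) (by simp)))
    (tr (mul hy hy') (mul (mul hy' hy) g3) (by decide)) with ⟨e1, e2⟩ | ⟨m, m1, m2, m3, m4⟩
  · exact ⟨g, (hg _ a1).symm, (hg _ a2).symm, (hg _ a3).symm, ⟨y, hy, e1⟩, y', hy', e2⟩
  exfalso
  rw [← hφ, ← hy, map_mul, map_mul, map_inv] at m3
  rw [← hφ, ← hy', map_mul, map_mul, map_inv] at m4
  have c3 : ∀ x : S, φ m * x * (φ m)⁻¹ = g * x * g⁻¹ → Commute ((φ m)⁻¹ * g) x := fun x e => by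
    refine mul_inv_eq_iff_eq_mul.1 ?_
    calc _ = (φ m)⁻¹ * (g * x * g⁻¹) * φ m := by group
      _ = x := by rw [← e]; group
  suffices h5 : (φ m)⁻¹ * g ∈ centralizer (φ.range : Set S) by
    have := mul_mem (⟨m, rfl⟩ : φ m ∈ φ.range) (hC h5)
    exact hgQ (by rwa [mul_inv_cancel_left] at this)
  rintro _ ⟨x, rfl⟩
  obtain ⟨i, j, k, l, rfl⟩ := h.gen x
  simp only [map_mul, map_pow]
  exact (((((c3 _ m3).pow_right _).mul_right ((c3 _ m4).pow_right _)).mul_right
    ((((hcm _ _).1 m1).inv_left.mul_left (hg _ a1).symm).pow_right _)).mul_right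
    ((((hcm _ _).1 m2).inv_left.mul_left (hg _ a2).symm).pow_right _)).symm

def Act (φ : M →* S) (g : S) (x y : M) : Prop :=
  g * φ x * g⁻¹ = φ y ∨ g * φ x * g⁻¹ = φ y * φ (a 2, 1)

theorem Act.mul {φ : M →* S} {g : S} {x y x' y' : M} (h : Act φ g x y) (h' : Act φ g x' y') :
    Act φ g (x * x') (y * y') := by
  have hz : ∀ x : M, (a 2, 1) * x = x * (a 2, 1) := by decide +kernel
  have h2 : ((a 2, 1) * (a 2, 1) : M) = 1 := by decide
  unfold Act
  rw [show g * φ (x * x') * g⁻¹ = (g * φ x * g⁻¹) * (g * φ x' * g⁻¹) by rw [map_mul]; group]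
  rcases h with e | e <;> rcases h' with e' | e' <;> rw [e, e'] <;> simp only [← map_mul]
  · exact .inl trivial
  · exact .inr (by rw [mul_assoc])
  · exact .inr (by rw [mul_assoc, hz, mul_assoc])
  · exact .inl (by rw [mul_assoc, ← mul_assoc (a 2, 1), hz, mul_assoc y', h2, mul_one])

theorem Act.comp {φ : M →* S} {g g' : S} {x y u : M} (h : Act φ g' x y) (h' : Act φ g y u)
    (hz : Commute g (φ (a 2, 1))) : Act φ (g * g') x u := by
  have h2 : φ (a 2, 1) * φ (a 2, 1) = 1 := by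
    rw [← map_mul, show ((a 2, 1) * (a 2, 1) : M) = 1 by decide, map_one]
  unfold Act
  rw [show g * g' * φ x * (g * g')⁻¹ = g * (g' * φ x * g'⁻¹) * g⁻¹ by group]
  rcases h with e | e <;> rw [e]
  · exact h'
  rw [show g * (φ y * φ (a 2, 1)) * g⁻¹ = g * φ y * g⁻¹ * (g * φ (a 2, 1) * g⁻¹) by group, hz.eq,
    mul_inv_cancel_right]
  rcases h' with e' | e' <;> rw [e']
  · exact .inr rfl
  · exact .inl (by rw [mul_assoc, h2, mul_one])

theorem Act.of_comm {φ : M →* S} {g : S} {x : M} (h : Commute g (φ x)) : Act φ g x x :=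
  .inl (mul_inv_eq_iff_eq_mul.2 h.eq)

theorem main (hS : IsPGroup 2 S) (φ : M →* S) (hφ : ∀ x y, φ x = φ y ↔ rel x y)
    (hC : centralizer (φ.range : Set S) ≤ φ.range) : SectionalPRankLE 2 4 S := by
  have : Fact (Nat.Prime 2) := ⟨Nat.prime_two⟩
  have act : ∀ {g x u}, (∃ y, g * φ x * g⁻¹ = φ y ∧ zz y u) → Act φ g x u := by
    rintro g x u ⟨y, e, h | h⟩
    · exact .inl (e.trans ((hφ _ _).2 h))
    · exact .inr (e.trans (((hφ _ _).2 h).trans (map_mul _ _ _)))
  have cg : ∀ {g x x' u u'}, Act φ g x u → x = x' → zz u u' → Act φ g x' u' := by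
    rintro g x _ u u' h rfl h'
    simpa using h.comp (act (g := 1) (x := u) ⟨u, by simp, h'⟩) (by simp)
  rcases swap hS φ hφ hC gd1 with h | ⟨g, g1, g2, g3, g4, g5⟩
  · exact h
  rcases swap hS φ hφ hC gd2 with h | ⟨f, f1, f2, f3, f4, f5⟩
  · exact h
  exfalso
  replace g4 := act g4
  replace g5 := act g5
  replace f4 := act f4
  replace f5 := act f5
  have g6 : Act φ g (1, a 1) (a 1, 1) :=
    cg (((g4.mul g4).mul g4).mul (.of_comm g1)) (by decide) (by decide)
  have g7 : Act φ g (1, xa 0) (xa 0, 1) :=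
    cg (((g5.mul g5).mul g5).mul (.of_comm g2)) (by decide) (by decide)
  have s1 : Act φ (g * f) (a 1, 1) (xa 0, 1) := f4.comp g7 g3
  have s2 : Act φ (g * f) (xa 0, 1) (a 1 * xa 0, 1) :=
    f5.comp (cg (g6.mul g7) (by decide) (by decide)) g3
  have s3 : Act φ (g * f) (a 1 * xa 0, 1) (a 1, 1) :=
    (cg (f4.mul f5) (by decide) (by decide)).comp g6 g3
  have key : ∀ n : ℕ, Act φ ((g * f) ^ (3 * n)) (a 1, 1) (a 1, 1) := fun n => by
    induction n with
    | zero => exact .of_comm (by simp)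
    | succ n ih =>
      have := ((ih.comp s1 (g3.mul_left f3)).comp s2 (g3.mul_left f3)).comp s3 (g3.mul_left f3)
      rwa [← pow_succ', ← pow_succ', ← pow_succ'] at this
  obtain ⟨k, hk⟩ := hS (g * f)
  have h3 : ¬3 ∣ 2 ^ k := fun h => by have := Nat.prime_three.dvd_of_dvd_pow h; omega
  have fin : ∀ u : M, Act φ 1 (a 1, 1) u → zz (a 1, 1) u := fun u h => by
    rcases h with e | e
    · exact .inl ((hφ _ _).1 (by simpa using e))
    · exact .inr ((hφ _ _).1 (by simpa using e))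
  obtain ⟨n, hn | hn⟩ : ∃ n, 2 ^ k = 3 * n + 1 ∨ 2 ^ k = 3 * n + 1 + 1 := ⟨2 ^ k / 3, by omega⟩
  · have := (key n).comp s1 (g3.mul_left f3)
    rw [← pow_succ', ← hn, hk] at this
    exact absurd (fin _ this) (by decide)
  · have := ((key n).comp s1 (g3.mul_left f3)).comp s2 (g3.mul_left f3)
    rw [← pow_succ', ← pow_succ', ← hn, hk] at this
    exact absurd (fin _ this) (by decide)

/-- Let S be a finite 2-group and Q a subgroup of order 32 generated by two elementwise-commuting subgroups Q₁, Q₂ each isomorphic to the quaternion group of order 8 (so Q = Q₁ ∗ Q₂). If C_S(Q) ≤ Q, then every section of S has 2-rank at most 4. -/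
theorem result {S : Type*} [Group S] [Finite S] (hS : IsPGroup 2 S) (Q Q₁ Q₂ : Subgroup S) (e₁ : Q₁ ≃* QuaternionGroup 2) (e₂ : Q₂ ≃* QuaternionGroup 2) (hcomm : ∀ a ∈ Q₁, ∀ b ∈ Q₂, a * b = b * a) (hQ : Q₁ ⊔ Q₂ = Q) (hQ32 : Nat.card Q = 32) (hC : Subgroup.centralizer (Q : Set S) ≤ Q) : Cfsg.SectionalPRankLE 2 4 S := by
  let f₁ : QuaternionGroup 2 →* S := Q₁.subtype.comp e₁.symm.toMonoidHom
  let f₂ : QuaternionGroup 2 →* S := Q₂.subtype.comp e₂.symm.toMonoidHom
  have i₁ : Function.Injective f₁ := Q₁.subtype_injective.comp e₁.symm.injective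
  have i₂ : Function.Injective f₂ := Q₂.subtype_injective.comp e₂.symm.injective
  have hc : ∀ x y, Commute (f₁ x) (f₂ y) := fun x y => hcomm _ (SetLike.coe_mem _) _ (SetLike.coe_mem _)
  let φ : M →* S := f₁.noncommCoprod f₂ hc
  have hr : φ.range = Q := by
    rw [MonoidHom.noncommCoprod_range, ← hQ]
    congr 1 <;> rw [MonoidHom.range_comp, MonoidHom.range_eq_top.2 (MulEquiv.surjective _),
      ← MonoidHom.range_eq_map, range_subtype]
  have hk : ∀ x : M, φ x = 1 → x = 1 ∨ x = (a 2, a 2) := by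
    rintro ⟨x, y⟩ h
    have h1 : f₁ x * f₂ y = 1 := h
    have h2 : ∀ u, u * x = x * u := fun u => i₁ (by
      rw [map_mul, map_mul, eq_inv_of_mul_eq_one_left h1]; exact (hc u y).inv_right.eq)
    have h3 : ∀ u, u * y = y * u := fun u => i₂ (by
      rw [map_mul, map_mul, eq_inv_of_mul_eq_one_right h1]; exact (hc x u).symm.inv_right.eq)
    have h4 : ∀ x : QuaternionGroup 2, (∀ u, u * x = x * u) → x = 1 ∨ x = a 2 := by decide
    rcases h4 x h2 with rfl | rfl <;> rcases h4 y h3 with rfl | rfl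
    · exact .inl rfl
    · rw [map_one, one_mul, map_eq_one_iff _ i₂] at h1; exact absurd h1 (by decide)
    · rw [map_one, mul_one, map_eq_one_iff _ i₁] at h1; exact absurd h1 (by decide)
    · exact .inr rfl
  have hκ : φ (a 2, a 2) = 1 := by
    by_contra h
    have hi : Function.Injective φ := (injective_iff_map_eq_one φ).2 fun x hx =>
      (hk x hx).resolve_right fun e => h (e ▸ hx)
    have := Nat.card_congr (MonoidHom.ofInjective hi).toEquiv
    rw [hr, hQ32, Nat.card_prod, Nat.card_eq_fintype_card, QuaternionGroup.card] at this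
    omega
  refine main hS φ (fun x y => ⟨fun h => ?_, ?_⟩) (hr ▸ hC)
  · rcases hk (y⁻¹ * x) (by rw [map_mul, map_inv, h, inv_mul_cancel]) with e | e
    · exact .inl (inv_mul_eq_one.1 e).symm
    · exact .inr (inv_mul_eq_iff_eq_mul.1 e)
  · rintro (rfl | rfl)
    · rfl
    · rw [map_mul, hκ, mul_one]

end Cfsg.Agent.S1233
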