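import Cfsg.Statements.S0502
import Cfsg.Agent.INV.Four
import Cfsg.Agent.SOLV.MaxClass

set_option autoImplicit false
open Cfsg

namespace Cfsg.Agent.S0502

theorem exists_bridge {P : Type*} [Group P] [Finite P] (hP : IsPGroup 2 P) (E : Subgroup P)
    [hEn : E.Normal] (hE : IsMulCommutative E) (hE2 : ∀ e ∈ E, e ^ 2 = 1) (hE8 : 8 ≤ Nat.card E)
    (W : Subgroup P) [W.Normal] (hWE : W ≤ E) (hW : Nat.card W = 4) (U : Subgroup P)
    (hU : IsKleinFour U) : ∃ V : Subgroup P, IsKleinFour V ∧ (∀ a ∈ U, ∀ b ∈ V, a * b = b * a) ∧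
      ∀ a ∈ V, ∀ b ∈ W, a * b = b * a := by
  have hEc : ∀ a ∈ E, ∀ b ∈ E, a * b = b * a := fun a ha b hb =>
    congrArg Subtype.val (hE.1.1 ⟨a, ha⟩ ⟨b, hb⟩)
  obtain ⟨z, hzW, hzc, hzo⟩ := CL.PN.exists_mem_center_orderOf_eq hP W (by
    rintro rfl; simp at hW)
  have hzc' := Subgroup.mem_center_iff.1 hzc
  by_cases h : ∃ u ∈ U, u ∈ Subgroup.centralizer (W : Set P) ∧ u ≠ 1 ∧ u ≠ z
  · obtain ⟨u, huU, huW, hu1, huz⟩ := h
    refine ⟨Subgroup.closure {u, z}, CL.Four.isKleinFour_closure (CL.Four.orderOf_of_mem hU huU hu1)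
      hzo huz (hzc' u), fun a ha b hb => ?_, fun a ha b hb => ?_⟩
    · have : Subgroup.closure {u, z} ≤ Subgroup.centralizer {a} := by
        rw [Subgroup.closure_le]
        rintro _ (rfl | rfl)
        · exact Subgroup.mem_centralizer_singleton_iff.2 (CL.Four.comm_of_mem hU huU ha)
        · exact Subgroup.mem_centralizer_singleton_iff.2 (hzc' a).symm
      exact (Subgroup.mem_centralizer_singleton_iff.1 (this hb)).symm
    · have : Subgroup.closure {u, z} ≤ Subgroup.centralizer (W : Set P) := by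
        rw [Subgroup.closure_le]
        rintro _ (rfl | rfl)
        · exact huW
        · exact fun y _ => hzc' y
      exact (this ha b hb).symm
  push Not at h
  have hzU : z ∈ U := by
    have h1 := CL.card_inf_mul_relIndex (Subgroup.centralizer (W : Set P)) U
    have h2 : (Subgroup.centralizer (W : Set P)).relIndex U ≤ 2 := Nat.le_of_dvd two_pos
      ((Subgroup.relIndex_dvd_index_of_normal _ _).trans (CL.Four.index_centralizer_dvd_two hP W hW))
    rw [hU.card_four] at h1
    have h3 : Subgroup.centralizer (W : Set P) ⊓ U ≠ ⊥ := by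
      intro hb
      rw [hb, Subgroup.card_bot] at h1
      omega
    obtain ⟨⟨u, hu⟩, hu1⟩ := Subgroup.ne_bot_iff_exists_ne_one.1 h3
    exact h u hu.2 hu.1 (fun e => hu1 (Subtype.ext e)) ▸ hu.2
  obtain ⟨v, hvU, hv1, hvz⟩ := CL.Four.exists_ne_of_mem hU z
  have hv2 := CL.Four.mul_self_of_mem hU hvU
  have hvi : v⁻¹ = v := inv_eq_of_mul_eq_one_right hv2
  have h1 : (Subgroup.centralizer ({v} : Set P)).relIndex E ≤
      Nat.card (Subgroup.centralizer ({v} : Set P) ⊓ E : Subgroup P) := by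
    refine CL.BG.A38.relIndex_centralizer_le_card fun e he => Subgroup.mem_inf.2 ⟨?_, ?_⟩
    · have he' : v * e * v⁻¹ ∈ E := hEn.conj_mem e he v
      have hei : e⁻¹ = e := inv_eq_of_mul_eq_one_right (by rw [← sq, hE2 e he])
      rw [Subgroup.mem_centralizer_singleton_iff, hei, hvi]
      rw [hvi] at he'
      calc e * v * e * v * v = e * (v * e * v) * v := by group
        _ = v * e * v * e * v := by rw [hEc e he _ he']
        _ = v * (e * v * e * v) := by group
    · have : e * v * e⁻¹ * v⁻¹ = e * (v * e⁻¹ * v⁻¹) := by group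
      rw [this]
      exact E.mul_mem he (hEn.conj_mem _ (E.inv_mem he) v)
  have h2 := CL.card_inf_mul_relIndex (Subgroup.centralizer ({v} : Set P)) E
  have h3 : 2 ^ 1 < Nat.card (Subgroup.centralizer ({v} : Set P) ⊓ E : Subgroup P) := by
    by_contra h3
    push Not at h3
    have := Nat.mul_le_mul h3 (h1.trans h3)
    omega
  obtain ⟨V, hV, hV4⟩ := CL.Four.exists_le_card_eq (hP.to_subgroup _)
    (CL.Four.pow_succ_le_card (hP.to_subgroup _) h3)
  refine ⟨V, CL.Four.isKleinFour_iff.2 ⟨hV4, fun a ha => by rw [← sq, hE2 a (hV ha).2]⟩,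
    fun a ha b hb => ?_, fun a ha b hb => hEc a (hV ha).2 b (hWE hb)⟩
  have hbv : b * v = v * b := Subgroup.mem_centralizer_singleton_iff.1 (hV hb).1
  rcases CL.Four.eq_or_of_mem hU hzU hvU ha (by rintro rfl; simp at hzo) hv1 hvz.symm with
    rfl | rfl | rfl | rfl
  · simp
  · exact (hzc' b).symm
  · exact hbv.symm
  · rw [mul_assoc, ← hbv, ← mul_assoc, ← hzc' b, mul_assoc]

/-- If a finite 2-group has a normal elementary abelian subgroup of order at least 8, then any two of its Klein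
four-subgroups are joined by a chain of Klein four-subgroups with consecutive members commuting elementwise. -/
theorem result {P : Type*} [Group P] [Finite P] (hP : IsPGroup 2 P)
    (E : Subgroup P) [E.Normal] (hE : IsMulCommutative E) (hE2 : ∀ e ∈ E, e ^ 2 = 1) (hE8 : 8 ≤ Nat.card E) :
    Cfsg.IsFourConnected P := by
  obtain ⟨W, hWn, hWE, hW⟩ := CL.PN.exists_normal_le_card_eq hP E 2 (by omega)
  have hW4 : IsKleinFour W := CL.Four.isKleinFour_iff.2 ⟨hW, fun a ha => by
    rw [← sq, hE2 a (hWE ha)]⟩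
  intro U V hU hV
  obtain ⟨A, hA, h1, h2⟩ := exists_bridge hP E hE hE2 hE8 W hWE hW U hU
  obtain ⟨B, hB, h3, h4⟩ := exists_bridge hP E hE hE2 hE8 W hWE hW V hV
  exact .head ⟨hU, hA, h1⟩ (.head ⟨hA, hW4, h2⟩ (.head ⟨hW4, hB, fun a ha b hb => (h4 b hb a ha).symm⟩
    (.single ⟨hB, hV, fun a ha b hb => (h3 b hb a ha).symm⟩)))

end Cfsg.Agent.S0502
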