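import Cfsg.Statements.S0504
import Mathlib
import Cfsg.Agent.SIG.SFMethodEnd
import Cfsg.Agent.S1221

set_option autoImplicit false
open Cfsg

namespace Cfsg.Agent.S0504

/-- Let G be a finite group containing an elementary abelian subgroup of order 8, with no nontrivial normal subgroup of
odd order, not of component type, and with a Sylow 2-subgroup whose commuting graph of Klein four-subgroups is
connected. Then every 2-local subgroup H of G satisfies C_H(O₂(H)) ≤ O₂(H). -/
theorem result {G : Type*} [Group G] [Finite G]
    (h3 : ¬ Cfsg.PRankLE 2 2 G) (hO : Cfsg.oddCore G = ⊥) (hc : ¬ Cfsg.IsComponentType G) (S : Sylow 2 G)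
    (hS : Cfsg.IsFourConnected (S : Subgroup G)) : Cfsg.IsCharacteristicTwoType G := by
  have hL := CL.SFM.pLayerOf_eq_bot_of_not_isComponentType hc
  exact CL.SFM.isCharacteristicTwoType_of (CL.SFM.even_card_of_not_prankLE h3) hL fun t ht =>
    CL.SFM.core_eq_bot (CL.SFM.isEqCSF_two hL) hL
      (fun _ h => CL.SFM.good_of_fourConnected h3 S hS h) hO
      (fun H hH => Cfsg.Agent.S1221.result H hH) ht

end Cfsg.Agent.S0504
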