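import Cfsg.Statements.S2929
import Cfsg.Agent.TECH.AltOver

set_option autoImplicit false
set_option linter.unusedVariables false
open Cfsg

namespace Cfsg.Agent.S2929


open Equiv Equiv.Perm Subgroup CL.KSG CL.Misc CL.Comp CL.AltOver

theorem exists_tr {α : Type*} [Fintype α] [DecidableEq α] {P : Subgroup (Perm α)}
    (hP : SylIn 3 P ⊤) {F : Finset α} (hF : ∀ g ∈ P, ∀ x ∈ F, g x ∈ F) (h3 : 3 ≤ F.card) :
    ∃ a ∈ F, ∃ b ∈ F, ∃ c ∈ F, Tr P a b c := by
  have : Fact (Nat.Prime 3) := ⟨Nat.prime_three⟩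
  obtain ⟨a, b, c, ha, hb, hc, hab, hac, hbc⟩ := Finset.two_lt_card_iff.1 (show 2 < F.card by omega)
  obtain ⟨g, hg, h⟩ := exists_conj_mem hP le_top hF (tri_mem_altOn hab hac.symm ha hb hc)
    (isThreeCycle_tri hab hac hbc).orderOf
  rw [conj_tri] at h
  exact ⟨_, apply_mem_of_mem_permOn hg.1 ha, _, apply_mem_of_mem_permOn hg.1 hb, _,
    apply_mem_of_mem_permOn hg.1 hc, g.injective.ne hab, g.injective.ne hac, g.injective.ne hbc, h⟩


/-- Let n ≥ 5 and let H be a subgroup of the symmetric group of degree n whose generalized Fitting subgroup F*(H) is quasisimple. If H contains a Sylow 3-subgroup of the symmetric group, then F*(H) is isomorphic to an alternating group of degree m for some m ∈ {n − 2, n − 1, n}. -/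
theorem result (n : ℕ) (hn : 5 ≤ n) (H : Subgroup (Equiv.Perm (Fin n))) (hF : Cfsg.IsQuasisimple ↥(Cfsg.generalizedFittingSubgroup ↥H)) (hS : ∃ P : Sylow 3 (Equiv.Perm (Fin n)), (P : Subgroup (Equiv.Perm (Fin n))) ≤ H) : ∃ m : ℕ, (m = n - 2 ∨ m = n - 1 ∨ m = n) ∧ Nonempty (↥(Cfsg.generalizedFittingSubgroup ↥H) ≃* ↥(alternatingGroup (Fin m))) := by

  obtain ⟨P, hPH⟩ := hS
  have hP := sylIn_top P
  have hF' : IsQuasisimple (fstarOf H) := hF.map_of_injective H.subtype H.subtype_injective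
  obtain ⟨a, -, b, -, c, -, h⟩ := exists_tr hP (F := Finset.univ) (fun _ _ _ _ => Finset.mem_univ _)
    (by simp; omega)
  obtain ⟨Δ, h5, hL, hΔ⟩ := exists_eq_altOn hF' (h.mono hPH)
  have h2 : Δᶜ.card ≤ 2 := by
    by_contra hc
    obtain ⟨a, ha, b, hb, c, hc, h⟩ := exists_tr hP (F := Δᶜ) (fun g hg x hx => by
      rw [Finset.mem_compl] at hx ⊢
      rwa [mem_iff_of_invariant hΔ (hPH hg)]) (by omega)
    have h3 := isThreeCycle_tri h.1 h.2.1 h.2.2.1
    refine not_mem_centralizer hF' (hPH h.2.2.2) h3.ne_one (by rw [h3.card_support]; norm_num) ?_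
    rw [hL]
    exact not_mem_centralizer_altOn disjoint_compl_left (tri_mem_altOn h.1 h.2.1.symm ha hb hc).1
  rw [Finset.card_compl, Fintype.card_fin] at h2
  have h3 : Δ.card ≤ n := by simpa using Δ.card_le_univ
  refine ⟨Δ.card, by omega, ?_⟩
  obtain ⟨e⟩ := nonempty_altOn_equiv Δ
  exact ⟨((equivMapOfInjective _ H.subtype H.subtype_injective).trans
    (MulEquiv.subgroupCongr hL)).trans e⟩

end Cfsg.Agent.S2929
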