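import Cfsg.Statements.S2930
import Cfsg.Agent.S2929
import Cfsg.Agent.KSG.AltConj
import Cfsg.Agent.KSG.AltSylow2
import Cfsg.Agent.TECH.IsolZ
import Cfsg.Agent.TECH.CharP
import Cfsg.Agent.PLOC.PFrattini

set_option autoImplicit false
set_option linter.unusedVariables false
open Cfsg

namespace Cfsg.Agent.S2930


open Equiv Equiv.Perm Subgroup CL.KSG CL.Misc CL.Comp CL.AltOver

section Core

variable {α : Type*} [Fintype α] [DecidableEq α]

/-- the stabiliser of a binary relation -/
def relStab (s : α → α → Prop) : Subgroup (Perm α) where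
  carrier := {g | ∀ a b, s (g a) (g b) ↔ s a b}
  one_mem' _ _ := Iff.rfl
  mul_mem' hg hk a b := (hg _ _).trans (hk a b)
  inv_mem' {g} hg a b := by simpa using (hg (g⁻¹ a) (g⁻¹ b)).symm

omit [Fintype α] [DecidableEq α] in
theorem le_relStab {P : Subgroup (Perm α)} {s : α → α → Prop}
    (h : ∀ g ∈ P, ∀ a b, s a b → s (g a) (g b)) : P ≤ relStab s := fun g hg a b =>
  ⟨fun h1 => by simpa using h _ (inv_mem hg) _ _ h1, h g hg a b⟩

structure Hyp (P M : Subgroup (Perm α)) : Prop where
  five : 5 ≤ Fintype.card α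
  syl : SylIn 3 P ⊤
  not_le : ¬ alternatingGroup α ≤ M
  uniq : ∀ K, P ≤ K → ¬ alternatingGroup α ≤ K → K ⊓ alternatingGroup α ≤ M

variable {P M : Subgroup (Perm α)}

theorem Hyp.lemA (h : Hyp P M) {s : α → α → Prop} (hs : Equivalence s) (hP : P ≤ relStab s)
    (hnt : ∃ x y, ¬ s x y) {S : Finset α} (h3 : 3 ≤ S.card) (hS : ∀ a ∈ S, ∀ b ∈ S, s a b) :
    relStab s ⊓ alternatingGroup α ≤ M ∧ ∀ a ∈ S, ∀ b ∈ S, R M a b := by
  have h1 : relStab s ⊓ alternatingGroup α ≤ M := h.uniq _ hP fun hle => by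
    obtain ⟨a, ha, b, hb, hab⟩ := Finset.one_lt_card.1 (show 1 < S.card by omega)
    obtain ⟨c, hc⟩ : ∃ c, ¬ s a c := by
      by_contra hcon
      push Not at hcon
      obtain ⟨x, y, hxy⟩ := hnt
      exact hxy (hs.trans (hs.symm (hcon x)) (hcon y))
    have hac : a ≠ c := fun e => hc (e ▸ hs.refl a)
    obtain ⟨σ, hσ, e1, e2⟩ := exists_even_two (by have := h.five; omega) hab hac
    have := hle hσ a b
    rw [e1, e2] at this
    exact hc (this.2 (hS a ha b hb))
  refine ⟨h1, fun a ha b hb => r_of_altOn_le (le_trans (le_inf (fun g hg => ?_) inf_le_right) h1)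
    h3 ha hb⟩
  have h2 : ∀ x, s x (g x) := fun x => by
    by_cases hx : x ∈ S
    · exact hS _ hx _ (apply_mem_of_mem_permOn hg.1 hx)
    · rw [mem_permOn.1 hg.1 x hx]; exact hs.refl x
  exact fun x y => ⟨fun h3 => hs.trans (hs.trans (h2 x) h3) (hs.symm (h2 y)),
    fun h3 => hs.trans (hs.trans (hs.symm (h2 x)) h3) (h2 y)⟩

theorem equivR (H : Subgroup (Perm α)) : Equivalence (R H) := ⟨R.refl, R.symm, R.trans⟩

theorem blk (hP : IsPGroup 3 P) {a b c x : α} (h : Tr P a b c) :
    R P a x ↔ x ∈ ({a, b, c} : Finset α) := by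
  have : Fact (Nat.Prime 3) := ⟨Nat.prime_three⟩
  constructor
  · intro hx
    by_contra hcon
    have h3 : ({a, b, c} : Finset α).card = 3 :=
      Finset.card_eq_three.2 ⟨a, b, c, h.1, h.2.1, h.2.2.1, rfl⟩
    have h4 : (insert x ({a, b, c} : Finset α)).card = 4 := by
      rw [Finset.card_insert_of_notMem hcon, h3]
    have h5 : ∀ y ∈ insert x ({a, b, c} : Finset α), R P a y := by
      intro y hy
      simp only [Finset.mem_insert, Finset.mem_singleton] at hy
      rcases hy with rfl | rfl | rfl | rfl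
      exacts [hx, R.refl _, h.r12, h.r13]
    have h6 := card_dvd_of_le (altOn_le fun y hy z hz => (h5 y hy).symm.trans (h5 z hz))
    have h7 := two_mul_card_altOn (S := insert x ({a, b, c} : Finset α)) (by omega)
    rw [h4] at h7
    have h8 : Nat.card (altOn (insert x ({a, b, c} : Finset α))) = 12 := by
      simp only [Nat.factorial] at h7; omega
    obtain ⟨k, hk⟩ := IsPGroup.iff_card.1 hP
    rw [h8, hk] at h6
    have := Nat.Prime.dvd_of_dvd_pow Nat.prime_two ((show 2 ∣ 12 by norm_num).trans h6)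
    omega
  · intro hx
    simp only [Finset.mem_insert, Finset.mem_singleton] at hx
    rcases hx with rfl | rfl | rfl
    exacts [R.refl _, h.r12, h.r13]

theorem Hyp.cover (h : Hyp P M) (h3 : ∀ x, 3 ≤ (orb P x).card) (x : α) : ∃ b c, Tr P x b c := by
  classical
  obtain ⟨a, ha, b, -, c, -, ht⟩ := S2929.exists_tr h.syl (F := orb P x)
    (fun g hg y hy => (apply_mem_orb_iff hg).2 hy) (h3 x)
  obtain ⟨g, hg, rfl⟩ := mem_orb.1 ha
  have := ht.conj (inv_mem hg)
  rw [show g⁻¹ (g x) = x by simp] at this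
  exact ⟨_, _, this⟩

theorem Hyp.lemU (h : Hyp P M) {s : α → α → Prop} (hs : Equivalence s) (hP : P ≤ relStab s)
    (hnt : ∃ x y, ¬ s x y) (hcov : ∀ x, ∃ b c, Tr P x b c) (hb : ∀ a b, R P a b → s a b)
    {o : α} {S : Finset α} (h4 : 4 ≤ S.card) (hS : ∀ x ∈ S, s o x) : False := by
  classical
  have hblk : ∀ x, ∃ T : Finset α, T.card = 3 ∧ ∀ y, R P x y ↔ y ∈ T := fun x => by
    obtain ⟨b, c, ht⟩ := hcov x
    exact ⟨_, Finset.card_eq_three.2 ⟨x, b, c, ht.1, ht.2.1, ht.2.2.1, rfl⟩,
      fun y => blk h.syl.isPGroup ht⟩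
  have hsR : ∀ x y, s x y → R M x y := fun x y hxy => by
    obtain ⟨T, hT, hT'⟩ := hblk x
    refine (h.lemA hs hP hnt (S := Finset.univ.filter (s x)) ?_ ?_).2 x (by simpa using hs.refl x)
      y (by simpa using hxy)
    · rw [← hT]
      exact Finset.card_le_card fun z hz => by simpa using hb _ _ ((hT' z).2 hz)
    · exact fun a ha b hb => hs.trans (hs.symm (Finset.mem_filter.1 ha).2) (Finset.mem_filter.1 hb).2
  obtain ⟨T1, hT1, hT1'⟩ := hblk o
  obtain ⟨y, hyS, hy⟩ : ∃ y ∈ S, y ∉ T1 := by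
    by_contra hcon
    push Not at hcon
    have := Finset.card_le_card (show S ⊆ T1 from hcon)
    omega
  have hoy : ¬ R P o y := fun h1 => hy ((hT1' y).1 h1)
  have hK := (h.lemA (equivR P) (le_relStab fun g hg a b hab => hab.conj hg) ⟨o, y, hoy⟩ hT1.ge
    fun a ha b hb => ((hT1' a).2 ha).symm.trans ((hT1' b).2 hb)).1
  obtain ⟨T2, hT2, hT2'⟩ := hblk y
  have hall : ∀ x, R M o x := fun x => by
    by_cases hx : s o x
    · exact hsR _ _ hx
    obtain ⟨T3, hT3, hT3'⟩ := hblk x
    obtain ⟨τ, hτ, hτ'⟩ := exists_mem_altOn_map (S := T2 ∪ T3) Finset.subset_union_left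
      Finset.subset_union_right (hT2.trans hT3.symm) (by omega)
    have hdis : ∀ z, z ∈ T2 → z ∉ T3 := fun z h2 h3 => hx (hs.trans (hS y hyS)
      (hb _ _ (((hT2' z).2 h2).trans ((hT3' z).2 h3).symm)))
    have hτ2 : ∀ z, τ z ∈ T2 ↔ z ∈ T3 := fun z => by
      constructor
      · intro hz
        by_cases h1 : z ∈ T2 ∪ T3
        · rcases Finset.mem_union.1 h1 with h1 | h1
          · exact absurd ((hτ' z).2 h1) (hdis _ hz)
          · exact h1
        · rw [mem_permOn.1 hτ.1 z h1] at hz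
          exact absurd (Finset.mem_union_left _ hz) h1
      · intro hz
        rcases Finset.mem_union.1 (apply_mem_of_mem_permOn hτ.1 (Finset.mem_union_right _ hz))
          with h1 | h1
        · exact h1
        · exact absurd hz (hdis _ ((hτ' z).1 h1))
    have hc2 : ∀ a ∈ T2, ∀ b, R P a b ↔ b ∈ T2 := fun a ha b =>
      ⟨fun h1 => (hT2' b).1 (((hT2' a).2 ha).trans h1),
        fun h1 => ((hT2' a).2 ha).symm.trans ((hT2' b).2 h1)⟩
    have hc3 : ∀ a ∈ T3, ∀ b, R P a b ↔ b ∈ T3 := fun a ha b =>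
      ⟨fun h1 => (hT3' b).1 (((hT3' a).2 ha).trans h1),
        fun h1 => ((hT3' a).2 ha).symm.trans ((hT3' b).2 h1)⟩
    have hτK : τ ∈ relStab (R P) := by
      have key : ∀ a b, a ∈ T2 ∪ T3 → (R P (τ a) (τ b) ↔ R P a b) := fun a b ha => by
        rcases Finset.mem_union.1 ha with ha | ha
        · rw [hc2 a ha, hc3 _ ((hτ' a).2 ha), hτ']
        · rw [hc3 a ha, hc2 _ ((hτ2 a).2 ha), hτ2]
      intro a b
      by_cases ha : a ∈ T2 ∪ T3
      · exact key a b ha
      by_cases hb : b ∈ T2 ∪ T3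
      · exact ⟨fun h1 => ((key b a hb).1 h1.symm).symm, fun h1 => ((key b a hb).2 h1.symm).symm⟩
      · rw [mem_permOn.1 hτ.1 a ha, mem_permOn.1 hτ.1 b hb]
    have ho : o ∉ T2 ∪ T3 := fun h1 => by
      rcases Finset.mem_union.1 h1 with h1 | h1
      · exact hoy ((hT2' o).2 h1).symm
      · exact hx (hs.symm (hb _ _ ((hT3' o).2 h1)))
    have h1 := (hsR _ _ (hS y hyS)).conj (hK ⟨hτK, hτ.2⟩)
    rw [mem_permOn.1 hτ.1 o ho] at h1
    exact h1.trans (hsR _ _ (hb _ _ ((hT3' _).2 ((hτ' y).2 ((hT2' y).1 (R.refl y)))))).symm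
  exact h.not_le (alt_le_of_r fun a b => (hall a).symm.trans (hall b))

theorem orb_eq {A : Subgroup (Perm α)} {a b : α} (h : b ∈ orb A a) : orb A b = orb A a := by
  obtain ⟨g, hg, rfl⟩ := mem_orb.1 h
  ext x
  simp only [mem_orb]
  exact ⟨fun ⟨k, hk, e⟩ => ⟨k * g, mul_mem hk hg, e⟩,
    fun ⟨k, hk, e⟩ => ⟨k * g⁻¹, mul_mem hk (inv_mem hg), by simpa using e⟩⟩

theorem equivOrb (A : Subgroup (Perm α)) : Equivalence fun a b => b ∈ orb A a :=
  ⟨self_mem_orb A, fun {a b} h => by rw [orb_eq h]; exact self_mem_orb A a,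
    fun {a b c} h h' => by rwa [orb_eq h] at h'⟩

theorem disjoint_orb {A : Subgroup (Perm α)} {a b : α} (h : b ∉ orb A a) :
    Disjoint (orb A a) (orb A b) := Finset.disjoint_left.2 fun _ h1 h2 =>
  h ((equivOrb A).trans h1 ((equivOrb A).symm h2))

theorem Hyp.card_orb (h : Hyp P M) (a : α) : ∃ k, (orb P a).card = 3 ^ k := by
  have : Fact (Nat.Prime 3) := ⟨Nat.prime_three⟩
  rw [← relIndex_stabilizer_eq]
  exact h.syl.isPGroup.index _

theorem Hyp.three (h : Hyp P M) {a b c : α} (hab : b ∉ orb P a) (hac : c ∉ orb P a)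
    (hbc : c ∉ orb P b) (ha : (orb P a).card + 3 ≤ Fintype.card α)
    (hb : (orb P b).card + 3 ≤ Fintype.card α) : False := by
  have key : ∀ a, c ∉ orb P a → (orb P a).card + 3 ≤ Fintype.card α → ∀ x, x ∉ orb P a → R M c x := by
    intro a hac ha x hx
    refine (h.lemA (s := fun u v => u ∈ orb P a ↔ v ∈ orb P a) ⟨fun _ => Iff.rfl, Iff.symm, Iff.trans⟩
      (le_relStab fun g hg u v huv => by rwa [apply_mem_orb_iff hg, apply_mem_orb_iff hg])
      ⟨a, c, fun h1 => hac (h1.1 (self_mem_orb P a))⟩ (S := (orb P a)ᶜ) ?_ ?_).2 c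
      (Finset.mem_compl.2 hac) x (Finset.mem_compl.2 hx)
    · rw [Finset.card_compl]; omega
    · exact fun u hu v hv => iff_of_false (Finset.mem_compl.1 hu) (Finset.mem_compl.1 hv)
  have hall : ∀ x, R M c x := fun x => by
    by_cases hx : x ∈ orb P a
    · exact key b hbc hb x (Finset.disjoint_left.1 (disjoint_orb hab) hx)
    · exact key a hac ha x hx
  exact h.not_le (alt_le_of_r fun a b => (hall a).symm.trans (hall b))

theorem r_mem_orb {A : Subgroup (Perm α)} (hA : ∀ a b c, Tr P a b c → tri a b c ∈ A) {a b : α}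
    (h : R P a b) : b ∈ orb A a := by
  rcases h with rfl | ⟨c, h⟩
  · exact self_mem_orb A a
  · exact mem_orb.2 ⟨_, hA _ _ _ h, tri_fst h.1 h.2.2.1⟩

theorem Hyp.main (h : Hyp P M) : Fintype.card α = 6 ∨ Fintype.card α = 9 ∨
    ∃ a : ℕ, 2 ≤ a ∧ Fintype.card α = 3 ^ a + 1 := by
  have : Fact (Nat.Prime 3) := ⟨Nat.prime_three⟩
  have h5 := h.five
  obtain ⟨a⟩ : Nonempty α := Fintype.card_pos_iff.1 (by omega)
  by_cases htr : ∀ x, x ∈ orb P a
  · right; left
    by_contra h9
    have huniv : ∀ x, orb P x = Finset.univ := fun x => by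
      rw [orb_eq (htr x)]; exact Finset.eq_univ_of_forall htr
    obtain ⟨k, hk⟩ := h.card_orb a
    rw [huniv, Finset.card_univ] at hk
    have h27 : 27 ≤ Fintype.card α := by
      have : 3 ≤ k := by
        by_contra hlt
        have : k < 3 := by omega
        interval_cases k <;> omega
      rw [hk]; exact Nat.pow_le_pow_right (n := 3) (by norm_num) this
    have hne : (MulAction.stabilizer (Perm α) a).subgroupOf P ≠ ⊤ := fun he => by
      have := relIndex_stabilizer_eq P a
      rw [huniv, Finset.card_univ, relIndex, he, index_top] at this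
      omega
    obtain ⟨Q', hQ', hle⟩ := (eq_top_or_exists_le_coatom _).resolve_left hne
    have hidx := CL.PG.coatom_index h.syl.isPGroup hQ'
    have hnil := h.syl.isPGroup.isNilpotent
    have hQn : Q'.Normal := NormalizerCondition.normal_of_coatom Q' Group.normalizerCondition_of_isNilpotent hQ'
    set Q := Q'.map P.subtype with hQ
    have hQP : Q ≤ P := map_subtype_le _
    have hconj : ∀ g ∈ P, ∀ q ∈ Q, g * q * g⁻¹ ∈ Q := by
      rintro g hg _ ⟨q, hq, rfl⟩
      exact ⟨_, hQn.conj_mem q hq ⟨g, hg⟩, rfl⟩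
    have hst : MulAction.stabilizer (Perm α) a ⊓ Q = MulAction.stabilizer (Perm α) a ⊓ P :=
      le_antisymm (inf_le_inf_left _ hQP) fun g hg => ⟨hg.1, ⟨g, hg.2⟩, hle hg.1, rfl⟩
    have e1 := card_eq_card_orb_mul P a
    have e2 := card_eq_card_orb_mul Q a
    have e3 := Q'.card_mul_index
    have e4 : Nat.card Q = Nat.card Q' := card_map_of_injective P.subtype_injective
    rw [hidx, ← e4, e1, e2, hst, huniv, Finset.card_univ, mul_right_comm] at e3
    have e5 := Nat.eq_of_mul_eq_mul_right Nat.card_pos e3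
    refine h.lemU (equivOrb Q) (le_relStab fun g hg u v huv => ?_) ?_
      (h.cover fun x => by rw [huniv, Finset.card_univ]; omega) (fun u v => r_mem_orb ?_)
      (o := a) (S := orb Q a) (by omega) fun x hx => hx
    · obtain ⟨q, hq, rfl⟩ := mem_orb.1 huv
      exact mem_orb.2 ⟨_, hconj g hg q hq, by simp⟩
    · by_contra hcon
      push Not at hcon
      rw [Finset.eq_univ_of_forall (hcon a), Finset.card_univ] at e5
      omega
    · intro u v w ht
      obtain ⟨x, hx⟩ := exists_notMem_of_card_lt ({u, v, w} : Finset α)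
        (lt_of_le_of_lt Finset.card_le_three (by omega))
      simp only [Finset.mem_insert, Finset.mem_singleton, not_or] at hx
      obtain ⟨g, hg, rfl⟩ := mem_orb.1 (htr x)
      have h1 : g⁻¹ * tri u v w * g ∈ Q := by
        have : g⁻¹ * tri u v w * g ∈ MulAction.stabilizer (Perm α) a ⊓ P :=
          mem_inf.2 ⟨by simp [tri_other hx.1 hx.2.1 hx.2.2],
            mul_mem (mul_mem (inv_mem hg) ht.2.2.2) hg⟩
        rw [← hst] at this
        exact this.2
      simpa [mul_assoc] using hconj g hg _ h1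
  push Not at htr
  obtain ⟨b, hab⟩ := htr
  by_cases h2 : ∀ x, x ∈ orb P a ∨ x ∈ orb P b
  · obtain ⟨i, hi⟩ := h.card_orb a
    obtain ⟨j, hj⟩ := h.card_orb b
    have e : Fintype.card α = 3 ^ i + 3 ^ j := by
      rw [← hi, ← hj, ← Finset.card_union_of_disjoint (disjoint_orb hab), ← Finset.card_univ]
      congr 1
      exact (Finset.eq_univ_of_forall fun x => Finset.mem_union.2 (h2 x)).symm
    have aux : ∀ k, Fintype.card α = 3 ^ k + 1 → 2 ≤ k := fun k hk => by
      by_contra hlt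
      have : k < 2 := by omega
      interval_cases k <;> omega
    rcases Nat.eq_zero_or_pos i with rfl | hi0
    · exact Or.inr (Or.inr ⟨j, aux j (by omega), by omega⟩)
    rcases Nat.eq_zero_or_pos j with rfl | hj0
    · exact Or.inr (Or.inr ⟨i, aux i (by omega), by omega⟩)
    left
    by_contra h6
    have h3i : 3 ^ 1 ≤ 3 ^ i := Nat.pow_le_pow_right (by norm_num) hi0
    have h3j : 3 ^ 1 ≤ 3 ^ j := Nat.pow_le_pow_right (by norm_num) hj0
    have hcov := h.cover fun x => by
      rcases h2 x with hx | hx <;> rw [orb_eq hx] <;> omega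
    have hU := fun (o : α) (h4 : 4 ≤ (orb P o).card) => h.lemU (equivOrb P)
      (le_relStab fun g hg u v huv => by
        rw [orb_eq (mem_orb.2 ⟨g, hg, rfl⟩), apply_mem_orb_iff hg]; exact huv)
      ⟨a, b, hab⟩ hcov (fun u v => r_mem_orb fun _ _ _ ht => ht.2.2.2) (o := o) h4 fun x hx => hx
    by_cases h4 : 4 ≤ (orb P a).card
    · exact hU a h4
    · exact hU b (by omega)
  · exfalso
    push Not at h2
    obtain ⟨c, hac, hbc⟩ := h2
    have hsym : ∀ {u v : α}, v ∉ orb P u → u ∉ orb P v := fun h1 h2 => h1 ((equivOrb P).symm h2)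
    have e : (orb P a).card + (orb P b).card + (orb P c).card ≤ Fintype.card α := by
      rw [← Finset.card_union_of_disjoint (disjoint_orb hab), ← Finset.card_union_of_disjoint
        (Finset.disjoint_union_left.2 ⟨disjoint_orb hac, disjoint_orb hbc⟩)]
      exact Finset.card_le_univ _
    have p1 := Finset.card_pos.2 ⟨a, self_mem_orb P a⟩
    have p2 := Finset.card_pos.2 ⟨b, self_mem_orb P b⟩
    have p3 := Finset.card_pos.2 ⟨c, self_mem_orb P c⟩
    by_cases ha : (orb P a).card + 3 ≤ Fintype.card α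
    · by_cases hb : (orb P b).card + 3 ≤ Fintype.card α
      · exact h.three hab hac hbc ha hb
      · exact h.three hac hab (hsym hbc) ha (by omega)
    · exact h.three hbc (hsym hab) (hsym hac) (by omega) (by omega)

end Core

theorem x0_cycleType : (c[(0 : Fin 6), 1, 2] * c[(3 : Fin 6), 4, 5]).cycleType = {3, 3} := by
  decide +kernel

theorem isConj_of_not_three {x y : alternatingGroup (Fin 6)} (hx : orderOf x = 3) (hy : orderOf y = 3)
    (hx' : ¬ x.1.IsThreeCycle) (hy' : ¬ y.1.IsThreeCycle) : IsConj x y := by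
  let x0 : alternatingGroup (Fin 6) := ⟨c[(0 : Fin 6), 1, 2] * c[(3 : Fin 6), 4, 5], by
    rw [mem_alternatingGroup]; decide +kernel⟩
  have key : ∀ x : alternatingGroup (Fin 6), orderOf x = 3 → ¬ x.1.IsThreeCycle → IsConj x0 x := by
    intro x hx hx'
    refine isConj_alt_of_commute_odd ?_ (swap 0 3 * swap 1 4 * swap 2 5) (by
      rw [mem_alternatingGroup]; decide +kernel) (by
      change _ * _ = _ * _
      decide +kernel)
    rw [isConj_iff_cycleType_eq]
    have ho : orderOf x.1 = 3 := by rw [orderOf_coe, hx]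
    obtain ⟨k, hk⟩ := cycleType_prime_order (σ := x.1) (by rw [ho]; norm_num)
    have h1 := x.1.sum_cycleType_le
    rw [ho] at hk
    rw [hk, Multiset.sum_replicate, Fintype.card_fin, smul_eq_mul] at h1
    have : k < 2 := by omega
    interval_cases k
    · exact absurd hk hx'
    · rw [hk]; exact x0_cycleType
  exact (key x hx hx').symm.trans (key y hy hy')

theorem exists_sq {n : ℕ} (hn : 5 ≤ n) (φ : MulAut (alternatingGroup (Fin n))) :
    ∃ σ : Perm (Fin n), ∀ g, ((φ * φ) g).1 = σ * g.1 * σ⁻¹ := by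
  by_cases h6 : n = 6
  · subst h6
    refine exists_perm_of_map_threeCycles (by simp)
      ((alternatingGroup (Fin 6)).subtype.comp (φ * φ).toMonoidHom)
      (subtype_injective _ |>.comp (φ * φ).injective) fun g hg => ?_
    change (φ (φ g)).1.IsThreeCycle
    have hcj : ∀ {x y : alternatingGroup (Fin 6)}, IsConj x y → x.1.IsThreeCycle → y.1.IsThreeCycle :=
      fun h hx => (isConj_iff_cycleType_eq.1 ((alternatingGroup (Fin 6)).subtype.map_isConj h)).symm.trans hx
    have ho : orderOf g = 3 := by rw [← orderOf_coe, hg.orderOf]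
    by_cases h1 : (φ g).1.IsThreeCycle
    · exact hcj (φ.toMonoidHom.map_isConj (alternatingGroup.isThreeCycle_isConj (by simp) hg h1)) h1
    · by_contra h2
      have h3 := isConj_of_not_three (by rw [MulEquiv.orderOf_eq, ho])
        (by rw [MulEquiv.orderOf_eq, MulEquiv.orderOf_eq, ho]) h1 h2
      have h4 := φ.symm.toMonoidHom.map_isConj h3
      simp only [MulEquiv.toMonoidHom_eq_coe, MonoidHom.coe_coe, MulEquiv.symm_apply_apply] at h4
      exact h1 (hcj h4 hg)
  · obtain ⟨σ, hσ⟩ := exists_perm_of_mulAut (α := Fin n) (by simp; omega) (by simpa using h6) φ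
    exact ⟨σ * σ, fun g => by rw [MulAut.mul_apply, hσ, hσ]; group⟩


/-- Let X be a finite 3-minimal group (a Sylow 3-subgroup is not normal and lies in a unique maximal subgroup) whose generalized Fitting subgroup is isomorphic to an alternating group of degree n ≥ 5. Then X = F*(X), and n = 6, n = 9, or n = 3ᵃ + 1 for some a ≥ 2. -/
theorem result {X : Type*} [Group X] [Finite X] (hX : Cfsg.IsPMinimal 3 X) (n : ℕ) (hn : 5 ≤ n) (hF : Nonempty (↥(Cfsg.generalizedFittingSubgroup X) ≃* ↥(alternatingGroup (Fin n)))) : Cfsg.generalizedFittingSubgroup X = ⊤ ∧ (n = 6 ∨ n = 9 ∨ ∃ a : ℕ, 2 ≤ a ∧ n = 3 ^ a + 1) := by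

  have : Fact (Nat.Prime 3) := ⟨Nat.prime_three⟩
  obtain ⟨e⟩ := hF
  set F := generalizedFittingSubgroup X with hFdef
  have h4 : ∀ x : X, x ^ 4 ∈ F := fun x => by
    obtain ⟨σ, hσ⟩ := exists_sq hn (MulAut.congr e (MulAut.conjNormal x))
    let f : F := e.symm ⟨σ * σ, by simp [mem_alternatingGroup]⟩
    have h1 : ∀ y : F, MulAut.conjNormal (x ^ 4) y = f * y * f⁻¹ := fun y => by
      apply e.injective
      apply Subtype.ext
      have h2 := hσ (e y)
      have h3 := hσ ((MulAut.congr e (MulAut.conjNormal x) * MulAut.congr e (MulAut.conjNormal x)) (e y))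
      rw [h2, ← MulAut.mul_apply, ← map_mul, ← map_mul, ← map_mul, ← map_mul] at h3
      simp only [MulAut.congr_apply, MulEquiv.trans_apply, MulEquiv.symm_apply_apply] at h3
      rw [show x ^ 4 = x * x * (x * x) by simp [pow_succ, mul_assoc], h3]
      simp [f, mul_assoc]
    have h2 : (f : X)⁻¹ * x ^ 4 ∈ F := centralizer_fstar_le fun y hy => by
      have h3 : x ^ 4 * y * (x ^ 4)⁻¹ = f * y * (f : X)⁻¹ := congrArg Subtype.val (h1 ⟨y, hy⟩)
      calc y * ((f : X)⁻¹ * x ^ 4) = (f : X)⁻¹ * (f * y * (f : X)⁻¹) * x ^ 4 := by group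
        _ = _ := by rw [← h3]; group
    simpa using mul_mem f.2 h2
  obtain ⟨S⟩ : Nonempty (Sylow 3 X) := inferInstance
  obtain ⟨hSn, M0, ⟨hM0, hSM⟩, huniq⟩ := hX S
  have hle : ∀ K : Subgroup X, K ≠ ⊤ → (S : Subgroup X) ≤ K → K ≤ M0 := fun K hK hSK => by
    obtain ⟨M1, hM1, h1⟩ := (eq_top_or_exists_le_coatom K).resolve_left hK
    exact huniq M1 ⟨hM1, hSK.trans h1⟩ ▸ h1
  have hSF : (S : Subgroup X) ≤ F := fun s hs => by
    obtain ⟨k, hk⟩ := (IsPGroup.iff_orderOf.1 S.isPGroup') ⟨s, hs⟩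
    have h1 : (orderOf s).Coprime 2 := by
      rw [← orderOf_coe] at hk
      rw [hk]; exact Nat.Coprime.pow_left _ (by norm_num)
    exact CL.MSS.mem_of_pow_mem_of_coprime (p := 2) h1 (k := 2) (h4 s)
  have hFtop : F = ⊤ := by
    by_contra hne
    have h1 := Sylow.normalizer_sup_eq_top' S hSF
    have h2 := hle _ (fun h => hSn (normalizer_eq_top_iff.1 h)) le_normalizer
    exact hM0.1 (eq_top_iff.2 (h1 ▸ sup_le h2 (hle F hne hSF)))
  refine ⟨hFtop, ?_⟩
  let e' : X ≃* alternatingGroup (Fin n) :=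
    (topEquiv.symm.trans (MulEquiv.subgroupCongr hFtop.symm)).trans e
  let f : X →* Perm (Fin n) := (alternatingGroup (Fin n)).subtype.comp e'.toMonoidHom
  have hf : Function.Injective f := (subtype_injective _).comp e'.injective
  have hr : ∀ g ∈ alternatingGroup (Fin n), ∃ x, f x = g := fun g hg =>
    ⟨e'.symm ⟨g, hg⟩, by simp [f]⟩
  have hr' : (⊤ : Subgroup X).map f = alternatingGroup (Fin n) :=
    le_antisymm (by rintro _ ⟨x, -, rfl⟩; exact (e' x).2) fun g hg => by
      obtain ⟨x, rfl⟩ := hr g hg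
      exact ⟨x, trivial, rfl⟩
  have : Nontrivial (Fin n) := Fin.nontrivial_iff_two_le.2 (by omega)
  have H : Hyp ((S : Subgroup X).map f) (M0.map f) :=
    { five := by simpa using hn
      syl := by
        have h1 := (sylIn_top S).map_of_injective hf
        rw [hr'] at h1
        exact h1.of_not_dvd_relIndex le_top (by
          rw [relIndex_top_right, alternatingGroup.index_eq_two]; norm_num)
      not_le := fun h => hM0.1 (eq_top_iff.2 ((map_le_map_iff_of_injective hf).1 (hr' ▸ h)))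
      uniq := fun K hK hn g hg => by
        obtain ⟨x, rfl⟩ := hr g hg.2
        refine ⟨x, hle (K.comap f) (fun h => hn ?_) (map_le_iff_le_comap.1 hK) hg.1, rfl⟩
        rw [← hr', map_le_iff_le_comap, h] }
  simpa using H.main

end Cfsg.Agent.S2930
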