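import Cfsg.Statements.S0581
import Cfsg.Agent.SOLV.Schmidt
import Cfsg.Agent.SOLV.Hall
import Cfsg.Agent.FUS.SylIn

set_option autoImplicit false
open Pointwise
open Cfsg

namespace Cfsg.Agent.S0581

open CL in
theorem aux {G : Type*} [Group G] [Finite G] (K : Subgroup G) :
    ∀ (π : Set ℕ) (M H : Subgroup G), IsPiHallOf π H M → Group.IsNilpotent H → K ≤ M →
      IsPiNum π (Nat.card K) → ∃ x ∈ M, K ≤ MulAut.conj x • H := by
  induction K using CL.subgroup_induction with | _ K ih => ?_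
  intro π M H hH hn hKM hK
  by_cases hb : K = ⊥
  · exact ⟨1, one_mem _, hb ▸ bot_le⟩
  obtain ⟨q, hq, Q, hQn, hQ⟩ : ∃ (q : ℕ) (_ : q.Prime) (Q : Sylow q K),
      (Q : Subgroup K).Normal ∧ (Q : Subgroup K) ≠ ⊥ := by
    by_cases hKn : Group.IsNilpotent K
    · obtain ⟨q, hq, hd⟩ := Nat.exists_prime_and_dvd
        ((Subgroup.one_lt_card_iff_ne_bot K).2 hb).ne'
      have := Fact.mk hq
      let Q : Sylow q K := default
      exact ⟨q, hq, Q, inferInstance, Q.ne_bot_of_dvd_card hd⟩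
    · have hmin : IsMinimalNonNilpotent K := ⟨hKn, fun L hL => by
        have hlt : L.map K.subtype < K := lt_of_le_of_ne (Subgroup.map_subtype_le _) fun h =>
          hL (Subgroup.map_injective K.subtype_injective
            (by rw [h, ← MonoidHom.range_eq_map, Subgroup.range_subtype]))
        obtain ⟨x, -, hx⟩ := ih _ hlt π M H hH hn (hlt.le.trans hKM)
          (hK.of_dvd (Subgroup.card_dvd_of_le hlt.le))
        refine isNilpotent_map_subtype_iff.mp (isNilpotent_of_le ?_ hx)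
        rw [conj_smul_eq_map]
        exact isNilpotent_map _ _⟩
      obtain ⟨p, q, x, Q, hS⟩ := exists_schmidtData hmin
      exact ⟨q, hS.prime_q, Q, hS.normal, hS.ne_bot⟩
  have := Fact.mk hq
  obtain ⟨L, hL⟩ := Subgroup.exists_right_complement'_of_coprime Q.card_coprime_index
  have hLq : ¬ q ∣ Nat.card L := by
    rw [← hL.symm.index_eq_card]
    exact Q.not_dvd_index
  set Q' := (Q : Subgroup K).map K.subtype with hQ'
  set L' := L.map K.subtype with hL'
  have hL'c : Nat.card L' = Nat.card L := Subgroup.card_subtype _ _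
  have hQ'p : IsPGroup q Q' := Q.2.map _
  have hsup : Q' ⊔ L' = K := by
    rw [hQ', hL', ← Subgroup.map_sup, hL.sup_eq_top, ← MonoidHom.range_eq_map,
      Subgroup.range_subtype]
  have hlt : L' < K := lt_of_le_of_ne (Subgroup.map_subtype_le _) fun h => by
    apply hLq
    rw [← hL'c, h]
    rcases Q.2.card_eq_or_dvd with h1 | h1
    · exact absurd (Subgroup.card_eq_one.mp h1) hQ
    · exact h1.trans (Subgroup.card_subgroup_dvd_card _)
  have hqπ : q ∈ π := by
    refine hK q hq ?_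
    rcases Q.2.card_eq_or_dvd with h1 | h1
    · exact absurd (Subgroup.card_eq_one.mp h1) hQ
    · exact h1.trans (Subgroup.card_subgroup_dvd_card _)
  obtain ⟨R, hR, -⟩ := CL.Fus.exists_sylIn_ge (p := q) (C := ⊥) (B := H) bot_le IsPGroup.of_bot
  have hR' : CL.Fus.SylIn q R M := CL.Fus.sylIn_of_not_dvd_relIndex (hR.le.trans hH.1) hR.isPGroup
    (by
      rw [← Subgroup.relIndex_mul_relIndex R H M hR.le hH.1, hq.dvd_mul]
      rintro (h | h)
      · exact hR.not_dvd_relIndex h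
      · exact IsPiHallOf.relIndex hH q hq h hqπ)
  obtain ⟨b, hb, hb'⟩ := hR'.exists_conj_le ((Subgroup.map_subtype_le _).trans hKM) hQ'p
  set H₁ := MulAut.conj b⁻¹ • H with hH₁
  have hQH : Q' ≤ H₁ := fun x hx => by
    rw [hH₁, mem_conj_smul_iff, inv_inv]
    exact hR.le (hb' x hx)
  have hH₁M : IsPiHallOf π H₁ M := by
    have := IsPiHallOf.conj_smul hH b⁻¹
    rwa [conj_smul_of_mem (inv_mem hb)] at this
  have hn₁ : Group.IsNilpotent H₁ := by
    rw [hH₁, conj_smul_eq_map]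
    exact isNilpotent_map _ _
  set H₂ := (piCore {q}ᶜ H₁).map H₁.subtype with hH₂
  have h₂ : IsPiHallOf {q}ᶜ H₂ H₁ :=
    isPiHallOf_map_subtype_iff.mpr (isPiHall_piCore_of_isNilpotent _ _)
  have hc : H₂ ≤ Subgroup.centralizer (Q' : Set G) :=
    le_centralizer_of_coprime_of_le_nilpotent hn₁ h₂.1 hQH
      (IsPiNum.coprime (π := {q}) (IsPiNum.of_isPGroup hQ'p rfl) (IsPiHallOf.isPiNum h₂)).symm
  have h₃ : IsPiHallOf (π ∩ {q}ᶜ) H₂ M := isPiHallOf_iff.mpr ⟨h₂.1.trans hH₁M.1,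
    fun r hr hd => ⟨IsPiHallOf.isPiNum hH₁M r hr (hd.trans (Subgroup.card_dvd_of_le h₂.1)),
      IsPiHallOf.isPiNum h₂ r hr hd⟩, fun r hr hd hm => by
      rw [← Subgroup.relIndex_mul_relIndex H₂ H₁ M h₂.1 hH₁M.1, hr.dvd_mul] at hd
      rcases hd with h | h
      · exact IsPiHallOf.relIndex h₂ r hr h hm.2
      · exact IsPiHallOf.relIndex hH₁M r hr h hm.1⟩
  have h₄ : IsPiHallOf (π ∩ {q}ᶜ) H₂ (M ⊓ Subgroup.normalizer (Q' : Set G)) :=
    IsPiHallOf.of_le h₃ (le_inf h₃.1 (hc.trans (Subgroup.centralizer_le_normalizer _))) inf_le_left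
  obtain ⟨y, hy, hy'⟩ := ih _ hlt _ _ _ h₄ (isNilpotent_of_le hn₁ h₂.1)
    (le_inf (hlt.le.trans hKM) (hlt.le.trans (le_normalizer_map_subtype K _)))
    (fun r hr hd => ⟨hK r hr (hd.trans (Subgroup.card_dvd_of_le hlt.le)), fun h => by
      rw [Set.mem_singleton_iff] at h
      subst h
      exact hLq (hL'c ▸ hd)⟩)
  refine ⟨y * b⁻¹, mul_mem hy.1 (inv_mem hb), ?_⟩
  rw [← conj_smul_conj_smul, ← hH₁, ← hsup]
  refine sup_le ?_ (hy'.trans (conj_smul_mono y h₂.1))
  rw [← conj_smul_eq_iff_mem_normalizer.mpr hy.2]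
  exact conj_smul_mono y hQH


/-- Let H be a nilpotent subgroup of a finite group G whose order is coprime to its index, and K a subgroup every prime divisor of whose order divides the order of H. Then K lies in some conjugate of H. -/
theorem result {G : Type*} [Group G] [Finite G] (H K : Subgroup G) (hH : Group.IsNilpotent H) (hHall : (Nat.card H).Coprime H.index) (hK : ∀ p : ℕ, p.Prime → p ∣ Nat.card K → p ∣ Nat.card H) : ∃ x : G, K ≤ MulAut.conj x • H := by
  obtain ⟨x, -, hx⟩ := aux K {p | p ∣ Nat.card H} ⊤ H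
    (CL.isPiHallOf_top.mpr (CL.isPiHall_iff.mpr
      ⟨CL.isPiNum_setOf_dvd _, CL.isPiNum_compl_setOf_dvd hHall⟩)) hH le_top hK
  exact ⟨x, hx⟩

end Cfsg.Agent.S0581
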