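import Cfsg.Statements.S3861
import Mathlib
import Cfsg.Agent.PLOC.Fusion
import Cfsg.Agent.S0200
import Cfsg.Agent.SOLV.CoprimeSylow
import Cfsg.Agent.SOLV.Core

set_option autoImplicit false
open Cfsg

namespace Cfsg.Agent.S3861

open Subgroup CL in

/-- A finite group G has no non-identity element of odd order that is conjugate to its inverse if and only if the Sylow 2-subgroups of G are normal. -/
theorem result {G : Type*} [Group G] [Finite G] (P : Sylow 2 G) : (∀ x : G, x ≠ 1 → Odd (orderOf x) → ¬ IsConj x x⁻¹) ↔ (P : Subgroup G).Normal := by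
  constructor
  · intro h
    by_contra hn
    set O := Cfsg.pCore 2 G with hO
    have hOp : IsPGroup 2 O := isPGroup_pCore 2 G
    have hd : 2 ∣ Nat.card (G ⧸ O) := by
      by_contra hd
      have h1 : (P : Subgroup G) ≤ O := le_of_coprime_index
        (coprime_card_of_isPGroup P.isPGroup'
          ((Nat.Prime.coprime_iff_not_dvd Nat.prime_two).2 hd).symm).symm
      exact hn ((le_antisymm h1 (pCore_le_sylow P)) ▸ inferInstance)
    obtain ⟨t, ht⟩ := exists_prime_orderOf_dvd_card' 2 hd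
    obtain ⟨y, hy1, hyo, hty⟩ := Cfsg.Agent.S0200.result t ht (by
      intro N hN hN2 htN
      have := le_pCore hN2 htN
      rw [pCore_quotient_pCore, mem_bot] at this
      simp [this] at ht)
    obtain ⟨y0, rfl⟩ := QuotientGroup.mk_surjective y
    obtain ⟨m, hm⟩ : ∃ m : ℕ, (orderOf (y0 ^ 2 ^ m)).Coprime 2 := exists_pow_orderOf_coprime y0
    set z := y0 ^ 2 ^ m with hz
    have hz1 : (z : G ⧸ O) ≠ 1 := by
      intro e
      apply hy1
      rw [hz, QuotientGroup.mk_pow] at e
      exact orderOf_eq_one_iff.1 (Nat.eq_one_of_dvd_coprimes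
        ((Nat.coprime_two_right.2 hyo).pow_right m) dvd_rfl (orderOf_dvd_of_pow_eq_one e))
    have htz : t * (z : G ⧸ O) * t⁻¹ = (z : G ⧸ O)⁻¹ := by
      rw [hz, QuotientGroup.mk_pow, ← conj_pow, hty, inv_pow]
    have hcop : (Nat.card (zpowers z)).Coprime (Nat.card O) := by
      rw [Nat.card_zpowers]; exact coprime_card_of_isPGroup hOp hm
    have hN := normalizer_map_mk'_of_coprime O (zpowers z) hcop
      (Or.inr (isSolvable_of_isPGroup hOp))
    have htN : t ∈ normalizer (((zpowers z).map (QuotientGroup.mk' O) : Subgroup (G ⧸ O)) :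
        Set (G ⧸ O)) := by
      rw [MonoidHom.map_zpowers]
      refine Tr.mem_normalizer_of_conj_mem ?_
      rintro _ ⟨i, rfl⟩
      simp only [QuotientGroup.mk'_apply]
      rw [← conj_zpow, htz]
      exact zpow_mem (inv_mem (mem_zpowers _)) i
    rw [hN] at htN
    obtain ⟨s, hs, rfl⟩ := htN
    have h1 : s * z * s⁻¹ * z ∈ zpowers z ⊓ O := by
      refine ⟨mul_mem (Tr.conj_mem_of_mem_normalizer hs (mem_zpowers z)) (mem_zpowers z), ?_⟩
      refine (QuotientGroup.eq_one_iff _).1 ?_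
      simp only [QuotientGroup.mk'_apply] at htz
      simp only [QuotientGroup.mk_mul, QuotientGroup.mk_inv, htz, inv_mul_cancel]
    rw [disjoint_iff.1 (Subgroup.disjoint_of_coprime_natCard hcop), mem_bot, mul_eq_one_iff_eq_inv] at h1
    exact h z (fun e => hz1 (by simp [e])) (Nat.coprime_two_right.1 hm) (isConj_iff.2 ⟨s, h1⟩)
  · intro hn x hx1 hxo hc
    obtain ⟨g, hg⟩ := isConj_iff.1 hc
    have hodd : Odd (P : Subgroup G).index := by
      rw [← Nat.not_even_iff_odd, even_iff_two_dvd]; exact P.not_dvd_index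
    have hpow : ∀ n : ℕ, g ^ (2 * n + 1) * x * (g ^ (2 * n + 1))⁻¹ = x⁻¹ := by
      intro n
      induction n with
      | zero => simpa using hg
      | succ n ih =>
        calc g ^ (2 * (n + 1) + 1) * x * (g ^ (2 * (n + 1) + 1))⁻¹
            = g * (g * (g ^ (2 * n + 1) * x * (g ^ (2 * n + 1))⁻¹) * g⁻¹) * g⁻¹ := by group
          _ = g * (g * x * g⁻¹)⁻¹ * g⁻¹ := by rw [ih]; group
          _ = x⁻¹ := by rw [hg, inv_inv, hg]
    obtain ⟨n, hn'⟩ := hodd
    have hgP : g ^ (2 * n + 1) ∈ (P : Subgroup G) := hn' ▸ Subgroup.pow_index_mem _ g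
    have h2 : x * x ∈ (P : Subgroup G) := by
      have := (P : Subgroup G).mul_mem (hn.conj_mem _ hgP x) ((P : Subgroup G).inv_mem hgP)
      have e : x * g ^ (2 * n + 1) * x⁻¹ * (g ^ (2 * n + 1))⁻¹ =
          x * (g ^ (2 * n + 1) * x * (g ^ (2 * n + 1))⁻¹)⁻¹ := by group
      rwa [e, hpow, inv_inv] at this
    obtain ⟨k, hk⟩ := P.isPGroup' ⟨_, h2⟩
    have h3 : x ^ 2 ^ (k + 1) = 1 := by
      rw [pow_succ', pow_mul, sq]; simpa using congrArg Subtype.val hk
    exact hx1 (orderOf_eq_one_iff.1 (Nat.eq_one_of_dvd_coprimes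
      ((Nat.coprime_two_right.2 hxo).pow_right (k + 1)) dvd_rfl (orderOf_dvd_of_pow_eq_one h3)))

end Cfsg.Agent.S3861
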