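import Cfsg.Statements.S3866
import Cfsg.Agent.FGS.Regular

set_option autoImplicit false
open Cfsg

namespace Cfsg.Agent.S3866

/-- Let A be a commutative normal subgroup of the finite group G with G generated by A and an element x. Then a ↦ x a x⁻¹ a⁻¹ is a surjective homomorphism from A onto the commutator subgroup of G whose kernel is the centralizer of x in A; in particular the commutator subgroup has order equal to the index in A of that centralizer. -/
theorem result {G : Type*} [Group G] [Finite G] (A : Subgroup G) [A.Normal] (hA : IsMulCommutative A) (x : G) (hgen : A ⊔ Subgroup.zpowers x = ⊤) : (∀ a ∈ A, x * a * x⁻¹ * a⁻¹ ∈ commutator G) ∧ (∀ c ∈ commutator G, ∃ a ∈ A, x * a * x⁻¹ * a⁻¹ = c) ∧ (∀ a ∈ A, ∀ b ∈ A, x * (a * b) * x⁻¹ * (a * b)⁻¹ = (x * a * x⁻¹ * a⁻¹) * (x * b * x⁻¹ * b⁻¹)) ∧ Nat.card (commutator G) * Nat.card ↥(A ⊓ Subgroup.centralizer ({x} : Set G)) = Nat.card A := by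
  have hc : ∀ a ∈ A, ∀ b ∈ A, a * b = b * a := fun a ha b hb =>
    congrArg Subtype.val (hA.is_comm.comm (⟨a, ha⟩ : A) ⟨b, hb⟩)
  have hm : ∀ a ∈ A, x * a * x⁻¹ * a⁻¹ ∈ A := fun a ha =>
    A.mul_mem ((inferInstance : A.Normal).conj_mem a ha x) (A.inv_mem ha)
  have h3 : ∀ a ∈ A, ∀ b ∈ A,
      x * (a * b) * x⁻¹ * (a * b)⁻¹ = (x * a * x⁻¹ * a⁻¹) * (x * b * x⁻¹ * b⁻¹) := by
    intro a ha b hb
    rw [mul_assoc (x * a * x⁻¹), hc _ (A.inv_mem ha) _ (hm b hb)]
    group
  let φ : A →* G := MonoidHom.mk' (fun a => x * a * x⁻¹ * (a : G)⁻¹) fun a b => h3 a a.2 b b.2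
  have hle : φ.range ≤ A := by
    rintro _ ⟨a, rfl⟩; exact hm a a.2
  have hn : ∀ s ∈ (A : Set G) ∪ {x}, s ∈ Subgroup.normalizer (φ.range : Set G) := by
    rintro s (hs | rfl)
    · intro t
      constructor
      · intro ht
        rw [hc s hs t (hle ht), mul_inv_cancel_right]; exact ht
      · intro ht
        have h1 : t ∈ A := by simpa [mul_assoc] using
          (inferInstance : A.Normal).conj_mem _ (hle ht) s⁻¹
        rw [hc s hs t h1, mul_inv_cancel_right] at ht; exact ht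
    · intro t
      constructor
      · rintro ⟨a, rfl⟩
        refine ⟨⟨s * a * s⁻¹, (inferInstance : A.Normal).conj_mem a a.2 s⟩, ?_⟩
        simp only [φ, MonoidHom.mk'_apply]; group
      · rintro ⟨a, ha⟩
        refine ⟨⟨s⁻¹ * a * s⁻¹⁻¹, (inferInstance : A.Normal).conj_mem a a.2 s⁻¹⟩, ?_⟩
        have ha' : s * a * s⁻¹ * (a : G)⁻¹ = s * t * s⁻¹ := ha
        have : t = s⁻¹ * (s * a * s⁻¹ * (a : G)⁻¹) * s := by rw [ha']; group
        rw [this]
        simp only [φ, MonoidHom.mk'_apply]; group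
  have htop : Subgroup.closure ((A : Set G) ∪ {x}) = ⊤ := by
    rw [Subgroup.closure_union, Subgroup.closure_eq, ← Subgroup.zpowers_eq_closure, hgen]
  have h1 : ∀ a ∈ A, x * a * x⁻¹ * a⁻¹ ∈ commutator G := fun a _ =>
    Subgroup.commutator_mem_commutator (Subgroup.mem_top x) (Subgroup.mem_top a)
  have heq : commutator G = φ.range := by
    apply le_antisymm
    · rw [commutator_def, ← htop]
      apply CL.Reg.commutator_closure_le hn hn
      rintro s (hs | rfl) t (ht | rfl)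
      · rw [commutatorElement_def, hc s hs t ht]; simp
      · rw [← commutatorElement_inv]
        exact φ.range.inv_mem ⟨⟨s, hs⟩, rfl⟩
      · exact ⟨⟨t, ht⟩, rfl⟩
      · simp
    · rintro _ ⟨a, rfl⟩; exact h1 a a.2
  refine ⟨h1, fun c hc => ?_, h3, ?_⟩
  · rw [heq] at hc
    obtain ⟨a, rfl⟩ := hc
    exact ⟨a, a.2, rfl⟩
  · have e : φ.ker = (A ⊓ Subgroup.centralizer ({x} : Set G)).subgroupOf A := by
      ext a
      rw [MonoidHom.mem_ker, Subgroup.mem_subgroupOf, Subgroup.mem_inf,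
        Subgroup.mem_centralizer_singleton_iff]
      simp only [φ, MonoidHom.mk'_apply, a.2, true_and, mul_inv_eq_one, mul_inv_eq_iff_eq_mul]
      rw [one_mul]; exact eq_comm
    rw [heq, ← Subgroup.index_ker, ← Nat.card_congr (Subgroup.subgroupOfEquivOfLe
      (inf_le_left : A ⊓ Subgroup.centralizer ({x} : Set G) ≤ A)).toEquiv, ← e,
      Subgroup.index_mul_card]

end Cfsg.Agent.S3866
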