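import Cfsg.Statements.S3807
import Cfsg.Agent.FGS.AbelMax
import Cfsg.Agent.FGS.SubgroupCount
import Cfsg.Agent.S3866

set_option autoImplicit false
open Cfsg

namespace Cfsg.Agent.S3807

/-- Let S be a non-abelian finite p-group with an abelian subgroup A of index p. Then [S : Z(S)] = p·#[S,S], and either [S,S] has order p, S/Z(S) is elementary abelian of order p², and S has exactly p + 1 abelian subgroups of index p; or [S,S] has order at least p² and A is the only abelian subgroup of index p in S. -/
theorem result {S : Type*} [Group S] [Finite S] (p : ℕ) [Fact p.Prime] (hS : IsPGroup p S) (hna : ¬ IsMulCommutative S)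
    (A : Subgroup S) (hA : IsMulCommutative ↥A) (hAi : A.index = p) :
    (Subgroup.center S).index = p * Nat.card (commutator S) ∧
      ((Nat.card (commutator S) = p ∧ Cfsg.IsElementaryAbelian p (⊤ : Subgroup (S ⧸ Subgroup.center S)) ∧
          Nat.card (S ⧸ Subgroup.center S) = p ^ 2 ∧
          Nat.card {B : Subgroup S // IsMulCommutative ↥B ∧ B.index = p} = p + 1) ∨
        (p ^ 2 ≤ Nat.card (commutator S) ∧ ∀ B : Subgroup S, IsMulCommutative ↥B → B.index = p → B = A)) := by
  have hp : p.Prime := Fact.out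
  have hAc := CL.PG.isCoatom_of_index_eq_prime hp hAi
  have := CL.PN.normal_of_index_eq_prime hS A hAi
  obtain ⟨x, hx⟩ : ∃ x, x ∉ A := by
    by_contra h; push Not at h; exact hAc.1 (eq_top_iff.mpr fun x _ => h x)
  have hgen : A ⊔ Subgroup.zpowers x = ⊤ :=
    hAc.2 _ (left_lt_sup.mpr fun h => hx (h (Subgroup.mem_zpowers x)))
  obtain ⟨-, -, -, h4⟩ := Cfsg.Agent.S3866.result A hA x hgen
  have hZ : A ⊓ Subgroup.centralizer ({x} : Set S) = Subgroup.center S := by
    apply le_antisymm
    · intro y hy
      refine CL.AbM.mem_center_of_sup_eq_top hgen (fun a ha => CL.AbM.comm_of_mem hA ha hy.1) ?_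
      rintro _ ⟨k, rfl⟩
      exact ((show Commute y x from
        Subgroup.mem_centralizer_singleton_iff.mp hy.2).zpow_right k).eq.symm
    · exact le_inf (CL.AbM.center_le_of_isCoatom hna hA hAc) (Subgroup.center_le_centralizer _)
  rw [hZ] at h4
  have h1 : (Subgroup.center S).index = p * Nat.card (commutator S) := by
    apply Nat.eq_of_mul_eq_mul_left (Nat.card_pos (α := Subgroup.center S))
    rw [Subgroup.card_mul_index, ← A.card_mul_index, ← h4, hAi]; ring
  refine ⟨h1, ?_⟩
  obtain ⟨k, hk⟩ := IsPGroup.iff_card.mp (hS.to_subgroup (commutator S))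
  rcases k with _ | _ | k
  · exact (hna ((commutator_eq_bot_iff S).mp (Subgroup.card_eq_one.mp hk))).elim
  · left
    rw [zero_add, pow_one] at hk
    have h2 : Nat.card (S ⧸ Subgroup.center S) = p ^ 2 := by
      rw [← Subgroup.index_eq_card, h1, hk, sq]
    have hnc : ¬ IsCyclic (S ⧸ Subgroup.center S) := fun h =>
      hna (isMulCommutative_of_isCyclic_quotient_center_self S)
    have h3 : ∀ y : S ⧸ Subgroup.center S, y ^ p = 1 := by
      intro y
      obtain ⟨i, hi, h⟩ := (Nat.dvd_prime_pow hp).mp (h2 ▸ orderOf_dvd_natCard y)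
      have : i ≠ 2 := fun h' => hnc (isCyclic_of_orderOf_eq_card y (by rw [h, h', h2]))
      rw [← orderOf_dvd_iff_pow_eq_one, h]
      exact (pow_dvd_pow p (by omega : i ≤ 1)).trans (by rw [pow_one])
    have h5 := IsPGroup.isMulCommutative_of_card_eq_prime_sq h2
    refine ⟨hk, ⟨inferInstance, fun y _ => h3 y⟩, h2, ?_⟩
    have h6 := CL.Cnt.ncard_pow_eq_one_eq (G := S ⧸ Subgroup.center S) (p := p)
    rw [Set.eq_univ_of_forall (s := {x : S ⧸ Subgroup.center S | x ^ p = 1}) h3, Set.ncard_univ,
      h2] at h6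
    have h7 : CL.Cnt.nCyc (S ⧸ Subgroup.center S) p = p + 1 := by
      obtain ⟨q, rfl⟩ : ∃ q, p = q + 1 := ⟨p - 1, by have := hp.pos; omega⟩
      have hq : 0 < q := by have := hp.one_lt; omega
      rw [Nat.add_sub_cancel] at h6
      apply Nat.eq_of_mul_eq_mul_left hq
      nlinarith
    rw [← h7, CL.Cnt.nCyc_def]
    refine (Nat.card_coe_set_eq {B : Subgroup S | IsMulCommutative ↥B ∧ B.index = p}).trans ?_
    have e : {B : Subgroup S | IsMulCommutative ↥B ∧ B.index = p} =
        {B : Subgroup S | Subgroup.center S ≤ B ∧ B.index = p} := by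
      ext B
      refine and_congr_left fun hB => ⟨fun h => CL.AbM.center_le_of_isCoatom hna h
        (CL.PG.isCoatom_of_index_eq_prime hp hB), fun h => ?_⟩
      apply CL.AbM.isMulCommutative_of_relIndex_prime hp (Subgroup.center_le_centralizer _)
      have := Subgroup.relIndex_mul_index h
      rw [h1, hk, hB] at this
      exact Nat.eq_of_mul_eq_mul_right hp.pos this
    rw [e, CL.Cnt.ncard_subgroups_ge]
    congr 1
    ext H
    simp only [Set.mem_ofPred_eq,
      Subgroup.index_comap_of_surjective _ (QuotientGroup.mk'_surjective _)]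
    have := H.card_mul_index
    rw [h2, sq] at this
    constructor
    · intro h
      rw [h] at this
      have h8 := Nat.eq_of_mul_eq_mul_right hp.pos this
      exact ⟨isCyclic_of_prime_card h8, h8⟩
    · rintro ⟨-, h⟩
      rw [h] at this
      exact Nat.eq_of_mul_eq_mul_left hp.pos this
  · right
    have h2 : p ^ 2 ≤ Nat.card (commutator S) := hk ▸ Nat.pow_le_pow_right hp.pos (by omega)
    refine ⟨h2, fun B hB hBi => ?_⟩
    by_contra hne
    have hBc := CL.PG.isCoatom_of_index_eq_prime hp hBi
    have h3 := CL.AbM.inf_le_center hB hA (hBc.sup_eq_top_of_ne hAc hne)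
    have h5 : (Subgroup.center S).index ≤ p * p :=
      (Subgroup.index_antitone h3).trans (Subgroup.index_inf_le.trans (by rw [hAi, hBi]))
    have := hp.one_lt
    rw [h1] at h5
    have := Nat.le_of_mul_le_mul_left h5 hp.pos
    nlinarith

end Cfsg.Agent.S3807
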