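import Cfsg.Statements.S3815
import Mathlib
import Cfsg.Agent.SOLV.Core

set_option autoImplicit false
open Cfsg

namespace Cfsg.Agent.S3815

open Subgroup in

/-- Let G be a finite group, p a prime and d ∈ G an element of order prime to p. If dg has order prime to p for every element g ∈ G of order prime to p, then d ∈ O_{p'}(G). -/
theorem result {G : Type*} [Group G] [Finite G] {p : ℕ} [Fact p.Prime]
    (d : G) (hd : (orderOf d).Coprime p)
    (h : ∀ g : G, (orderOf g).Coprime p → (orderOf (d * g)).Coprime p) :
    d ∈ Cfsg.pPrimeCore p G := by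
  let S : Submonoid G :=
    { carrier := {e | ∀ g : G, (orderOf g).Coprime p → (orderOf (e * g)).Coprime p}
      mul_mem' := fun {a b} ha hb g hg => by rw [mul_assoc]; exact ha _ (hb g hg)
      one_mem' := fun g hg => by simpa using hg }
  let D : Subgroup G :=
    { S with
      inv_mem' := fun {a} ha => by
        have : a⁻¹ = a ^ (orderOf a - 1) := by
          rw [eq_comm, ← mul_eq_one_iff_eq_inv, ← pow_succ,
            Nat.sub_add_cancel (orderOf_pos a), pow_orderOf_eq_one]
        rw [this]
        exact S.pow_mem ha _ }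
  have hconj : ∀ x y : G, orderOf (y * x * y⁻¹) = orderOf x := fun x y => by
    simpa using (MulAut.conj y).orderOf_eq x
  have hn : D.Normal := by
    refine ⟨fun e he y g hg => ?_⟩
    have h1 : (orderOf (e * (y⁻¹ * g * y⁻¹⁻¹))).Coprime p := he _ (by rwa [hconj])
    rw [← hconj _ y] at h1
    convert h1 using 2
    group
  refine CL.le_pPrimeCore (N := D) ?_ h
  rw [Nat.coprime_comm, Nat.Prime.coprime_iff_not_dvd Fact.out]
  intro hdv
  obtain ⟨x, hx⟩ := exists_prime_orderOf_dvd_card' p hdv
  have h2 : (orderOf ((x : G) * 1)).Coprime p := x.2 1 (by simp)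
  rw [mul_one, Subgroup.orderOf_coe, hx] at h2
  exact (Fact.out : p.Prime).one_lt.ne' ((Nat.coprime_self _).1 h2)

end Cfsg.Agent.S3815
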