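import Cfsg.Statements.S4397
import Cfsg.Agent.FGS.Rank2Odd
import Cfsg.Agent.FGS.SecRank

set_option autoImplicit false
open Cfsg

namespace Cfsg.Agent.S4397

section
open Subgroup CL CL.R2 CL.Reg
open scoped commutatorElement

universe u

variable {p : ℕ} [hp : Fact p.Prime]

/-- Blackburn's reduction. -/
theorem reduce_aux (Q : ∀ (G : Type u) [Group G], Prop)
    (hquot : ∀ (G : Type u) [Group G] [Finite G] (U : Subgroup G) [U.Normal], Q G → Q (G ⧸ U))
    (hbase : ∀ (G : Type u) [Group G] [Finite G], IsPGroup p G → Q G →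
      _root_.commutator G ≤ center G → (∀ x ∈ _root_.commutator G, x ^ p = 1) → IsMetacyclic G)
    (n : ℕ) : ∀ (G : Type u) [Group G] [Finite G],
    Nat.card G = n → IsPGroup p G → Q G → IsMetacyclic G := by
  induction n using Nat.strong_induction_on with
  | _ n ih =>
  intro G _ _ hn hG hi
  -- choose a central subgroup of order `p`
  have key : ∀ T : Subgroup G, T.Normal → T ≠ ⊥ → ∃ U : Subgroup G, U ≤ T ∧ U ≤ center G ∧
      (∀ u ∈ U, u ^ p = 1) ∧ U ≠ ⊥ ∧ (IsMetacyclic G ∨ ∃ k b : G, U ⊓ zpowers k = ⊥ ∧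
        (U ⊔ zpowers k).Normal ∧ (U ⊔ zpowers k) ⊔ zpowers b = ⊤) := by
    intro T hT hne
    obtain ⟨z, hzT, hzc, hz⟩ := PN.exists_mem_center_orderOf_eq hG T hne
    have hU : zpowers z ≤ center G := zpowers_le.2 hzc
    haveI : (zpowers z).Normal := ⟨fun n hn g => by
      rw [mem_center_iff.1 (hU hn) g]; simpa using hn⟩
    have hz1 : z ≠ 1 := by rintro rfl; simp at hz; exact hp.out.one_lt.ne hz
    have hzp : z ^ p = 1 := hz ▸ pow_orderOf_eq_one z
    refine ⟨zpowers z, zpowers_le.2 hzT, hU, fun u hu => PG.pow_eq_one_of_mem_zpowers hzp hu,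
      by simpa using hz1, ?_⟩
    have hlt : Nat.card (G ⧸ zpowers z) < n := by
      rw [← hn, ← (zpowers z).card_mul_index, Nat.card_zpowers, hz]
      exact lt_mul_of_one_lt_left (Nat.pos_of_ne_zero index_ne_zero_of_finite) hp.out.one_lt
    have hm := ih _ hlt (G ⧸ zpowers z) rfl (hG.to_quotient _)
      (hquot G _ hi)
    obtain ⟨k, b, h1, h2⟩ := exists_of_quotient_metacyclic _ hm
    by_cases hk : z ∈ zpowers k
    · left
      rw [sup_eq_right.2 (zpowers_le.2 hk)] at h1 h2
      exact ⟨zpowers k, h1, inferInstance, isCyclic_quotient_of_sup _ h2⟩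
    · right
      refine ⟨k, b, ?_, h1, h2⟩
      rcases eq_bot_or_eq_of_card_prime hp.out (by rw [Nat.card_zpowers, hz])
        (inf_le_left : zpowers z ⊓ zpowers k ≤ zpowers z) with h | h
      · exact h
      · exact absurd ((h.ge (mem_zpowers z)).2) hk
  haveI := powerClosure_normal (p := p) (_root_.commutator G) 1
  -- powers of elements of `U ⊔ ⟨k⟩`
  have hpow : ∀ {U : Subgroup G} {k : G}, U ≤ center G → (∀ u ∈ U, u ^ p = 1) →
      powerClosure p 1 (U ⊔ zpowers k) = zpowers (k ^ p) := by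
    intro U k hU hUp
    apply le_antisymm
    · rw [powerClosure_le_iff]
      intro x hx
      obtain ⟨u, hu, i, rfl⟩ := mem_sup_zpowers_of_center hU hx
      have hcm : Commute u (k ^ i) := (mem_center_iff.1 (hU hu) _).symm
      rw [pow_one, hcm.mul_pow, hUp u hu, one_mul, ← zpow_natCast (k ^ i), ← zpow_mul, mul_comm,
        zpow_mul, zpow_natCast]
      exact zpow_mem (mem_zpowers _) _
    · simpa using pow_mem_powerClosure (p := p) (mem_sup_right (mem_zpowers k)) 1
  by_cases hT : powerClosure p 1 (_root_.commutator G) = ⊥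
  · by_cases hc : _root_.commutator G ≤ center G
    · exact hbase G hG hi hc fun x hx => by simpa using powerClosure_eq_bot_iff.1 hT x hx
    have hne : (⊤ : Subgroup G) ≠ ⊥ := fun h => hc (le_top.trans (h.le.trans bot_le))
    obtain ⟨U, -, hU, hUp, -, h | ⟨k, b, h0, h1, h2⟩⟩ := key ⊤ inferInstance hne
    · exact h
    exfalso
    apply hc
    haveI := R2.normal_of_le_center hU
    haveI hW : (zpowers (k ^ p)).Normal := hpow (k := k) hU hUp ▸ powerClosure_normal _ 1
    -- `G' ≤ U ⊔ ⟨k ^ p⟩`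
    have hD : _root_.commutator G ≤ U ⊔ zpowers (k ^ p) := by
      refine commutator_le_of_sup_zpowers h2 ?_
      set M := U ⊔ zpowers (k ^ p)
      have hcard : Nat.card ((U ⊔ zpowers k).map (QuotientGroup.mk' M)) ≤ p := by
        have : (U ⊔ zpowers k).map (QuotientGroup.mk' M) ≤ zpowers (QuotientGroup.mk' M k) := by
          rw [map_le_iff_le_comap, sup_le_iff]
          refine ⟨fun u hu => ?_, zpowers_le.2 (mem_zpowers _)⟩
          have : QuotientGroup.mk' M u = 1 := (QuotientGroup.eq_one_iff u).2 (mem_sup_left hu)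
          rw [mem_comap, this]; exact one_mem _
        refine (Subgroup.card_le_of_le this).trans ?_
        rw [Nat.card_zpowers]
        refine Nat.le_of_dvd hp.out.pos (orderOf_dvd_of_pow_eq_one ?_)
        rw [← map_pow]
        exact (QuotientGroup.eq_one_iff _).2 (mem_sup_right (mem_zpowers _))
      haveI : ((U ⊔ zpowers k).map (QuotientGroup.mk' M)).Normal :=
        h1.map _ (QuotientGroup.mk'_surjective M)
      have hz := PG.le_center_of_card_le (hG.to_quotient M) _ hcard
      rw [commutator_le]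
      intro x hx y _
      have := mem_center_iff.1 (hz (mem_map_of_mem _ hx)) (QuotientGroup.mk' M y)
      rw [← QuotientGroup.eq_one_iff, ← QuotientGroup.mk'_apply, map_commutatorElement,
        commutatorElement_eq_one_iff_mul_comm]
      exact this.symm
    intro x hx
    obtain ⟨u, hu, i, rfl⟩ := mem_sup_zpowers_of_center hU (hD hx)
    have hxp := (powerClosure_eq_bot_iff.1 hT) _ hx
    have hcm : Commute u ((k ^ p) ^ i) := (mem_center_iff.1 (hU hu) _).symm
    rw [pow_one, hcm.mul_pow, hUp u hu, one_mul] at hxp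
    refine mul_mem (hU hu) ?_
    haveI : (zpowers ((k ^ p) ^ i)).Normal :=
      MC.normal_of_le_cyclic (C := zpowers (k ^ p)) (zpowers_le.2 (zpow_mem (mem_zpowers _) _))
    refine PG.le_center_of_card_le hG (zpowers ((k ^ p) ^ i)) ?_ (mem_zpowers _)
    rw [Nat.card_zpowers]
    exact Nat.le_of_dvd hp.out.pos (orderOf_dvd_of_pow_eq_one hxp)
  · obtain ⟨U, hUT, hU, hUp, hU1, h | ⟨k, b, h0, h1, h2⟩⟩ := key _ inferInstance hT
    · exact h
    exfalso
    apply hU1
    haveI := isCyclic_quotient_of_sup _ h2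
    have hD := MC.commutator_le_of_cyclic_quotient (U ⊔ zpowers k)
    have h3 : U ≤ zpowers k := hUT.trans ((powerClosure_mono hD 1).trans
      ((hpow hU hUp).le.trans (zpowers_le.2 (pow_mem (mem_zpowers k) p))))
    rw [← h0, inf_eq_left.2 h3]


theorem base {G : Type*} [Group G] [Finite G] (hG : IsPGroup 2 G)
    (hr : Cfsg.SectionalPRankLE 2 2 G) (hc : _root_.commutator G ≤ center G)
    (he : ∀ x ∈ _root_.commutator G, x ^ 2 = 1) : Cfsg.IsMetacyclic G := by
  classical
  by_cases hcyc : IsCyclic G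
  · exact metacyclic_of_isCyclic
  haveI : Nontrivial G := by
    by_contra hh
    rw [not_nontrivial_iff_subsingleton] at hh
    exact hcyc inferInstance
  have hiF : (frattini G).index ≤ 2 ^ 2 := by
    have := SecR.relIndex_le hr (A := ⊤) (B := frattini G) fun a _ => by
      rw [← pow_two]; exact PG.pow_mem_frattini hG a
    rwa [relIndex_top_right] at this
  obtain ⟨y0, -, hy0⟩ := SetLike.exists_of_lt (lt_top_iff_ne_top.mpr (PG.frattini_ne_top (P := G)))
  obtain ⟨y, hy, hmin⟩ := (measure (orderOf : G → ℕ)).wf.has_min {y | y ∉ frattini G} ⟨y0, hy0⟩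
  have hmin' : ∀ z, z ∉ frattini G → orderOf y ≤ orderOf z := fun z hz => not_lt.mp (hmin z hz)
  obtain ⟨x, hx⟩ := exists_pair hG hiF hy
  have hfr : ∀ a b : G, closure ({a, b} : Set G) = ⊤ → b ∉ frattini G := by
    intro a b hab hb
    apply hcyc
    have : zpowers a = ⊤ := by
      apply PG.zpowers_eq_top_of_sup_frattini
      rw [eq_top_iff, ← hab]
      exact pair_le (mem_sup_left (mem_zpowers a)) (mem_sup_right hb)
    exact isCyclic_iff_exists_zpowers_eq_top.mpr ⟨a, this⟩
  have hxf : x ∉ frattini G := hfr y x hx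
  set c := ⁅y, x⁆ with hcdef
  have hcc : c ∈ _root_.commutator G := commutator_mem_commutator (mem_top _) (mem_top _)
  haveI : (zpowers c).Normal := R2.normal_of_le_center (zpowers_le.2 (hc hcc))
  have hD : _root_.commutator G ≤ zpowers c := by
    have := commutator_pair_le_of_normal (N := zpowers c) (mem_zpowers c)
    rwa [hx] at this
  suffices key : ∃ z, z ∉ frattini G ∧ c ∈ zpowers z by
    obtain ⟨z, hz, hz'⟩ := key
    obtain ⟨w, hw⟩ := exists_pair hG hiF hz
    exact metacyclic_of_pair (normal_of_commutator_le (hD.trans (zpowers_le.2 hz'))) hw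
  by_contra hno
  push Not at hno
  have hc1 : c ≠ 1 := fun e => hno y hy (e ▸ one_mem _)
  have hc2 : c ^ 2 = 1 := he c hcc
  have hmemc : ∀ g ∈ zpowers c, g = 1 ∨ g = c := by
    intro g hg
    have := (mem_zpowers_iff_mem_range_orderOf.1 hg)
    rw [orderOf_eq_prime hc2 hc1] at this
    obtain ⟨j, hj, rfl⟩ := Finset.mem_image.1 this
    have : j = 0 ∨ j = 1 := by have := Finset.mem_range.1 hj; omega
    rcases this with rfl | rfl <;> simp
  have hsq : ∀ g : G, g ^ 2 ∈ center G := fun g => by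
    rw [mem_center_iff]
    intro t
    have h1 : ⁅g, t⁆ ∈ _root_.commutator G := commutator_mem_commutator (mem_top _) (mem_top _)
    rw [eq_comm, ← commutatorElement_eq_one_iff_mul_comm,
      PG.commutator_pow_left (mem_center_iff.1 (hc h1) g), he _ h1]
  obtain ⟨e, hxe⟩ := IsPGroup.iff_orderOf.mp hG x
  obtain ⟨k, hk⟩ := IsPGroup.iff_orderOf.mp hG y
  have hke : k ≤ e := by
    have := hmin' x hxf
    rwa [hk, hxe, Nat.pow_le_pow_iff_right (by norm_num)] at this
  have hk0 : k ≠ 0 := by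
    rintro rfl
    rw [pow_zero, orderOf_eq_one_iff] at hk
    exact hy (hk ▸ one_mem _)
  obtain ⟨k, rfl⟩ := Nat.exists_eq_succ_of_ne_zero hk0
  obtain ⟨d, rfl⟩ : ∃ d, e = d + k + 1 := ⟨e - (k + 1), by omega⟩
  have hgen : ∀ z : G, x ∈ closure ({y, z} : Set G) ∨ y ∈ closure ({x, z} : Set G) →
      z ∉ frattini G := by
    rintro z (h | h)
    · exact hfr y z (by rw [eq_top_iff, ← hx]; exact pair_le (left_mem_pair _ _) h)
    · exact hfr x z (by rw [eq_top_iff, ← hx]; exact pair_le h (left_mem_pair _ _))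
  have hyx : ∀ j : ℕ, y * (x ^ j)⁻¹ ∉ frattini G := fun j => hgen _ (Or.inr (by
    have : y = y * (x ^ j)⁻¹ * x ^ j := by group
    rw [this]
    simpa using mul_mem (right_mem_pair x (y * (x ^ j)⁻¹)) (pow_mem (left_mem_pair x _) j)))
  by_cases hdk : d + k = 0
  · have hd : d = 0 := by omega
    have hk' : k = 0 := by omega
    subst hd hk'
    have hx2 : x * x = 1 := by rw [← pow_two]; exact orderOf_dvd_iff_pow_eq_one.1 (by simp [hxe])
    have hy2 : y * y = 1 := by rw [← pow_two]; exact orderOf_dvd_iff_pow_eq_one.1 (by simp [hk])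
    refine hno _ (hyx 1) ⟨2, ?_⟩
    have hx' : x⁻¹ = x := inv_eq_of_mul_eq_one_right hx2
    have hy' : y⁻¹ = y := inv_eq_of_mul_eq_one_right hy2
    show (y * (x ^ 1)⁻¹) ^ (2 : ℤ) = c
    rw [hcdef, commutatorElement_def, pow_one, hx', hy', zpow_two]
    simp only [mul_assoc]
  set x₀ := x ^ 2 ^ (d + k)
  set y₀ := y ^ 2 ^ k
  have hx0 : x₀ ^ 2 = 1 := by rw [← pow_mul, ← pow_succ, ← hxe, pow_orderOf_eq_one]
  have hy0' : y₀ ^ 2 = 1 := by rw [← pow_mul, ← pow_succ, ← hk, pow_orderOf_eq_one]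
  have hx0c : x₀ ∈ center G := by
    obtain ⟨j, hj⟩ := Nat.exists_eq_succ_of_ne_zero hdk
    show x ^ 2 ^ (d + k) ∈ _
    rw [hj, pow_succ, pow_mul]; exact hsq _
  have hx1 : x₀ ∉ zpowers c := fun h => by
    rcases hmemc _ h with h1 | h1
    · have := (MC.pow_eq_one_iff_of_orderOf hxe).1 h1
      omega
    · exact hno x hxf (h1 ▸ pow_mem (mem_zpowers x) _)
  have hy1 : y₀ ∉ zpowers c := fun h => by
    rcases hmemc _ h with h1 | h1
    · have := (MC.pow_eq_one_iff_of_orderOf hk).1 h1
      omega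
    · exact hno y hy (h1 ▸ pow_mem (mem_zpowers y) _)
  have hxy : y₀ * x₀⁻¹ ∈ zpowers c := by
    by_contra hne
    set V := zpowers c ⊔ zpowers x₀
    have hVc : V ≤ center G := sup_le (zpowers_le.2 (hc hcc)) (zpowers_le.2 hx0c)
    have hV : Cfsg.IsElementaryAbelian 2 (V ⊔ zpowers y₀) :=
      Th.elemAb_sup (Th.elemAb_sup (Th.elemAb_zpowers hc2) (Th.elemAb_zpowers hx0)
        ((zpowers_le.2 (hc hcc)).trans (center_le_centralizer _))) (Th.elemAb_zpowers hy0')
        (hVc.trans (center_le_centralizer _))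
    have h1 := SecR.relIndex_le hr (A := V ⊔ zpowers y₀) (B := ⊥) fun a ha => by
      rw [← pow_two, hV.2 a ha]; exact one_mem _
    rw [relIndex_bot_left] at h1
    have h2 : zpowers c < V := lt_of_le_not_ge le_sup_left
      fun hh => hx1 (hh (mem_sup_right (mem_zpowers _)))
    have h3 : V < V ⊔ zpowers y₀ := lt_of_le_not_ge le_sup_left fun hh => by
      obtain ⟨u, hu, i, e⟩ := mem_sup_zpowers_of_center (zpowers_le.2 (hc hcc))
        (hh (mem_sup_right (mem_zpowers y₀)))
      have hx02 : x₀ ^ (2 : ℤ) = 1 := by exact_mod_cast hx0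
      rcases Int.even_or_odd' i with ⟨j, rfl | rfl⟩
      · rw [zpow_mul, hx02, one_zpow, mul_one] at e
        exact hy1 (e ▸ hu)
      · rw [zpow_add, zpow_mul, hx02, one_zpow, one_mul, zpow_one] at e
        exact hne (by rw [e]; simpa using hu)
    have h4 := PG.pow_succ_le_card_of_lt hG h2 (k := 1)
      (by rw [Nat.card_zpowers, orderOf_eq_prime hc2 hc1]; norm_num)
    have h5 := PG.pow_succ_le_card_of_lt hG h3 h4
    omega
  have hz : (y * (x ^ 2 ^ d)⁻¹) ^ 2 ^ k ∈ zpowers c := by
    rw [← QuotientGroup.eq_one_iff] at hxy ⊢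
    have hcm : Commute (y : G ⧸ zpowers c) ((x ^ 2 ^ d : G) : G ⧸ zpowers c)⁻¹ :=
      Commute.inv_right (comm_mem_iff.1 (hD (commutator_mem_commutator (mem_top _) (mem_top _))))
    rw [QuotientGroup.mk_pow, QuotientGroup.mk_mul, QuotientGroup.mk_inv, hcm.mul_pow, inv_pow,
      ← QuotientGroup.mk_pow, ← QuotientGroup.mk_pow, ← pow_mul, ← pow_add]
    exact hxy
  rcases hmemc _ hz with h1 | h1
  · have h2 := hmin' _ (hyx (2 ^ d))
    have h3 := Nat.le_of_dvd (by positivity) (orderOf_dvd_of_pow_eq_one h1)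
    rw [hk] at h2
    have := h2.trans h3
    rw [Nat.pow_le_pow_iff_right (by norm_num)] at this
    omega
  · exact hno _ (hyx (2 ^ d)) (h1 ▸ pow_mem (mem_zpowers _) _)

theorem sec_quot {G : Type*} [Group G] [Finite G] (U : Subgroup G) [U.Normal]
    (h : Cfsg.SectionalPRankLE 2 2 G) : Cfsg.SectionalPRankLE 2 2 (G ⧸ U) := by
  refine SecR.sectional_top fun A B _ hAB => ?_
  have := SecR.relIndex_le h (A := A.comap (QuotientGroup.mk' U))
    (B := B.comap (QuotientGroup.mk' U)) fun a ha => by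
      rw [mem_comap, map_mul]; exact hAB _ ha
  rwa [relIndex_comap, map_comap_eq_self_of_surjective (QuotientGroup.mk'_surjective U)] at this

end


/-- A finite 2-group of sectional 2-rank at most 2 (every section has no elementary abelian subgroup of order 8) is metacyclic: it has a cyclic normal subgroup with cyclic quotient. -/
theorem result {S : Type*} [Group S] [Finite S] (h2 : IsPGroup 2 S) (hr : Cfsg.SectionalPRankLE 2 2 S) : Cfsg.IsMetacyclic S := by
  exact reduce_aux (p := 2) (fun G _ => Cfsg.SectionalPRankLE 2 2 G)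
    (fun G _ _ U _ h => sec_quot U h) (fun G _ _ hG h hc he => base hG h hc he) _ S rfl h2 hr

end Cfsg.Agent.S4397
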