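import Cfsg.Statements.S5246
import Cfsg.Agent.FUS.GroupNormal
import Cfsg.Agent.FUS.OpPrime

set_option autoImplicit false
open Cfsg

namespace Cfsg.Agent.S5246

open CL.Fus Cfsg.FusionSystem

theorem quad_iff {Ω : Type*} [Group Ω] {Q : Subgroup Ω} {g : Ω} (hg : g ∈ Subgroup.normalizer (Q : Set Ω)) :
    (∀ a : Q, (cjAut Q g hg a⁻¹) * a * (cjAut Q g hg a⁻¹) * (cjAut Q g hg (cjAut Q g hg a)) = 1) ↔
      ⁅⁅Q, Subgroup.zpowers g⁆, Subgroup.zpowers g⁆ = ⊥ := by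
  have key : ∀ a : Q, ((cjAut Q g hg a⁻¹) * a * (cjAut Q g hg a⁻¹) * (cjAut Q g hg (cjAut Q g hg a)) = 1) ↔
      (a : Ω)⁻¹ * cj g a ∈ Subgroup.centralizer ((Subgroup.zpowers g : Subgroup Ω) : Set Ω) := by
    intro a
    rw [Subtype.ext_iff, ← Subgroup.zpowers_le, Subgroup.le_centralizer_iff, Subgroup.zpowers_le,
      Subgroup.zpowers_eq_closure, Subgroup.centralizer_closure, Subgroup.mem_centralizer_singleton_iff]
    simp only [Subgroup.coe_mul, cjAut_apply, Subgroup.coe_inv, Subgroup.coe_one, cj_apply]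
    constructor
    · intro h
      calc g * ((a : Ω)⁻¹ * (g * a * g⁻¹)) = (a : Ω)⁻¹ * (g * a * g⁻¹) *
            (g * (a : Ω)⁻¹ * g⁻¹ * a * (g * (a : Ω)⁻¹ * g⁻¹) * (g * (g * a * g⁻¹) * g⁻¹)) * g := by group
        _ = _ := by rw [h, mul_one]
    · intro h
      calc g * (a : Ω)⁻¹ * g⁻¹ * a * (g * (a : Ω)⁻¹ * g⁻¹) * (g * (g * a * g⁻¹) * g⁻¹)
          = ((a : Ω)⁻¹ * (g * a * g⁻¹))⁻¹ * (g * ((a : Ω)⁻¹ * (g * a * g⁻¹))) * g⁻¹ := by group
        _ = 1 := by rw [h]; group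
  rw [Subgroup.commutator_eq_bot_iff_le_centralizer]
  refine (forall_congr' key).trans ⟨fun h => Subgroup.commutator_le.2 fun a ha b hb => ?_,
    fun h a => inv_mul_cj_mem ((Subgroup.commutator_comm _ _).le.trans h) (Subgroup.mem_zpowers g) a.2⟩
  have h1 : cjAut Q g hg ∈ stabPair ⊤ (Subgroup.centralizer ((Subgroup.zpowers g : Subgroup Ω) : Set Ω)) Q
      (autInv_of_le _ le_rfl) := ⟨trivial, fun y hy _ => by rw [autFun_cjAut hg hy]; exact h ⟨y, hy⟩⟩
  obtain ⟨n, rfl⟩ := hb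
  have h2 := (Subgroup.zpow_mem _ h1 n).2 a⁻¹ (Q.inv_mem ha) (Q.inv_mem ha)
  have h3 : cjAut Q g hg ^ n = cjAut Q (g ^ n) (Subgroup.zpow_mem _ hg n) :=
    (map_zpow Q.normalizerMonoidHom ⟨g, hg⟩ n).symm
  rw [h3, autFun_cjAut _ (Q.inv_mem ha), cj_apply, inv_inv] at h2
  simpa only [commutatorElement_def, mul_assoc] using h2

theorem mem_pCore_iff {Ω : Type*} [Group Ω] {p : ℕ} {Q : Subgroup Ω} {g : Ω}
    (hg : g ∈ Subgroup.normalizer (Q : Set Ω)) :
    (QuotientGroup.mk (s := (Subgroup.centralizer (Q : Set Ω)).subgroupOf (Subgroup.normalizer (Q : Set Ω)))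
      (⟨g, hg⟩ : Subgroup.normalizer (Q : Set Ω))) ∈ pCore p (↥(Subgroup.normalizer (Q : Set Ω)) ⧸
        (Subgroup.centralizer (Q : Set Ω)).subgroupOf (Subgroup.normalizer (Q : Set Ω))) ↔
      cjAut Q g hg ∈ (pCore p (autInducedBy ⊤ Q)).map (autInducedBy ⊤ Q).subtype := by
  have e : Q.normalizerMonoidHom.range = autInducedBy ⊤ Q := by
    rw [autInducedBy_eq_map, Subgroup.top_subgroupOf, MonoidHom.range_eq_map]
  let φ := ((QuotientGroup.quotientMulEquivOfEq (Subgroup.normalizerMonoidHom_ker Q).symm).trans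
    (QuotientGroup.quotientKerEquivRange Q.normalizerMonoidHom)).trans (MulEquiv.subgroupCongr e)
  rw [← mem_pCore_equiv_iff φ]
  exact ⟨fun h => ⟨_, h, rfl⟩, fun ⟨x, hx, e'⟩ => by
    obtain rfl : x = φ (QuotientGroup.mk ⟨g, hg⟩) := Subtype.ext e'
    exact hx⟩

/-- Let p be an odd prime, G a finite group and P a Sylow p-subgroup. Call a fusion system F p-stable when, for every fully normalized subgroup Q and every χ ∈ Aut_F(Q) acting quadratically on Q (that is, χ fixes a⁻¹χ(a) for every a ∈ Q; equivalently χ(a⁻¹)·a·χ(a⁻¹)·χ(χ(a)) = 1), χ lies in O_p(Aut_F(Q)). Then G is p-stable in the normalizer form (for every p-subgroup Q and x ∈ N_G(Q) with [Q, x, x] = 1, the image of x lies in O_p(N_G(Q)/C_G(Q))) if and only if the fusion system of G on P is p-stable. -/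
theorem result {Ω : Type*} [Group Ω] [Finite Ω] {p : ℕ} [Fact p.Prime] (hp : p ≠ 2) (P : Sylow p Ω) : Cfsg.IsNormalizerPStable p Ω ↔ (∀ Q : Subgroup Ω, (Cfsg.groupFusionSystem (P : Subgroup Ω)).IsFullyNormalized Q → ∀ χ : MulAut ↥Q, χ ∈ (Cfsg.groupFusionSystem (P : Subgroup Ω)).autGroup Q → (∀ a : ↥Q, (χ a⁻¹) * a * (χ a⁻¹) * (χ (χ a)) = 1) → χ ∈ ((Cfsg.pCore p ↥((Cfsg.groupFusionSystem (P : Subgroup Ω)).autGroup Q)).map ((Cfsg.groupFusionSystem (P : Subgroup Ω)).autGroup Q).subtype : Subgroup (MulAut ↥Q))) := by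
  have haut : ∀ {T Q : Subgroup Ω}, Q ≤ T → (groupFusionSystem T).autGroup Q = autInducedBy ⊤ Q :=
    fun hQ => by rw [groupFusionSystem_eq_ofSubgroup, autGroup_ofSubgroup hQ]
  constructor
  · intro h Q hQ χ hχ hq
    rw [haut hQ.1] at hχ ⊢
    obtain ⟨g, -, hg, rfl⟩ := mem_autInducedBy_iff_cjAut.1 hχ
    exact (mem_pCore_iff hg).1 (h Q (isPGroup_of_le P.isPGroup' hQ.1) g hg ((quad_iff hg).1 hq))
  · intro h Q hQ g hg hq
    rw [mem_pCore_iff hg]
    rw [← quad_iff hg] at hq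
    obtain ⟨b, -, hb⟩ := (sylIn_top P).exists_conj_le le_top hQ
    have h1 : img (cj b) Q ≤ P := img_le_iff.2 hb
    obtain ⟨R, hc, hR⟩ := exists_fullyNormalized (groupFusionSystem (P : Subgroup Ω)) h1
    obtain ⟨k, hk, e⟩ := isConj_iff.1 hc
    have hf : Mor (groupFusionSystem (⊤ : Subgroup Ω)) Q (k ∘ cj b) :=
      (hk.of_subsystem (by
        rw [groupFusionSystem_eq_ofSubgroup]; exact ofSubgroup_isSubsystemOf_group le_top)).comp_img
        (mor_cj _ le_top trivial) le_rfl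
    have e' : img (k ∘ cj b) Q = R := by rw [(isHomOn_cj Q b).img_comp, e]
    have hiff : ∀ a, hf.conjAut e' a ∈ autInducedBy ⊤ R ↔ a ∈ autInducedBy ⊤ Q := fun a => by
      rw [← haut (le_top : R ≤ ⊤), ← haut (le_top : Q ≤ ⊤), hf.conjAut_mem_autGroup_iff]
    rw [← equiv_mem_map_pCore_iff (hf.conjAut e') hiff, ← haut hR.1]
    refine h R hR _ (by rw [haut hR.1, hiff]; exact cjAut_mem_autInducedBy (Subgroup.mem_top g) hg) fun a => ?_
    obtain ⟨a, rfl⟩ := (hf.equiv e').surjective a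
    have := congrArg (hf.equiv e') (hq a)
    simpa [Mor.conjAut, MulAut.congr] using this

end Cfsg.Agent.S5246
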