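import Cfsg.Statements.S5414
import Cfsg.Agent.SPOR.Cent3B
import Cfsg.Agent.SPOR.MonThree

set_option autoImplicit false
open Cfsg

namespace Cfsg.Agent.S5414

open CL CL.LX CL.MSS CL.MT CL.Leech


/-- Let G be a finite group of Monster type at the involution z with Q the extraspecial normal subgroup of order 2^25 of C = C_G(z) (so C/Q is identified with the first Conway group with Q modulo its centre the Leech lattice modulo 2, and z is not weakly closed in Q). Let s be a conjugate of z in Q other than z and let Y be a subgroup of order 3 of the joint centralizer L of z and s that is not 3-central in L (Y lies in the centre of no Sylow 3-subgroup of L). Then the centralizer of Y modulo Y is a group of Thompson type (an involution whose centralizer D has generalized Fitting subgroup R extraspecial of order 2^9 with D/R the alternating group of degree 9, the involution not weakly closed in R). -/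
theorem result {G : Type*} [Group G] [Finite G] (z : G) (Q : Subgroup (Subgroup.centralizer ({z} : Set G))) [Q.Normal] (hM : Cfsg.IsOfMonsterType z Q) (s : G) (hsQ : ∃ hsc : s ∈ Subgroup.centralizer ({z} : Set G), (⟨s, hsc⟩ : Subgroup.centralizer ({z} : Set G)) ∈ Q) (hs : IsConj z s) (hs1 : s ≠ z) (Y : Subgroup G) (hY : Y ≤ Subgroup.centralizer ({z, s} : Set G)) (hY3 : Nat.card Y = 3) (hnc : ∀ P : Sylow 3 ↥(Subgroup.centralizer ({z, s} : Set G)), ¬ Y.subgroupOf (Subgroup.centralizer ({z, s} : Set G)) ≤ (Subgroup.center ↥(P : Subgroup ↥(Subgroup.centralizer ({z, s} : Set G)))).map (P : Subgroup ↥(Subgroup.centralizer ({z, s} : Set G))).subtype) [hn : (Y.subgroupOf (Subgroup.centralizer (Y : Set G))).Normal] : Cfsg.IsOfThompsonType (↥(Subgroup.centralizer (Y : Set G)) ⧸ Y.subgroupOf (Subgroup.centralizer (Y : Set G))) := by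
  obtain ⟨Q1, R, A, b, σ, h, hF, hs', hb, rfl, hsb, hA, hσ, hc⟩ := setup_three hM hsQ hs hs1 hY hY3
  rcases hσ with e | e
  · obtain ⟨P, hP⟩ := hc.2 (by rw [e, Golay.Cent_3A_eq.2]; norm_num)
    exact absurd hP (hnc P)
  obtain rfl : σ = C3B.s0 := Subtype.ext e
  obtain ⟨y, -, P, -, -, -, hn', h1, ⟨e, -⟩, -⟩ := h.odd_main hF (n := 3) (by decide)
    (hb ▸ pow_orderOf_eq_one b) C3B.σ_pow hA (w := 4) (by norm_num) C3B.tab.1 C3B.cdata.2 C3B.cdata.1
    (h.R_mem hs') hsb hs hs1
  exact ⟨y, _, hn', h1, ⟨e⟩⟩

end Cfsg.Agent.S5414
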