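import Cfsg.Statements.S5192
import Cfsg.Agent.FUS.Transfer

set_option autoImplicit false
open Cfsg

namespace Cfsg.Agent.S5192

open CL.Fus Cfsg.FusionSystem

theorem eq_of_mem_zpowers {G : Type*} [Group G] {s x : G} (hs : s ^ 2 = 1) (hx : x ∈ Subgroup.zpowers s)
    (h1 : x ≠ 1) : x = s := by
  obtain ⟨k, rfl⟩ := hx
  have h2 : s ^ (2 : ℤ) = 1 := by exact_mod_cast hs
  rcases Int.even_or_odd' k with ⟨m, rfl | rfl⟩
  · simp [zpow_mul, h2] at h1
  · simp [zpow_mul, zpow_add_one, h2]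

open CL.Tr in
theorem card_orb_mul {Ω : Type*} [Group Ω] {S : Subgroup Ω} [Finite S] {s : S} (hs : orderOf (s : Ω) = 2) :
    (orbFinset (⊤ : Subgroup (ConjAct S)) s).card * Nat.card (normalizerIn S (Subgroup.zpowers (s : Ω))) =
      Nat.card S := by
  have h1 : (orbFinset (⊤ : Subgroup (ConjAct S)) s).card = (MulAction.stabilizer (ConjAct S) s).index := by
    rw [MulAction.index_stabilizer, ← Set.ncard_coe_finset]
    congr 1
    ext x
    simp [mem_orbFinset, MulAction.mem_orbit_iff]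
  rw [h1, ← card_subgroupOf_of_le (normalizerIn_le S _)]
  refine Eq.trans (congrArg _ (Nat.card_congr (ConjAct.toConjAct.toEquiv.subtypeEquiv fun g => ?_)))
    (MulAction.stabilizer (ConjAct S) s).index_mul_card
  have := finite_of_le (Subgroup.zpowers_le.2 s.2)
  refine ⟨fun h => Subtype.ext (eq_of_mem_zpowers (hs ▸ pow_orderOf_eq_one _)
    (cj_mem_of_mem_normalizer h.2 (Subgroup.mem_zpowers _)) fun h1 => ?_), fun h => ⟨g.2, ?_⟩⟩
  · have h2 : (s : Ω) = 1 := cj_injective (g : Ω) (h1.trans (by simp [cj]))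
    simp [h2] at hs
  · refine mem_normalizer_iff_img_cj.2 ((isHomOn_cj _ _).img_zpowers.trans (congrArg _ ?_))
    exact congrArg Subtype.val h

/-- A Thompson-type transfer for saturated fusion systems. Let F be a saturated fusion system on a finite 2-group S, T a subgroup of S of index 2, and i an involution of S such that every fully normalized F-conjugate of i lies in S but outside T. Then i does not lie in the hyperfocal subgroup of F (the Sylow group of the 2-residual subsystem). -/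
theorem result {Ω : Type*} [Group Ω] [Finite Ω] {S : Subgroup Ω}
    (hS : IsPGroup 2 ↥S) (F : Cfsg.FusionSystem S) (hF : F.IsSaturated 2)
    (T : Subgroup Ω) (hTS : T ≤ S) (hT : T.relIndex S = 2)
    (i : Ω) (hi : i ∈ S) (hi2 : orderOf i = 2)
    (h : ∀ j : Ω, F.IsConjElt i j → F.IsFullyNormalized (Subgroup.zpowers j) → j ∉ T) :
    i ∉ F.hyperfocalSubgroup 2 := by
  classical
  intro hif
  have := Fintype.ofFinite S
  obtain ⟨B⟩ := nonempty_biset hS hF
  have hmul : ∀ a ∈ S, ∀ b ∈ S, a * b ∈ T ↔ (a ∈ T ↔ b ∈ T) := fun a ha b hb =>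
    Subgroup.mul_mem_iff_of_index_two (H := T.subgroupOf S) hT (a := ⟨a, ha⟩) (b := ⟨b, hb⟩)
  have hcj : ∀ s ∈ S, ∀ x ∈ S, cj s x ∈ T ↔ x ∈ T := fun s hs x hx => by
    rw [cj, hmul _ (S.mul_mem hs hx) _ (S.inv_mem hs), hmul _ hs _ hx, inv_mem_iff]
    tauto
  have hθ : IsHomOn S fun x => (-1 : ℤˣ) ^ (if x ∈ T then (0 : ℤ) else 1) := fun a ha b hb => by
    simp only [hmul a ha b hb]
    by_cases h1 : a ∈ T <;> by_cases h2 : b ∈ T <;> simp [h1, h2]
  have h1 := B.tr_eq_one_of_mem_focal hθ (u := ⟨i, hi⟩) (hyperfocal_le_focal F 2 hif)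
  have hu : (⟨i, hi⟩ : S) ^ 2 = 1 := Subtype.ext (hi2 ▸ pow_orderOf_eq_one i)
  rw [B.tr_apply, Finset.prod_congr rfl (g := fun j => (-1 : ℤˣ) ^ (B.n j *
    fixSum (B.P j) ((fun x => if x ∈ T then 0 else 1) ∘ B.φ j) ⟨i, hi⟩)) fun j _ => by
      rw [(isActCocycle_coc _).prod_eq_prod_fixed fun k x hk hk' _ => by
        rw [show k = 2 from le_antisymm (Nat.le_of_dvd two_pos (hk'.trans (orderOf_dvd_of_pow_eq_one hu))) hk, hu,
          (isActCocycle_coc _).one], mul_comm, zpow_mul, fixSum, zpow_finset_sum]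
      exact congrArg (· ^ B.n j) (Finset.prod_congr (by congr) fun x hx =>
        coc_of_fixed _ (Finset.mem_filter.1 hx).2), ← zpow_finset_sum, ← orderOf_dvd_iff_zpow_eq_one,
    orderOf_eq_prime (p := 2) (by simp) (by decide)] at h1
  have hdvd : ∀ s : S, orderOf (s : Ω) = 2 →
      (Nat.card (normalizerIn S (Subgroup.zpowers (s : Ω))) : ℤ) ∣ B.χ i s := fun s hs => by
    have h2 := B.sum (f := fun x => if ∃ g ∈ S, cj g s = x then 1 else 0) (fun t ht x _ => if_congr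
      ⟨fun ⟨g, hg, e⟩ => ⟨t⁻¹ * g, S.mul_mem (S.inv_mem ht) hg, by rw [cj_mul, e, cj_inv_cj]⟩,
        fun ⟨g, hg, e⟩ => ⟨t * g, S.mul_mem ht hg, by rw [cj_mul, e]⟩⟩ rfl rfl) ⟨i, hi⟩
    rw [Finset.sum_congr rfl (g := fun x => if x ∈ CL.Tr.orbFinset (⊤ : Subgroup (ConjAct S)) s then B.χ i s else 0)
      fun x _ => by
        rw [ite_mul, one_mul, zero_mul]
        refine if_ctx_congr (Iff.trans ?_ CL.Tr.mem_orbFinset.symm) (fun hx => ?_) fun _ => rfl
        · exact ⟨fun ⟨g, hg, e⟩ => ⟨ConjAct.toConjAct ⟨g, hg⟩, trivial, Subtype.ext e⟩,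
            fun ⟨g, _, e⟩ => ⟨_, (ConjAct.ofConjAct g).2, congrArg Subtype.val e⟩⟩
        · obtain ⟨g, -, rfl⟩ := CL.Tr.mem_orbFinset.1 hx
          exact (B.stable (isConjElt_refl F hi) ((mor_cj F le_rfl (ConjAct.ofConjAct g).2).isConjElt s.2)).symm,
      Finset.sum_ite_mem, Finset.univ_inter, Finset.sum_const, nsmul_eq_mul, ← card_orb_mul hs, Nat.cast_mul,
      mul_assoc] at h2
    exact ⟨_, (mul_left_cancel₀ (Nat.cast_ne_zero.2 (left_ne_zero_of_mul
      ((card_orb_mul hs).trans_ne Nat.card_pos.ne'))) h2).symm⟩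
  have h2 : (2 : ℤ) ∣ ∑ j, B.n j * fixSum (B.P j) ((fun x => if x ∈ T then 1 else 0) ∘ B.φ j) ⟨i, hi⟩ := by
    refine Int.dvd_of_mul_dvd_mul_left (Int.natCast_ne_zero.2 (Nat.card_pos (α := S)).ne') ?_
    rw [B.sum fun s hs x hx => if_congr (hcj s hs x hx) rfl rfl]
    refine_lift (ZMod.intCast_zmod_eq_zero_iff_dvd _ (Nat.card S * 2)).1 ?_
    rw [Int.cast_sum]
    refine CL.Tr.prod_eq_one_of_orbits (A := Multiplicative (ZMod (Nat.card S * 2))) (⊤ : Subgroup (ConjAct S))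
      (fun _ _ _ _ => Finset.mem_univ _) fun s _ => ?_
    change ∑ x ∈ CL.Tr.orbFinset (⊤ : Subgroup (ConjAct S)) s,
      (((if (x : Ω) ∈ T then 1 else 0) * B.χ i x : ℤ) : ZMod (Nat.card S * 2)) = 0
    have h5 : ∀ x ∈ CL.Tr.orbFinset (⊤ : Subgroup (ConjAct S)) s,
        (((if (x : Ω) ∈ T then 1 else 0) * B.χ i x : ℤ) : ZMod (Nat.card S * 2)) =
        (((if (s : Ω) ∈ T then 1 else 0) * B.χ i s : ℤ) : ZMod (Nat.card S * 2)) := fun x hx => by
      obtain ⟨g, -, rfl⟩ := CL.Tr.mem_orbFinset.1 hx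
      rw [B.stable (isConjElt_refl F hi) ((mor_cj F le_rfl (ConjAct.ofConjAct g).2).isConjElt s.2),
        ← if_congr (hcj _ (ConjAct.ofConjAct g).2 _ s.2) rfl rfl]
      rfl
    rw [Finset.sum_congr rfl h5, Finset.sum_const, nsmul_eq_mul, ← Int.cast_natCast, ← Int.cast_mul,
      ZMod.intCast_zmod_eq_zero_iff_dvd]
    by_cases hsT : (s : Ω) ∈ T
    swap
    · simp [hsT]
    by_cases h0 : B.χ i s = 0
    · simp [h0]
    have hc := B.conj hi s.2 h0
    have hs : orderOf (s : Ω) = 2 := by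
      obtain ⟨P, f, hf, hP, e⟩ := isConjElt_iff.1 hc
      rw [← e, hf.orderOf_eq hP, hi2]
    obtain ⟨Q, hQ, hQ'⟩ := exists_fullyNormalized F (Subgroup.zpowers_le.2 s.2)
    obtain ⟨ψ, hψ, rfl⟩ := isConj_iff.1 hQ
    have h3 := hdvd ⟨_, hψ.map_mem (Subgroup.mem_zpowers _)⟩ ((hψ.orderOf_eq (Subgroup.mem_zpowers _)).trans hs)
    rw [← hψ.isHomOn.img_zpowers, ← B.stable (isConjElt_refl F hi) (hψ.isConjElt (Subgroup.mem_zpowers _))] at h3
    rw [if_pos hsT, one_mul, ← card_orb_mul hs, mul_assoc, Nat.cast_mul]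
    refine mul_dvd_mul_left _ ((Int.natCast_dvd_natCast.2 ?_).trans h3)
    have h4 := not_le.1 fun h5 => h s hc (fullyNormalized_of_isConj hQ' (isConj_symm hQ) h5) hsT
    obtain ⟨a, ha⟩ := (isPGroup_of_le hS (normalizerIn_le S (Subgroup.zpowers (s : Ω)))).exists_card_eq
    obtain ⟨b, hb⟩ := (isPGroup_of_le hS (normalizerIn_le S (img ψ (Subgroup.zpowers (s : Ω))))).exists_card_eq
    rw [ha, hb, Nat.pow_lt_pow_iff_right one_lt_two] at h4
    rw [ha, hb, ← pow_succ]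
    exact pow_dvd_pow 2 h4
  refine B.not_dvd_deg hS ((dvd_sub_right (dvd_add h1 h2)).1 ?_)
  rw [← Finset.sum_add_distrib, Biset.deg, ← Finset.sum_sub_distrib]
  refine Finset.dvd_sum fun j _ => ?_
  rw [← mul_add, ← mul_sub, fixSum, fixSum, ← Finset.sum_add_distrib, Finset.sum_congr rfl (g := fun _ => 1)
    fun x _ => by simp only [Function.comp_apply]; split_ifs <;> rfl, Finset.sum_const, nsmul_eq_mul, mul_one,
    ← Fintype.card_subtype, ← Nat.card_eq_fintype_card]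
  refine Dvd.dvd.mul_left (Nat.ModEq.dvd (((hS.to_subgroup (Subgroup.zpowers ⟨i, hi⟩)).card_modEq_card_fixedPoints
    (S ⧸ (B.P j).subgroupOf S)).trans (congrArg (· % 2) ?_))) _
  refine Nat.card_congr (Equiv.subtypeEquivRight fun x => ⟨fun h => h ⟨_, Subgroup.mem_zpowers _⟩, fun h g => ?_⟩)
  exact (Subgroup.zpowers_le (H := MulAction.stabilizer S x)).2 h g.2

end Cfsg.Agent.S5192
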