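import Cfsg.Statements.S5166
import Cfsg.Agent.FUS.PcMathieu

set_option autoImplicit false
open Cfsg

namespace Cfsg.Agent.S5166

def Hd : List ℕ := [645434098244667753222160998366120032, 486317894067777385906476470720956448]
def Tl : List ℕ := [475935900039457900171905226626173440, 901810639927700045894952958619290176]
def L : List ℕ := [645434098244667753222160998366120032, 486317894067777385906476470720956448, 475935900039457900171905226626173440, 901810639927700045894952958619290176]
def W : List (ℕ × List (List ℕ)) := [(475935900039457900171905226626173440, [[0, 2]]), (901810639927700045894952958619290176, [[0, 1, 3]])]
def z : ℕ := 901810639927700045894952958619290176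
def Cl : List (ℕ × ℕ × ℕ) := [(645434098244667753222160998366120032, 645434098244667753222160998366120032, 383123885216472214589586756787577295904684780545900544), (486317894067777385906476470720956448, 486317894067777385906476470720956448, 12129047596099288555851402253613301212944422008724192274523844047078523067862319424459987568973800608988185396071336509423215469094646987433158494336259227650034804500162889887111447543996862850197367181200909912116350366045437952)]
def St : List (List ℕ × ℕ × List ℕ) := [([0], 816791185929984820405186669420556416, [1, 2]), ([0, 1], 980510392610951187384032927707908608, [1]), ([0, 1], 891431726066842256948948876770157952, [0, 1, 2])]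
def W' : List (List ℕ) := [[0, 2], [1], [1, 2], [3]]
open CL.K CL.Pc CL.Golay CL.MathMdl
theorem hL : lall (okc ok11) L = true := by decide +kernel
theorem hpc : pcB comp24 one24 L = true := by decide +kernel
theorem hfr : fratB comp24 one24 Hd Tl L W = true := by decide +kernel
theorem hz : centB comp24 one24 z Hd L = true := by decide +kernel
theorem hcl : classB comp24 one24 (w24 z) Hd Tl Cl = true := by decide +kernel
theorem hst : stepsB comp24 one24 (okc ok11) L W' St [z] = true := by decide +kernel

/-- The 2-fusion system of the Mathieu group M₁₁ (as the explicit permutation group carved out of the automorphism group of the binary Golay code) on a Sylow 2-subgroup is simple: saturated, over a nontrivial 2-group, with no normal subsystem other than the trivial one and itself. -/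
theorem result (S : Sylow 2 Cfsg.Spor.M11) : (Cfsg.groupFusionSystem (S : Subgroup Cfsg.Spor.M11)).IsSimple 2 := by
  exact isSimple_of_cert24 (fun _ => in11) hL rfl (m := 495) (by decide) (by rw [CL.MathMdl.card_M11]; rfl)
    (by decide) hpc hfr hz hcl hst S

end Cfsg.Agent.S5166
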