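import Cfsg.Statements.S5215
import Cfsg.Agent.FUS.Rk2Main

set_option autoImplicit false
open Cfsg

namespace Cfsg.Agent.S5215


/-- Let S be a finite 2-group of 2-rank 2 (an elementary abelian subgroup of order 4, none of order 8) and F a simple saturated fusion system over S. Then S is dihedral, semidihedral or wreathed, and F is the fusion system of the projective special linear group PSL₂(q) for some odd prime power q ≡ ±1 (mod 8) or of PSL₃(q) for some odd prime power q: it is realized by an injective homomorphism of S into that group whose image is a Sylow 2-subgroup. -/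
theorem result {Ω : Type*} [Group Ω] {S : Subgroup Ω} [Finite S] (hS : IsPGroup 2 S) (F : Cfsg.FusionSystem S) (hF : F.IsSaturated 2) (hr : Cfsg.PRankAtLeast 2 2 ↥S ∧ ¬ Cfsg.PRankAtLeast 2 3 ↥S) (hsimple : F.IsSimple 2) : ((∃ m : ℕ, Nonempty (↥S ≃* DihedralGroup m)) ∨ Cfsg.IsQuasiDihedral ↥S ∨ Cfsg.IsWreathed ↥S) ∧ ∃ (K : Type) (_ : Field K) (_ : Fintype K) (q : ℕ), Fintype.card K = q ∧ Odd q ∧ (((q % 8 = 1 ∨ q % 8 = 7) ∧ ∃ ι : ↥S →* Matrix.ProjectiveSpecialLinearGroup (Fin 2) K, F.IsRealizedBy ι ∧ ∃ T : Sylow 2 (Matrix.ProjectiveSpecialLinearGroup (Fin 2) K), (T : Subgroup (Matrix.ProjectiveSpecialLinearGroup (Fin 2) K)) = ι.range) ∨ (∃ ι : ↥S →* Matrix.ProjectiveSpecialLinearGroup (Fin 3) K, F.IsRealizedBy ι ∧ ∃ T : Sylow 2 (Matrix.ProjectiveSpecialLinearGroup (Fin 3) K), (T : Subgroup (Matrix.ProjectiveSpecialLinearGroup (Fin 3) K)) = ι.range)) := by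
  have h4 : 2 < Nat.card S := by
    obtain ⟨A, -, -, h3⟩ := hr.1
    have := Nat.le_of_dvd Nat.card_pos A.card_subgroup_dvd_card
    omega
  have hn : ∀ Q, F.IsNormal Q → Q = ⊥ := fun Q hQ => by
    by_contra h
    exact h4.ne' (CL.Rk2.card_eq_of_simple_of_normal hS hsimple hQ h)
  have hZ := hn _ (CL.Fus.normal_of_central (CL.Fus.center_central F))
  obtain ⟨G, _, _, _, ι, hι, P, hP⟩ := CL.Fus.exists_simple_realization hsimple
    (CL.Rk2.rank_two_realizable hS hF hr hZ)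
  obtain ⟨e', k⟩ := CL.Fus.exists_corr_sylow hι hP
  have hc : Nat.card P = Nat.card S := (Nat.card_congr k.iso.equiv.toEquiv).symm
  have hi := CL.Fus.no_index_two_of_simple (G := G)
    (h4.trans_le (hc ▸ Nat.le_of_dvd Nat.card_pos (P : Subgroup G).card_subgroup_dvd_card))
  have hsat := CL.Fus.Grp.isSaturated P
  rcases CL.Rk2.rank_two_cases hS hF hr hZ with h | ⟨m, hm, ⟨e⟩⟩ | h | h
  · exact absurd (hn _ h) hsimple.2.1
  · refine ⟨Or.inl ⟨m, ⟨e⟩⟩, ?_⟩
    obtain ⟨n, hn, ⟨c⟩⟩ := CL.Rk2.exists_dih_coord P.isPGroup' hm (k.iso.equiv.symm.trans e)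
    obtain ⟨p, _, h8, T, f, f', k'⟩ := CL.Rk2.dih_corr_loud c hn hsat
      (c.loudAt_of_no_index_two hi 0) (c.loudAt_of_no_index_two hi 1)
    exact ⟨ZMod p, inferInstance, inferInstance, p, ZMod.card p, Nat.odd_iff.2 (by omega),
      Or.inl ⟨Or.inl h8, _, (k.trans k').isRealizedBy_toHom, T, (k.trans k').iso.range_toHom.symm⟩⟩
  · refine ⟨Or.inr (Or.inl h), ?_⟩
    obtain ⟨n, ⟨c⟩⟩ := CL.QD.exists_coord (CL.Fus.isQuasiDihedral_of_equiv k.iso.equiv h)
    obtain ⟨k0, k1⟩ := c.loud_of_no_index_two hi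
    obtain ⟨p, _, h8, T, f, f', k'⟩ := CL.Rk2.qd_corr_loud c hsat (c.loudAt_two_iff.2 k0)
      (c.loudAt_four_iff.2 k1)
    exact ⟨ZMod p, inferInstance, inferInstance, p, ZMod.card p, h8,
      Or.inr ⟨_, (k.trans k').isRealizedBy_toHom, T, (k.trans k').iso.range_toHom.symm⟩⟩
  · refine ⟨Or.inr (Or.inr h), ?_⟩
    obtain ⟨n, ⟨c⟩⟩ := CL.Wr.exists_coord (CL.Fus.isWreathed_of_equiv k.iso.equiv h)
    obtain ⟨k0, k1⟩ := c.loud_of_no_index_two hi
    obtain ⟨p, _, h8, T, f, f', k'⟩ := CL.Rk2.wr_corr_loud c hsat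
      ((CL.Rk2.loud_group_iff c.base_le).2 k0) (c.loudAt_group_iff.2 k1)
    exact ⟨ZMod p, inferInstance, inferInstance, p, ZMod.card p, h8,
      Or.inr ⟨_, (k.trans k').isRealizedBy_toHom, T, (k.trans k').iso.range_toHom.symm⟩⟩

end Cfsg.Agent.S5215
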