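import Cfsg.Statements.S3799
import Mathlib
import Cfsg.Agent.PLOC.PFrattini

set_option autoImplicit false
open Cfsg

namespace Cfsg.Agent.S3799

theorem extraspecial_of {P : Type*} [Group P] [Finite P] {p : ℕ} [hp : Fact p.Prime]
    (hP : IsPGroup p P) (hz : Nat.card (Subgroup.center P) = p)
    (hc : commutator P ≤ Subgroup.center P) (hpow : ∀ g : P, g ^ p ∈ Subgroup.center P)
    (hne : ¬ IsMulCommutative P) : IsExtraspecial p P := by
  have h1 : commutator P = Subgroup.center P := by
    refine Subgroup.eq_of_le_of_card_ge hc ?_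
    have hd : Nat.card (commutator P) ∣ p := hz ▸ Subgroup.card_dvd_of_le hc
    rcases (Nat.dvd_prime hp.out).1 hd with h | h
    · exact absurd ((commutator_eq_bot_iff P).1 (Subgroup.eq_bot_of_card_eq _ h)) hne
    · rw [h, hz]
  refine ⟨⟨hP, le_antisymm (CL.PG.frattini_le_of_commutator_le_of_pow_mem hc hpow) ?_, h1⟩, hz⟩
  rw [← h1]
  exact CL.PG.commutator_le_frattini hP

/-- The Heisenberg group. -/
@[ext] structure Heis (n : ℕ) (F : Type) where
  a : Fin n → F
  b : Fin n → F
  c : F

variable {n : ℕ} {F : Type} [Field F]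

instance instMulHeis : Mul (Heis n F) :=
  ⟨fun x y => ⟨x.a + y.a, x.b + y.b, x.c + y.c + x.a ⬝ᵥ y.b⟩⟩
instance instOneHeis : One (Heis n F) := ⟨⟨0, 0, 0⟩⟩
instance instInvHeis : Inv (Heis n F) := ⟨fun x => ⟨-x.a, -x.b, -x.c + x.a ⬝ᵥ x.b⟩⟩

theorem mul_a (x y : Heis n F) : (x * y).a = x.a + y.a := rfl
theorem mul_b (x y : Heis n F) : (x * y).b = x.b + y.b := rfl
theorem mul_c (x y : Heis n F) : (x * y).c = x.c + y.c + x.a ⬝ᵥ y.b := rfl
theorem one_a : (1 : Heis n F).a = 0 := rfl
theorem one_b : (1 : Heis n F).b = 0 := rfl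
theorem one_c : (1 : Heis n F).c = 0 := rfl
theorem inv_a (x : Heis n F) : (x⁻¹).a = -x.a := rfl
theorem inv_b (x : Heis n F) : (x⁻¹).b = -x.b := rfl
theorem inv_c (x : Heis n F) : (x⁻¹).c = -x.c + x.a ⬝ᵥ x.b := rfl

attribute [local simp] mul_a mul_b mul_c one_a one_b one_c inv_a inv_b inv_c

instance instGroupHeis : Group (Heis n F) := Group.ofLeftAxioms
  (fun x y z => by ext <;> simp [add_dotProduct, dotProduct_add] <;> ring)
  (fun x => by ext <;> simp)
  (fun x => by ext <;> simp)

/-- underlying triple -/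
def heisEquiv : Heis n F ≃ (Fin n → F) × (Fin n → F) × F where
  toFun x := (x.a, x.b, x.c)
  invFun x := ⟨x.1, x.2.1, x.2.2⟩
  left_inv _ := rfl
  right_inv _ := rfl

theorem pow_formula (x : Heis n F) (k : ℕ) :
    x ^ k = ⟨(k : F) • x.a, (k : F) • x.b, k * x.c + (k.choose 2 : F) * (x.a ⬝ᵥ x.b)⟩ := by
  induction k with
  | zero => ext <;> simp
  | succ k ih =>
    rw [pow_succ, ih, Nat.choose_succ_succ' k 1]
    ext <;> simp <;> ring

theorem mem_center_heis (x : Heis n F) : x ∈ Subgroup.center (Heis n F) ↔ x.a = 0 ∧ x.b = 0 := by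
  classical
  rw [Subgroup.mem_center_iff]
  constructor
  · intro h
    constructor
    · ext i
      have := congrArg Heis.c (h ⟨0, Pi.single i 1, 0⟩)
      simpa using this.symm
    · ext i
      have := congrArg Heis.c (h ⟨Pi.single i 1, 0, 0⟩)
      simpa using this
  · rintro ⟨h1, h2⟩ g
    ext <;> simp [h1, h2, add_comm]

/-- the natural representation -/
def rep : Heis n F →* Module.End F (F × (Fin n → F) × F) where
  toFun x :=
    { toFun := fun w => (w.1 + x.a ⬝ᵥ w.2.1 + x.c * w.2.2, w.2.1 + w.2.2 • x.b, w.2.2)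
      map_add' := fun v w => by ext <;> simp [dotProduct_add] <;> ring
      map_smul' := fun r w => by ext <;> simp <;> ring }
  map_one' := by
    apply LinearMap.ext
    intro w
    ext <;> simp
  map_mul' x y := by
    apply LinearMap.ext
    intro w
    ext <;> simp [add_dotProduct, dotProduct_add] <;> ring

theorem rep_injective : Function.Injective (rep : Heis n F →* _) := by
  classical
  rw [injective_iff_map_eq_one]
  intro x hx
  have h1 := LinearMap.congr_fun hx (0, 0, 1)
  ext i
  · have h2 := LinearMap.congr_fun hx (0, Pi.single i 1, 0)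
    simpa [rep] using congrArg Prod.fst h2
  · simpa [rep] using congrFun (congrArg (fun w => w.2.1) h1) i
  · simpa [rep] using congrArg Prod.fst h1


/-- For every odd prime p and every n ≥ 1 there is an extraspecial p-group of order p^(1+2n) and exponent p; concretely, the general linear group of degree n + 2 over the field with p elements contains such a subgroup. -/
theorem result (p : ℕ) [Fact p.Prime] (hp : p ≠ 2) (n : ℕ) (hn : 1 ≤ n) : ∃ E : Subgroup (Matrix.GeneralLinearGroup (Fin (n + 2)) (ZMod p)), Cfsg.IsExtraspecial p ↥E ∧ Nat.card E = p ^ (1 + 2 * n) ∧ ∀ x ∈ E, x ^ p = 1 := by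
  classical
  have hpp : p.Prime := Fact.out
  let F := ZMod p
  have hfin : Finite (Heis n F) := Finite.of_equiv _ heisEquiv.symm
  have hcard : Nat.card (Heis n F) = p ^ (1 + 2 * n) := by
    rw [Nat.card_congr heisEquiv]
    simp [F, Nat.card_prod]
    ring
  have hexp : ∀ x : Heis n F, x ^ p = 1 := by
    intro x
    have h2 : ((p.choose 2 : ℕ) : F) = 0 := by
      rw [ZMod.natCast_eq_zero_iff]
      exact hpp.dvd_choose_self (by norm_num) (lt_of_le_of_ne hpp.two_le hp.symm)
    have h1 : ((p : ℕ) : F) = 0 := ZMod.natCast_self p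
    rw [pow_formula, h1, h2]
    ext <;> simp
  have hz : Nat.card (Subgroup.center (Heis n F)) = p := by
    have e : Subgroup.center (Heis n F) ≃ F :=
      { toFun := fun x => x.1.c
        invFun := fun c => ⟨⟨0, 0, c⟩, (mem_center_heis _).2 ⟨rfl, rfl⟩⟩
        left_inv := fun x => by
          obtain ⟨h1, h2⟩ := (mem_center_heis _).1 x.2
          exact Subtype.ext (Heis.ext h1.symm h2.symm rfl)
        right_inv := fun _ => rfl }
    rw [Nat.card_congr e]
    simp [F]
  have hrank : Module.finrank F (F × (Fin n → F) × F) = n + 2 := by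
    simp [Module.finrank_prod]
    ring
  let B := Module.finBasisOfFinrankEq F (F × (Fin n → F) × F) hrank
  let ψ : Heis n F →* Matrix (Fin (n + 2)) (Fin (n + 2)) F :=
    (LinearMap.toMatrixAlgEquiv B).toMonoidHom.comp rep
  have hψ : Function.Injective ψ := (LinearMap.toMatrixAlgEquiv B).injective.comp rep_injective
  let φ : Heis n F →* Matrix.GeneralLinearGroup (Fin (n + 2)) F := ψ.toHomUnits
  have hφ : Function.Injective φ := fun x y h => hψ (congrArg Units.val h)
  let e : Heis n F ≃* φ.range := MonoidHom.ofInjective hφ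
  have hcardE : Nat.card φ.range = p ^ (1 + 2 * n) := by rw [← Nat.card_congr e.toEquiv, hcard]
  have hexpE : ∀ x : φ.range, x ^ p = 1 := by
    intro x
    obtain ⟨y, rfl⟩ := e.surjective x
    rw [← map_pow, hexp, map_one]
  have hcen : ∀ x : Heis n F, x ∈ Subgroup.center (Heis n F) → e x ∈ Subgroup.center φ.range := by
    intro x hx
    rw [Subgroup.mem_center_iff] at hx ⊢
    intro y
    obtain ⟨y, rfl⟩ := e.surjective y
    rw [← map_mul, hx, map_mul]
  refine ⟨φ.range, extraspecial_of (IsPGroup.of_card hcardE) ?_ ?_ ?_ ?_, hcardE,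
    fun x hx => congrArg Subtype.val (hexpE ⟨x, hx⟩)⟩
  · rw [← Nat.card_congr (Subgroup.centerCongr e).toEquiv, hz]
  · rw [commutator_def, Subgroup.commutator_le]
    intro x _ y _
    obtain ⟨x, rfl⟩ := e.surjective x
    obtain ⟨y, rfl⟩ := e.surjective y
    rw [← map_commutatorElement]
    apply hcen
    rw [mem_center_heis, commutatorElement_def]
    constructor <;> ext <;> simp
  · intro g
    rw [hexpE]
    exact one_mem _
  · intro hc
    let i : Fin n := ⟨0, hn⟩
    have := hc.is_comm.comm (e ⟨Pi.single i 1, 0, 0⟩) (e ⟨0, Pi.single i 1, 0⟩)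
    rw [← map_mul, ← map_mul] at this
    have h2 := congrArg Heis.c (e.injective this)
    simp at h2

end Cfsg.Agent.S3799
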