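import Cfsg.Statements.S5265
import Cfsg.Agent.FUS.CenterFus
import Cfsg.Agent.FUS.ResistOdd
import Cfsg.Agent.S3799
import Cfsg.Agent.S0097
import Cfsg.Agent.S0206

set_option autoImplicit false
open Cfsg

namespace Cfsg.Agent.S5265

section
open Subgroup CL CL.Fus Cfsg.FusionSystem
open scoped commutatorElement

variable {G : Type*} [Group G] [Finite G] {p : ℕ} [hp : Fact p.Prime] {F : FusionSystem (⊤ : Subgroup G)}

omit [Finite G] in
theorem inv_mul_mem_of_relIndex_two {A B : Subgroup G} (h : B.relIndex A = 2) {x y : G} (hx : x ∈ A)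
    (hy : y ∈ A) (hxB : x ∉ B) (hyB : y ∉ B) : x⁻¹ * y ∈ B :=
  (mul_mem_iff_of_index_two (H := B.subgroupOf A) h (a := ⟨x, hx⟩⁻¹) (b := ⟨y, hy⟩)).2
    (iff_of_false (fun e => hxB (inv_mem_iff.1 e)) hyB)

omit [Finite G] in
theorem eq_of_mem_zpowers_two {e y : G} (he : orderOf e = 2) (hy : y ∈ zpowers e) (h1 : y ≠ 1) : y = e := by
  obtain ⟨n, rfl⟩ := hy
  have h2 : e ^ (2 : ℤ) = 1 := by exact_mod_cast he ▸ pow_orderOf_eq_one e
  obtain ⟨k, rfl | rfl⟩ := Int.even_or_odd' n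
  · exact absurd (by simp only [zpow_mul, h2, one_zpow]) h1
  · simp only [zpow_add, zpow_mul, h2, one_zpow, one_mul, zpow_one]

/-- hypotheses -/
structure Hyp (p : ℕ) (F : FusionSystem (⊤ : Subgroup G)) : Prop where
  pg : IsPGroup p G
  sat : F.IsSaturated p
  core : F.core = ⊥
  na : ¬ IsMulCommutative G
  idx : (center G).index = p ^ 2

namespace Hyp

variable (h : Hyp p F)
include h

omit [Finite G] in
theorem mid {R : Subgroup G} (h1 : center G ≤ R) (h2 : R ≠ ⊤) (h3 : ¬ R ≤ center G) :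
    (center G).relIndex R = p ∧ AbIdx p R := by
  have := (hp.out.mul_eq_prime_sq_iff (mt relIndex_eq_one.1 h3) (mt index_eq_one.1 h2)).1
    ((relIndex_mul_index h1).trans h.idx)
  exact ⟨this.1, h.pg, h.na, AbM.isMulCommutative_of_relIndex_prime hp.out
    (fun z hz y _ => mem_center_iff.1 hz y) this.1, this.2⟩

theorem ess {R : Subgroup G} (hR : F.IsEssential p R) : (center G).relIndex R = p ∧ AbIdx p R :=
  h.mid (AbIdx.center_le_of_centric hR.1) (lt_of_essential (h.pg.to_subgroup ⊤) h.sat hR).ne fun e =>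
    (lt_of_essential (h.pg.to_subgroup ⊤) h.sat hR).ne (top_le_iff.1 fun g _ =>
      centralizerIn_le_of_isCentric hR.1 ⟨mem_top g, top_le_centralizer e (mem_top g)⟩)

omit [Finite G] in
theorem comm_mem (x y : G) : ⁅x, y⁆ ∈ center G :=
  commutator_le_of_relIndex_sq (P := ⊤) (by rw [relIndex_top_right, h.idx]) (mem_top x) (mem_top y)

omit [Finite G] in
theorem commutator_le : commutator G ≤ center G := Subgroup.commutator_le.2 fun x _ y _ => h.comm_mem x y

theorem tv {R : Subgroup G} (hR : F.IsEssential p R) :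
    ∃ x e e' D, x ∉ R ∧ TvData F p R (center G) x e e' D := by
  obtain ⟨h1, h2⟩ := h.ess hR
  haveI := h2.normal
  obtain ⟨x, -, hx⟩ := SetLike.exists_of_lt h2.coatom.1.lt_top
  obtain ⟨-, e, e', D, hd⟩ := exists_tvData (h.pg.to_subgroup ⊤) h.sat hR h2.ab h2.center_le h1 (mem_top x)
    ((normalizer_eq_top R).ge (mem_top x)) hx fun z hz => mem_center_iff.1 hz x
  exact ⟨x, e, e', D, hx, hd⟩

omit [Finite G] hp in
theorem not_normal {Q : Subgroup G} (hQ : F.IsNormal Q) : Q = ⊥ := le_bot_iff.1 (h.core ▸ le_core hQ)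

theorem exists_ess : ∃ R, F.IsEssential p R := by
  by_contra hcon
  push Not at hcon
  have := h.not_normal (isNormal_top_of_no_essential (h.pg.to_subgroup ⊤) h.sat hcon)
  exact h.na ⟨⟨fun a b => (mem_bot.1 (this.le (mem_top _))).trans (mem_bot.1 (this.le (mem_top _))).symm⟩⟩

theorem card_inf : Nat.card (center G ⊓ commutator G : Subgroup G) = p := by
  obtain ⟨R, hR⟩ := h.exists_ess
  obtain ⟨h1, h2⟩ := h.ess hR
  refine h2.card_center_inf_commutator ?_
  rw [inf_of_le_left fun y _ => mem_ucs_two.2 (h.comm_mem y), card_eq_of_relIndex h2.center_le h1]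

theorem extraspecial (hc : Nat.card (center G) = p) : IsExtraspecial p G ∧ Nat.card G = p ^ 3 := by
  refine ⟨S3799.extraspecial_of h.pg hc h.commutator_le (fun g => ?_) h.na, by
    rw [← (center G).card_mul_index, hc, h.idx]; ring⟩
  by_cases hg : g ∈ center G
  · exact pow_mem hg p
  have := (h.mid (R := center G ⊔ zpowers g) le_sup_left (fun e => h.na (AbM.isMulCommutative_of_top
    (e ▸ AbIdx.isMulCommutative_center_sup g))) fun e => hg (e (mem_sup_right (mem_zpowers g)))).1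
  exact this ▸ pow_relIndex_mem (center G) (mem_sup_right (mem_zpowers g))

theorem odd (hp2 : p ≠ 2) : IsExtraspecial p G ∧ Nat.card G = p ^ 3 ∧ Monoid.exponent G = p := by
  obtain ⟨R, hR⟩ := h.exists_ess
  obtain ⟨x, e, e', D, hx, hd⟩ := h.tv hR
  have h1 := center_eq_zpowers_of_odd h.pg h.sat hp2 h.core h.card_inf (fun R hR => Or.inr (h.tv hR)) hd hR.1 hx
  obtain ⟨h2, h3⟩ := h.extraspecial (by rw [h1, Nat.card_zpowers, hd.ord])
  refine ⟨h2, h3, ?_⟩
  have h4 := (S0097.result hp2 h2).2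
  have h5 : closure {x : G | x ^ p = 1} = ⊤ := by
    by_contra h5
    have h6 := PG.mul_card_le_of_lt (h.pg.to_subgroup ⊤) (Ne.lt_top h5)
    rw [card_top, h3, pow_succ'] at h6
    have := h.not_normal (normal_of_sc_of_omega_le_sq (h.pg.to_subgroup ⊤) h.sat hp2 (sc_top F)
      (fun x => ⟨fun hx => ⟨mem_top x, h4 x hx⟩, fun hx => subset_closure hx.2⟩)
      (Nat.le_of_mul_le_mul_left h6 hp.out.pos))
    exact hx (bot_le (a := R) (this.le (mem_top x)))
  refine ((Nat.dvd_prime hp.out).1 (Monoid.exponent_dvd_of_forall_pow_eq_one fun g =>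
    h4 g (h5.ge (mem_top g)))).resolve_left fun h6 => hp.out.one_lt.ne' ?_
  rw [← hd.ord, orderOf_eq_one_iff, ← pow_one e, ← h6, Monoid.pow_exponent_eq_one]

end Hyp

namespace Hyp

variable (h : Hyp 2 F)
include h

theorem eq_of_mem {R R' : Subgroup G} (hR : F.IsEssential 2 R) (hR' : F.IsEssential 2 R') {a : G}
    (ha : a ∈ R) (ha' : a ∈ R') (hZ : a ∉ center G) : R = R' := by
  have key : ∀ {R R' : Subgroup G}, F.IsEssential 2 R → F.IsEssential 2 R' → a ∈ R → a ∈ R' → R ≤ R' :=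
    fun hR hR' ha ha' y hy => by
      by_cases hyZ : y ∈ center G
      · exact (h.ess hR').2.center_le hyZ
      · simpa using mul_mem ha' ((h.ess hR').2.center_le
          (inv_mul_mem_of_relIndex_two (h.ess hR).1 ha hy hZ hyZ))
  exact le_antisymm (key hR hR' ha ha') (key hR' hR ha' ha)

theorem inv_mul_mem {R : Subgroup G} (hR : F.IsEssential 2 R) {x y : G} (hx : x ∉ R) (hy : y ∉ R) :
    x⁻¹ * y ∈ R :=
  inv_mul_mem_of_relIndex_two (A := ⊤) (by rw [relIndex_top_right, (h.ess hR).2.idx]) (mem_top x) (mem_top y) hx hy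

theorem comm_eq {R R' D D' : Subgroup G} {x e a x' e' a' : G} (hR : F.IsEssential 2 R) (hR' : F.IsEssential 2 R')
    (hne : R ≠ R') (hx : x ∉ R) (hd : TvData F 2 R (center G) x e a D)
    (hd' : TvData F 2 R' (center G) x' e' a' D') : ⁅a, a'⁆ = e := by
  refine eq_of_mem_zpowers_two hd.ord ((hd.zpowers_eq hR.1 hx h.card_inf).ge
    ⟨h.comm_mem _ _, commutator_mem_commutator (mem_top _) (mem_top _)⟩) fun e1 => hd.notMem' ?_
  exact (h.ess hR).2.mem_center hd.mem' (fun h2 => hne (h.eq_of_mem hR hR' h2 hd'.mem' hd'.notMem'))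
    (commutatorElement_eq_one_iff_mul_comm.1 e1)

theorem sq_eq {R D : Subgroup G} {x e a : G} (hR : F.IsEssential 2 R) (hd : TvData F 2 R (center G) x e a D) :
    a * a = 1 := by
  rw [← sq, ← hd.ord' le_top (h.ess hR).2.center_le, pow_orderOf_eq_one]

theorem not_three {R₁ R₂ R₃ : Subgroup G} (h₁ : F.IsEssential 2 R₁) (h₂ : F.IsEssential 2 R₂)
    (h₃ : F.IsEssential 2 R₃) (h12 : R₁ ≠ R₂) : R₃ = R₁ ∨ R₃ = R₂ := by
  by_contra hcon
  push Not at hcon
  obtain ⟨x₁, e₁, a₁, D₁, hx₁, d₁⟩ := h.tv h₁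
  obtain ⟨x₂, e₂, a₂, D₂, hx₂, d₂⟩ := h.tv h₂
  obtain ⟨x₃, e₃, a₃, D₃, hx₃, d₃⟩ := h.tv h₃
  have k1 : a₃⁻¹ * (a₁ * a₂) ∈ R₁ := h.inv_mul_mem h₁
    (fun e => hcon.1 (h.eq_of_mem h₃ h₁ d₃.mem' e d₃.notMem'))
    fun e => h12 (h.eq_of_mem h₁ h₂ ((mul_mem_cancel_left d₁.mem').1 e) d₂.mem' d₂.notMem')
  have k2 : a₃⁻¹ * (a₁ * a₂) ∈ R₂ := h.inv_mul_mem h₂
    (fun e => hcon.2 (h.eq_of_mem h₃ h₂ d₃.mem' e d₃.notMem'))
    fun e => h12 (h.eq_of_mem h₁ h₂ d₁.mem' ((mul_mem_cancel_right d₂.mem').1 e) d₁.notMem')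
  have k3 : a₃⁻¹ * (a₁ * a₂) ∈ center G := by
    by_contra e
    exact h12 (h.eq_of_mem h₁ h₂ k1 k2 e)
  obtain ⟨z, hz⟩ : ∃ z, z = a₃⁻¹ * (a₁ * a₂) := ⟨_, rfl⟩
  rw [← hz] at k3
  have k4 : z * z = e₁ := by
    have e1 : a₁ * a₂ = a₃ * z := by rw [hz]; group
    rw [← h.comm_eq h₁ h₂ h12 hx₁ d₁ d₂, commutatorElement_def, ← eq_inv_of_mul_eq_one_left (h.sq_eq h₁ d₁),
      ← eq_inv_of_mul_eq_one_left (h.sq_eq h₂ d₂), mul_assoc, e1, mul_assoc, ← mul_assoc z,
      ← mem_center_iff.1 k3 a₃, ← mul_assoc, ← mul_assoc, h.sq_eq h₃ d₃, one_mul]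
  obtain ⟨n, hn⟩ := d₁.dec z k3
  refine d₁.notMem ?_
  have k5 := mul_mem hn hn
  have k6 : e₁ ^ n * e₁ ^ n = 1 := by
    rw [← sq, ← zpow_natCast, ← zpow_mul, mul_comm, zpow_mul, zpow_natCast, ← d₁.ord, pow_orderOf_eq_one, one_zpow]
  rwa [mul_assoc, ← mul_assoc _ z, mem_center_iff.1 k3, mul_assoc, k6, mul_one, k4] at k5

theorem exists_ne {R : Subgroup G} (hR : F.IsEssential 2 R) : ∃ R', F.IsEssential 2 R' ∧ R ≠ R' := by
  by_contra hcon
  push Not at hcon
  have := h.not_normal (normal_of_autInv (Q := R) (h.pg.to_subgroup ⊤) h.sat (by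
    rintro R' (rfl | hR')
    · exact ⟨le_top, fun γ hγ y _ hy => (hcon _ (essential_img_aut hγ hR)).ge (mem_img_of_mem _ hy)⟩
    · exact ⟨(hcon _ hR').le, autInv_of_le _ (hcon _ hR').ge⟩))
  obtain ⟨x, e, a, D, -, d⟩ := h.tv hR
  exact d.notMem' (bot_le (a := center G) (this.le d.mem'))

theorem stab {R : Subgroup G} (hR : F.IsEssential 2 R) {α : MulAut (⊤ : Subgroup G)} (hα : α ∈ F.autGroup ⊤)
    (hc : (orderOf α).Coprime 2) : α ∈ stabAut ⊤ R := by
  have hm := mor_autFun le_rfl hα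
  by_contra hcon
  rw [mem_stabAut_iff_img le_top] at hcon
  have e : img (autFun (α ^ 2)) R = img (autFun α) (img (autFun α) R) := by
    rw [← (hm.isHomOn.mono le_top).img_comp, sq]
    exact img_congr fun x _ => autFun_mul _ _ (mem_top x)
  rcases h.not_three hR (essential_img_aut hα hR) (essential_img_aut (pow_mem hα 2) hR) (Ne.symm hcon) with h1 | h1
  · exact hcon ((mem_stabAut_iff_img le_top).1 (zpowers_le.2 ((mem_stabAut_iff_img le_top).2 h1)
      (mem_zpowers_pow_iff.2 hc.symm)))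
  · rw [e] at h1
    exact hcon (le_antisymm ((hm.img_le_img_iff le_top le_top).1 h1.le) ((hm.img_le_img_iff le_top le_top).1 h1.ge))

theorem two (hhyp : F.hyperfocalSubgroup 2 = ⊤) :
    IsExtraspecial 2 G ∧ Nat.card G = 2 ^ 3 ∧ Nonempty (G ≃* DihedralGroup 4) := by
  obtain ⟨R₁, h₁⟩ := h.exists_ess
  obtain ⟨R₂, h₂, h12⟩ := h.exists_ne h₁
  obtain ⟨x₁, e, a₁, D₁, hx₁, d₁⟩ := h.tv h₁
  obtain ⟨x₂, e₂, a₂, D₂, hx₂, d₂⟩ := h.tv h₂
  have he := d₁.zpowers_eq h₁.1 hx₁ h.card_inf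
  rw [inf_of_le_right h.commutator_le] at he
  have he1 : e ≠ 1 := fun e1 => d₁.notMem (e1 ▸ one_mem _)
  obtain rfl : e₂ = e := eq_of_mem_zpowers_two d₁.ord (he.ge (d₂.mem_commutator h₂.1 (mem_top _) hx₂))
    fun e1 => d₂.notMem (e1 ▸ one_mem _)
  have hD : ∀ z ∈ D₁, z ∈ D₂ → z = 1 := fun z k1 k2 => by
    by_contra h1
    obtain ⟨R, hR, k, hk, h2⟩ := exists_essential_of_core_eq_bot h.pg h.sat h.core (d₁.le k1) h1
    rcases h.not_three h₁ h₂ hR h12 with rfl | rfl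
    · exact h2 (((d₁.memD z).1 k1).2 k hk)
    · exact h2 (((d₂.memD z).1 k2).2 k hk)
  have hI : ∀ {R D : Subgroup G} {x a : G}, TvData F 2 R (center G) x e₂ a D → ∀ z ∈ center G, ∀ w ∈ center G,
      z ∉ D → w ∉ D → z⁻¹ * w ∈ D := fun {R D x a} d z hz w hw k1 k2 => by
    obtain ⟨n, hn⟩ := d.dec z hz
    obtain ⟨m, hm⟩ := d.dec w hw
    rw [eq_of_mem_zpowers_two d.ord (zpow_mem_zpowers e₂ n) fun e1 => k1 (by rwa [e1, mul_one] at hn)] at hn
    rw [eq_of_mem_zpowers_two d.ord (zpow_mem_zpowers e₂ m) fun e1 => k2 (by rwa [e1, mul_one] at hm)] at hm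
    have := mul_mem (inv_mem hn) hm
    rwa [mem_center_iff.1 d.mem, mem_center_iff.1 d.mem w, mul_inv_rev, mul_assoc, inv_mul_cancel_left] at this
  have hU : ∀ {D D' R' : Subgroup G} {x a : G}, D ≤ center G → TvData F 2 R' (center G) x e₂ a D' →
      (∀ z ∈ D, z ∈ D' → z = 1) → ∀ z ∈ D, ∀ w ∈ D, z ≠ 1 → w ≠ 1 → z = w :=
    fun {D D' R' x a} hle d hD z hz w hw k1 k2 => inv_mul_eq_one.1 (hD _ (mul_mem (inv_mem hz) hw)
      (hI d z (hle hz) w (hle hw) (fun e1 => k1 (hD z hz e1)) fun e1 => k2 (hD w hw e1)))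
  have hc := h.comm_eq h₁ h₂ h12 hx₁ d₁ d₂
  let M := closure ({a₁, a₂} : Set G)
  have m₁ : a₁ ∈ M := subset_closure (by simp)
  have m₂ : a₂ ∈ M := subset_closure (by simp)
  have hM : zpowers e₂ ≤ M := zpowers_le.2 (hc ▸ mul_mem (mul_mem (mul_mem m₁ m₂) (inv_mem m₁)) (inv_mem m₂))
  haveI : M.Normal := Subgroup.Normal.of_commutator_le _ (he ▸ hM)
  have hess : ∀ {R D : Subgroup G} {x a : G}, F.IsEssential 2 R → TvData F 2 R (center G) x e₂ a D → a ∈ M →
      (∀ z ∈ D, ∀ w ∈ D, z ≠ 1 → w ≠ 1 → z = w) → ∀ α ∈ F.autGroup R, ∀ y ∈ R, y⁻¹ * autFun α y ∈ M :=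
    fun {R D x a} hR d ha hu α hα y hy => by
      have hZ := (h.ess hR).2.center_le
      have hm := mor_autFun le_top hα
      have hV : zpowers e₂ ⊔ zpowers a ≤ M := sup_le hM (zpowers_le.2 ha)
      have k1 : ∀ z ∈ center G, z⁻¹ * autFun α z ∈ M := fun z hz => by
        obtain ⟨n, hn⟩ := d.dec z hz
        have k2 : autFun α (z * e₂ ^ n) = z * e₂ ^ n := by
          by_cases e1 : z * e₂ ^ n = 1
          · rw [e1, hm.map_one]
          · exact hu _ (d.autInv α hα _ (hZ (d.le hn)) hn) _ hn (mt (hm.eq_one_iff (hZ (d.le hn))).1 e1) e1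
        rw [hm.map_mul (hZ hz) (zpow_mem (hZ d.mem) n), hm.map_zpow (hZ d.mem), ← eq_mul_inv_iff_mul_eq] at k2
        rw [k2, mul_assoc, inv_mul_cancel_left]
        exact mul_mem (hM (zpow_mem_zpowers _ _)) (inv_mem (zpow_mem (hV (d.orb α hα)) n))
      by_cases hyZ : y ∈ center G
      · exact k1 y hyZ
      have k2 := inv_mul_mem_of_relIndex_two (h.ess hR).1 d.mem' hy d.notMem' hyZ
      have k3 := k1 _ k2
      obtain ⟨g, hg, k4⟩ := d.conj
      have k5 : autFun α a ∈ M := by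
        rw [← k4, ← autFun_mul _ _ (hZ d.mem)]; exact hV (d.orb _ (mul_mem hα hg))
      rw [hm.map_mul (inv_mem d.mem') hy, hm.map_inv d.mem', ← QuotientGroup.eq] at k3
      rw [← QuotientGroup.eq]
      simpa [(QuotientGroup.eq_one_iff _).2 ha, (QuotientGroup.eq_one_iff _).2 k5] using k3
  have hMt : M = ⊤ := top_le_iff.1 (hhyp ▸ hyperfocal_le_of_essential (h.pg.to_subgroup ⊤) h.sat
    (normalizer_eq_top M).ge (by
      rintro R (rfl | hR) α hα hco y hy
      · have hm := mor_autFun le_rfl hα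
        have k1 : ∀ {R : Subgroup G}, F.IsEssential 2 R → ∀ y, y⁻¹ * autFun α y ∈ R := fun {R} hR y => by
          have := h.stab hR hα hco y (mem_top y)
          by_cases hy : y ∈ R
          · exact mul_mem (inv_mem hy) (this.2 hy)
          · exact h.inv_mul_mem hR hy (mt this.1 hy)
        refine inv_mul_mem_of_coprime (Q := center G) (h.pg.to_subgroup ⊤) hco
          (le_top.trans (normalizer_eq_top M).ge) (fun y _ => ?_) (fun z _ hz => hM ?_) hy
        · by_contra e1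
          exact h12 (h.eq_of_mem h₁ h₂ (k1 h₁ y) (k1 h₂ y) e1)
        have k2 : autFun α z ∈ zpowers e₂ ↔ z ∈ zpowers e₂ := he ▸ hm.mem_iff_of_char _
        by_cases hze : z ∈ zpowers e₂
        · exact mul_mem (inv_mem hze) (k2.2 hze)
        obtain ⟨n, hn⟩ := d₁.dec z hz
        obtain ⟨m, hm'⟩ := d₁.dec _ ((hm.mem_iff_of_char _).2 hz)
        have k3 := hU d₁.le d₂ hD _ hn _ hm'
          (fun e1 => hze (eq_inv_of_mul_eq_one_left e1 ▸ inv_mem (zpow_mem_zpowers _ _)))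
          fun e1 => hze (k2.1 (eq_inv_of_mul_eq_one_left e1 ▸ inv_mem (zpow_mem_zpowers _ _)))
        rw [← mul_inv_eq_iff_eq_mul] at k3
        rw [← k3, mul_assoc, inv_mul_cancel_left]
        exact mul_mem (zpow_mem_zpowers _ _) (inv_mem (zpow_mem_zpowers _ _))
      · rcases h.not_three h₁ h₂ hR h12 with rfl | rfl
        · exact hess h₁ d₁ m₁ (hU d₁.le d₂ hD) α hα y hy
        · exact hess h₂ d₂ m₂ (hU d₂.le d₁ fun z k1 k2 => hD z k2 k1) α hα y hy))
  have o₁ := d₁.ord' le_top (h.ess h₁).2.center_le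
  have o₂ := d₂.ord' le_top (h.ess h₂).2.center_le
  have k1 : (a₁ * a₂) ^ 2 = e₂ := by
    rw [← hc, commutatorElement_def, ← eq_inv_of_mul_eq_one_left (h.sq_eq h₁ d₁),
      ← eq_inv_of_mul_eq_one_left (h.sq_eq h₂ d₂), sq, mul_assoc (a₁ * a₂)]
  have k2 : orderOf (a₁ * a₂) = 4 := orderOf_eq_prime_pow (p := 2) (n := 1) (by rwa [pow_one, k1]) (by
    rw [show 2 ^ (1 + 1) = 2 * 2 from rfl, pow_mul, k1, ← d₁.ord, pow_orderOf_eq_one])
  obtain ⟨φ⟩ := S0206.result a₁ a₂ o₁ o₂ fun e1 => h12 (h.eq_of_mem h₁ h₂ d₁.mem' (e1 ▸ d₂.mem') d₁.notMem')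
  rw [k2] at φ
  have ψ : G ≃* DihedralGroup 4 := (topEquiv.symm.trans (MulEquiv.subgroupCongr hMt.symm)).trans φ
  have k3 : Nat.card G = 2 ^ 3 := by rw [Nat.card_congr ψ.toEquiv, DihedralGroup.nat_card]; rfl
  exact ⟨(h.extraspecial (PG.card_center_of_cube k3 h.na).1).1, k3, ⟨ψ⟩⟩

end Hyp

theorem hyp_of [Nontrivial G] (hG : IsPGroup p G) (hF : F.IsSaturated p) (hcore : F.core = ⊥)
    (hZ : (center G).index ≤ p ^ 2) : Hyp p F := by
  have hna : ¬ IsMulCommutative G := fun hab => top_ne_bot (le_bot_iff.1 (hcore ▸ le_core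
    (normal_of_sc_of_comm (hG.to_subgroup ⊤) hF (sc_top F) fun x _ y _ => mul_comm' y x)))
  refine ⟨hG, hF, hcore, hna, ?_⟩
  obtain ⟨k, hk⟩ := hG.index (center G)
  have h1 : k ≤ 2 := (Nat.pow_le_pow_iff_right hp.out.one_lt).1 (hk ▸ hZ)
  interval_cases k
  · exact absurd ⟨⟨fun a b => mem_center_iff.1 ((index_eq_one.1 hk).ge (mem_top b)) a⟩⟩ hna
  · exact absurd (AbM.isMulCommutative_of_top (AbM.isMulCommutative_of_relIndex_prime hp.out
      (fun z hz y _ => mem_center_iff.1 hz y) (by rw [relIndex_top_right, hk, pow_one]))) hna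
  · exact hk

end

open CL CL.Fus

/-- Let p be a prime, S a nontrivial finite p-group whose centre has index at most p², and F a saturated fusion system over S with no nontrivial normal subgroup and with hyperfocal subgroup equal to S. Then S is extraspecial of order p³; for odd p it has exponent p, and for p = 2 it is dihedral of order 8. -/
theorem result {Ω : Type*} [Group Ω] {S : Subgroup Ω} [Finite S] (p : ℕ) [Fact p.Prime] (hS : IsPGroup p ↥S) (F : Cfsg.FusionSystem S) (hF : F.IsSaturated p) (hS1 : S ≠ ⊥) (hcore : F.core = ⊥) (hhyp : F.hyperfocalSubgroup p = S) (hZ : (Subgroup.center ↥S).index ≤ p ^ 2) : Cfsg.IsExtraspecial p ↥S ∧ Nat.card S = p ^ 3 ∧ (p ≠ 2 → Monoid.exponent ↥S = p) ∧ (p = 2 → Nonempty (↥S ≃* DihedralGroup 4)) := by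
  obtain ⟨e, F', h, he⟩ := exists_corr_top F
  haveI := (Subgroup.nontrivial_iff_ne_bot S).2 hS1
  have H := hyp_of hS (h.isSaturated hF) (h.core_eq_bot_iff.2 hcore) hZ
  by_cases hp : p = 2
  · subst hp
    obtain ⟨h1, h2, h3⟩ := H.two (h.hyperfocal_eq_top_iff.2 hhyp)
    exact ⟨h1, h2, fun e => absurd rfl e, fun _ => h3⟩
  · obtain ⟨h1, h2, h3⟩ := H.odd hp
    exact ⟨h1, h2, fun _ => h3, fun e => absurd e hp⟩

end Cfsg.Agent.S5265
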