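import Cfsg.Statements.S5179
import Cfsg.Agent.FUS.SuperSol

set_option autoImplicit false
universe u
open Cfsg

namespace Cfsg.Agent.S5179

open CL CL.Fus

/-- Let p be an odd prime, S a finite p-group of order at least p⁶ containing an extraspecial subgroup Q of index p, and F a saturated fusion system over S whose largest subgroup normal in F is trivial. Then no proper subgroup of Q is essential in F: an essential subgroup of F contained in Q equals Q. -/
theorem result {Ω : Type u} [Group Ω] {S : Subgroup Ω} [Finite S] (p : ℕ) [Fact p.Prime] (hp : Odd p) (hS : IsPGroup p S)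
    (Q : Subgroup Ω) (hQS : Q ≤ S) (hQ : Cfsg.IsExtraspecial p ↥Q) (hQi : (Q.subgroupOf S).index = p)
    (h6 : p ^ 6 ≤ Nat.card S)
    (F : Cfsg.FusionSystem S) (hF : F.IsSaturated p) (hO : F.core = ⊥)
    (E : Subgroup Ω) (hEQ : E ≤ Q) (hE : F.IsEssential p E) : E = Q := by
  haveI := Fus.finite_of_le hQS
  have h : GenES p Q := ⟨hQ.1.1, hQ.1.2.1.trans hQ.1.2.2.symm, hQ.1.2.2 ▸ hQ.2⟩
  have hc := centralizerIn_le_of_isCentric hE.1
  have hZ : ⁅Q, Q⁆ ≤ Subgroup.centralizer (Q : Set Ω) := by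
    rw [← Subgroup.map_subtype_commutator]
    rintro _ ⟨z, hz, rfl⟩ y hy
    exact congrArg Subtype.val (Subgroup.mem_center_iff.1 (h.le_center hz) ⟨y, hy⟩)
  have hQQ : ⁅Q, Q⁆ ≤ Q := (Subgroup.commutator_le_sup Q Q).trans (sup_idem Q).le
  have hZE : ⁅Q, Q⁆ ≤ E := fun z hz => hc ⟨hQS (hQQ hz), fun y hy => hZ hz y (hEQ hy)⟩
  have hQE : ⁅Q, E⁆ ≤ ⁅Q, Q⁆ := Subgroup.commutator_mono le_rfl hEQ
  by_contra hne
  obtain ⟨x, hx, hxE⟩ := SetLike.exists_of_lt (lt_of_le_of_ne hEQ hne)
  by_cases hab : IsMulCommutative E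
  · have hn : Q ≤ Subgroup.normalizer (E : Set Ω) :=
      Subgroup.le_normalizer_iff_commutator_le_right.2 (hQE.trans hZE)
    have hxZ : (⟨x, hx⟩ : Q) ∉ Subgroup.center Q := fun e => hxE (hc ⟨hQS hx, fun y hy =>
      congrArg Subtype.val (Subgroup.mem_center_iff.1 e ⟨y, hEQ hy⟩)⟩)
    haveI := PG.normal_of_index_eq h.pg (h.index_centralizer hxZ)
    have h1 : (E ⊓ Subgroup.centralizer {x}).relIndex E = p := by
      have e : (Subgroup.centralizer {x}).subgroupOf Q = Subgroup.centralizer {(⟨x, hx⟩ : Q)} := by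
        ext y; simp [Subgroup.mem_subgroupOf, Subgroup.mem_centralizer_singleton_iff, Subtype.ext_iff]
      rw [Subgroup.inf_relIndex_left, ← Subgroup.relIndex_subgroupOf hEQ, e]
      refine ((Nat.dvd_prime Fact.out).1 (h.index_centralizer hxZ ▸
        Subgroup.relIndex_dvd_index_of_normal _ _)).resolve_left fun e1 => hxE (hc ⟨hQS hx, fun y hy => ?_⟩)
      exact congrArg Subtype.val (Subgroup.mem_centralizer_singleton_iff.1
        (Subgroup.relIndex_eq_one.1 e1 (show (⟨y, hEQ hy⟩ : Q) ∈ E.subgroupOf Q from hy)))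
    have h2 := (exists_tvData hS hF hE hab inf_le_left h1 (hQS hx) (hn hx) hxE fun z hz =>
      (Subgroup.mem_centralizer_singleton_iff.1 hz.2).symm).1
    rw [← Subgroup.relIndex_mul_relIndex _ Q (FusionSystem.normalizerIn S E) hEQ (le_inf hQS hn)] at h2
    have h3 : (E.subgroupOf Q).index = p := ((Nat.dvd_prime Fact.out).1 (Dvd.intro _ h2)).resolve_left fun e =>
      hxE (Subgroup.relIndex_eq_one.1 e hx)
    have hA : AbIdx p (E.subgroupOf Q) := ⟨h.pg, h.na, inferInstance, h3⟩
    rw [← (Q.subgroupOf S).card_mul_index, hQi, Nat.card_congr (Subgroup.subgroupOfEquivOfLe hQS).toEquiv,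
      ← (E.subgroupOf Q).card_mul_index, h3, card_eq_of_relIndex hA.center_le (h.relIndex_center hA), hQ.2] at h6
    have := Nat.pow_lt_pow_right (Fact.out : p.Prime).one_lt (show 4 < 6 by norm_num)
    nlinarith
  haveI : Finite (⁅Q, Q⁆ : Subgroup Ω) := Fus.finite_of_le hQQ
  have h1 : ⁅E, E⁆ = ⁅Q, Q⁆ := by
    have hcard : Nat.card (⁅Q, Q⁆ : Subgroup Ω) = p := by
      rw [← Subgroup.map_subtype_commutator, Subgroup.card_map_of_injective Q.subtype_injective, h.card]
    have hle := Subgroup.commutator_mono hEQ hEQ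
    refine Subgroup.eq_of_le_of_card_ge hle (hcard.le.trans (((Nat.dvd_prime Fact.out).1
      (hcard ▸ Subgroup.card_dvd_of_le hle)).resolve_left fun e => hab ?_).ge)
    exact Subgroup.le_centralizer_iff_isMulCommutative.1
      (Subgroup.commutator_eq_bot_iff_le_centralizer.1 (Subgroup.card_eq_one.1 e))
  have hi : AutInv (F.autGroup E) ⁅Q, Q⁆ := h1 ▸ Subgroup.map_subtype_commutator E ▸ autInv_map_of_char _ _
  exact hxE (le_of_radical_of_chain hS hc (isRadical_of_essential hS hF hE) hQS (hEQ.trans Subgroup.le_normalizer)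
    (fun y hy hn => ⟨E, le_rfl, (Relation.ReflTransGen.single (stabStep_of_commutator (autInv_bot _) hi
      (Subgroup.commutator_eq_bot_iff_le_centralizer.2 (Subgroup.le_centralizer_iff.1 hZ)).le hy hn)).tail
      (stabStep_of_commutator hi (autInv_of_le _ le_rfl) hQE hy hn)⟩) hx)

end Cfsg.Agent.S5179
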