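import Cfsg.Statements.S3204
import Cfsg.Agent.SOLV.RuG3

set_option autoImplicit false
open Cfsg

namespace Cfsg.Agent.S3204

/-- Let G be a finite group whose Sylow 2-subgroup T has order at least 2^14 with the fourth term of its upper central series of order 16; let W be the centralizer in T of the third term, and suppose the Frattini subgroup of W has order at most 8 and lies in every subgroup of W of index at most 16. Suppose G has no subgroup of index 2, and write W′ for the derived subgroup of W. Then the normalizer of W′ is the product of the normalizer of W with the largest normal odd-order subgroup of the normalizer of W′, and the normalizer N of W has N/(O(N)W) isomorphic to GL(3, 2). -/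
theorem result {G : Type*} [Group G] [Finite G]
    (T : Sylow 2 G) (ha : 2 ^ 14 ≤ Nat.card ↥(T : Subgroup G))
    (hb : Nat.card ↥(Subgroup.upperCentralSeries ↥(T : Subgroup G) 4) = 16)
    (W : Subgroup ↥(T : Subgroup G))
    (hW : W = Subgroup.centralizer ((Subgroup.upperCentralSeries ↥(T : Subgroup G) 3 : Subgroup ↥(T : Subgroup G)) : Set ↥(T : Subgroup G)))
    (hc : Nat.card ↥(frattini ↥W) ≤ 8)
    (hd : ∀ U : Subgroup ↥W, U.index ≤ 16 → frattini ↥W ≤ U)
    (h2 : ∀ H : Subgroup G, H.index ≠ 2)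
    (WG D N M : Subgroup G) (hWG : WG = W.map (T : Subgroup G).subtype)
    (hDW : D = ((commutator ↥W).map W.subtype).map (T : Subgroup G).subtype)
    (hN : N = Subgroup.normalizer (WG : Set G)) (hM : M = Subgroup.normalizer (D : Set G)) :
    (N.subgroupOf M ⊔ Cfsg.oddCore ↥M = ⊤) ∧
      ∃ (_ : (WG.subgroupOf N ⊔ Cfsg.oddCore ↥N).Normal),
        Nonempty (↥N ⧸ (WG.subgroupOf N ⊔ Cfsg.oddCore ↥N) ≃* GL (Fin 3) (ZMod 2)) := by
  haveI : Fact (Nat.Prime 2) := ⟨Nat.prime_two⟩
  haveI := CL.RuG.simple_gl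
  have h := CL.RuT.Ru.mk' T.isPGroup' ha hb hW hc hd
  haveI := h.nW
  have hD3 : D = (CL.RuT.Z (T : Subgroup G) 3).map (T : Subgroup G).subtype := by
    rw [hDW, Subgroup.map_subtype_commutator, h.der]
  have hDH : D = ⁅WG, WG⁆ := by
    rw [hDW, Subgroup.map_subtype_commutator, hWG, Subgroup.map_commutator]
  have hno := CL.RuG.no2 T h h2 (M := M) (hD3 ▸ hM)
  have hNM : N ≤ M := fun n hn => by
    rw [hN] at hn
    rw [hM, hDH, Subgroup.mem_normalizer_iff_map_conj_eq, Subgroup.map_commutator,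
      Subgroup.mem_normalizer_iff_map_conj_eq.1 hn]
  have hTN : (T : Subgroup G) ≤ N := fun g hg => by
    rw [hN, hWG]
    refine Subgroup.mem_normalizer_fintype ?_
    rintro _ ⟨z, hz, rfl⟩
    exact ⟨_, h.cj hz ⟨g, hg⟩, rfl⟩
  obtain ⟨C, hC⟩ : ∃ C, C = Subgroup.centralizer (D : Set G) := ⟨_, rfl⟩
  have hTC : (T : Subgroup G) ⊓ C = WG := by
    rw [hC, hD3, hWG]
    refine le_antisymm (fun x hx => ⟨⟨x, hx.1⟩, h.hW.ge fun z hz => Subtype.ext (hx.2 z ⟨z, hz, rfl⟩), rfl⟩) ?_
    rintro _ ⟨w, hw, rfl⟩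
    refine Subgroup.mem_inf.2 ⟨w.2, ?_⟩
    rintro _ ⟨z, hz, rfl⟩
    exact congrArg Subtype.val (h.hW.le hw z hz)
  have hMC : M ≤ Subgroup.normalizer (C : Set G) := hM ▸ hC ▸ CL.normalizer_le_normalizer_centralizer D
  have hCM : C ≤ M := hM ▸ hC ▸ Subgroup.centralizer_le_normalizer _
  have hS : CL.MSS.SylIn 2 WG C :=
    hTC ▸ (CL.MSS.sylIn_sylow T (hTN.trans hNM)).inf_normal_of_le hMC hCM
  obtain ⟨ψ, hψ⟩ := CL.EAGL.exists_hom_gl (V := D) (p := 2) (n := 3)
    (fun x y => Subtype.ext (by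
      have h1 : WG ≤ C := hS.le
      rw [hC] at h1
      exact h1 (hWG ▸ Subgroup.map_mono h.ZW (hD3 ▸ y.2)) x x.2))
    (fun x => Subtype.ext (by
      obtain ⟨z, hz, e⟩ := hD3.le x.2
      rw [Subgroup.coe_pow, ← e, pow_two, ← map_mul, h.elem hz]; rfl))
    (by rw [hD3, Subgroup.card_map_of_injective (T : Subgroup G).subtype_injective, h.c3]; norm_num)
  subst hM hN
  let φ := ψ.comp D.normalizerMonoidHom
  have hk : φ.ker = C.subgroupOf _ := by
    rw [← MonoidHom.comap_ker, (MonoidHom.ker_eq_bot_iff ψ).2 hψ, MonoidHom.comap_bot,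
      Subgroup.normalizerMonoidHom_ker, hC]
  have hφ : Function.Surjective φ := CL.RuG.surj_gl hno φ (by
    refine dvd_trans ?_ (Subgroup.card_dvd_of_le
      (Subgroup.map_le_range φ ((T : Subgroup G).subgroupOf _)))
    rw [← Subgroup.relIndex_ker, hk, Subgroup.relIndex_subgroupOf (hTN.trans hNM),
      ← Subgroup.inf_relIndex_left, hTC, hWG, Subgroup.relIndex, Subgroup.subgroupOf,
      Subgroup.comap_map_eq_self_of_injective (T : Subgroup G).subtype_injective, h.main.2.1])
  let φN := φ.comp (Subgroup.inclusion hNM)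
  have hkN : φN.ker = C.subgroupOf _ := by rw [← MonoidHom.comap_ker, hk]; rfl
  have hφN : Function.Surjective φN := fun A => by
    obtain ⟨m, rfl⟩ := hφ A
    obtain ⟨c, hc, y, hy, e⟩ := hS.frattini (hMC m.2)
    refine ⟨⟨y, hy⟩, ?_⟩
    rw [show m = ⟨c, hCM hc⟩ * ⟨y, hNM hy⟩ from Subtype.ext e, map_mul,
      MonoidHom.mem_ker.1 (hk.ge (show (⟨c, hCM hc⟩ : Subgroup.normalizer (D : Set G)) ∈ C.subgroupOf _
        from hc)), one_mul]
    rfl
  have hnpc : Cfsg.HasNormalPComplement 2 C := CL.RuG.npc_cent hS (by rw [hC, hDH])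
    fun c hc hn w hw => CL.RuG.cent_triv h hWG hS φN hφN hkN hc hn hw
  refine ⟨eq_top_iff.2 fun m _ => ?_, ?_⟩
  · haveI : (C.subgroupOf (Subgroup.normalizer (D : Set G))).Normal := hk ▸ inferInstance
    have h1 := CL.RuG.le_sup_core (CL.hasNPC_of_equiv hnpc (Subgroup.subgroupOfEquivOfLe hCM).symm)
      (hS.subgroupOf hCM)
    obtain ⟨c, hc, y, hy, e⟩ := hS.frattini (hMC m.2)
    rw [show m = ⟨c, hCM hc⟩ * ⟨y, hNM hy⟩ from Subtype.ext e]
    exact mul_mem (sup_le_sup_right (Subgroup.subgroupOf_mono _ Subgroup.le_normalizer) _ (h1 hc))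
      (Subgroup.mem_sup_left hy)
  · have e : WG.subgroupOf (Subgroup.normalizer (WG : Set G)) ⊔ Cfsg.oddCore _ = φN.ker := by
      refine le_antisymm (sup_le (hkN ▸ Subgroup.subgroupOf_mono _ hS.le) ?_) ?_
      · rcases ((inferInstance : (Cfsg.oddCore _).Normal).map φN hφN).eq_bot_or_eq_top with e | e
        · exact (Subgroup.map_eq_bot_iff _).1 e
        · have := CL.Rec.odd_card_oddCore.of_dvd_nat (Subgroup.card_map_dvd _ φN)
          rw [e, Subgroup.card_top, CL.RuG.card_gl] at this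
          exact absurd this (by decide)
      · rw [hkN, ← Subgroup.inf_subgroupOf_right C]
        haveI : ((C ⊓ Subgroup.normalizer (WG : Set G)).subgroupOf
            (Subgroup.normalizer (WG : Set G))).Normal := by
          rw [Subgroup.inf_subgroupOf_right, ← hkN]; infer_instance
        exact CL.RuG.le_sup_core (CL.hasNPC_of_equiv (CL.hasNPC_of_le hnpc inf_le_left)
          (Subgroup.subgroupOfEquivOfLe inf_le_right).symm)
          ((hS.inf_of_le Subgroup.le_normalizer).subgroupOf inf_le_right)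
    refine ⟨e ▸ inferInstance, ⟨(QuotientGroup.quotientMulEquivOfEq e).trans
      (QuotientGroup.quotientKerEquivOfSurjective φN hφN)⟩⟩

end Cfsg.Agent.S3204
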