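import Cfsg.Statements.S2177
import Cfsg.Agent.CHEV.Inv2G2

set_option autoImplicit false
open Cfsg

namespace Cfsg.Agent.S2177

open CL.Chev Cfsg.Lie

/-- Conjugacy classes of involutions in the Chevalley group of type G₂ over a finite field F of characteristic two with at least four elements (the matrix group generated by the root elements x_r(t)). In this problem's root numbering for type G₂ (the Chevalley data module; p₁ = a short, p₂ = b long; roots indexed by coefficient vectors in increasing order) let 11 be the highest root 3a + 2b (long) and 9 the short root 2a + b; consider x_{3a+2b}(1) and x_{2a+b}(1). Then: each invertible matrix equal to one of these two products lies in the group and has order 2; every element of order 2 of the group is conjugate in the group to one of them; and no two of them are conjugate in the group (so, the two matrices being distinct, the group has exactly two conjugacy classes of involutions). -/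
theorem result {F : Type*} [Field F] [Fintype F] [CharP F 2] (hF : 4 ≤ Fintype.card F) :
    (∀ y : GL Cfsg.Lie.chevG2.Idx F, ((y : GL Cfsg.Lie.chevG2.Idx F) : Matrix Cfsg.Lie.chevG2.Idx Cfsg.Lie.chevG2.Idx F) ∈ [Cfsg.Lie.chevG2.x F 11 1, Cfsg.Lie.chevG2.x F 9 1] → y ∈ Cfsg.Lie.chevG2.group F ∧ orderOf y = 2) ∧
    (∀ g ∈ Cfsg.Lie.chevG2.group F, orderOf g = 2 → ∃ y ∈ Cfsg.Lie.chevG2.group F, ((y : GL Cfsg.Lie.chevG2.Idx F) : Matrix Cfsg.Lie.chevG2.Idx Cfsg.Lie.chevG2.Idx F) ∈ [Cfsg.Lie.chevG2.x F 11 1, Cfsg.Lie.chevG2.x F 9 1] ∧ ∃ h ∈ Cfsg.Lie.chevG2.group F, h * g * h⁻¹ = y) ∧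
    (∀ y₁ ∈ Cfsg.Lie.chevG2.group F, ∀ y₂ ∈ Cfsg.Lie.chevG2.group F, ((y₁ : GL Cfsg.Lie.chevG2.Idx F) : Matrix Cfsg.Lie.chevG2.Idx Cfsg.Lie.chevG2.Idx F) ∈ [Cfsg.Lie.chevG2.x F 11 1, Cfsg.Lie.chevG2.x F 9 1] → ((y₂ : GL Cfsg.Lie.chevG2.Idx F) : Matrix Cfsg.Lie.chevG2.Idx Cfsg.Lie.chevG2.Idx F) ∈ [Cfsg.Lie.chevG2.x F 11 1, Cfsg.Lie.chevG2.x F 9 1] →
      (∃ h ∈ Cfsg.Lie.chevG2.group F, h * y₁ * h⁻¹ = y₂) → ((y₁ : GL Cfsg.Lie.chevG2.Idx F) : Matrix Cfsg.Lie.chevG2.Idx Cfsg.Lie.chevG2.Idx F) = ((y₂ : GL Cfsg.Lie.chevG2.Idx F) : Matrix Cfsg.Lie.chevG2.Idx Cfsg.Lie.chevG2.Idx F)) := by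
  refine inv_classes (rk := [([11], 6), ([9], 6)]) (by decide +kernel) exists_rep_G2 (fun e he e' he' h g hg c => ?_)
    (by simp)
  have key : ∀ g ∈ (stData chevG2 F).grp, g * (stData chevG2 F).tL [9] * g⁻¹ ≠ (stData chevG2 F).tL [11] :=
    fun g hg c => by
      simp only [StData.tL, List.map_cons, List.map_nil, List.prod_cons, List.prod_nil, mul_one] at c
      obtain ⟨w, hw, e⟩ := stData_good.exists_W_of_conj (r := ⟨9, by decide⟩) (r' := ⟨11, by decide⟩)
        (isPos_iff_mem_posL.2 (by decide)) (isPos_iff_mem_posL.2 (by decide))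
        (fun s hs => stData_exact.comm_of_chkAll (CharP.cast_eq_zero F 2) (A := [11]) (by decide +kernel) (by simp)
          (isPos_iff_mem_posL.1 hs)) hg one_ne_zero c
      have := RootSys.W_len hw ⟨9, by decide⟩
      rw [e, rootSys_len, rootSys_len] at this
      exact absurd this (by decide +kernel)
  rcases (by decide : ∀ e ∈ [([11], 6), ([9], 6)], ∀ e' ∈ [([11], 6), ([9], 6)], e = e' ∨ (e.1 = [9] ∧ e'.1 = [11]) ∨
    (e.1 = [11] ∧ e'.1 = [9])) e he e' he' with h | ⟨h1, h2⟩ | ⟨h1, h2⟩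
  · exact h
  · exact absurd (h1 ▸ h2 ▸ c) (key g hg)
  · rw [h1, h2] at c
    exact absurd (by rw [← c]; group) (key g⁻¹ (inv_mem hg))

end Cfsg.Agent.S2177
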