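import Cfsg.Statements.S2180
import Cfsg.Agent.CHEV.CentChk2

set_option autoImplicit false
open Cfsg

namespace Cfsg.Agent.S2180

open CL.Chev Cfsg.Lie

/-- Centralizers of involutions in the Chevalley group G of type G₂ over a finite field F of characteristic two with at least four elements (this problem's root numbering for type G₂, from the Chevalley data module: a = p₁ short with index 7, b = p₂ long with index 6, −a = 4, −b = 5, 2a + b = 9, 3a + b = 10, 3a + 2b = 11; U generated by the positive root subgroups). For an element z of G with matrix x_{3a+2b}(1): the centralizer of z in G is generated by U and X_{−a}. For an element t of G with matrix x_{2a+b}(1): the centralizer of t in G is generated by X_{2a+b}, X_{3a+b}, X_{3a+2b}, X_b and X_{−b}. -/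
theorem result {F : Type*} [Field F] [Fintype F] [CharP F 2] (hF : 4 ≤ Fintype.card F) (z t : GL Cfsg.Lie.chevG2.Idx F) (hz : (z : Matrix Cfsg.Lie.chevG2.Idx Cfsg.Lie.chevG2.Idx F) = Cfsg.Lie.chevG2.x F 11 1) (ht : (t : Matrix Cfsg.Lie.chevG2.Idx Cfsg.Lie.chevG2.Idx F) = Cfsg.Lie.chevG2.x F 9 1) :
    Cfsg.Lie.chevG2.group F ⊓ Subgroup.centralizer {z} = Cfsg.Lie.chevG2.posUnipotent F ⊔ Cfsg.Lie.chevG2.rootSubgroup F 4 ∧
    Cfsg.Lie.chevG2.group F ⊓ Subgroup.centralizer {t} = Cfsg.Lie.chevG2.rootSubgroup F 9 ⊔ Cfsg.Lie.chevG2.rootSubgroup F 10 ⊔ Cfsg.Lie.chevG2.rootSubgroup F 11 ⊔ Cfsg.Lie.chevG2.rootSubgroup F 6 ⊔ Cfsg.Lie.chevG2.rootSubgroup F 5 := by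
  constructor
  · rw [centralizer_long_eq (D := chevG2) (by decide) (1 : Fin 2) (L := [4]) (by decide +kernel)
      (by decide +kernel) (by decide +kernel) one_ne_zero hz, XS_setL_singleton (by decide)]
  · have hp := CharP.cast_eq_zero F 2
    have e : t = (stData chevG2 F).x ⟨9, by decide⟩ 1 * 1 := by
      rw [mul_one]; exact (val_eq_x_iff (D := chevG2) (r := ⟨9, by decide⟩)).1 ht
    rw [← stData_grp, stData_exact.centralizer_of_chk stData_good stData_R3 hp (T := [9, 10, 11]) (L₁ := [10, 11])
      (L₂ := [10, 11]) (a := 1) (b := 0) (J := [1]) (by decide +kernel) one_ne_zero one_ne_zero (one_mem _) (one_mem _)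
      e e (A := [9]) (M := [9, 10, 11, 6, 5]) (L := [7, 8]) (L₀ := [6, 9, 10, 11])
      (e ▸ mul_mem (StData.x_mem_XS _ (T := setL chevG2 [9]) (mem_setL.2 (by decide)) _) (one_mem _)) (by decide +kernel)
      (by decide +kernel) (by decide +kernel) (by decide), XS_setL_cons (by decide), XS_setL_cons (by decide),
      XS_setL_cons (by decide), XS_setL_cons (by decide), XS_setL_singleton (by decide)]
    · simp only [sup_assoc]
    intro s c u hu h
    have e1 := prod_eq_of_weqM (D := chevG2) hp [c 7, c 8] (by simp)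
      (w₁ := [(7, .var 0), (8, .var 1), (9, 1)])
      (w₂ := [(9, 1), (10, .var 0), (11, .var 1), (7, .var 0), (8, .var 1)]) (by decide +kernel)
    have e2 : t = xN (stData chevG2 F).x 9 1 := by rw [e, mul_one]; rfl
    have e3 : u * t * u⁻¹ = ([(9, (1 : F)), (10, c 7), (11, c 8)].map fun a => xN (stData chevG2 F).x a.1 a.2).prod := by
      rw [mul_inv_eq_iff_eq_mul, hu, e2]
      simpa [mul_assoc] using e1
    have e4 : t = ([(9, (1 : F)), (10, 0), (11, 0)].map fun a => xN (stData chevG2 F).x a.1 a.2).prod := by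
      simp [xN_zero, e2]
    rw [e3] at h
    have := tor_coords stData_R3 stData_good (L := [9, 10, 11]) (by decide +kernel) (by decide +kernel) (by decide) _ _
      rfl rfl (h.trans e4)
    simp only [List.map_cons, List.map_nil, List.cons.injEq, Prod.mk.injEq, true_and, and_true, mul_one,
      mul_eq_zero, Finset.prod_eq_zero_iff, Finset.mem_univ, zpow_ne_zero _ (Units.ne_zero _), exists_false,
      false_or] at this
    obtain ⟨a1, a2, a3⟩ := this
    refine ⟨fun i hi => ?_, by simp [a2, a3]⟩
    rw [show (∏ i : Fin chevG2.rank, (s i : F) ^ (Good.C chevG2).wt i 9) = ∏ i : Fin 2, (s i : F) ^ certG2.wt i 9 from rfl,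
      Fin.prod_univ_two, show certG2.wt (0 : Fin 2) 9 = 1 by decide +kernel,
      show certG2.wt (1 : Fin 2) 9 = 0 by decide +kernel, zpow_one, zpow_zero, mul_one, Units.val_eq_one] at a1
    obtain rfl : i = (0 : Fin 2) := (by decide : ∀ i : Fin 2, i.val ∉ [1] → i = 0) i hi
    exact a1

end Cfsg.Agent.S2180
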