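import Mathlib
import Cfsg.Statements.S2738
import Cfsg.Agent.CLAS.SLBasic

set_option autoImplicit false
open Cfsg

namespace Cfsg.Agent.S2738


/-- The special linear group SL(3, 4) has centre of order 3 and does not split over it: no subgroup is a complement to the centre (so SL(3, 4) is a non-split central extension of PSL(3, 4) by a group of order 3). -/
theorem result (F : Type*) [Field F] [Fintype F] (hF : Fintype.card F = 4) : Nat.card ↥(Subgroup.center (Matrix.SpecialLinearGroup (Fin 3) F)) = 3 ∧ ¬ ∃ K : Subgroup (Matrix.SpecialLinearGroup (Fin 3) F), Subgroup.IsComplement' (Subgroup.center (Matrix.SpecialLinearGroup (Fin 3) F)) K := by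
  have h3 : Nat.card ↥(Subgroup.center (Matrix.SpecialLinearGroup (Fin 3) F)) = 3 := by
    rw [CL.SL.card_center_SL, Nat.card_eq_fintype_card, hF]; simp
  refine ⟨h3, ?_⟩
  rintro ⟨K, hK⟩
  have hle : commutator (Matrix.SpecialLinearGroup (Fin 3) F) ≤ K := by
    rw [commutator_def, Subgroup.commutator_le]
    intro a _ b _
    obtain ⟨⟨z, k⟩, rfl⟩ := hK.2 a
    obtain ⟨⟨z', k'⟩, rfl⟩ := hK.2 b
    have hz := Subgroup.mem_center_iff.1 z.2
    have hz' := Subgroup.mem_center_iff.1 z'.2
    have : (z.1 * k.1) * (z'.1 * k'.1) * (z.1 * k.1)⁻¹ * (z'.1 * k'.1)⁻¹ = k.1 * k'.1 * k.1⁻¹ * k'.1⁻¹ := by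
      rw [← hz k.1, ← hz' k'.1, mul_inv_rev, mul_inv_rev, mul_assoc k.1 z.1, ← hz (k'.1 * z'.1)]
      simp only [mul_assoc, mul_inv_cancel_left]
      rw [← mul_assoc z'.1, ← hz' k.1⁻¹]
      simp only [mul_assoc, mul_inv_cancel_left]
    simp only [commutatorElement_def]
    rw [this]
    exact mul_mem (mul_mem (mul_mem k.2 k'.2) (inv_mem k.2)) (inv_mem k'.2)
  rw [CL.SL.commutator_eq_top_of_three_le (by simp), top_le_iff] at hle
  have := hK.disjoint
  rw [hle, disjoint_top] at this
  rw [this] at h3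
  simp at h3

end Cfsg.Agent.S2738
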