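import Cfsg.Statements.S2043
import Mathlib
import Cfsg.Agent.SPOR.Co0Mult

set_option autoImplicit false
open Cfsg

namespace Cfsg.Agent.S2043

/-- The Schur multiplier of the Conway group Co₁ (the automorphism group of the rank-24 lattice modulo its centre) is cyclic of order 2; here the Schur multiplier is described through stem extensions, as in the definitions: surjective homomorphisms onto the group from a finite group, whose kernel is central in that finite group and contained in that finite group's commutator subgroup. -/
theorem result : Cfsg.HasCyclicSchurMultiplier Cfsg.Spor.Co1 2 := by
  have : Fact (Nat.Prime 2) := ⟨Nat.prime_two⟩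
  exact CL.Schur.hasSchurMultiplier_congr_right (CL.SchurC.hasSchurMultiplier_quot CL.Co0M.perfect_Co0 CL.Co0M.mult_Co0
    (isCyclic_of_prime_card CL.Leech.card_center) CL.Leech.card_center (by simp))
    (AddEquiv.toMultiplicative AddEquiv.prodUnique)

end Cfsg.Agent.S2043
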