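import Cfsg.Statements.S5604
import Mathlib
import Cfsg.Agent.SPOR.GolayLoc

set_option autoImplicit false
open scoped Pointwise
open Cfsg

namespace Cfsg.Agent.S5604

open CL CL.K CL.Orb CL.Enc CL.Golay MulAction

set_option maxHeartbeats 400000

/-- For a subgroup S of order 7 of the group of the length-24 code (a Sylow 7-subgroup): the normaliser of S has order 126, the centraliser of S has order 42 and is non-abelian, and the whole normaliser leaves some trio invariant. (These are the orders of a Frobenius group of order 21 times a symmetric group of degree 3; the isomorphism type itself is not asserted here.) -/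
theorem result (S : Subgroup ↥Cfsg.M24) (hS : Nat.card S = 7) : Nat.card ↥(Subgroup.normalizer (S : Set ↥Cfsg.M24)) = 126 ∧ Nat.card ↥(Subgroup.centralizer (S : Set ↥Cfsg.M24)) = 42 ∧ (∃ x ∈ Subgroup.centralizer (S : Set ↥Cfsg.M24), ∃ y ∈ Subgroup.centralizer (S : Set ↥Cfsg.M24), x * y ≠ y * x) ∧ ∃ T ∈ Cfsg.trios, ∀ n ∈ Subgroup.normalizer (S : Set ↥Cfsg.M24), ((n : ↥Cfsg.M24) : Equiv.Perm Cfsg.GolayPt) • T = T := by
  have : Fact (Nat.Prime 7) := ⟨by norm_num⟩
  obtain ⟨k, rfl⟩ := exists_conj_zpowers factorization_card_M24.2.1 (t := ⟨pm c7A, mem_7A⟩)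
    (by rw [← Subgroup.orderOf_coe]; exact orderOf_7A) hS
  have hc : ConjTo (pm c7A) (k * ⟨pm c7A, mem_7A⟩ * k⁻¹ : M24) := ⟨k, k.2, rfl⟩
  have hN : ∀ x n : M24, n ∈ Subgroup.normalizer (Subgroup.zpowers x : Set M24) ↔
      (n : Equiv.Perm GolayPt) ∈ Nrm x := fun x n => by
    rw [mem_normalizer_zpowers_iff, mem_Nrm, and_iff_right n.2]
    exact ⟨fun ⟨i, h⟩ => ⟨i, congrArg Subtype.val h⟩, fun ⟨i, h⟩ => ⟨i, Subtype.ext h⟩⟩
  have hC : ∀ x n : M24, n ∈ Subgroup.centralizer (Subgroup.zpowers x : Set M24) ↔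
      (n : Equiv.Perm GolayPt) ∈ Cent x := fun x n => by
    rw [mem_centralizer_zpowers_iff, mem_Cent, and_iff_right n.2, Subtype.ext_iff]
    rfl
  refine ⟨?_, ?_, ?_, ?_⟩
  · rw [card_of_mem_iff (fun _ h => (mem_Nrm.1 h).1) (hN _), hc.card_Nrm, card_Nrm_eq R_7A orderOf_7A]
    decide +kernel
  · rw [card_of_mem_iff (Cent_le _) (hC _), hc.card_Cent, Cent_7A_eq.2]
  · have hA := gC7A_in (lget gC7A 0) (lget_mem (by decide))
    have hB := gC7A_in (lget gC7A 1) (lget_mem (by decide))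
    refine ⟨k * ⟨_, Cent_le _ hA.permOf_mem⟩ * k⁻¹, (hC _ _).2 ((mem_Cent_conj k.2).2 ?_),
      k * ⟨_, Cent_le _ hB.permOf_mem⟩ * k⁻¹, (hC _ _).2 ((mem_Cent_conj k.2).2 ?_), fun e => ?_⟩
    · simpa [mul_assoc] using hA.permOf_mem
    · simpa [mul_assoc] using hB.permOf_mem
    · rw [conj_mul, conj_mul, mul_left_inj, mul_right_inj, Subtype.ext_iff] at e
      exact absurd ((R.comp24_eq_iff hA.rep hB.rep hB.rep hA.rep).2 e) (by decide +kernel)
  · obtain ⟨T, hT⟩ := Set.ncard_eq_one.1 ((hc.ncard_fixed fun _ ha _ => smul_mem_trios ha).trans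
      ((R.ncard_fixed_trios R_7A mem_7A).trans (by decide +kernel : _ = 1)))
    have h1 := Set.eq_singleton_iff_unique_mem.1 hT
    refine ⟨T, h1.1.1, fun n hn => h1.2 _ ⟨(smul_mem_trios n.2).2 h1.1.1, ?_⟩⟩
    have h2 := (mem_Nrm.1 (Subgroup.inv_mem _ ((hN _ _).1 hn))).2
    have h3 := (Subgroup.zpowers_le_of_mem (mem_stabilizer_iff.2 h1.1.2)) h2
    rwa [mem_stabilizer_iff, inv_inv, mul_smul, mul_smul, inv_smul_eq_iff] at h3

end Cfsg.Agent.S5604
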