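import Cfsg.Statements.S5432
import Cfsg.Agent.PLOC.ESAut

set_option autoImplicit false
open Cfsg

namespace Cfsg.Agent.S5432

/-- Let E be an extraspecial 2-group of order 2^(2n+1), n ≥ 1. If E contains an elementary abelian subgroup of order 2^(n+1) (plus type), then its outer automorphism group is isomorphic to the full isometry group of the hyperbolic quadratic form in dimension 2n over the field with two elements; otherwise (minus type) it is isomorphic to the full isometry group of the elliptic quadratic form in dimension 2n over that field. -/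
theorem result {E : Type*} [Group E] [Finite E] (hE : Cfsg.IsExtraspecial 2 E) (n : ℕ) (hn : 1 ≤ n) (hcard : Nat.card E = 2 ^ (2 * n + 1)) : ((∃ A : Subgroup E, Cfsg.IsElementaryAbelian 2 A ∧ Nat.card ↥A = 2 ^ (n + 1)) → Nonempty (Cfsg.Out E ≃* Cfsg.isometryGroup (ZMod 2) (Cfsg.quadFormPlus n (ZMod 2)))) ∧ ((¬ ∃ A : Subgroup E, Cfsg.IsElementaryAbelian 2 A ∧ Nat.card ↥A = 2 ^ (n + 1)) → Nonempty (Cfsg.Out E ≃* Cfsg.isometryGroup (ZMod 2) (Cfsg.quadFormMinus (n - 1) (ZMod 2) 1 1))) := by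
  obtain ⟨z, h, hc, -⟩ := CL.ES.exists_zdata hE
  have hd := h.finrank_eq_of_card (n := 2 * n) hcard
  have e0 : Cfsg.Out E ≃* CL.Orth.O h.Q :=
    (QuotientGroup.quotientMulEquivOfEq (h.ker_autO hc).symm).trans
      (QuotientGroup.quotientKerEquivOfSurjective _ (h.autO_surjective hc))
  constructor
  · rintro ⟨A, hA, hAc⟩
    have hpl : CL.Orth.IsPlus h.Q := by
      rw [h.isPlus_iff_not_pRankLE hc hd]
      intro hr
      have := hr A hA.1 hA.2
      rw [hAc, pow_le_pow_iff_right₀ (by norm_num)] at this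
      omega
    obtain ⟨φ, hφ⟩ := CL.Orth.exists_isometry_QPlus (h.nondegenerate_Q hc) hd hpl
    exact ⟨e0.trans ((CL.Orth.toO (CL.Orth.QPlus n (ZMod 2))).trans (CL.Orth.congrO φ hφ)).symm⟩
  · intro hA
    have hpl : ¬ CL.Orth.IsPlus h.Q := by
      rintro ⟨W, hW, hWd⟩
      refine hA ⟨h.preim W, h.isElementaryAbelian_preim hW, ?_⟩
      rw [h.card_preim]
      congr 2
      omega
    obtain ⟨m, rfl⟩ : ∃ m, n = m + 1 := ⟨n - 1, by omega⟩
    obtain ⟨φ, hφ⟩ := CL.Orth.exists_isometry_QMinus (h.nondegenerate_Q hc) hd hpl CL.ES.aniso_two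
    exact ⟨e0.trans ((CL.Orth.toO (CL.Orth.QMinus m (ZMod 2) 1 1)).trans
      (CL.Orth.congrO φ hφ)).symm⟩

end Cfsg.Agent.S5432
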