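import Cfsg.Statements.S2480
import Cfsg.Agent.KSG.GLnClsNum

set_option autoImplicit false
open Cfsg

namespace Cfsg.Agent.S2480

open CL.GLn Finset

theorem result {F : Type*} [Field F] [Fintype F] (n : ℕ) (hn : 2 ≤ n) :
    Fintype.card F ^ (n - 1) ≤ Nat.gcd n (Fintype.card F - 1) * Nat.card (ConjClasses (Matrix.ProjectiveSpecialLinearGroup (Fin n) F)) ∧
      Nat.gcd n (Fintype.card F - 1) * Nat.card (ConjClasses (Matrix.ProjectiveSpecialLinearGroup (Fin n) F)) ≤ Fintype.card F ^ (n - 1) + 5 * Fintype.card F ^ (n - 2) := by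
  classical
  have hq := Fintype.one_lt_card (α := F)
  have : Nonempty (Fin n) := ⟨⟨0, by omega⟩⟩
  have hZ := CL.SL.card_center_SL (ι := Fin n) (F := F)
  rw [Fintype.card_fin, Nat.card_eq_fintype_card (α := F)] at hZ
  rw [← hZ]
  refine ⟨(lt_card_conjClasses_SL hn).le.trans (card_conjClasses_le_mul _), ?_⟩
  refine Nat.le_of_mul_le_mul_left (c := Fintype.card F - 1)
    ((card_conjClasses_PSL_le (by omega)).trans ?_) (by omega)
  rw [← Finset.add_sum_erase _ _ (mem_univ 1), orderOf_one, if_pos (one_dvd _), Nat.div_one,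
    ← Finset.sum_filter]
  set S := (univ.erase (1 : Fˣ)).filter fun c => orderOf c ∣ n with hS
  have hS1 : #S + 1 ≤ n := by
    refine le_trans (le_of_eq ?_) (card_pow_eq_one_units_le (F := F) (by omega : 0 < n))
    rw [← Finset.card_insert_of_notMem (a := (1 : Fˣ)) (by simp [hS])]
    congr 1
    ext x
    by_cases hx : x = 1 <;> simp [hx, hS, orderOf_dvd_iff_pow_eq_one]
  have hS2 : #S + 2 ≤ Fintype.card F := by
    have h1 : #S ≤ #(univ.erase (1 : Fˣ)) := Finset.card_filter_le _ _
    rw [Finset.card_erase_of_mem (mem_univ _), Finset.card_univ, Fintype.card_units] at h1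
    omega
  have hmem : ∀ c ∈ S, 2 ≤ orderOf c ∧ orderOf c ∣ n := fun c hc => by
    simp only [hS, mem_filter, mem_erase] at hc
    exact ⟨two_le_orderOf hc.1.1, hc.2⟩
  have hprime : n.Prime → ∑ c ∈ S, sumU F n (n / orderOf c) ≤ (n - 1) * (Fintype.card F - 1) := by
    intro hp
    refine (Finset.sum_le_card_nsmul _ _ (Fintype.card F - 1) fun c hc => ?_).trans
      (Nat.mul_le_mul_right _ (by omega))
    obtain ⟨h1, h2⟩ := hmem c hc
    rw [((Nat.dvd_prime hp).1 h2).resolve_left (by omega), Nat.div_self hp.pos]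
    exact sumU_one (by omega)
  rcases (by omega : n = 2 ∨ n = 3 ∨ 4 ≤ n) with rfl | rfl | h4
  · have h1 := hprime Nat.prime_two
    have h2 := (sumU_two (F := F) le_rfl).1
    simp only [Nat.reduceSub, pow_one, pow_zero, one_mul, mul_add, mul_one] at h1 h2 ⊢
    omega
  · have h1 := hprime Nat.prime_three
    have h2 := sumU_three_le (F := F) le_rfl le_rfl
    simp only [Nat.reduceSub, pow_one] at h1 h2 ⊢
    nlinarith
  · have h2 := sumU_three_le (F := F) (by omega : 3 ≤ n) le_rfl
    have h3 : 2 * ∑ c ∈ S, sumU F n (n / orderOf c) ≤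
        #S * ((Fintype.card F - 1) * (5 * Fintype.card F ^ (n / 2 - 1))) := by
      rw [Finset.mul_sum]
      refine Finset.sum_le_card_nsmul _ _ _ fun c hc => ?_
      obtain ⟨h1, h2⟩ := hmem c hc
      have h5 : n / orderOf c ≤ n / 2 := Nat.div_le_div_left h1 two_pos
      refine (two_mul_sumU_le (Nat.div_pos (Nat.le_of_dvd (by omega) h2) (by omega))
        (Nat.div_le_self _ _)).trans ?_
      exact Nat.mul_le_mul_left _ (Nat.mul_le_mul_left _ (Nat.pow_le_pow_right hq.le (by omega)))
    have h5 : #S * (5 * Fintype.card F ^ (n / 2 - 1)) ≤ 4 * Fintype.card F ^ (n - 2) := by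
      rcases (by omega : n = 4 ∨ 5 ≤ n) with rfl | h5
      · simp only [Nat.reduceDiv, Nat.reduceSub, pow_one]
        nlinarith
      · have h6 : Fintype.card F ^ (n / 2 - 1) * Fintype.card F ^ 2 ≤ Fintype.card F ^ (n - 2) := by
          rw [← pow_add]
          exact Nat.pow_le_pow_right hq.le (by omega)
        have h7 : #S * 5 ≤ 4 * Fintype.card F ^ 2 := by nlinarith
        calc _ = Fintype.card F ^ (n / 2 - 1) * (#S * 5) := by ring
          _ ≤ Fintype.card F ^ (n / 2 - 1) * (4 * Fintype.card F ^ 2) := Nat.mul_le_mul_left _ h7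
          _ = 4 * (Fintype.card F ^ (n / 2 - 1) * Fintype.card F ^ 2) := by ring
          _ ≤ _ := Nat.mul_le_mul_left _ h6
    have h6 := Nat.mul_le_mul_left (Fintype.card F - 1) h5
    nlinarith

end Cfsg.Agent.S2480
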