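import Cfsg.Statements.S2481
import Cfsg.Agent.KSG.GLnClsUni

set_option autoImplicit false
open Cfsg

namespace Cfsg.Agent.S2481

open CL.GLn

theorem result {F : Type*} [Field F] [Fintype F] (n q : ℕ) (hn : 2 ≤ n) (hF : Fintype.card F = q ^ 2) :
    q ^ (n - 1) ≤ Nat.card (ConjClasses (Cfsg.SU n F q)) ∧ 100 * Nat.card (ConjClasses (Cfsg.SU n F q)) ≤ 826 * q ^ (n - 1) := by
  exact card_conjClasses_SU hF hn

end Cfsg.Agent.S2481
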