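import Cfsg.Statements.S0983
import Cfsg.Agent.INV.Def1Ex
import Cfsg.Agent.INV.Def1Spec
import Cfsg.Agent.INV.Small5400

set_option autoImplicit false
open Cfsg

namespace Cfsg.Agent.S0983

theorem range1 : CL.D1.range [4080, 4320] 3641 860 = true := by decide +kernel

theorem range2 : CL.D1.range [4620] 4501 860 = true := by decide +kernel

theorem range3 : CL.D1.range [5400, 5460, 5616, 6048, 6072] 5361 872 = true := by decide +kernel

/-- A non-abelian finite simple group of order greater than 3640 and at most 6232 has order 4080, 5616, 6048 or 6072. -/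
theorem result {G : Type*} [Group G] [Finite G] [IsSimpleGroup G] (hG : ¬ IsMulCommutative G) (h1 : 3640 < Nat.card G) (h2 : Nat.card G ≤ 6232) : Nat.card G = 4080 ∨ Nat.card G = 5616 ∨ Nat.card G = 6048 ∨ Nat.card G = 6072 := by
  have hD := CL.D1.hasData_of_simple hG
  have h3 := CL.D1.no_4320 hD
  have h4 := CL.D1.no_4620 hD
  have h5 := CL.D1.no_5460 hD
  have h6 := CL.Small.no_5400 (G := G)
  by_cases a1 : Nat.card G < 4501
  · have := CL.D1.mem_of_range hG hD range1 h1 a1
    simp only [List.mem_cons, List.not_mem_nil, or_false] at this
    omega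
  by_cases a2 : Nat.card G < 5361
  · have := CL.D1.mem_of_range hG hD range2 (by omega) a2
    simp only [List.mem_cons, List.not_mem_nil, or_false] at this
    omega
  · have := CL.D1.mem_of_range hG hD range3 (by omega) (by omega)
    simp only [List.mem_cons, List.not_mem_nil, or_false] at this
    omega

end Cfsg.Agent.S0983
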