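import Cfsg.Statements.S0981
import Cfsg.Agent.S0999
import Cfsg.Agent.CLAS.SLBasic

set_option autoImplicit false
open Cfsg

namespace Cfsg.Agent.S0981

/-- A simple group of order 4080 is isomorphic to the projective special linear group of dimension 2 over the field with 16 elements. -/
theorem result {G : Type*} [Group G] [Finite G] [IsSimpleGroup G] (h : Nat.card G = 4080) {F : Type*} [Field F] [Fintype F] (hF : Fintype.card F = 16) : Nonempty (G ≃* Matrix.ProjectiveSpecialLinearGroup (Fin 2) F) := by
  have hG : ¬ IsCyclic G := fun h' => CL.Small.not_comm_of_not_prime (G := G) (by rw [h]; norm_num)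
    inferInstance
  rcases Cfsg.Agent.S0999.result hG 17 (by norm_num) (by rw [h]; norm_num) (by rw [h]; norm_num)
    with ⟨K, _, _, h1, -, ⟨e⟩⟩ | ⟨m, K, _, _, h1, h2, -, e⟩
  · have h2 := CL.SL.gcd_mul_card_PSL_two (F := K)
    rw [← Nat.card_congr e.toEquiv, h, Nat.card_eq_fintype_card, h1] at h2
    norm_num at h2
  · exact CL.Small.psl_transfer (by omega) e

end Cfsg.Agent.S0981
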