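import Cfsg.Statements.S3280
import Cfsg.Agent.S0483
import Cfsg.Agent.S3331
import Cfsg.Agent.S0253
import Cfsg.Agent.S0254
import Cfsg.Agent.INV.GW.Cor2
import Cfsg.Agent.INV.GW.CorQuat
import Cfsg.Agent.INV.GW.DFPgl
import Cfsg.Agent.INV.QDFusion
import Cfsg.Agent.SOLV.MaxClass
import Cfsg.Agent.INV.NCycB
import Cfsg.Agent.INV.InvCalc

set_option autoImplicit false
open Cfsg

namespace Cfsg.Agent.S3280

open Subgroup

theorem d2 {G : Type*} [Group G] [Finite G] [IsSimpleGroup G] (hn : ¬ IsMulCommutative G) {w : G}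
    (h2 : w ^ 2 ^ 2 = 1) (hw : Nat.card (centralizer ({w} : Set G)) ≤ 4) : CL.GW.D2 G := by
  obtain ⟨S, hS⟩ := (CL.SylowAux.isPGroup_zpowers_of_pow h2).exists_le_sylow
  have hwS : w ∈ (S : Subgroup G) := hS (mem_zpowers w)
  by_cases hc : IsCyclic (S : Subgroup G)
  · intro P hP
    obtain ⟨Q, hQ⟩ := hP.exists_le_sylow
    have : IsCyclic (Q : Subgroup G) := isCyclic_of_surjective _ (S.equiv Q).surjective
    exact Or.inl (isCyclic_of_le hQ)
  obtain ⟨n, hn'⟩ := IsPGroup.iff_card.1 S.isPGroup'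
  match n, hn' with
  | 0, h => exact absurd (isCyclic_of_card_dvd_prime (p := 2) (by rw [h]; norm_num)) hc
  | 1, h => exact absurd (isCyclic_of_card_dvd_prime (p := 2) (by rw [h]; norm_num)) hc
  | 2, h =>
    have : IsKleinFour (S : Subgroup G) :=
      ⟨h, (not_isCyclic_iff_exponent_eq_prime Nat.prime_two h).1 hc⟩
    obtain ⟨e⟩ := IsKleinFour.nonempty_mulEquiv (G₁ := (S : Subgroup G)) (G₂ := DihedralGroup 2)
    exact CL.GW.d2_of_dihedral S e
  | m + 3, h =>
    obtain ⟨a, b, hd⟩ := CL.PCyc.exists_isDQS_of_nilpotencyClass h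
      (CL.PCyc.nilpotencyClass_of_card_centralizer_le (m + 1) _ h ⟨⟨w, hwS⟩, le_trans
        (Nat.card_le_card_of_injective (fun x => (⟨x.1.1, mem_centralizer_singleton_iff.2
          (congrArg Subtype.val (mem_centralizer_singleton_iff.1 x.2))⟩ : centralizer ({w} : Set G)))
          fun x y e => Subtype.ext (Subtype.ext (Subtype.mk.inj e))) hw⟩)
    rcases hd.trichotomy with ⟨-, ⟨e⟩⟩ | ⟨⟨e⟩⟩ | ⟨-, -, -, h1⟩
    · exact CL.GW.d2_of_dihedral S e
    · obtain ⟨z, -, h3, -, h4⟩ := CL.GW.quat_center S (n := m) e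
      have h5 : (zpowers z ⊔ pPrimeCore 2 G).Normal := h4 ▸ inferInstance
      have h6 : pPrimeCore 2 G = ⊥ := (inferInstance : (pPrimeCore 2 G).Normal).eq_bot_or_eq_top.resolve_right
        fun e => by
          have := CL.coprime_card_pPrimeCore 2 G
          rw [e, card_top] at this
          exact absurd (this.coprime_dvd_left (h3 ▸ orderOf_dvd_natCard z)) (by decide)
      rw [h6, sup_bot_eq] at h5
      rcases h5.eq_bot_or_eq_top with h7 | h7
      · rw [zpowers_eq_bot.1 h7, orderOf_one] at h3; omega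
      · have : IsCyclic G := ⟨⟨z, fun x => h7.ge (mem_top x)⟩⟩
        exact hn.elim inferInstance
    · obtain ⟨n, ⟨c⟩⟩ := CL.QD.exists_coord h1
      obtain ⟨h3, h4⟩ := c.loud_of_no_index_two (CL.NCyc.index_ne_two hn)
      obtain ⟨i, hi⟩ : ∃ i, IsConj (c.r i) w := by
        rcases (c.mem_iff w).1 hwS with ⟨i, rfl⟩ | ⟨i, rfl⟩
        · exact ⟨i, IsConj.refl _⟩
        · rcases c.par i with h5 | h5
          · exact ⟨_, h3.isConj.trans (c.isConj_s (by rw [h5, mul_zero]))⟩
          · exact ⟨_, h4.isConj.trans (c.isConj_s (by rw [h5, mul_one]))⟩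
      rw [← CL.Inv.card_centralizer_eq_of_isConj hi] at hw
      have h5 := card_le_of_le (show zpowers (c.r 1) ≤ centralizer {c.r i} from zpowers_le.2
        (mem_centralizer_singleton_iff.2 (by rw [c.r_mul_r, c.r_mul_r, add_comm])))
      rw [Nat.card_zpowers, c.orderOf_r_one] at h5
      have := Nat.pow_le_pow_right two_pos c.hn
      omega

open CL.GW.DF CL.PGL2 in
theorem le_nine {F : Type*} [Field F] [Finite F] (hq : Odd (Nat.card F))
    {w : Matrix.ProjectiveSpecialLinearGroup (Fin 2) F} (h1 : w ≠ 1) (h2 : w ^ 2 ^ 2 = 1)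
    (hw : Nat.card (centralizer ({w} : Set _)) ≤ 4) : Nat.card F ≤ 9 := by
  have : Fact (ringChar F).Prime := ⟨prime_char⟩
  set e := pslInEquiv F
  obtain ⟨τ, hτ⟩ := exists_tor (ringChar F) (g := (e w).1) (fun h => h1 (e.injective (by
    rw [map_one]; exact Subtype.ext h))) fun h => char_ne_two hq ((Nat.prime_dvd_prime_iff_eq
      this.out Nat.prime_two).1 (this.out.dvd_of_dvd_pow (h.trans (orderOf_dvd_of_pow_eq_one (by
        rw [← coe_pow, ← map_pow, h2, map_one, coe_one]) (n := 2 ^ 2)))))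
  have h3 := τ.half hq
  have h4 : Nat.card ↥(τ.T ⊓ pslIn F) ≤ 4 := le_trans (Nat.card_le_card_of_injective
    (fun x => (⟨e.symm ⟨x.1, x.2.2⟩, mem_centralizer_singleton_iff.2 (e.injective (by
      rw [map_mul, map_mul, e.apply_symm_apply]
      exact Subtype.ext (τ.commute x.2.1 hτ).eq))⟩ : centralizer ({w} : Set _)))
    fun x y h => Subtype.ext (Subtype.mk.inj (e.symm.injective (Subtype.mk.inj h)))) hw
  rcases τ.card_cases with h | h <;> omega

/-- A non-cyclic finite simple group containing an element whose centralizer has order at most 4 is isomorphic to the alternating group of degree 5, 6 or 7, or to PSL(2, 7). -/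
theorem result {G : Type*} [Group G] [Finite G] [IsSimpleGroup G] (hG : ¬ IsCyclic G)
    (w : G) (hw : Nat.card ↥(Subgroup.centralizer ({w} : Set G)) ≤ 4) :
    Nonempty (G ≃* ↥(alternatingGroup (Fin 5))) ∨ Nonempty (G ≃* ↥(alternatingGroup (Fin 6))) ∨
      Nonempty (G ≃* ↥(alternatingGroup (Fin 7))) ∨
      (∃ (F : Type) (_ : Field F) (_ : Fintype F), Fintype.card F = 7 ∧ Nonempty (G ≃* Matrix.ProjectiveSpecialLinearGroup (Fin 2) F)) := by
  have hn : ¬ IsMulCommutative G := fun h => hG (by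
    let _ : CommGroup G := { (inferInstance : Group G) with mul_comm := h.is_comm.comm }
    infer_instance)
  have hwC : w ∈ centralizer ({w} : Set G) := mem_centralizer_singleton_iff.2 rfl
  have h1 : w ≠ 1 := by
    rintro rfl
    have h2 : centralizer ({1} : Set G) = ⊤ := eq_top_iff.2 fun g _ =>
      mem_centralizer_singleton_iff.2 (by simp)
    rw [h2, card_top] at hw
    have h3 : 0 < Nat.card G := Nat.card_pos
    refine hn ?_
    interval_cases h4 : Nat.card G
    · have := isCyclic_of_card_dvd_prime (p := 2) (h4 ▸ one_dvd 2); infer_instance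
    · have := isCyclic_of_card_dvd_prime (p := 2) h4.dvd; infer_instance
    · have : Fact (Nat.Prime 3) := ⟨by norm_num⟩
      have := isCyclic_of_card_dvd_prime (p := 3) h4.dvd; infer_instance
    · exact IsPGroup.isMulCommutative_of_card_eq_prime_sq (p := 2) h4
  have h0 : 0 < Nat.card (centralizer ({w} : Set G)) := Nat.card_pos
  have hd := orderOf_dvd_natCard _ hwC
  by_cases h3 : Nat.card (centralizer ({w} : Set G)) = 3
  · have ho : orderOf w = 3 := ((Nat.dvd_prime Nat.prime_three).1 (h3 ▸ hd)).resolve_left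
      (mt orderOf_eq_one_iff.1 h1)
    have hz : zpowers w = centralizer {w} := eq_of_le_of_card_ge (zpowers_le.2 hwC)
      (by rw [Nat.card_zpowers, ho, h3])
    rcases S3331.result (zpowers w) (by rw [Nat.card_zpowers, ho]) (by
      rw [zpowers_eq_closure, centralizer_closure, ← hz, zpowers_eq_closure])
      with ⟨N, hN, h4, h5, h6⟩ | ⟨N, hN, h4, -, ⟨e⟩⟩ | h
    · exfalso
      rcases hN.eq_bot_or_eq_top with rfl | rfl
      · rcases h6 with h6 | ⟨⟨e⟩⟩
        · have : Fact (Nat.Prime 3) := ⟨by norm_num⟩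
          exact hG (isCyclic_of_prime_card (p := 3)
            ((Nat.card_congr QuotientGroup.quotientBot.toEquiv).symm.trans h6))
        · have := (QuotientGroup.quotientBot.symm.trans e).symm.isSimpleGroup
          have := CL.NCyc.index_ne_two (G := Equiv.Perm (Fin 3)) (fun h => absurd
            (h.is_comm.comm (Equiv.swap 0 1) (Equiv.swap 1 2)) (by decide)) (alternatingGroup (Fin 3))
          exact this alternatingGroup.index_eq_two
      · rw [card_top] at h5
        exact absurd (h5.coprime_dvd_left (ho ▸ orderOf_dvd_natCard w)) (by decide)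
    · rcases hN.eq_bot_or_eq_top with rfl | rfl
      · exact Or.inl ⟨QuotientGroup.quotientBot.symm.trans e⟩
      · exact absurd ⟨⟨fun u v => congrArg Subtype.val
          (h4.is_comm.comm (⟨u, mem_top u⟩ : (⊤ : Subgroup G)) ⟨v, mem_top v⟩)⟩⟩ hn
    · have : Fact (Nat.Prime 7) := ⟨by norm_num⟩
      exact Or.inr (Or.inr (Or.inr ⟨ZMod 7, inferInstance, inferInstance, ZMod.card 7, h⟩))
  have h2 : w ^ 2 ^ 2 = 1 := orderOf_dvd_iff_pow_eq_one.1 (hd.trans (by
    interval_cases Nat.card (centralizer ({w} : Set G)) <;> simp_all))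
  rcases CL.GW.gw_simple hn (d2 hn h2 hw) with ⟨q, h4, h5, F, _, _, h6, ⟨e⟩⟩ | h
  · have h7 : Nat.card F = q := by rw [Nat.card_eq_fintype_card, h6]
    have h8 := le_nine (h7 ▸ h4) (w := e w) (by simpa using h1) (by rw [← map_pow, h2, map_one])
      (le_trans (Nat.card_le_card_of_injective
        (fun x => (⟨e.symm x.1, mem_centralizer_singleton_iff.2 (e.injective (by
          rw [map_mul, map_mul, e.apply_symm_apply]
          exact mem_centralizer_singleton_iff.1 x.2))⟩ : centralizer ({w} : Set G)))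
        fun x y h => Subtype.ext (e.symm.injective (congrArg Subtype.val h))) hw)
    obtain ⟨k, rfl⟩ := h4
    obtain rfl | rfl | rfl : k = 2 ∨ k = 3 ∨ k = 4 := by omega
    · obtain ⟨e'⟩ := S0253.result h6
      exact Or.inl ⟨e.trans e'⟩
    · exact Or.inr (Or.inr (Or.inr ⟨F, inferInstance, inferInstance, h6, ⟨e⟩⟩))
    · obtain ⟨e'⟩ := S0254.result h6
      exact Or.inr (Or.inl ⟨e.trans e'⟩)
  · exact Or.inr (Or.inr (Or.inl h))

end Cfsg.Agent.S3280
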