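import Cfsg.Statements.S3153
import Cfsg.Agent.S1754
import Cfsg.Agent.SIG.PComp
import Cfsg.Agent.SIG.Component
import Cfsg.Agent.INV.Four
import Cfsg.Agent.SOLV.CoprimeGen
import Cfsg.Agent.PLOC.PNormal

set_option autoImplicit false
open Cfsg

namespace Cfsg.Agent.S3153


theorem rank_one {X : Type*} [Group X] [Finite X] {C : Subgroup X} (hr : PRankLE 2 1 C)
    {a b : X} (ha : a ∈ C) (hb : b ∈ C) (ha2 : orderOf a = 2) (hb2 : b * b = 1)
    (hab : a * b = b * a) : b = 1 ∨ b = a := by
  by_contra h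
  push Not at h
  have hb2' : orderOf b = 2 := by
    haveI : Fact (Nat.Prime 2) := ⟨Nat.prime_two⟩
    exact orderOf_eq_prime (by rw [pow_two]; exact hb2) h.1
  have := CL.Four.isKleinFour_closure ha2 hb2' (Ne.symm h.2) hab
  refine (CL.Four.not_prankLE_two_one_iff.mpr ⟨_, ?_, this⟩) hr
  rw [Subgroup.closure_le]
  rintro x (rfl | rfl)
  exacts [ha, hb]

open scoped commutatorElement in
theorem qs_dich {X : Type*} [Group X] {P : Subgroup X} (hP : IsQuasisimple P)
    (M : Subgroup X) [hM : M.Normal] :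
    P ≤ M ∨ M ⊓ Subgroup.normalizer (P : Set X) ≤ Subgroup.centralizer (P : Set X) := by
  have hn : P ≤ Subgroup.normalizer (M : Set X) := by
    rw [Subgroup.normalizer_eq_top]; exact le_top
  rcases hP.le_or_inf_le_centralizer hn with h | h
  · exact Or.inl h
  · right
    rw [← Subgroup.commutator_eq_bot_iff_le_centralizer]
    apply CL.Comp.commutator_eq_bot_of_perfect hP.commutator_self
    rw [Subgroup.commutator_eq_bot_iff_le_centralizer]
    refine le_trans ?_ h
    rw [Subgroup.commutator_le]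
    rintro x ⟨hxM, hxN⟩ y hy
    refine ⟨?_, ?_⟩
    · have := hM.conj_mem _ (M.inv_mem hxM) y
      have e : ⁅x, y⁆ = x * (y * x⁻¹ * y⁻¹) := by simp [commutatorElement_def, mul_assoc]
      rw [SetLike.mem_coe, e]; exact M.mul_mem hxM this
    · have := (Subgroup.mem_normalizer_iff.mp hxN y).mp hy
      rw [SetLike.mem_coe, commutatorElement_def]
      exact P.mul_mem this (P.inv_mem hy)

/-- Let X be a finite group and P a standard subgroup of X whose centralizer has 2-rank at most 1 and whose centre has odd order. Let S be a Sylow 2-subgroup of N_X(P) and t an involution of S centralizing P. Suppose some element g of X normalizes S, does not lie in S, has its square in S, and conjugates t into P·C_X(P). Then P commutes elementwise with the largest normal odd-order subgroup O(X) of X; consequently every t-invariant 2-component of X containing P is quasisimple. -/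
theorem result {X : Type*} [Group X] [Finite X] (P : Subgroup X) (hP : Cfsg.IsStandardSubgroup P)
    (hr : Cfsg.PRankLE 2 1 ↥(Subgroup.centralizer (P : Set X))) (hZ : Odd (Nat.card ↥(Subgroup.center ↥P)))
    (S : Sylow 2 ↥(Subgroup.normalizer (P : Set X))) (t : X) (ht : orderOf t = 2) (htS : t ∈ (S : Subgroup ↥(Subgroup.normalizer (P : Set X))).map (Subgroup.normalizer (P : Set X)).subtype)
    (htP : t ∈ Subgroup.centralizer (P : Set X))
    (g : X) (hgN : ∀ s ∈ (S : Subgroup ↥(Subgroup.normalizer (P : Set X))).map (Subgroup.normalizer (P : Set X)).subtype, g * s * g⁻¹ ∈ (S : Subgroup ↥(Subgroup.normalizer (P : Set X))).map (Subgroup.normalizer (P : Set X)).subtype)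
    (hgS : g ∉ (S : Subgroup ↥(Subgroup.normalizer (P : Set X))).map (Subgroup.normalizer (P : Set X)).subtype) (hg2 : g ^ 2 ∈ (S : Subgroup ↥(Subgroup.normalizer (P : Set X))).map (Subgroup.normalizer (P : Set X)).subtype)
    (hgt : g * t * g⁻¹ ∈ P ⊔ Subgroup.centralizer (P : Set X)) :
    ⁅P, Cfsg.oddCore X⁆ = ⊥ ∧
      ∀ L : Subgroup X, Cfsg.IsPComponent 2 L → P ≤ L → (∀ l ∈ L, t * l * t⁻¹ ∈ L) → Cfsg.IsQuasisimple ↥L := by
  haveI : Fact (Nat.Prime 2) := ⟨Nat.prime_two⟩
  have hq : IsQuasisimple P := hP.1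
  have hCN := (Cfsg.Agent.S1754.result P hP t ht htP).1
  generalize hSm : (S : Subgroup ↥(Subgroup.normalizer (P : Set X))).map
    (Subgroup.normalizer (P : Set X)).subtype = Sm at htS hgN hgS hg2
  have hSmN : Sm ≤ Subgroup.normalizer (P : Set X) := by
    rw [← hSm]; exact Subgroup.map_subtype_le _
  have hSmp : IsPGroup 2 Sm := by
    rw [← hSm]; exact S.isPGroup'.map _
  have htt : t * t = 1 := by rw [← pow_two, ← ht]; exact pow_orderOf_eq_one t
  have ht1 : t ≠ 1 := by rintro rfl; simp at ht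
  -- Step 1: g does not normalize P
  have hgP : g ∉ Subgroup.normalizer (P : Set X) := by
    intro hg
    apply hgS
    have hgn : g ∈ Subgroup.normalizer (Sm : Set X) := by
      apply Subgroup.mem_normalizer_fintype
      exact hgN
    have hz : IsPGroup 2 (Subgroup.zpowers g) := by
      obtain ⟨k, hk⟩ := hSmp ⟨_, hg2⟩
      have hk' : g ^ (2 ^ (k + 1)) = 1 := by
        rw [pow_succ', pow_mul]; exact congrArg Subtype.val hk
      rintro ⟨x, n, rfl⟩
      refine ⟨k + 1, Subtype.ext ?_⟩
      show (g ^ n) ^ (2 ^ (k + 1)) = 1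
      rw [← zpow_natCast, ← zpow_mul, mul_comm, zpow_mul, zpow_natCast, hk', one_zpow]
    have hsup : IsPGroup 2 ↥(Subgroup.zpowers g ⊔ Sm) :=
      IsPGroup.to_sup_of_normal_right' hz hSmp (by rwa [Subgroup.zpowers_le])
    have hle : Subgroup.zpowers g ⊔ Sm ≤ Subgroup.normalizer (P : Set X) :=
      sup_le (by rwa [Subgroup.zpowers_le]) hSmN
    have h1 : IsPGroup 2 ((Subgroup.zpowers g ⊔ Sm).subgroupOf (Subgroup.normalizer (P : Set X))) :=
      hsup.of_equiv (Subgroup.subgroupOfEquivOfLe hle).symm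
    have h2 := S.is_maximal' h1 (by
      intro x hx
      rw [Subgroup.mem_subgroupOf]
      exact Subgroup.mem_sup_right (by rw [← hSm]; exact ⟨x, hx, rfl⟩))
    have h3 : (⟨g, hg⟩ : Subgroup.normalizer (P : Set X)) ∈
        (Subgroup.zpowers g ⊔ Sm).subgroupOf (Subgroup.normalizer (P : Set X)) :=
      Subgroup.mem_subgroupOf.mpr (Subgroup.mem_sup_left (Subgroup.mem_zpowers g))
    rw [h2] at h3
    rw [← hSm]; exact ⟨_, h3, rfl⟩
  -- Step 2: t is central in Sm
  have htZ : ∀ s ∈ Sm, s * t = t * s := by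
    have hnorm : ((Subgroup.centralizer (P : Set X)).subgroupOf Sm).Normal := by
      constructor
      rintro ⟨x, hx⟩ hxC ⟨s, hs⟩
      rw [Subgroup.mem_subgroupOf] at hxC ⊢
      intro p hp
      have hp' : s⁻¹ * p * s ∈ P := by
        have := (Subgroup.mem_normalizer_iff.mp ((Subgroup.normalizer (P : Set X)).inv_mem (hSmN hs)) p).mp hp
        simpa using this
      have := hxC _ hp'
      show p * (s * x * s⁻¹) = (s * x * s⁻¹) * p
      calc p * (s * x * s⁻¹) = s * ((s⁻¹ * p * s) * x) * s⁻¹ := by group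
        _ = s * (x * (s⁻¹ * p * s)) * s⁻¹ := by rw [this]
        _ = _ := by group
    have hne : (Subgroup.centralizer (P : Set X)).subgroupOf Sm ≠ ⊥ := by
      intro h
      have : (⟨t, htS⟩ : Sm) ∈ (Subgroup.centralizer (P : Set X)).subgroupOf Sm :=
        Subgroup.mem_subgroupOf.mpr htP
      rw [h, Subgroup.mem_bot] at this
      exact ht1 (congrArg Subtype.val this)
    obtain ⟨z, hzC, hzZ, hz2⟩ := CL.PN.exists_mem_center_orderOf_eq hSmp _ hne
    have hzz : (z : X) * z = 1 := by
      have : z ^ 2 = 1 := by rw [← hz2]; exact pow_orderOf_eq_one z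
      rw [← pow_two]; exact congrArg Subtype.val this
    have hcomm : ∀ s (hs : s ∈ Sm), s * z = z * s := fun s hs =>
      congrArg Subtype.val (Subgroup.mem_center_iff.mp hzZ ⟨s, hs⟩)
    rcases rank_one hr htP (Subgroup.mem_subgroupOf.mp hzC) ht hzz (hcomm t htS) with h | h
    · exfalso
      have : z = 1 := Subtype.ext h
      rw [this] at hz2; simp at hz2
    · rw [← h]; exact hcomm
  -- Step 3
  obtain ⟨u, hu⟩ : ∃ u, u = g * t * g⁻¹ := ⟨_, rfl⟩
  rw [← hu] at hgt
  have huS : u ∈ Sm := hu ▸ hgN t htS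
  have huu : u * u = 1 := by
    rw [hu]; calc g * t * g⁻¹ * (g * t * g⁻¹) = g * (t * t) * g⁻¹ := by group
      _ = 1 := by rw [htt]; group
  have hu2 : orderOf u = 2 := by
    rw [hu, ← ht]; exact (MulAut.conj g).orderOf_eq t
  have hu1 : u ≠ 1 := by rintro rfl; simp at hu2
  have hut : u ≠ t := by
    intro h
    apply hgP
    apply hCN
    rw [Subgroup.mem_centralizer_singleton_iff]
    rw [h] at hu
    calc g * t = g * t * g⁻¹ * g := by group
      _ = t * g := by rw [← hu]
  have hutc : u * t = t * u := htZ u huS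
  have hgu : g * u * g⁻¹ = t := by
    have := htZ _ hg2
    rw [hu]
    calc g * (g * t * g⁻¹) * g⁻¹ = (g ^ 2 * t) * (g ^ 2)⁻¹ := by rw [pow_two]; group
      _ = t := by rw [this]; group
  have huC : u ∉ Subgroup.centralizer (P : Set X) := by
    intro h
    rcases rank_one hr htP h ht huu hutc.symm with h | h
    exacts [hu1 h, hut h]
  have hPC : P ≤ Subgroup.normalizer (Subgroup.centralizer (P : Set X) : Set X) := by
    apply CL.Comp.le_normalizer_of_commutator_eq_bot
    rw [Subgroup.commutator_eq_bot_iff_le_centralizer]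
    exact Subgroup.le_centralizer_iff.mp le_rfl
  obtain ⟨p, hp, c, hc, hpc⟩ := (CL.Comp.mem_sup_of_le_normalizer hPC).mp hgt
  have hcom : Commute p c := hc p hp
  obtain ⟨m, hm⟩ := hZ
  have hp2 : p * p ∈ P ⊓ Subgroup.centralizer (P : Set X) := by
    refine ⟨P.mul_mem hp hp, ?_⟩
    have e : p * p = (c * c)⁻¹ := by
      apply eq_inv_of_mul_eq_one_left
      rw [← huu, ← hpc]
      calc p * p * (c * c) = p * (p * c) * c := by group
        _ = p * (c * p) * c := by rw [hcom.eq]
        _ = _ := by group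
    rw [SetLike.mem_coe, e]
    exact Subgroup.inv_mem _ (Subgroup.mul_mem _ hc hc)
  have hp2m : (p * p) ^ (2 * m + 1) = 1 := by
    rw [← CL.Comp.map_center_subtype] at hp2
    obtain ⟨y, hy, hye⟩ := hp2
    have : (⟨y, hy⟩ : Subgroup.center P) ^ Nat.card (Subgroup.center P) = 1 := pow_card_eq_one'
    rw [hm] at this
    rw [← hye]
    exact congrArg (fun z : Subgroup.center P => ((z : P) : X)) this
  obtain ⟨p1, hp1e⟩ : ∃ p1, p1 = p ^ (2 * m + 1) := ⟨_, rfl⟩
  obtain ⟨c1, hc1e⟩ : ∃ c1, c1 = c ^ (2 * m + 1) := ⟨_, rfl⟩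
  have hp1 : p1 ∈ P := hp1e ▸ P.pow_mem hp _
  have hc1 : c1 ∈ Subgroup.centralizer (P : Set X) := hc1e ▸ Subgroup.pow_mem _ hc _
  have hpc1 : p1 * c1 = u := by
    rw [hp1e, hc1e, ← hcom.mul_pow, hpc, pow_succ, pow_mul, pow_two, huu]; simp
  have hp11 : p1 * p1 = 1 := by
    rw [hp1e, ← hp2m, ← pow_two, ← pow_two, ← pow_mul, ← pow_mul, mul_comm]
  have hcom1 : p1 * c1 = c1 * p1 := hc1 p1 hp1
  have hc11 : c1 * c1 = 1 := by
    calc c1 * c1 = (p1 * p1) * (c1 * c1) := by rw [hp11, one_mul]
      _ = p1 * (p1 * c1) * c1 := by group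
      _ = p1 * (c1 * p1) * c1 := by rw [hcom1]
      _ = (p1 * c1) * (p1 * c1) := by group
      _ = 1 := by rw [hpc1, huu]
  have htc1 : t * c1 = c1 * t := by
    have h1 : p1 * t = t * p1 := htP p1 hp1
    have e : c1 = p1⁻¹ * u := by rw [← hpc1]; group
    rw [e]
    calc t * (p1⁻¹ * u) = p1⁻¹ * (p1 * t) * p1⁻¹ * u := by group
      _ = p1⁻¹ * (t * p1) * p1⁻¹ * u := by rw [h1]
      _ = p1⁻¹ * (t * u) := by group
      _ = p1⁻¹ * u * t := by rw [← hutc]; group
  have hp1ne : p1 ≠ 1 := by
    rintro rfl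
    rw [one_mul] at hpc1
    exact huC (hpc1 ▸ hc1)
  have hPO : ¬ P ≤ oddCore X := by
    intro h
    have h1 := Subgroup.orderOf_dvd_natCard _ (h hp1)
    rw [orderOf_eq_prime (p := 2) (by rw [pow_two]; exact hp11) hp1ne] at h1
    exact CL.not_dvd_card_pPrimeCore 2 X h1
  -- Step 4
  have hO1 : ∀ x ∈ oddCore X, x * t = t * x → x * u = u * x := by
    intro x hx hxt
    have hxN : x ∈ Subgroup.normalizer (P : Set X) :=
      hCN (Subgroup.mem_centralizer_singleton_iff.mpr hxt)
    have hxC : x ∈ Subgroup.centralizer (P : Set X) :=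
      ((qs_dich hq (oddCore X)).resolve_left hPO) ⟨hx, hxN⟩
    have h1 : Commute x p1 := (hxC p1 hp1).symm
    have h2 : Commute x c1 := by
      rcases rank_one hr htP hc1 ht hc11 htc1 with h | h
      · rw [h]; exact Commute.one_right x
      · rw [h]; exact hxt
    rw [← hpc1]; exact (h1.mul_right h2).eq
  have hO2 : ∀ x ∈ oddCore X, x * u = u * x → x * t = t * x := by
    intro x hx hxu
    have hx' : g⁻¹ * x * g ∈ oddCore X := by
      have := (inferInstance : (oddCore X).Normal).conj_mem x hx g⁻¹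
      simpa using this
    have h1 : (g⁻¹ * x * g) * t = t * (g⁻¹ * x * g) := by
      calc (g⁻¹ * x * g) * t = g⁻¹ * (x * (g * t * g⁻¹)) * g := by group
        _ = g⁻¹ * ((g * t * g⁻¹) * x) * g := by rw [← hu, hxu]
        _ = _ := by group
    have h2 := hO1 _ hx' h1
    rw [← hgu]
    calc x * (g * u * g⁻¹) = g * ((g⁻¹ * x * g) * u) * g⁻¹ := by group
      _ = g * (u * (g⁻¹ * x * g)) * g⁻¹ := by rw [h2]
      _ = _ := by group
  have hV := CL.Four.isKleinFour_closure ht hu2 hut.symm hutc.symm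
  have hOC : oddCore X ≤ Subgroup.centralizer ({t * u} : Set X) := by
    haveI : IsMulCommutative (Subgroup.closure ({t, u} : Set X)) :=
      ⟨⟨fun a b => Subtype.ext (CL.Four.comm_of_mem hV a.2 b.2)⟩⟩
    have hgen := CL.coprime_iSup_centralizer_noncyclic (Subgroup.closure ({t, u} : Set X))
      (oddCore X) hV.not_isCyclic (by rw [Subgroup.normalizer_eq_top]; exact le_top) (by
        rw [hV.card_four]
        exact ((CL.coprime_card_pPrimeCore 2 X).symm.pow_left 2))
    rw [← hgen]
    refine iSup₂_le ?_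
    rintro a ⟨ha, ha1⟩ x ⟨hx, hxa⟩
    replace hxa : x * a = a * x := Subgroup.mem_centralizer_singleton_iff.mp hxa
    rw [Subgroup.mem_centralizer_singleton_iff]
    rcases (CL.Four.mem_closure_pair_iff_of_commute htt huu hutc.symm).mp ha with h | h | h | h
    · exact absurd h ha1
    · rw [h] at hxa
      exact (Commute.mul_right hxa (hO1 x hx hxa)).eq
    · rw [h] at hxa
      exact (Commute.mul_right (hO2 x hx hxa) hxa).eq
    · rw [← h]; exact hxa
  have hmain : P ≤ Subgroup.centralizer (oddCore X : Set X) := by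
    rcases qs_dich hq (Subgroup.centralizer (oddCore X : Set X)) with h | h
    · exact h
    · exfalso
      apply huC
      have h1 : t * u ∈ Subgroup.centralizer (P : Set X) := by
        apply h
        refine ⟨?_, Subgroup.mul_mem _ (hSmN htS) (hSmN huS)⟩
        intro x hx
        exact Subgroup.mem_centralizer_singleton_iff.mp (hOC hx)
      have := Subgroup.mul_mem _ (Subgroup.inv_mem _ htP) h1
      simpa using this
  refine ⟨Subgroup.commutator_eq_bot_iff_le_centralizer.mpr hmain, ?_⟩
  intro L hL hPL _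
  rcases hL.le_or_commutator_le_of_le_normalizer
    (N := Subgroup.centralizer (oddCore X : Set X))
    (by rw [Subgroup.normalizer_eq_top]; exact le_top) with h | h
  · exact (hL.isComponent_iff'.mpr (Subgroup.commutator_eq_bot_iff_le_centralizer.mpr h)).isQuasisimple
  · exfalso
    apply hPO
    rw [← hq.commutator_self]
    exact ((Subgroup.commutator_mono hPL hmain).trans h).trans hL.opOf_le

end Cfsg.Agent.S3153
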