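import Cfsg.Statements.S2916
import Cfsg.Agent.SPOR.Ord33
import Cfsg.Agent.SPOR.Ord11c
import Cfsg.Agent.S0197
import Cfsg.Agent.INV.IndexTwo
-- import your own Cfsg.Agent.* helpers here

set_option autoImplicit false
open Cfsg

namespace Cfsg.Agent.S2916

open Subgroup CL.Char.GL23 in
theorem simple {G : Type*} [Group G] [Finite G] (hG : ∀ M : Subgroup G, M.index ≠ 2) {t : G}
    (ht : orderOf t = 2) (e₀ : centralizer ({t} : Set G) ≃* GL (Fin 2) (ZMod 3)) :
    IsSimpleGroup G := by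
  obtain ⟨hcl, hC, hcard⟩ := card_cases hG ht e₀
  have e := e₀.trans equivT
  have tC : t ∈ centralizer ({t} : Set G) := mem_centralizer_singleton_iff.2 rfl
  have t1 : t ≠ 1 := by rintro rfl; simp at ht
  have tt : t * t = 1 := by rw [← sq, ← ht, pow_orderOf_eq_one]
  have hz : e ⟨t, tC⟩ = z := by
    refine ((by decide +kernel : ∀ k : T, (∀ q, k * q = q * k) → k = 1 ∨ k = z) _
      fun q => ?_).resolve_left fun h => t1 (congrArg Subtype.val (e.map_eq_one_iff.1 h))
    obtain ⟨q, rfl⟩ := e.surjective q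
    rw [← map_mul, ← map_mul]
    exact congrArg e (Subtype.ext (mem_centralizer_singleton_iff.1 q.2).symm)
  have : Nontrivial G := ⟨t, 1, t1⟩
  refine ⟨fun N hN => ?_⟩
  by_cases h2 : t ∈ N
  · right
    have hI : ∀ v, v * v = 1 → v ∈ N := fun v hv => by
      by_cases h : v = 1
      · simp [h]
      obtain ⟨c, rfl⟩ := isConj_iff.1 (hcl v (orderOf_eq_prime (by rwa [sq]) h))
      exact hN.conj_mem _ h2 c
    have hCN : centralizer {t} ≤ N := fun g hg => by
      obtain ⟨r, hr, s, hs, h⟩ := (by decide +kernel : ∀ g : T, ∃ r, r * r = 1 ∧ ∃ s, s * s = 1 ∧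
        r * s * g * (r * s * g) = 1) (e ⟨g, hg⟩)
      obtain ⟨r, rfl⟩ := e.surjective r
      obtain ⟨s, rfl⟩ := e.surjective s
      simp only [← map_mul, e.map_eq_one_iff, Subtype.ext_iff] at hr hs h
      exact (N.mul_mem_cancel_left (mul_mem (hI _ hr) (hI _ hs))).1 (hI _ h)
    have h1 := card_mul_index (centralizer ({t} : Set G))
    rw [hC] at h1
    obtain ⟨P, tP, PC⟩ := CL.CS.exists_sylow_le_of_not_dvd_index' (p := 2)
      (H := centralizer ({t} : Set G)) (by omega)
      (CL.Small.isPGroup_zpowers_of_orderOf (k := 1) ht) (zpowers_le.2 tC)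
    rw [← P.normalizer_sup_eq_top' (PC.trans hCN), eq_comm, sup_eq_right]
    refine fun g hg => hCN (mem_centralizer_singleton_iff.2 (by_contra fun h => ?_))
    have hv := (hg t).1 (tP (mem_zpowers t))
    have h3 := (by decide +kernel : ∀ r : T, r * r = 1 → r ≠ 1 → r ≠ z →
      Fintype.card {k : T // k * r = r * k} = 4) (e ⟨_, PC hv⟩)
      (by rw [← map_mul, e.map_eq_one_iff, Subtype.ext_iff]; simp [mul_assoc, ← mul_assoc t, tt])
      (by simp [Subtype.ext_iff, t1])
      (by rw [← hz, e.injective.ne_iff, Ne, Subtype.ext_iff]; exact mt mul_inv_eq_iff_eq_mul.1 h)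
    have h4 := Nat.card_le_card_of_injective (fun x : (P : Subgroup G) =>
      (⟨e ⟨x, PC x.2⟩, by
        rw [← map_mul, ← map_mul]
        refine congrArg e (Subtype.ext ?_)
        have := mem_centralizer_singleton_iff.1 (PC ((inv_mem hg x).1 x.2))
        calc x * (g * t * g⁻¹) = g * (g⁻¹ * x * g⁻¹⁻¹ * t) * g⁻¹ := by group
          _ = g * t * g⁻¹ * x := by rw [this]; group⟩ :
        {k : T // k * e ⟨_, PC hv⟩ = e ⟨_, PC hv⟩ * k}))
      fun x y h => Subtype.ext (congrArg Subtype.val (e.injective (congrArg Subtype.val h)) :)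
    have h5 := Nat.le_of_dvd Nat.card_pos (P.pow_dvd_card_of_pow_dvd_card (n := 4) (by omega))
    rw [Nat.card_eq_fintype_card (α := {k : T // _}), h3] at h4
    omega
  left
  have fix : ∀ v, orderOf v = 2 → ∀ g ∈ N, v * g * v⁻¹ = g → g = 1 := by
    intro v hv
    obtain ⟨c, rfl⟩ := isConj_iff.1 (hcl v hv)
    suffices ∀ g ∈ N, t * g * t⁻¹ = g → g = 1 from fun g hg h => by
      have := this _ (hN.conj_mem g hg c⁻¹) (by nth_rw 2 [← h]; group)
      rwa [conj_eq_one_iff] at this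
    intro g hg h
    have gC := mem_centralizer_singleton_iff.2 (mul_inv_eq_iff_eq_mul.1 h).symm
    by_contra g1
    obtain ⟨k, n, m, h3⟩ := (by decide +kernel : ∀ g : T, g ≠ 1 → ∃ k : T, ∃ n : Fin 2,
      ∃ m : Fin 5, (g ^ n.1 * (k * g * k⁻¹)) ^ m.1 = z) (e ⟨g, gC⟩)
      (by simp [Subtype.ext_iff, g1])
    obtain ⟨k, rfl⟩ := e.surjective k
    simp only [← hz, ← map_mul, ← map_inv, ← map_pow, e.injective.eq_iff, Subtype.ext_iff] at h3
    exact h2 ((show _ = t from h3) ▸ pow_mem (mul_mem (pow_mem hg _) (hN.conj_mem g hg k)) _)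
  have inv : ∀ v, orderOf v = 2 → ∀ g ∈ N, v * g * v⁻¹ = g⁻¹ := fun v hv g hg =>
    congrArg Subtype.val (congrFun (MonoidHom.FixedPointFree.coe_eq_inv_of_involutive
      (φ := MulAut.conjNormal (H := N) v) (fun x h => Subtype.ext (fix v hv x x.2
        (congrArg Subtype.val h))) fun x => Subtype.ext (by
          change v * (v * x * v⁻¹) * v⁻¹ = x
          calc _ = v ^ 2 * x * (v ^ 2)⁻¹ := by rw [sq]; group
            _ = _ := by rw [← hv, pow_orderOf_eq_one]; group)) ⟨g, hg⟩)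
  obtain ⟨s, h3, h4, h5⟩ := (by decide +kernel : ∃ s : T, s * s = 1 ∧ s ≠ 1 ∧ s * z ≠ 1)
  obtain ⟨s, rfl⟩ := e.surjective s
  simp only [← hz, ← map_mul, Ne, e.map_eq_one_iff, Subtype.ext_iff] at h3 h4 h5
  have st : Commute (s : G) t := mem_centralizer_singleton_iff.1 s.2
  refine eq_bot_iff.2 fun g hg => fix (s * t) (orderOf_eq_prime (by
    rw [st.mul_pow, sq, sq, tt, mul_one]; exact h3) h5) g hg ?_
  calc s * t * g * (s * t)⁻¹ = s * (t * g * t⁻¹) * (s : G)⁻¹ := by group
    _ = g := by rw [inv t ht g hg, inv s (orderOf_eq_prime (by rw [sq]; exact h3) h4) _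
      (inv_mem hg), inv_inv]

/-- Let G be a finite group with O²(G) = G (no proper normal subgroup of 2-power index), and let t be an involution of G whose centralizer C_G(t) is isomorphic to GL₂(3). Then G is isomorphic to PSL₃(3) or to the Mathieu group M₁₁. -/
theorem result {G : Type*} [Group G] [Finite G] (hO : Cfsg.pResidual 2 G = ⊤) (t : G) (ht : orderOf t = 2) (hC : Nonempty (↥(Subgroup.centralizer ({t} : Set G)) ≃* GL (Fin 2) (ZMod 3))) : (∃ (F : Type) (_ : Field F) (_ : Fintype F), Fintype.card F = 3 ∧ Nonempty (G ≃* Matrix.ProjectiveSpecialLinearGroup (Fin 3) F)) ∨ Cfsg.Spor.IsoM11 G := by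
  obtain ⟨e⟩ := hC
  have := simple (CL.Iso.pResidual_two_eq_top_iff.1 hO) ht e
  exact (Cfsg.Agent.S0197.result t ht e).imp CL.Ord.iso_L33 CL.Ord.iso_M11

end Cfsg.Agent.S2916
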