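import Cfsg.Statements.S0799
import Cfsg.Agent.CLAS.DicksonSub

set_option autoImplicit false
open Cfsg

namespace Cfsg.Agent.S0799

open CL.Dk CL.PGL2

/-- Dickson's classification of the subgroups of PSL_2(q), q a power of the prime p, d = gcd(2, q − 1): every subgroup H is (a) cyclic or dihedral with k dividing (q+1)/d or (q−1)/d (cyclic of order k, or dihedral of order 2k), (b) isomorphic to a subgroup of the normaliser of a Sylow p-subgroup, (c) isomorphic to A_4, S_4 or A_5, or (d) isomorphic to PSL_2(K) or PGL_2(K) for a finite field K with |K|^m = q. -/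
theorem result {F : Type*} [Field F] [Fintype F] {q : ℕ} (hF : Fintype.card F = q) (p : ℕ) [Fact p.Prime] [CharP F p] (H : Subgroup (Matrix.ProjectiveSpecialLinearGroup (Fin 2) F)) : (∃ k : ℕ, (k ∣ (q + 1) / Nat.gcd 2 (q - 1) ∨ k ∣ (q - 1) / Nat.gcd 2 (q - 1)) ∧ ((IsCyclic H ∧ Nat.card H = k) ∨ Nonempty (H ≃* DihedralGroup k))) ∨ (∃ (P : Sylow p (Matrix.ProjectiveSpecialLinearGroup (Fin 2) F)) (K : Subgroup (Matrix.ProjectiveSpecialLinearGroup (Fin 2) F)), K ≤ Subgroup.normalizer ((P : Subgroup (Matrix.ProjectiveSpecialLinearGroup (Fin 2) F)) : Set (Matrix.ProjectiveSpecialLinearGroup (Fin 2) F)) ∧ Nonempty (H ≃* K)) ∨ Nonempty (H ≃* alternatingGroup (Fin 4)) ∨ Nonempty (H ≃* Equiv.Perm (Fin 4)) ∨ Nonempty (H ≃* alternatingGroup (Fin 5)) ∨ (∃ (K : Type) (_ : Field K) (_ : Fintype K) (m : ℕ), Fintype.card K ^ m = q ∧ (Nonempty (H ≃* Matrix.ProjectiveSpecialLinearGroup (Fin 2) K) ∨ Nonempty (H ≃* Matrix.ProjGenLinGroup (Fin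 2) K))) := by
  have hq : Nat.card F = q := by rw [Nat.card_eq_fintype_card, hF]
  let e : H ≃* H.map (psl2pgl F) := H.equivMapOfInjective _ psl2pgl_injective
  have hL : H.map (psl2pgl F) ≤ pslIn F := H.map_le_range _
  set H' := H.map (psl2pgl F) with hH'
  rcases dickson_sub (algebraMap F (AlgebraicClosure F)) p H' with ⟨x, hx⟩ | ⟨x, y, h1, h2, h3⟩ |
    ⟨h, -⟩ | ⟨⟨h⟩, -⟩ | ⟨k, h, h1, h2⟩
  · right; left
    have hne : unp (psl2pgl F) x ≠ ⊥ := by
      intro e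
      apply unipAt_ne_bot x
      rw [← Subgroup.map_comap_eq_self (unipAt_le_pslIn x)]
      exact (Subgroup.map_eq_bot_iff_of_injective _ psl2pgl_injective).2 e
    obtain ⟨P, hP⟩ := exists_sylow_eq_unp p psl2pgl_injective hne
    refine ⟨P, H, ?_, ⟨MulEquiv.refl _⟩⟩
    rw [hP, normalizer_unp psl2pgl_injective hne]
    exact fun g hg => hx ⟨g, hg, rfl⟩
  · left
    have hd : Nat.gcd 2 (q - 1) ≠ 0 := Nat.gcd_ne_zero_left (by norm_num)
    have hdv : Nat.card ↥(pairT (mapG (algebraMap F (AlgebraicClosure F))) x y ⊓ H') ∣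
        Nat.card ↥(pairT (mapG (algebraMap F (AlgebraicClosure F))) x y ⊓ pslIn F) :=
      Subgroup.card_dvd_of_le (inf_le_inf_left _ hL)
    have hg := gcd_mul_card_pairT_inf_pslIn _ h1 h2
    refine ⟨Nat.card ↥(pairT (mapG (algebraMap F (AlgebraicClosure F))) x y ⊓ H'), ?_, ?_⟩
    · rcases (torus_data _ h1 h2).1 with ⟨-, -, e⟩ | ⟨-, -, e⟩
      · right
        rw [e, hq] at hg
        rwa [← hg, hg, Nat.div_eq_of_eq_mul_right (Nat.pos_of_ne_zero hd) hg.symm]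
      · left
        rw [e, hq] at hg
        rwa [Nat.div_eq_of_eq_mul_right (Nat.pos_of_ne_zero hd) hg.symm]
    · by_cases hs : H' ≤ pairT (mapG (algebraMap F (AlgebraicClosure F))) x y
      · left
        have := isCyclic_pairT (mapG_injective (algebraMap F (AlgebraicClosure F))) h1
        have : IsCyclic H' := Subgroup.isCyclic_of_le hs
        exact ⟨(MulEquiv.isCyclic e).2 this, by rw [inf_of_le_right hs, Nat.card_congr e.toEquiv]⟩
      · right
        exact ⟨e.trans (dihedral_of_le_pairN (mapG_injective _) h1 h3 hs).some⟩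
  · rcases h with ⟨⟨h⟩⟩ | ⟨⟨h⟩⟩ | ⟨⟨h⟩⟩
    · exact Or.inr (Or.inr (Or.inl ⟨e.trans h⟩))
    · exact Or.inr (Or.inr (Or.inr (Or.inl ⟨e.trans h⟩)))
    · exact Or.inr (Or.inr (Or.inr (Or.inr (Or.inl ⟨e.trans h⟩))))
  · exact Or.inr (Or.inr (Or.inr (Or.inr (Or.inl ⟨e.trans h⟩))))
  · refine Or.inr (Or.inr (Or.inr (Or.inr (Or.inr ?_))))
    obtain ⟨k', _, _, hc, ⟨e1⟩, ⟨e2⟩⟩ := exists_small_model k.subtype
    obtain ⟨m, -, hm⟩ := exists_card_pow_of_ringHom k.subtype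
    refine ⟨k', inferInstance, inferInstance, m, by rw [hc, hm, hq], ?_⟩
    rcases h2 with h2 | ⟨-, h2⟩
    · exact Or.inr ⟨(e.trans (MulEquiv.subgroupCongr h2)).trans ((cjsEquiv _ _).symm.trans e1)⟩
    · exact Or.inl ⟨(e.trans (MulEquiv.subgroupCongr h2)).trans ((cjsEquiv _ _).symm.trans e2)⟩

end Cfsg.Agent.S0799
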