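import Cfsg.Statements.S3276
import Cfsg.Agent.INV.SylowRel

set_option autoImplicit false
open Cfsg

namespace Cfsg.Agent.S3276

/-- Let x and y be commuting, non-conjugate involutions of a finite group G, and suppose that for every involution u commuting with x, each conjugate of y that commutes with u also commutes with y. Then the normal closure of y is a proper, normal, elementary abelian 2-subgroup of G; and if y is the only involution of that normal closure commuting with x, it has order at most 4. -/
theorem result {G : Type*} [Group G] [Finite G] (x y : G) (hx : orderOf x = 2) (hy : orderOf y = 2)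
    (hxy : Commute x y) (hnc : ¬ IsConj x y)
    (hstar : ∀ u : G, orderOf u = 2 → Commute u x → ∀ g : G, Commute (g * y * g⁻¹) u → Commute (g * y * g⁻¹) y) :
    Subgroup.normalClosure ({y} : Set G) ≠ ⊤ ∧ Cfsg.IsElementaryAbelian 2 (Subgroup.normalClosure ({y} : Set G)) ∧
      ((∀ u ∈ Subgroup.normalClosure ({y} : Set G), orderOf u = 2 → Commute u x → u = y) →
        Nat.card ↥(Subgroup.normalClosure ({y} : Set G)) ≤ 4) := by
  have hx2 := CL.TwoInv.mul_self_of_orderOf_eq_two hx
  have hy2 := CL.TwoInv.mul_self_of_orderOf_eq_two hy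
  have hcomm : ∀ g : G, Commute (g * y * g⁻¹) y := fun g => by
    rcases CL.TwoInv.isConj_or_exists_commute hx2 (CL.TwoInv.mul_self_of_orderOf_eq_two
      (x := g * y * g⁻¹) (by rw [CL.TwoInv.orderOf_conj, hy])) with h | ⟨u, -, hu, hux, huy⟩
    · exact absurd (h.trans (isConj_iff.2 ⟨g, rfl⟩).symm) hnc
    · exact hstar u hu hux g huy.symm
  have hE : IsElementaryAbelian 2 (Subgroup.normalClosure ({y} : Set G)) :=
    CL.SylowRel.isElementaryAbelian_normalClosure (by rintro _ rfl _ rfl; exact hcomm)
      (by rintro _ rfl; rw [pow_two, hy2])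
  have hyN : y ∈ Subgroup.normalClosure ({y} : Set G) := Subgroup.subset_normalClosure rfl
  refine ⟨fun htop => ?_, hE, fun huniq => ?_⟩
  · have hc : ∀ a b : G, a * b = b * a := fun a b =>
      (CL.Rank.isElementaryAbelian_iff.1 hE).1 a (htop ▸ Subgroup.mem_top a) b
        (htop ▸ Subgroup.mem_top b)
    have hn : (Subgroup.zpowers y).Normal := ⟨fun n hn g => by rwa [hc g n, mul_inv_cancel_right]⟩
    have hle : Subgroup.normalClosure ({y} : Set G) ≤ Subgroup.zpowers y :=
      Subgroup.normalClosure_le_normal (by simp)
    have := CL.SylowAux.eq_of_isCyclic_subgroup inferInstance (hle (htop ▸ Subgroup.mem_top x))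
      (Subgroup.mem_zpowers y) hx hy
    exact hnc (this ▸ IsConj.refl x)
  · have hN : (Subgroup.normalClosure ({y} : Set G)).Normal := inferInstance
    have h1 := CL.SylowRel.card_le_card_centralizer_sq hE (x := x)
      (fun n hn => hN.conj_mem n hn x) (fun n _ => by
        calc x * (x * n * x⁻¹) * x⁻¹ = (x * x) * n * (x * x)⁻¹ := by group
          _ = n := by rw [hx2]; group)
    have h2 : Subgroup.normalClosure ({y} : Set G) ⊓ Subgroup.centralizer ({x} : Set G) ≤
        Subgroup.zpowers y := fun u hu => by
      by_cases hu1 : u = 1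
      · rw [hu1]; exact one_mem _
      · rw [huniq u hu.1 (CL.TwoInv.orderOf_eq_two_of
          (CL.Rank.isElementaryAbelian_two_iff.1 hE u hu.1) hu1)
          (Subgroup.mem_centralizer_singleton_iff.1 hu.2)]
        exact Subgroup.mem_zpowers y
    have h3 := Subgroup.card_le_of_le h2
    rw [Nat.card_zpowers, hy] at h3
    exact h1.trans (Nat.pow_le_pow_left h3 2)

end Cfsg.Agent.S3276
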