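import Cfsg.Statements.S3277
import Cfsg.Agent.INV.ElemCentA5
import Cfsg.Agent.INV.SylowRel
import Cfsg.Agent.S3276

set_option autoImplicit false
open Cfsg

namespace Cfsg.Agent.S3277

theorem card_centralizer_conj {G : Type*} [Group G] (x g : G) :
    Subgroup.centralizer ({g * x * g⁻¹} : Set G) =
      (Subgroup.centralizer ({x} : Set G)).map (MulAut.conj g).toMonoidHom := by
  ext c
  rw [CL.SylowAux.mem_map_conj_iff, Subgroup.mem_centralizer_singleton_iff,
    Subgroup.mem_centralizer_singleton_iff]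
  constructor
  · intro h
    calc g⁻¹ * c * g * x = g⁻¹ * (c * (g * x * g⁻¹)) * g := by group
      _ = _ := by rw [h]; group
  · intro h
    calc c * (g * x * g⁻¹) = g * (g⁻¹ * c * g * x) * g⁻¹ := by group
      _ = _ := by rw [h]; group

/-- Let G be a finite group containing an involution whose centralizer is elementary abelian of order 4. If G has no normal 2-complement and no normal elementary abelian 2-subgroup of order 2 or 4, then G is isomorphic to the alternating group of degree 5 (that is, to PSL(2, 5)). -/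
theorem result {G : Type*} [Group G] [Finite G] (x : G) (hx : orderOf x = 2)
    (hC4 : Nat.card ↥(Subgroup.centralizer ({x} : Set G)) = 4) (hCe : ∀ c ∈ Subgroup.centralizer ({x} : Set G), c ^ 2 = 1)
    (hnc : ¬ Cfsg.HasNormalPComplement 2 G)
    (hne : ∀ E : Subgroup G, E.Normal → Cfsg.IsElementaryAbelian 2 E → Nat.card ↥E ≠ 2 ∧ Nat.card ↥E ≠ 4) :
    Nonempty (G ≃* ↥(alternatingGroup (Fin 5))) := by
  have hV : IsKleinFour (Subgroup.centralizer ({x} : Set G)) :=
    CL.Four.isKleinFour_iff.2 ⟨hC4, fun c hc => by rw [← pow_two, hCe c hc]⟩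
  have hx1 := CL.TwoInv.ne_one_of_orderOf_eq_two hx
  have hconj : ∀ t : G, IsConj x t → IsKleinFour (Subgroup.centralizer ({t} : Set G)) :=
    fun t ht => by
      obtain ⟨g, rfl⟩ := isConj_iff.1 ht
      rw [card_centralizer_conj]
      exact CL.Four.isKleinFour_map hV (MulAut.conj g).injective
  have hxV : x ∈ Subgroup.centralizer ({x} : Set G) := Subgroup.mem_centralizer_singleton_iff.2 rfl
  obtain ⟨S, hS⟩ := (CL.Four.isPGroup hV).exists_le_sylow
  rcases hS.eq_or_lt with hS | hS
  · have hS4 : IsKleinFour (S : Subgroup G) := hS ▸ hV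
    rcases CL.Four.sylow_four_dichotomy S hS4 with h | h
    · refine CL.ElemCent.nonempty_mulEquiv_A5 S (fun hn => (hne _ hn
        (CL.Four.isElementaryAbelian hS4)).2 hS4.card_four) (fun t ht => ?_) hS4
      have := hconj t (CL.Four.isConj_of_sylow_fused S (fun a ha b hb ha2 hb2 => by
        obtain ⟨n, -, hn⟩ := h a ha b hb (CL.TwoInv.ne_one_of_orderOf_eq_two ha2)
          (CL.TwoInv.ne_one_of_orderOf_eq_two hb2)
        exact isConj_iff.2 ⟨n, hn⟩) hx ht)
      exact CL.Four.isElementaryAbelian this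
    · exact absurd ⟨S, _, inferInstance, MonoidHom.ker_transferSylow_isComplement' S h⟩ hnc
  exfalso
  obtain ⟨g, hgS, hgN, hgV⟩ := CL.SylowAux.exists_mem_normalizer_of_lt S.2 hS
  have : Nontrivial (S : Subgroup G) := (Subgroup.nontrivial_iff_ne_bot _).2 (ne_bot_of_gt hS)
  have := S.2.center_nontrivial
  obtain ⟨z₀, hz₀⟩ := CL.SylowAux.exists_orderOf_eq_two_of_even
    (G := Subgroup.center (S : Subgroup G)) (by
      rcases (S.2.to_subgroup (Subgroup.center (S : Subgroup G))).card_eq_or_dvd with h | h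
      · exact absurd h (Finite.one_lt_card).ne'
      · exact even_iff_two_dvd.2 h)
  have hz : orderOf ((z₀ : (S : Subgroup G)) : G) = 2 := by
    rw [Subgroup.orderOf_coe, Subgroup.orderOf_coe, hz₀]
  have hzc : ∀ a ∈ (S : Subgroup G), a * (z₀ : (S : Subgroup G)) = (z₀ : (S : Subgroup G)) * a :=
    fun a ha => congrArg Subtype.val (Subgroup.mem_center_iff.1 z₀.2 ⟨a, ha⟩)
  generalize ((z₀ : (S : Subgroup G)) : G) = z at hz hzc
  have hz1 := CL.TwoInv.ne_one_of_orderOf_eq_two hz
  have hzV : z ∈ Subgroup.centralizer ({x} : Set G) :=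
    Subgroup.mem_centralizer_singleton_iff.2 (hzc x (hS.le hxV)).symm
  have hnc' : ¬ IsConj x z := fun h => by
    have h1 : (S : Subgroup G) ≤ Subgroup.centralizer ({z} : Set G) := fun a ha =>
      Subgroup.mem_centralizer_singleton_iff.2 (hzc a ha)
    have h2 := Subgroup.card_le_of_le h1
    rw [(hconj z h).card_four, ← hC4] at h2
    exact hS.ne (Subgroup.eq_of_le_of_card_ge hS.le h2)
  have hxz : x ≠ z := fun e => hnc' (e ▸ IsConj.refl x)
  have hxzc : IsConj x (x * z) := by
    refine isConj_iff.2 ⟨g, ?_⟩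
    rcases CL.Four.eq_or_of_mem hV hxV hzV ((Subgroup.mem_normalizer_iff.1 hgN x).1 hxV) hx1 hz1 hxz
      with h | h | h | h
    · simp [hx1] at h
    · exact absurd (Subgroup.mem_centralizer_singleton_iff.2 (mul_inv_eq_iff_eq_mul.1 h)) hgV
    · exact absurd (isConj_iff.2 ⟨g, h⟩) hnc'
    · exact h
  have hcz : ∀ u ∈ Subgroup.centralizer ({x} : Set G), IsConj x u → ∀ c : G, Commute c u →
      c ∈ Subgroup.centralizer ({x} : Set G) := fun u hu huc c hc => by
    have h1 : Subgroup.centralizer ({x} : Set G) ≤ Subgroup.centralizer ({u} : Set G) :=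
      fun a ha => Subgroup.mem_centralizer_singleton_iff.2 (CL.Four.comm_of_mem hV ha hu)
    rw [Subgroup.eq_of_le_of_card_ge h1 (by rw [(hconj u huc).card_four, hC4])]
    exact Subgroup.mem_centralizer_singleton_iff.2 hc.eq
  obtain ⟨-, hE, hcard⟩ := Cfsg.Agent.S3276.result x z hx hz (hzc x (hS.le hxV)) hnc'
    fun u hu hux k hk => by
      have huV := Subgroup.mem_centralizer_singleton_iff.2 hux.eq
      rcases CL.Four.eq_or_of_mem hV hxV hzV huV hx1 hz1 hxz with h | h | h | h
      · exact absurd h (CL.TwoInv.ne_one_of_orderOf_eq_two hu)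
      · exact CL.Four.comm_of_mem hV (hcz u huV (h ▸ IsConj.refl u) _ hk) hzV
      · exact h ▸ hk
      · exact CL.Four.comm_of_mem hV (hcz u huV (h ▸ hxzc) _ hk) hzV
  have hle : Nat.card (Subgroup.normalClosure ({z} : Set G)) ≤ 4 := by
    by_cases hall : ∀ u ∈ Subgroup.normalClosure ({z} : Set G), orderOf u = 2 → Commute u x → u = z
    · exact hcard hall
    push Not at hall
    obtain ⟨u, huN, hu, hux, huz⟩ := hall
    have huV := Subgroup.mem_centralizer_singleton_iff.2 hux.eq
    have huc : IsConj x u := by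
      rcases CL.Four.eq_or_of_mem hV hxV hzV huV hx1 hz1 hxz with h | h | h | h
      · exact absurd h (CL.TwoInv.ne_one_of_orderOf_eq_two hu)
      · exact h ▸ IsConj.refl u
      · exact absurd h huz
      · exact h ▸ hxzc
    rw [← hC4]
    exact Subgroup.card_le_of_le fun c hc => hcz u huV huc c
      ((CL.Rank.isElementaryAbelian_iff.1 hE).1 c hc u huN)
  obtain ⟨h2, h4⟩ := hne _ inferInstance hE
  obtain ⟨k, hk⟩ := (CL.Rank.isPGroup_of_isElementaryAbelian hE).exists_card_eq
  have hev := CL.SylowAux.even_card_of_mem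
    (Subgroup.subset_normalClosure (s := ({z} : Set G)) rfl) hz
  rw [hk] at hle h2 h4 hev
  have hk3 : k < 3 := (Nat.pow_lt_pow_iff_right one_lt_two).1 (by omega)
  interval_cases k <;> simp_all

end Cfsg.Agent.S3277
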