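import Cfsg.Statements.S0491
import Cfsg.Agent.TECH.S2L.Minimal
import Cfsg.Agent.KSG.PSL2Basic
import Cfsg.Agent.CLAS.SLBasic
import Cfsg.Agent.CHEV.SzCount
import Cfsg.Agent.PLOC.S4F.Class
import Cfsg.Agent.S0494

set_option autoImplicit false
open Cfsg

namespace Cfsg.Agent.S0491

open Subgroup CL CL.GL2
open scoped MatrixGroups

theorem four {n a b c d : ℕ} (hn : n ≠ 0) (h : n.primeFactors.card ≤ 3) (ha : a ∣ n) (hb : b ∣ n)
    (hc : c ∣ n) (hd : d ∣ n) (a1 : a ≠ 1) (b1 : b ≠ 1) (c1 : c ≠ 1) (d1 : d ≠ 1)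
    (ab : a.Coprime b) (ac : a.Coprime c) (ad : a.Coprime d) (bc : b.Coprime c) (bd : b.Coprime d)
    (cd : c.Coprime d) : False := by
  have key : ∀ {x y : ℕ}, x ≠ 1 → x.Coprime y → x.minFac ≠ y.minFac := fun {x y} h1 h2 e =>
    (Nat.minFac_prime h1).ne_one (Nat.eq_one_of_dvd_coprimes h2 x.minFac_dvd (e ▸ y.minFac_dvd))
  have mem : ∀ {x : ℕ}, x ≠ 1 → x ∣ n → x.minFac ∈ n.primeFactors := fun h1 h2 =>
    Nat.mem_primeFactors.2 ⟨Nat.minFac_prime h1, (Nat.minFac_dvd _).trans h2, hn⟩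
  have := Finset.card_le_card (show {a.minFac, b.minFac, c.minFac, d.minFac} ⊆ n.primeFactors by
    simp only [Finset.insert_subset_iff, Finset.singleton_subset_iff]
    exact ⟨mem a1 ha, mem b1 hb, mem c1 hc, mem d1 hd⟩)
  rw [Finset.card_insert_of_notMem (by simp [key a1 ab, key a1 ac, key a1 ad]),
    Finset.card_insert_of_notMem (by simp [key b1 bc, key b1 bd]),
    Finset.card_pair (key c1 cd)] at this
  omega

theorem pow_three {n x m : ℕ} (hn : n ≠ 0) (h : n.primeFactors.card ≤ 3) (h6 : 6 ∣ n) (hx : x ∣ n)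
    (x1 : x ≠ 1) (x2 : ¬ 2 ∣ x) (x3 : ¬ 3 ∣ x) (hm : m ∣ n) (m2 : ¬ 2 ∣ m) (hc : x.Coprime m) :
    ∃ k, m = 3 ^ k := by
  refine ⟨_, Nat.eq_prime_pow_of_unique_prime_dvd (by omega) fun {d} hd h1 => ?_⟩
  by_contra h3
  exact four hn h (a := 2) (b := 3) (by omega) (by omega) hx (h1.trans hm) (by omega) (by omega) x1
    hd.ne_one (by norm_num) (Nat.prime_two.coprime_iff_not_dvd.2 x2)
    ((Nat.coprime_primes Nat.prime_two hd).2 (by rintro rfl; exact m2 h1))
    (Nat.prime_three.coprime_iff_not_dvd.2 x3) ((Nat.coprime_primes Nat.prime_three hd).2 (Ne.symm h3))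
    (hc.coprime_dvd_right h1)

theorem three_pow_mod (b : ℕ) : 3 ^ b % 8 = if b % 2 = 0 then 1 else 3 := by
  induction b with
  | zero => rfl
  | succ b ih => rw [pow_succ]; split_ifs at ih ⊢ <;> omega

theorem two_pow_add_one {c b : ℕ} (h : 2 ^ c + 1 = 3 ^ b) (hc : 3 ≤ c) : c = 3 := by
  have h1 := three_pow_mod b
  have h2 : 8 ∣ 2 ^ c := pow_dvd_pow 2 hc
  obtain ⟨k, rfl⟩ : ∃ k, b = 2 * k := ⟨b / 2, by split_ifs at h1 <;> omega⟩
  obtain ⟨y, hy⟩ : ∃ y, 3 ^ k = y + 1 := ⟨3 ^ k - 1, (Nat.sub_add_cancel (Nat.one_le_pow _ _ three_pos)).symm⟩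
  rw [mul_comm, pow_mul, hy] at h
  have h3 : 2 ^ c = y * (y + 2) := by nlinarith
  obtain ⟨i, -, hi⟩ := (Nat.dvd_prime_pow Nat.prime_two).1 (h3 ▸ dvd_mul_right y (y + 2))
  obtain ⟨j, -, hj⟩ := (Nat.dvd_prime_pow Nat.prime_two).1 (h3 ▸ dvd_mul_left (y + 2) y)
  have h4 : y ≤ 2 := by
    by_contra h4
    have a1 : 4 ∣ y := hi ▸ pow_dvd_pow 2 (show 2 ≤ i from
      (Nat.pow_lt_pow_iff_right one_lt_two).1 (by omega))
    have a2 : 4 ∣ y + 2 := hj ▸ pow_dvd_pow 2 (show 2 ≤ j from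
      (Nat.pow_lt_pow_iff_right one_lt_two).1 (by omega))
    omega
  exact hc.antisymm' ((Nat.pow_le_pow_iff_right one_lt_two).1 (by nlinarith))

theorem prime_case {p n : ℕ} (hp : p.Prime) (h5 : 5 < p) (hn : 2 * n = p * (p + 1) * (p - 1))
    (h : n.primeFactors.card ≤ 3) : p = 7 ∨ p = 17 := by
  have p2 : ¬ 2 ∣ p := fun h => by have := (Nat.prime_dvd_prime_iff_eq Nat.prime_two hp).1 h; omega
  have p3 : ¬ 3 ∣ p := fun h => by have := (Nat.prime_dvd_prime_iff_eq Nat.prime_three hp).1 h; omega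
  obtain ⟨s, rfl⟩ : ∃ s, p = 2 * s + 1 := ⟨p / 2, by omega⟩
  obtain rfl : n = (2 * s + 1) * (2 * (s * (s + 1))) := by
    rw [Nat.add_sub_cancel] at hn
    nlinarith
  have h6 : 6 ∣ (2 * s + 1) * (2 * (s * (s + 1))) := by
    refine Dvd.dvd.mul_left (mul_dvd_mul_left 2 (show 3 ∣ s * (s + 1) from ?_)) _
    rcases (by omega : s % 3 = 0 ∨ s % 3 = 1 ∨ s % 3 = 2) with h | h | h
    exacts [Dvd.dvd.mul_right (by omega) _, by omega, Dvd.dvd.mul_left (by omega) _]
  have key : ∀ m, m ∣ s * (s + 1) → m ≤ s + 1 → ¬ 2 ∣ m → ∃ k, m = 3 ^ k := fun m h1 h2 h3 =>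
    pow_three (by have : 0 < s := by omega
                  positivity) h h6 (dvd_mul_right _ _) hp.ne_one p2 p3 ((h1.mul_left 2).mul_left _) h3
      (Nat.coprime_of_lt_prime (by omega) (by omega) hp)
  have key2 : ∀ m, m ≠ 0 → m ∣ s * (s + 1) → m ≤ s + 1 → ¬ 3 ∣ m → ∃ k, m = 2 ^ k :=
    fun m h0 h1 h2 h3 => ⟨_, Nat.eq_prime_pow_of_unique_prime_dvd h0 fun {d} hd h4 => by
      by_contra h5
      obtain ⟨k, rfl⟩ := key d (h4.trans h1) ((Nat.le_of_dvd (by omega) h4).trans h2)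
        fun h => h5 ((Nat.prime_dvd_prime_iff_eq Nat.prime_two hd).1 h).symm
      exact h3 ((dvd_pow_self 3 (by rintro rfl; exact hd.ne_one rfl)).trans h4)⟩
  have big : ∀ k, 3 ≤ 2 ^ k → 2 ^ k = 4 ∨ 3 ≤ k := fun k hk => by
    have : 2 ≤ k := (Nat.pow_lt_pow_iff_right one_lt_two).1 hk
    exact this.eq_or_lt.imp_left fun e : 2 = k => e ▸ rfl
  by_cases h3 : 3 ∣ s
  · obtain ⟨k, hk⟩ := key2 (s + 1) (by omega) (dvd_mul_left _ _) le_rfl (by omega)
    rcases big k (by omega) with h4 | h4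
    · omega
    have h8 : 8 ∣ 2 ^ k := pow_dvd_pow 2 h4
    obtain ⟨j, hj⟩ := key s (dvd_mul_right _ _) (by omega) (by omega)
    have := three_pow_mod j
    split_ifs at this <;> omega
  · obtain ⟨k, hk⟩ := key2 s (by omega) (dvd_mul_right _ _) (by omega) h3
    rcases big k (by omega) with h4 | h4
    · omega
    have h8 : 8 ∣ 2 ^ k := pow_dvd_pow 2 h4
    obtain ⟨j, hj⟩ := key (s + 1) (dvd_mul_left _ _) le_rfl (by omega)
    obtain rfl := two_pow_add_one (hk ▸ hj) h4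
    omega

theorem list {S : Type*} [Group S] [Finite S] [IsSimpleGroup S] (h : S2L.MinList S)
    (h3 : (Nat.card S).primeFactors.card ≤ 3) :
    ∃ (F : Type) (_ : Field F) (_ : Fintype F),
      ((Fintype.card F = 5 ∨ Fintype.card F = 7 ∨ Fintype.card F = 8 ∨ Fintype.card F = 17) ∧
        Nonempty (S ≃* PSL(2, F))) ∨ (Fintype.card F = 3 ∧ Nonempty (S ≃* PSL(3, F))) := by
  classical
  have h0 : Nat.card S ≠ 0 := Nat.card_pos.ne'
  rcases h with ⟨F, i1, i2, h, ⟨e⟩⟩ | ⟨F, i1, i2, h, e⟩ | ⟨F, _, _, m, hm, -, hF, e⟩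
  · have h1 := gcd_mul_card_PSL2 (F := F)
    rw [← Nat.card_congr e.toEquiv] at h1
    rcases h with ⟨r, hr, h⟩ | ⟨r, hr, h2, h⟩ | ⟨hp, h2, -⟩ | h
    · by_cases h2 : r = 2
      · subst h2
        have : Fact (Nat.Prime 5) := ⟨by norm_num⟩
        rw [h, show Nat.gcd 2 (2 ^ 2 - 1) = 1 from rfl, one_mul] at h1
        obtain ⟨a, ha, ha'⟩ := SL.exists_sq_ne_one_of_four_le_card (F := ZMod 5) (by simp)
        have : IsSimpleGroup PSL(2, ZMod 5) :=
          SL.psl_isSimpleGroup_of_perfect (SL.commutator_eq_top_of_sq_ne_one ha ha')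
        have h4 := gcd_mul_card_PSL2 (F := ZMod 5)
        rw [ZMod.card, show Nat.gcd 2 (5 - 1) = 2 from rfl] at h4
        obtain ⟨f⟩ := S0494.result h1
        obtain ⟨f'⟩ := S0494.result (G := PSL(2, ZMod 5)) (by omega)
        exact ⟨ZMod 5, _, _, Or.inl ⟨Or.inl (ZMod.card 5), ⟨f.trans f'.symm⟩⟩⟩
      obtain ⟨s, rfl⟩ := hr.odd_of_ne_two h2
      have h4 : 3 ≤ 2 * s + 1 := hr.two_le.lt_of_ne' h2
      have h5 : 8 ∣ Fintype.card F := h ▸ pow_dvd_pow 2 h4
      have h6 : Fintype.card F % 3 = 2 := by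
        rw [h, pow_succ, pow_mul, Nat.mul_mod, Nat.pow_mod]; simp
      have h7 := Fintype.card_pos (α := F)
      rw [gcd_even (two_eq_zero_of_even (by omega)), one_mul] at h1
      obtain ⟨k, hk⟩ := pow_three (x := Fintype.card F - 1) (m := Fintype.card F + 1) h0 h3
        (h1 ▸ (mul_dvd_mul (show 2 ∣ _ by omega) (show 3 ∣ _ by omega)).mul_right _)
        (h1 ▸ dvd_mul_left _ _) (by omega) (by omega) (by omega)
        (h1 ▸ (dvd_mul_left _ _).mul_right _) (by omega) (by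
          rw [show Fintype.card F + 1 = 2 + (Fintype.card F - 1) by omega, Nat.coprime_add_self_right,
            Nat.coprime_two_right, Nat.odd_iff]
          omega)
      refine ⟨F, i1, i2, Or.inl ⟨?_, ⟨e⟩⟩⟩
      rw [h, two_pow_add_one (h ▸ hk) h4]
      norm_num
    · have h4 := three_pow_mod r
      rw [if_neg (by have := hr.eq_two_or_odd; omega), ← h] at h4
      have h5 : 27 ∣ Fintype.card F := h ▸ pow_dvd_pow 3 (show 3 ≤ r from hr.two_le.lt_of_ne' h2)
      obtain ⟨s, hs⟩ : ∃ s, Fintype.card F = 8 * s + 3 := ⟨Fintype.card F / 8, by omega⟩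
      rw [hs] at h1 h5
      rw [show 8 * s + 3 - 1 = 2 * (4 * s + 1) by omega, Nat.gcd_mul_right_right] at h1
      have h6 : Nat.card S = (8 * s + 3) * 4 * (2 * s + 1) * (4 * s + 1) := by linarith
      obtain ⟨k, hk⟩ := pow_three (x := 4 * s + 1) (m := 2 * s + 1) h0 h3
        (h6 ▸ ((mul_dvd_mul (show 3 ∣ _ by omega) (show 2 ∣ 4 by norm_num)).mul_right _).mul_right _)
        (h6 ▸ dvd_mul_left _ _) (by omega) (by omega) (by omega)
        (h6 ▸ (dvd_mul_left _ _).mul_right _) (by omega) (by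
          rw [show 4 * s + 1 = 2 * s + (2 * s + 1) by omega, Nat.coprime_add_self_left]
          simp)
      have : 3 ∣ 2 * s + 1 := hk ▸ dvd_pow_self 3 (by rintro rfl; omega)
      omega
    · rw [gcd_odd fun e => by
        have := (Nat.prime_dvd_prime_iff_eq Nat.prime_two hp).1 (two_dvd_card_of_two_eq_zero e)
        omega] at h1
      exact ⟨F, i1, i2, Or.inl ⟨by have := prime_case hp h2 h1 h3; omega, ⟨e⟩⟩⟩
    · exact ⟨F, i1, i2, Or.inl ⟨Or.inl h, ⟨e⟩⟩⟩
  · exact ⟨F, i1, i2, Or.inr ⟨h, e⟩⟩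
  · obtain ⟨F, _, _, _, m, hm, hF, ⟨M⟩⟩ := S4F.exists_model (G := S) ⟨F, _, _, m, hm, hF, e⟩
    have h1 := M.card_G
    have h2 := Sz.Model.coprime_four_sq_add_one (F := F)
    have h4 := Sz.Model.coprime_four_sub_one (F := F)
    have h5 := Sz.Model.coprime_sub_one_sq_add_one (F := F)
    have h6 : 2 ^ 3 ∣ Nat.card F := by
      rw [Nat.card_eq_fintype_card, hF]
      exact pow_dvd_pow 2 (by omega)
    have h7 : Nat.card F ^ 2 + 1 = Sz.kPlus m * Sz.kMinus m := by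
      rw [Nat.card_eq_fintype_card, hF, Sz.kPlus_mul_kMinus]
    have h8 := Nat.card_pos (α := F)
    rw [h7] at h1 h2 h5
    exact (four (a := 4) h0 h3
      (h1 ▸ ((Dvd.dvd.pow (by omega) two_ne_zero).mul_right _).mul_right _)
      (h1 ▸ dvd_mul_left _ _) (h1 ▸ ((dvd_mul_right _ _).mul_left _).mul_right _)
      (h1 ▸ ((dvd_mul_left _ _).mul_left _).mul_right _) (by omega) (by omega)
      (Sz.one_lt_kPlus m).ne' (Sz.one_lt_kMinus hm).ne' h4 h2.coprime_mul_right_right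
      h2.coprime_mul_left_right h5.coprime_mul_right_right h5.coprime_mul_left_right
      (Sz.coprime_kPlus_kMinus m)).elim

/-- If a finite group is not solvable and its order is divisible by at most three primes, then some subgroup has a
quotient isomorphic to a projective special linear group of dimension 2 over a field with 5, 7, 8 or 17 elements, or of
dimension 3 over the field with 3 elements. -/
theorem result {G : Type*} [Group G] [Finite G]
    (hG : ¬ Group.IsSolvable G) (h3 : (Nat.card G).primeFactors.card ≤ 3) :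
    ∃ (H : Subgroup G) (N : Subgroup H) (_ : N.Normal) (F : Type) (_ : Field F) (_ : Fintype F),
      ((Fintype.card F = 5 ∨ Fintype.card F = 7 ∨ Fintype.card F = 8 ∨ Fintype.card F = 17) ∧
          Nonempty (H ⧸ N ≃* Matrix.ProjectiveSpecialLinearGroup (Fin 2) F)) ∨
        (Fintype.card F = 3 ∧ Nonempty (H ⧸ N ≃* Matrix.ProjectiveSpecialLinearGroup (Fin 3) F)) := by
  obtain ⟨H, -, h1, h2⟩ := S2L.exists_section hG
  have := h1.1
  exact ⟨H, frattini H, inferInstance, list h2 ((Finset.card_le_card (Nat.primeFactors_mono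
    ((card_quotient_dvd_card _).trans (card_subgroup_dvd_card H)) Nat.card_pos.ne')).trans h3)⟩

end Cfsg.Agent.S0491
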