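import Cfsg.Statements.S0492
import Cfsg.Agent.S0491

set_option autoImplicit false
open Cfsg

namespace Cfsg.Agent.S0492

open Subgroup CL CL.GL2

/-- If a non-abelian finite simple group has order divisible by exactly three primes, these primes are 2, 3 and one of
5, 7, 13 or 17. -/
theorem result {G : Type*} [Group G] [Finite G] [IsSimpleGroup G]
    (hG : ¬ IsMulCommutative G) (h3 : (Nat.card G).primeFactors.card = 3) :
    (Nat.card G).primeFactors = {2, 3, 5} ∨ (Nat.card G).primeFactors = {2, 3, 7} ∨
      (Nat.card G).primeFactors = {2, 3, 13} ∨ (Nat.card G).primeFactors = {2, 3, 17} := by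
  classical
  obtain ⟨H, N, _, F, _, _, h⟩ := S0491.result (S4F.not_isSolvable_of_simple hG) h3.le
  have h1 := (card_quotient_dvd_card N).trans (card_subgroup_dvd_card H)
  have key : ∀ p, p.Prime → 3 < p → 6 * p ∣ Nat.card (H ⧸ N) →
      (Nat.card G).primeFactors = {2, 3, p} := fun p hp h4 h5 => by
    have h6 := h5.trans h1
    have h7 := (dvd_mul_right 6 p).trans h6
    refine (Finset.eq_of_subset_of_card_le ?_ ?_).symm
    · simp only [Finset.insert_subset_iff, Finset.singleton_subset_iff, Nat.mem_primeFactors]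
      exact ⟨⟨Nat.prime_two, by omega, Nat.card_pos.ne'⟩, ⟨Nat.prime_three, by omega, Nat.card_pos.ne'⟩,
        hp, (dvd_mul_left _ _).trans h6, Nat.card_pos.ne'⟩
    · rw [h3, Finset.card_insert_of_notMem (by simp; omega), Finset.card_pair h4.ne]
  rcases h with ⟨h, ⟨e⟩⟩ | ⟨h, ⟨e⟩⟩
  · have h2 := gcd_mul_card_PSL2 (F := F)
    rw [← Nat.card_congr e.toEquiv] at h2
    generalize Nat.card (H ⧸ N) = n at h2 key
    rcases h with h | h | h | h <;> rw [h] at h2 <;> norm_num at h2
    · exact Or.inl (key 5 (by norm_num) (by norm_num) (by omega))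
    · exact Or.inr (Or.inl (key 7 (by norm_num) (by norm_num) (by omega)))
    · exact Or.inr (Or.inl (key 7 (by norm_num) (by norm_num) (by omega)))
    · exact Or.inr (Or.inr (Or.inr (key 17 (by norm_num) (by norm_num) (by omega))))
  · have h2 := SL.card_SL_mul (F := F) 3 (by norm_num)
    rw [← SL.card_center_mul_card_PSL, SL.card_center_SL, ← Nat.card_congr e.toEquiv,
      Nat.card_eq_fintype_card (α := F), h, Fin.prod_univ_three] at h2
    generalize Nat.card (H ⧸ N) = n at h2 key
    norm_num at h2
    exact Or.inr (Or.inr (Or.inl (key 13 (by norm_num) (by norm_num) (by omega))))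

end Cfsg.Agent.S0492
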