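import Cfsg.Statements.S3251
import Cfsg.Agent.INV.Ix2.Main

set_option autoImplicit false
open Cfsg

namespace Cfsg.Agent.S3251

/-- Let G be a finite non-abelian simple group of order 2^a·3^b·5^c·7^d·p with a > 0 and p an odd prime occurring to the first power (a Sylow p-subgroup of G has order p), such that a Sylow p-subgroup of G has index 2 in its normalizer. Then G is isomorphic to one of PSL₂(5), PSL₂(7), PSL₂(9), PSL₂(8), PSL₂(16), PSL₂(25), PSL₂(27), PSL₂(81), PSL₂(2401), PSL₃(4). -/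
theorem result {G : Type*} [Group G] [Finite G] [IsSimpleGroup G]
    (hG : ¬ IsMulCommutative G) (a b c d p : ℕ) (ha : 0 < a) (hp : p.Prime) (hp2 : p ≠ 2)
    (hord : Nat.card G = 2 ^ a * 3 ^ b * 5 ^ c * 7 ^ d * p)
    (P : Sylow p G) (hPp : Nat.card ↥(P : Subgroup G) = p) (hN : (P : Subgroup G).relIndex (Subgroup.normalizer ((P : Subgroup G) : Set G)) = 2) :
    (∃ (F : Type) (_ : Field F) (_ : Fintype F), Fintype.card F = 5 ∧ Nonempty (G ≃* Matrix.ProjectiveSpecialLinearGroup (Fin 2) F)) ∨ (∃ (F : Type) (_ : Field F) (_ : Fintype F), Fintype.card F = 7 ∧ Nonempty (G ≃* Matrix.ProjectiveSpecialLinearGroup (Fin 2) F)) ∨ (∃ (F : Type) (_ : Field F) (_ : Fintype F), Fintype.card F = 9 ∧ Nonempty (G ≃* Matrix.ProjectiveSpecialLinearGroup (Fin 2) F)) ∨ (∃ (F : Type) (_ : Field F) (_ : Fintype F), Fintype.card F = 8 ∧ Nonempty (G ≃* Matrix.ProjectiveSpecialLinearGroup (Fin 2) F)) ∨ (∃ (F : Type) (_ : Field F)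 (_ : Fintype F), Fintype.card F = 16 ∧ Nonempty (G ≃* Matrix.ProjectiveSpecialLinearGroup (Fin 2) F)) ∨ (∃ (F : Type) (_ : Field F) (_ : Fintype F), Fintype.card F = 25 ∧ Nonempty (G ≃* Matrix.ProjectiveSpecialLinearGroup (Fin 2) F)) ∨ (∃ (F : Type) (_ : Field F) (_ : Fintype F), Fintype.card F = 27 ∧ Nonempty (G ≃* Matrix.ProjectiveSpecialLinearGroup (Fin 2) F)) ∨ (∃ (F : Type) (_ : Field F) (_ : Fintype F), Fintype.card F = 81 ∧ Nonempty (G ≃* Matrix.ProjectiveSpecialLinearGroup (Fin 2) F)) ∨ (∃ (F : Type) (_ : Field F) (_ : Fintype F), Fintype.card F = 2401 ∧ Nonempty (G ≃* Matrix.ProjectiveSpecialLinearGroup (Fin 2) F)) ∨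
      (∃ (F : Type) (_ : Field F) (_ : Fintype F), Fintype.card F = 4 ∧ Nonempty (G ≃* Matrix.ProjectiveSpecialLinearGroup (Fin 3) F)) := by
  have h : 2 ^ a * 3 ^ b * 5 ^ c * 7 ^ d ∣ 210 ^ (a + b + c + d) := by
    rw [pow_add, pow_add, pow_add]
    gcongr <;> norm_num
  rcases CL.Ix2.res_of hG hp hPp (CL.Ix2.cent_eq hG hp P hPp hN) hN (hord.trans (mul_comm _ _)) h with
    ⟨F, i1, i2, h1, e⟩ | h1
  · simp only [List.mem_cons, List.not_mem_nil, or_false] at h1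
    rcases h1 with h1 | h1 | h1 | h1 | h1 | h1 | h1 | h1 | h1
    · exact .inl ⟨F, i1, i2, h1, e⟩
    · exact .inr (.inl ⟨F, i1, i2, h1, e⟩)
    · exact .inr (.inr (.inl ⟨F, i1, i2, h1, e⟩))
    · exact .inr (.inr (.inr (.inl ⟨F, i1, i2, h1, e⟩)))
    · exact .inr (.inr (.inr (.inr (.inl ⟨F, i1, i2, h1, e⟩))))
    · exact .inr (.inr (.inr (.inr (.inr (.inl ⟨F, i1, i2, h1, e⟩)))))
    · exact .inr (.inr (.inr (.inr (.inr (.inr (.inl ⟨F, i1, i2, h1, e⟩))))))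
    · exact .inr (.inr (.inr (.inr (.inr (.inr (.inr (.inl ⟨F, i1, i2, h1, e⟩)))))))
    · exact .inr (.inr (.inr (.inr (.inr (.inr (.inr (.inr (.inl ⟨F, i1, i2, h1, e⟩))))))))
  · exact .inr (.inr (.inr (.inr (.inr (.inr (.inr (.inr (.inr h1))))))))

end Cfsg.Agent.S3251
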