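import Cfsg.Statements.S3381


set_option autoImplicit false
open Cfsg

namespace Cfsg.Agent.S3381


open Module in
theorem central_neg {q : ℕ} [Fact q.Prime] {V : Type*} [AddCommGroup V] [Module (ZMod q) V]
    [Finite V] [Nontrivial V] {G : Type*} [Group G] [Finite G] (ρ : G →* (V ≃ₗ[ZMod q] V))
    (hρ : Function.Injective ρ) (hstab : ∀ v : V, v ≠ 0 → Nat.card {g : G // ρ g v = v} = 2)
    (z : G) (hz : orderOf z = 2) (hzc : z ∈ Subgroup.center G) :
    (2 : ZMod q) ≠ 0 ∧ ∀ v, ρ z v = v → v = 0 := by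
  have hz1 : z ≠ 1 := by rintro rfl; simp at hz
  have hz2 : z * z = 1 := by rw [← pow_two, ← hz, pow_orderOf_eq_one]
  have hcomm : ∀ g v, ρ g (ρ z v) = ρ z (ρ g v) := fun g v => by
    rw [← LinearEquiv.mul_apply, ← map_mul, Subgroup.mem_center_iff.mp hzc g, map_mul,
      LinearEquiv.mul_apply]
  have hzz : ∀ v, ρ z (ρ z v) = v := fun v => by
    rw [← LinearEquiv.mul_apply, ← map_mul, hz2, map_one]; rfl
  -- uniqueness of the non-trivial stabiliser element
  have huniq : ∀ v : V, v ≠ 0 → ∀ a b : G, a ≠ 1 → b ≠ 1 → ρ a v = v → ρ b v = v → a = b := by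
    intro v hv a b ha hb h1 h2
    obtain ⟨x, hx, hx'⟩ := (Nat.card_eq_two_iff' (⟨1, by simp⟩ : {g : G // ρ g v = v})).mp
      (hstab v hv)
    have e1 := hx' ⟨a, h1⟩ (fun h => ha (congrArg Subtype.val h))
    have e2 := hx' ⟨b, h2⟩ (fun h => hb (congrArg Subtype.val h))
    exact congrArg Subtype.val (e1.trans e2.symm)
  have hex : ∀ v : V, v ≠ 0 → ∃ a : G, a ≠ 1 ∧ ρ a v = v := by
    intro v hv
    obtain ⟨x, hx, -⟩ := (Nat.card_eq_two_iff' (⟨1, by simp⟩ : {g : G // ρ g v = v})).mp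
      (hstab v hv)
    exact ⟨x.1, fun h => hx (Subtype.ext h), x.2⟩
  obtain ⟨u, hu⟩ : ∃ u, ρ z u ≠ u := by
    by_contra h
    push Not at h
    exact hz1 (hρ (by ext v; rw [h, map_one]; rfl))
  have h2 : (2 : ZMod q) ≠ 0 := by
    intro h2
    have hadd : ∀ v : V, v + v = 0 := fun v => by rw [← two_smul (ZMod q), h2, zero_smul]
    have hu0 : u ≠ 0 := by rintro rfl; simp at hu
    obtain ⟨t, ht, htu⟩ := hex u hu0
    have hw : u + ρ z u ≠ 0 := fun h => hu (by
      rw [← neg_eq_of_add_eq_zero_right h, neg_eq_of_add_eq_zero_right (hadd u)])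
    have := huniq _ hw t z ht hz1 (by rw [map_add, hcomm, htu]) (by rw [map_add, hzz, add_comm])
    exact hu (this ▸ htu)
  refine ⟨h2, fun w hw => ?_⟩
  by_contra hw0
  have hhalf : ∀ v : V, v + v = 0 → v = 0 := fun v hv => by
    rw [← two_smul (ZMod q), smul_eq_zero] at hv
    exact hv.resolve_left h2
  let w' := u - ρ z u
  have hw' : ρ z w' = -w' := by simp only [w', map_sub, hzz, neg_sub]
  have hw'0 : w' ≠ 0 := fun h => hu (sub_eq_zero.mp h).symm
  have hs0 : w + w' ≠ 0 := by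
    intro h
    have h3 := congrArg (ρ z) h
    rw [map_add, hw, hw', map_zero] at h3
    apply hw0
    apply hhalf
    rw [← add_zero (w + w), ← add_neg_cancel w']
    calc w + w + (w' + -w') = (w + w') + (w + -w') := by abel
      _ = w' + -w' := by rw [h, h3]; simp
  obtain ⟨s, hs, hsv⟩ := hex _ hs0
  have h3 := congrArg (ρ z) hsv
  rw [← hcomm, map_add, hw, hw', map_add, map_neg] at h3
  rw [map_add] at hsv
  have h4 : ρ s w = w := by
    rw [← sub_eq_zero]
    apply hhalf
    calc ρ s w - w + (ρ s w - w) = (ρ s w + ρ s w' - (w + w')) + (ρ s w + -ρ s w' - (w + -w')) := by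
          abel
      _ = 0 := by rw [hsv, h3]; simp
  have h5 := huniq w hw0 s z hs hz1 h4 hw
  rw [h4, h5, hw', add_right_inj] at hsv
  exact hw'0 (hhalf _ (by nth_rewrite 1 [← hsv]; simp))

/-- Let G be a finite group acting faithfully and linearly on a non-trivial finite vector space V over the field with q elements (q prime) so that every non-zero vector has a stabilizer of order 2, and suppose G has a central involution. Then V has q^(2r) elements for some r and G contains exactly q^r + 1 non-central involutions. -/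
theorem result
    (q : ℕ) [Fact q.Prime] {V : Type*} [AddCommGroup V] [Module (ZMod q) V] [Finite V] [Nontrivial V]
    {G : Type*} [Group G] [Finite G] (ρ : G →* (V ≃ₗ[ZMod q] V)) (hρ : Function.Injective ρ)
    (hstab : ∀ v : V, v ≠ 0 → Nat.card {g : G // ρ g v = v} = 2)
    (z : G) (hz : orderOf z = 2) (hzc : z ∈ Subgroup.center G) :
    ∃ r : ℕ, Nat.card V = q ^ (2 * r) ∧
      Nat.card {g : G // orderOf g = 2 ∧ g ∉ Subgroup.center G} = q ^ r + 1 := by
  classical
  obtain ⟨h2, hzf⟩ := central_neg ρ hρ hstab z hz hzc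
  have hz1 : z ≠ 1 := by rintro rfl; simp at hz
  have hsq : ∀ t : G, orderOf t = 2 → t * t = 1 := fun t ht => by
    rw [← pow_two, ← ht, pow_orderOf_eq_one]
  have hzz : ∀ t : G, t * t = 1 → ∀ v, ρ t (ρ t v) = v := fun t ht v => by
    rw [← LinearEquiv.mul_apply, ← map_mul, ht, map_one]; rfl
  have hneg : ∀ t : G, t * t = 1 → (∀ v, ρ t v = v → v = 0) → ∀ v, ρ t v = -v := fun t ht h v => by
    have := h (v + ρ t v) (by rw [map_add, hzz t ht, add_comm])
    exact (neg_eq_of_add_eq_zero_right this).symm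
  have hzn := hneg z (hsq z hz) hzf
  have heqz : ∀ t : G, t * t = 1 → (∀ v, ρ t v = v → v = 0) → t = z := fun t ht h =>
    hρ (by ext v; rw [hneg t ht h, hzn])
  have hhalf : ∀ v : V, v + v = 0 → v = 0 := fun v hv => by
    rw [← two_smul (ZMod q), smul_eq_zero] at hv
    exact hv.resolve_left h2
  let I := {g : G // orderOf g = 2 ∧ g ∉ Subgroup.center G}
  have hI : ∀ g : G, g ≠ 1 → g * g = 1 → g ≠ z → orderOf g = 2 ∧ g ∉ Subgroup.center G := by
    intro g h1 hg hgz
    have ho : orderOf g = 2 := orderOf_eq_prime (by rw [pow_two, hg]) h1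
    exact ⟨ho, fun hc => hgz (heqz g hg (central_neg ρ hρ hstab g ho hc).2)⟩
  have hIz : ∀ t : I, t.1 ≠ z := fun t h => t.2.2 (h ▸ hzc)
  have hI1 : ∀ t : I, t.1 ≠ 1 := fun t h => t.2.2 (h ▸ one_mem _)
  have huniq : ∀ v : V, v ≠ 0 → ∀ a b : G, a ≠ 1 → b ≠ 1 → ρ a v = v → ρ b v = v → a = b := by
    intro v hv a b ha hb h1 h2
    obtain ⟨x, hx, hx'⟩ := (Nat.card_eq_two_iff' (⟨1, by simp⟩ : {g : G // ρ g v = v})).mp
      (hstab v hv)
    have e1 := hx' ⟨a, h1⟩ (fun h => ha (congrArg Subtype.val h))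
    have e2 := hx' ⟨b, h2⟩ (fun h => hb (congrArg Subtype.val h))
    exact congrArg Subtype.val (e1.trans e2.symm)
  have hex : ∀ v : V, v ≠ 0 → ∃ a : I, ρ a v = v := by
    intro v hv
    obtain ⟨x, hx, -⟩ := (Nat.card_eq_two_iff' (⟨1, by simp⟩ : {g : G // ρ g v = v})).mp
      (hstab v hv)
    have hx1 : x.1 ≠ 1 := fun h => hx (Subtype.ext h)
    have hx2 : x.1 * x.1 = 1 := by
      by_contra h
      have := huniq v hv _ _ h hx1 (by rw [map_mul, LinearEquiv.mul_apply, x.2, x.2]) x.2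
      exact hx1 (mul_eq_left.mp this)
    exact ⟨⟨x.1, hI _ hx1 hx2 (fun h => hv (hzf v (h ▸ x.2)))⟩, x.2⟩
  let W : I → Submodule (ZMod q) V := fun t => LinearMap.ker ((ρ t : V →ₗ[ZMod q] V) - LinearMap.id)
  have hW : ∀ t v, v ∈ W t ↔ ρ t v = v := fun t v => by simp [W, sub_eq_zero]
  have hzc' := Subgroup.mem_center_iff.mp hzc
  let σ : I → I := fun t => ⟨t.1 * z, hI _
    (fun h => hIz t (by rw [eq_inv_of_mul_eq_one_left h, inv_eq_of_mul_eq_one_left (hsq z hz)]))
    (by rw [mul_assoc, ← mul_assoc z, ← hzc' t, mul_assoc, hsq z hz, mul_one, hsq _ t.2.1])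
    (fun h => hI1 t (mul_eq_right.mp h))⟩
  have hσ : ∀ t v, ρ (σ t) v = -ρ t v := fun t v => by
    change ρ (t.1 * z) v = _
    rw [map_mul, LinearEquiv.mul_apply, hzn, map_neg]
  have hσσ : ∀ t, σ (σ t) = t := fun t => Subtype.ext (by
    change t.1 * z * z = t.1
    rw [mul_assoc, hsq z hz, mul_one])
  have hσne : ∀ t, σ t ≠ t := fun t h => hz1 (mul_eq_left.mp (congrArg Subtype.val h))
  have hdisj : ∀ s t : I, s ≠ t → Disjoint (W s) (W t) := fun s t hst => by
    rw [Submodule.disjoint_def]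
    intro v h1 h2
    by_contra hv
    exact hst (Subtype.ext (huniq v hv _ _ (hI1 s) (hI1 t) ((hW _ _).mp h1) ((hW _ _).mp h2)))
  let d : I → ℕ := fun t => Module.finrank (ZMod q) (W t)
  have hle : ∀ s t : I, s ≠ t → d s + d t ≤ Module.finrank (ZMod q) V := fun s t hst =>
    Submodule.finrank_add_finrank_le_of_disjoint (hdisj s t hst)
  have hsum : ∀ t : I, d t + d (σ t) = Module.finrank (ZMod q) V := fun t => by
    refine Submodule.finrank_add_eq_of_isCompl ⟨hdisj _ _ (hσne t).symm, ?_⟩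
    rw [codisjoint_iff, eq_top_iff]
    intro v _
    have : v = (2 : ZMod q)⁻¹ • (v + ρ t v) + (2 : ZMod q)⁻¹ • (v - ρ t v) := by
      rw [← smul_add, show v + ρ t v + (v - ρ t v) = (2 : ZMod q) • v by rw [two_smul]; abel,
        smul_smul, inv_mul_cancel₀ h2, one_smul]
    rw [this]
    refine Submodule.add_mem_sup (Submodule.smul_mem _ _ ?_) (Submodule.smul_mem _ _ ?_)
    · rw [hW, map_add, hzz _ (hsq _ t.2.1), add_comm]
    · rw [hW, hσ, map_sub, hzz _ (hsq _ t.2.1), neg_sub]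
  have hne : ∀ t : I, ∃ v, v ≠ 0 ∧ ρ t v = v := fun t => by
    by_contra h
    push Not at h
    exact hIz t (heqz _ (hsq _ t.2.1) (fun v hv => by by_contra h0; exact h v h0 hv))
  have hhalfd : ∀ t : I, d t = d (σ t) := fun t => by
    obtain ⟨v, hv, hv'⟩ := hne t
    obtain ⟨w, hw, hw'⟩ := hne (σ t)
    have hw2 : ρ t w = -w := by rw [hσ] at hw'; rw [← hw', neg_neg, hw']
    have h0 : v + w ≠ 0 := fun h => by
      have h3 := congrArg (ρ t) h
      rw [map_add, hv', hw2, map_zero] at h3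
      apply hv
      apply hhalf
      calc v + v = (v + w) + (v + -w) := by abel
        _ = 0 := by rw [h, h3]; simp
    obtain ⟨s, hs⟩ := hex _ h0
    have h1 : s ≠ t := by
      rintro rfl
      rw [map_add, hv', hw2, add_right_inj] at hs
      exact hw (hhalf _ (by nth_rewrite 1 [← hs]; simp))
    have h3 : s ≠ σ t := by
      rintro rfl
      rw [map_add, hw', hσ, hv', add_left_inj] at hs
      exact hv (hhalf _ (by nth_rewrite 1 [← hs]; simp))
    have e1 := hle s t h1
    have e2 := hle s (σ t) h3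
    have e3 := hle (σ s) (σ t) (fun h => h1 (by rw [← hσσ s, h, hσσ]))
    have e4 := hle (σ s) t (fun h => h3 (by rw [← h, hσσ]))
    have e5 := hsum s
    have e6 := hsum t
    omega
  obtain ⟨v0, hv0⟩ := exists_ne (0 : V)
  obtain ⟨t0, -⟩ := hex v0 hv0
  have hd : ∀ t, d t = d t0 := fun t => by
    have := hsum t; have := hsum t0; have := hhalfd t; have := hhalfd t0; omega
  have hV : Nat.card V = q ^ (2 * d t0) := by
    rw [Module.natCard_eq_pow_finrank (K := ZMod q), Nat.card_zmod, ← hsum t0, ← hhalfd, two_mul]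
  have hWc : ∀ t, Nat.card (W t) = q ^ d t0 := fun t => by
    rw [Module.natCard_eq_pow_finrank (K := ZMod q), Nat.card_zmod, ← hd t]
  refine ⟨d t0, hV, ?_⟩
  have hnz : ∀ {X : Type _} [AddCommGroup X] [Finite X], Nat.card {x : X // x ≠ 0} + 1 = Nat.card X := by
    intro X _ _
    have := Fintype.ofFinite X
    have h3 : 0 < Fintype.card X := Fintype.card_pos
    simp only [Nat.card_eq_fintype_card, Fintype.card_subtype_compl, Fintype.card_unique]
    omega
  let e : (Σ t : I, {x : W t // x ≠ 0}) → {x : V // x ≠ 0} := fun p =>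
    ⟨p.2.1.1, fun h => p.2.2 (Subtype.ext h)⟩
  have he : Function.Bijective e := by
    constructor
    · rintro ⟨s, ⟨v, hv⟩, hv0⟩ ⟨t, ⟨w, hw⟩, hw0⟩ h
      obtain rfl : v = w := congrArg Subtype.val h
      obtain rfl : s = t := by
        by_contra hst
        exact hv0 (Subtype.ext (Submodule.disjoint_def.mp (hdisj s t hst) v hv hw))
      rfl
    · rintro ⟨v, hv⟩
      obtain ⟨t, ht⟩ := hex v hv
      exact ⟨⟨t, ⟨v, (hW _ _).mpr ht⟩, fun h => hv (congrArg Subtype.val h)⟩, rfl⟩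
  have := Fintype.ofFinite I
  have h3 := Nat.card_congr (Equiv.ofBijective e he)
  rw [Nat.card_sigma] at h3
  have hq1 : 1 < q ^ d t0 := by
    obtain ⟨v, hv, hv'⟩ := hne t0
    rw [← hWc t0]
    haveI : Nontrivial (W t0) := ⟨⟨⟨v, (hW _ _).mpr hv'⟩, 0, fun h => hv (congrArg Subtype.val h)⟩⟩
    exact Finite.one_lt_card
  obtain ⟨m, hm⟩ : ∃ m, q ^ d t0 = m + 1 := ⟨q ^ d t0 - 1, by omega⟩
  have h4 : ∀ t : I, Nat.card {x : W t // x ≠ 0} = m := fun t => by
    have := hnz (X := W t); rw [hWc, hm] at this; omega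
  simp only [h4, Finset.sum_const, Finset.card_univ, smul_eq_mul] at h3
  have h5 := hnz (X := V)
  rw [hV, two_mul, pow_add, hm, ← h3] at h5
  change Nat.card I = _
  rw [Nat.card_eq_fintype_card, hm]
  have hm0 : 0 < m := by omega
  apply Nat.eq_of_mul_eq_mul_right hm0
  nlinarith

end Cfsg.Agent.S3381
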