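import Cfsg.Statements.S2661
import Cfsg.Agent.KSG.SecLift
import Cfsg.Agent.CHEV.TwF4
import Cfsg.Agent.CHEV.StGlue

set_option autoImplicit false
open scoped MatrixGroups
open Cfsg

namespace Cfsg.Agent.S2661

theorem arith (n : ℕ) {q : ℕ} (hq : q = 2 ^ n) :
    ¬ 7 ∣ q ^ 12 * (q ^ 3 + 1) * (q ^ 6 + 1) * ((q + 1) * (q ^ 2 + 1)) := by
  rw [← ZMod.natCast_eq_zero_iff]
  push_cast
  have : ∀ k : ℕ, (2 : ZMod 7) ^ k = 1 ∨ (2 : ZMod 7) ^ k = 2 ∨ (2 : ZMod 7) ^ k = 4 := by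
    intro k
    induction k with
    | zero => simp
    | succ k ih => rcases ih with h | h | h <;> rw [pow_succ, h] <;> decide
  have hq' : (q : ZMod 7) = 2 ^ n := by rw [hq]; push_cast; rfl
  rcases this n with h | h | h <;> rw [hq', h] <;> decide

/-- Alternating sections of the large Ree groups ²F₄. Let `m ≥ 1`, let `K` be a field with `2^(2m+1)` elements and let `G` be the large Ree group ²F₄(2^(2m+1)) realised over `K`. If some subgroup of `G` has a quotient isomorphic to the alternating group of degree `r`, then `r ≤ 6`. (Only an upper bound is asserted.) -/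
theorem result {K : Type*} [Field K] [Fintype K] {m : ℕ} (hm : 1 ≤ m)
    (hK : Fintype.card K = 2 ^ (2 * m + 1)) (r : ℕ) (H : Subgroup ↥(Cfsg.Lie.twistedF4 K (2 ^ m))) (N : Subgroup ↥H) [N.Normal]
    (h : Nonempty (↥H ⧸ N ≃* ↥(alternatingGroup (Fin r)))) :
    r ≤ 6 := by
  by_contra hr
  obtain ⟨e⟩ := h
  obtain ⟨L, f, hf⟩ := CL.SecL.exists_sec (n := 7) (by omega) H N e
  obtain ⟨a, c, ha, ha1, hc⟩ := CL.SecL.alt7_seven
  have hK' : Nat.card K = 2 ^ (2 * m + 1) := by rw [Nat.card_eq_fintype_card, hK]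
  obtain ⟨T, θ, hT, -, hM, hgen⟩ := CL.Chev.exists_twist_F4 hK'
  have := CL.Chev.finite_group Cfsg.Lie.chevF4 K
  have : Fact (Nat.Prime 7) := ⟨by norm_num⟩
  have hS := CL.Chev.stG_good (D := Cfsg.Lie.chevF4) (F := K)
  have h1 := hT.card_H hS hM CL.Chev.stG_adjoint hgen
  have h2 := hT.card_eq hS hM CL.Chev.stG_adjoint hgen (by simp; rfl)
  set q := 2 ^ (2 * m + 1) with hq
  have hq2 : 2 ≤ q := by
    rw [hq]; exact Nat.le_self_pow (by omega) 2
  obtain ⟨d, hd⟩ : ∃ d, q = d + 1 := ⟨q - 1, by omega⟩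
  have h3 := CL.SecL.relIndex_eq_of_card (b := q ^ 12 * (q ^ 3 + 1) * (q ^ 6 + 1) * ((q + 1) * (q ^ 2 + 1))) h1 (by
    rw [h2]
    have : q ^ 4 - 1 = (q - 1) * ((q + 1) * (q ^ 2 + 1)) := by
      rw [hd, Nat.add_sub_cancel]
      apply Nat.sub_eq_of_eq_add
      ring
    rw [this]; ring) (pow_ne_zero _ (by omega))
  have := CL.SecL.one_prime hS CL.Chev.stG_R3 (e := 8)
    (M := (CL.Chev.jG Cfsg.Lie.chevF4 (Cfsg.Lie.f4Words K (2 ^ m))).range) (fun g hg => by
      obtain ⟨w, hw, hl⟩ := CL.SecL.exists_like_tw hS hM hg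
      refine ⟨w, ?_, hl⟩
      obtain ⟨l, hl⟩ := T.gen.surj ⟨w, hw⟩
      have := CL.SecL.dih_pow T.gen.mul_self (n := 8) (by decide)
        (orderOf_dvd_iff_pow_eq_one.1 (dvd_of_eq hT.orderOf_s)) l
      have e2 : (⟨w, hw⟩ : T.W1) ^ 8 = 1 := by rw [← hl]; exact this
      exact congrArg Subtype.val e2) (h3 ▸ arith _ hq)
    (j := (CL.Chev.jG _ _).comp (H.subtype.comp L.subtype))
    ((CL.Chev.jG_injective _).comp (H.subtype_injective.comp L.subtype_injective)) (fun l => ⟨_, rfl⟩) f hf ha ha1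
    (by norm_num) hc
  norm_num at this

end Cfsg.Agent.S2661
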