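import Cfsg.Statements.S0756
import Cfsg.Agent.CLAS.OrthSymm

set_option autoImplicit false
open Cfsg

namespace Cfsg.Agent.S0756

open CL.Orth CL.OrthE

/-- Classification of symmetric bilinear forms over finite fields of odd characteristic: if B is non-degenerate symmetric on V of dimension n + 1 and α is a fixed non-square of F, there is an orthogonal basis b_0, ..., b_n with B(b_i, b_i) = 1 for i < n and B(b_n, b_n) ∈ {1, α}. -/
theorem result {F V : Type*} [Field F] [Finite F] [AddCommGroup V] [Module F V] [FiniteDimensional F V] (h2 : (2 : F) ≠ 0) (B : LinearMap.BilinForm F V) (hS : B.IsSymm) (hB : B.Nondegenerate) {n : ℕ} (hn : Module.finrank F V = n + 1) (α : F) (hα : ¬ IsSquare α) : ∃ b : Module.Basis (Fin (n + 1)) F V, (∀ i j, i ≠ j → B (b i) (b j) = 0) ∧ (∀ i, i ≠ Fin.last n → B (b i) (b i) = 1) ∧ (B (b (Fin.last n)) (b (Fin.last n)) = 1 ∨ B (b (Fin.last n)) (b (Fin.last n)) = α) := by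
  have hα0 : α ≠ 0 := fun h => hα (h ▸ IsSquare.zero)
  have hQ : (QuadraticMap.polarBilin (halfQ B)).Nondegenerate := by rwa [polarBilin_halfQ h2 hS]
  obtain ⟨δ, hδ, hδ0, hd⟩ : ∃ δ : F, (δ = 1 ∨ δ = α) ∧ δ ≠ 0 ∧ sqSign δ = dsc (halfQ B) := by
    rcases Int.units_eq_one_or (dsc (halfQ B)) with h | h
    · exact ⟨1, Or.inl rfl, one_ne_zero, by rw [h, sqSign_one]⟩
    · exact ⟨α, Or.inr rfl, hα0, by rw [h, sqSign_eq_neg_one_iff.2 hα]⟩
  let d : Fin (n + 1) → F := fun i => (2 : F)⁻¹ * if i = Fin.last n then δ else 1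
  have hd0 : ∀ i, d i ≠ 0 := fun i => mul_ne_zero (inv_ne_zero h2) (by split_ifs; exacts [hδ0, one_ne_zero])
  have hd2 : ∀ i, 2 * d i = if i = Fin.last n then δ else 1 := fun i => mul_inv_cancel_left₀ h2 _
  obtain ⟨φ, hφ⟩ := exists_isometry_of_dsc_eq h2 (QD_nondeg h2 hd0) hQ (by simp [hn]) (by
    rw [dsc_QD h2 hd0, ← hd]
    simp [hd2])
  have key : ∀ i j, B (φ (Pi.single i 1)) (φ (Pi.single j 1)) = 2 * d j * (Pi.single i 1 : Fin (n + 1) → F) j := by
    intro i j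
    rw [← polar_halfQ h2 hS, ← polar_QD_single]
    exact polar_of_isom (φ : (Fin (n + 1) → F) →ₗ[F] V) hφ _ _
  refine ⟨(Pi.basisFun F (Fin (n + 1))).map φ, fun i j hij => ?_, fun i hi => ?_, ?_⟩
  · simp [key, hij.symm]
  · simp [key, hd2, hi]
  · simpa [key, hd2] using hδ

end Cfsg.Agent.S0756
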