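import Cfsg.Statements.S0780
import Cfsg.Agent.CLAS.UniGen

set_option autoImplicit false
open Cfsg

namespace Cfsg.Agent.S0780

/-- Generation of SU_n(q), n ≥ 3, (n, q) ≠ (3, 2), by unitary transvections: the subgroup generated by the elements whose matrix is x ↦ x + c h(x, v) v with v isotropic is all of SU_n(q). -/
theorem result {F : Type*} [Field F] [Fintype F] {q : ℕ} (hF : Fintype.card F = q ^ 2) (n : ℕ) (hn : 3 ≤ n) (h32 : ¬ (n = 3 ∧ q = 2)) : Subgroup.closure {A : ↥(Cfsg.SU n F q) | ∃ (v : Fin n → F) (c : F), Cfsg.hermForm n F q v v = 0 ∧ ((A : Matrix.SpecialLinearGroup (Fin n) F) : Matrix (Fin n) (Fin n) F) = Cfsg.unitaryTransvection n q v c} = ⊤ := by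
  have hf := CL.Uni.std_nondeg hF (Fin n)
  have hT := CL.Uni.Tv_eq_SO (CL.Uni.sig_ne_id hF) hf (by simpa using hn)
    (by simpa using CL.Uni.good_of_ne hF hn h32)
  set K := Subgroup.closure {A : ↥(Cfsg.SU n F q) | ∃ (v : Fin n → F) (c : F), Cfsg.hermForm n F q v v = 0 ∧ ((A : Matrix.SpecialLinearGroup (Fin n) F) : Matrix (Fin n) (Fin n) F) = Cfsg.unitaryTransvection n q v c}
  have hle : (CL.Uni.std hF (Fin n)).Tv ≤
      (K.map (CL.Uni.suEquiv hF n).toMonoidHom).map (Subgroup.subtype _) := by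
    refine CL.Witt.Form.Tv_le_iff.2 fun u a hu ha => ?_
    refine ⟨⟨_, CL.Witt.Form.ei_mem_SO _ u 0 a⟩,
      ⟨(CL.Uni.suEquiv hF n).symm ⟨_, CL.Witt.Form.ei_mem_SO _ u 0 a⟩,
        Subgroup.subset_closure ⟨u, -a, hu, Matrix.ext_of_mulVec_single fun i => ?_⟩, by simp⟩, rfl⟩
    rw [← CL.Uni.suEquiv_apply hF, MulEquiv.apply_symm_apply, CL.Uni.ei_zero_eq_mulVec hF hu ha]
  rw [eq_top_iff]
  intro A _
  obtain ⟨_, ⟨B, hB, rfl⟩, h⟩ := hle (hT.ge (CL.Uni.suEquiv hF n A).2)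
  obtain rfl : B = A := (CL.Uni.suEquiv hF n).injective (Subtype.ext h)
  exact hB

end Cfsg.Agent.S0780
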