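import Cfsg.Statements.S4200
import Cfsg.Agent.FGS.ClassCount

set_option autoImplicit false
open Cfsg

namespace Cfsg.Agent.S4200

/-- Let Y be a subgroup of the finite group X, of index m. Then the numbers of conjugacy classes satisfy k(Y) ≤ m·k(X) and k(X) ≤ m·k(Y), and the second inequality is strict unless Y is normal in X. -/
theorem result {X : Type*} [Group X] [Finite X] (Y : Subgroup X) : Nat.card (ConjClasses Y) ≤ Y.index * Nat.card (ConjClasses X) ∧ Nat.card (ConjClasses X) ≤ Y.index * Nat.card (ConjClasses Y) ∧ (¬ Y.Normal → Nat.card (ConjClasses X) < Y.index * Nat.card (ConjClasses Y)) := by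
  classical
  have := Fintype.ofFinite X
  have hX := CL.sum_card_centralizer_eq (G := X)
  have hY := CL.sum_card_centralizer_eq (G := Y)
  have hpos : 0 < Nat.card X := Nat.card_pos
  have hposY : 0 < Nat.card Y := Nat.card_pos
  have hm : 0 < Y.index := Nat.pos_of_ne_zero Subgroup.index_ne_zero_of_finite
  have hXY : Nat.card Y * Y.index = Nat.card X := Y.card_mul_index
  -- `|C_X(x)| = relindex * |C_Y(x)|`
  have hC : ∀ x : X, Nat.card (Subgroup.centralizer ({x} : Set X)) =
      Y.relIndex (Subgroup.centralizer ({x} : Set X)) * {y : Y | (y : X) * x = x * y}.ncard := by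
    intro x
    set C := Subgroup.centralizer ({x} : Set X)
    rw [← (Y.subgroupOf C).card_mul_index, mul_comm]
    congr 1
    rw [← Nat.card_coe_set_eq]
    refine Nat.card_congr ⟨fun c => ⟨⟨c.1.1, c.2⟩, Subgroup.mem_centralizer_singleton_iff.mp c.1.2⟩,
      fun y => ⟨⟨y.1.1, Subgroup.mem_centralizer_singleton_iff.mpr y.2⟩, y.1.2⟩, fun _ => rfl, fun _ => rfl⟩
  have hrel : ∀ K : Subgroup X, Y.relIndex K ≤ Y.index := by
    intro K
    rw [← Subgroup.relIndex_top_right]
    exact Subgroup.relIndex_le_of_le_right le_top (by simpa using hm.ne')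
  have hCY : ∀ y : Y, {z : Y | (z : X) * y = y * z}.ncard = Nat.card (Subgroup.centralizer ({y} : Set Y)) := by
    intro y
    rw [← Nat.card_coe_set_eq]
    apply Nat.card_congr
    apply Equiv.subtypeEquivRight
    intro z
    rw [Subgroup.mem_centralizer_singleton_iff, Subtype.ext_iff]
    rfl
  have hCX : ∀ y : Y, {x : X | (y : X) * x = x * y}.ncard =
      Nat.card (Subgroup.centralizer ({(y : X)} : Set X)) := by
    intro y
    rw [← Nat.card_coe_set_eq]
    apply Nat.card_congr
    apply Equiv.subtypeEquivRight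
    intro z
    rw [Subgroup.mem_centralizer_singleton_iff]
    exact eq_comm
  have hA : Nat.card (ConjClasses X) * Nat.card X ≤
      Y.index * ∑ y : Y, Nat.card (Subgroup.centralizer ({(y : X)} : Set X)) := by
    rw [← hX]
    simp_rw [← hCX]
    rw [← CL.sum_ncard_rel_comm (fun (x : X) (y : Y) => (y : X) * x = x * y), Finset.mul_sum]
    apply Finset.sum_le_sum
    intro x _
    rw [hC]
    exact Nat.mul_le_mul_right _ (hrel _)
  have hB : ∀ y : Y, Nat.card (Subgroup.centralizer ({(y : X)} : Set X)) ≤
      Y.index * Nat.card (Subgroup.centralizer ({y} : Set Y)) := by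
    intro y
    rw [hC, hCY]
    exact Nat.mul_le_mul_right _ (hrel _)
  have hfin : Y.index * (Y.index * ∑ y : Y, Nat.card (Subgroup.centralizer ({y} : Set Y))) =
      (Y.index * Nat.card (ConjClasses Y)) * Nat.card X := by
    rw [hY, ← hXY]; ring
  refine ⟨?_, ?_, ?_⟩
  · apply Nat.le_of_mul_le_mul_right _ hposY
    have : Y.index * Nat.card (ConjClasses X) * Nat.card Y = Nat.card (ConjClasses X) * Nat.card X := by
      rw [← hXY]; ring
    rw [this, ← hX, ← hY]
    calc ∑ y : Y, Nat.card (Subgroup.centralizer ({y} : Set Y))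
        ≤ ∑ y : Y, Nat.card (Subgroup.centralizer ({(y : X)} : Set X)) := by
          apply Finset.sum_le_sum
          intro y _
          rw [hC, hCY]
          exact Nat.le_mul_of_pos_left _ (Nat.pos_of_ne_zero Subgroup.index_ne_zero_of_finite)
      _ = ∑ x ∈ Finset.univ.filter (fun x : X => x ∈ Y),
            Nat.card (Subgroup.centralizer ({x} : Set X)) := by
          rw [Finset.sum_subtype (p := fun x : X => x ∈ Y) _ (by simp)]
      _ ≤ _ := Finset.sum_le_sum_of_subset (Finset.filter_subset _ _)
  · apply Nat.le_of_mul_le_mul_right _ hpos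
    rw [← hfin]
    refine hA.trans (Nat.mul_le_mul_left _ ?_)
    rw [Finset.mul_sum]
    exact Finset.sum_le_sum fun y _ => hB y
  · intro hn
    apply Nat.lt_of_mul_lt_mul_right (a := Nat.card X)
    rw [← hfin]
    refine hA.trans_lt (Nat.mul_lt_mul_of_pos_left ?_ hm)
    rw [Finset.mul_sum]
    apply Finset.sum_lt_sum (fun y _ => hB y)
    by_contra hcon
    push Not at hcon
    apply hn
    constructor
    intro y hy g
    have h1 := hcon ⟨y, hy⟩ (Finset.mem_univ _)
    rw [hC, hCY] at h1
    have h2 : Y.index ≤ Y.relIndex (Subgroup.centralizer ({y} : Set X)) :=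
      Nat.le_of_mul_le_mul_right h1 Nat.card_pos
    set C := Subgroup.centralizer ({y} : Set X)
    -- the map `C / (C ∩ Y) → X / Y` is injective, hence surjective
    let f : C ⧸ (Y.subgroupOf C) → X ⧸ Y := Quotient.map' (fun c => (c : X)) (by
        intro a b hab
        rw [QuotientGroup.leftRel_apply] at hab ⊢
        exact hab)
    have hf : Function.Injective f := by
      intro a b
      induction a using QuotientGroup.induction_on
      induction b using QuotientGroup.induction_on
      intro h
      have h' := QuotientGroup.eq.mp h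
      exact QuotientGroup.eq.mpr h'
    have hs : Function.Surjective f :=
      (hf.bijective_of_nat_card_le h2).2
    obtain ⟨c, hc⟩ := hs ((g⁻¹ : X) : X ⧸ Y)
    induction c using QuotientGroup.induction_on with
    | H c =>
      have h3 : (c : X)⁻¹ * g⁻¹ ∈ Y := QuotientGroup.eq.mp hc
      have h4 : (c : X) * y = y * c := Subgroup.mem_centralizer_singleton_iff.mp c.2
      have : g * y * g⁻¹ = ((c : X)⁻¹ * g⁻¹)⁻¹ * y * ((c : X)⁻¹ * g⁻¹) := by
        calc g * y * g⁻¹ = g * (y * c) * (c : X)⁻¹ * g⁻¹ := by group
          _ = _ := by rw [← h4]; group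
      rw [this]
      exact Y.mul_mem (Y.mul_mem (Y.inv_mem h3) hy) h3

end Cfsg.Agent.S4200
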