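import Cfsg.Statements.S3681
import Cfsg.Agent.PERM.JordanCycle

set_option autoImplicit false
open Cfsg

namespace Cfsg.Agent.S3681

open MulAction Equiv Equiv.Perm

/-- Bochert's bound for primitive groups. Let a finite group G act faithfully and primitively on a finite set Ω with n elements, and suppose the image of G in the symmetric group of Ω does not contain the alternating group of Ω. Then |G| · ⌊(n + 1)/2⌋! ≤ n!, that is, the index of G in the symmetric group is at least ⌊(n + 1)/2⌋!. -/
theorem result {G Ω : Type*} [Group G] [Finite G] [MulAction G Ω] [FaithfulSMul G Ω] [Fintype Ω] [DecidableEq Ω]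
    (hprim : MulAction.IsPreprimitive G Ω) (hA : ¬ alternatingGroup Ω ≤ (MulAction.toPermHom G Ω).range) :
    Nat.card G * Nat.factorial ((Fintype.card Ω + 1) / 2) ≤ Nat.factorial (Fintype.card Ω) := by
  set H := (toPermHom G Ω).range with hH
  have hcard : Nat.card G = Nat.card H :=
    Nat.card_congr (MonoidHom.ofInjective (f := toPermHom G Ω) toPerm_injective).toEquiv
  have hHp : IsPreprimitive H Ω := by
    let f : Ω →ₑ[(toPermHom G Ω).rangeRestrict] Ω := ⟨id, fun _ _ => rfl⟩
    exact IsPreprimitive.of_surjective (f := f) Function.surjective_id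
  classical
  obtain ⟨Δ, hΔ, hmax⟩ := Finset.exists_max_image
    (Finset.univ.filter fun Δ : Finset Ω => ∀ g ∈ H, g.support ⊆ Δ → g = 1) Finset.card
    ⟨∅, by simp +contextual⟩
  simp only [Finset.mem_filter, Finset.mem_univ, true_and] at hΔ hmax
  have h1 : Nat.card H * Δ.card.factorial ≤ (Fintype.card Ω).factorial := by
    have hinj : Function.Injective fun p : H × Perm Δ => p.1.1 * ofSubtype p.2 := by
      rintro ⟨g, σ⟩ ⟨g', σ'⟩ h
      have h2 : (g'⁻¹ * g).1 = ofSubtype (σ' * σ⁻¹) := by
        rw [map_mul, map_inv, eq_mul_inv_iff_mul_eq, Subgroup.coe_mul, mul_assoc]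
        simp only at h
        rw [h]; simp
      have h3 : (g'⁻¹ * g).1 = 1 := hΔ _ (g'⁻¹ * g).2 fun x hx => by
        by_contra hx'
        rw [h2, mem_support] at hx
        exact hx (ofSubtype_apply_of_not_mem _ hx')
      have h4 : g = g' := (inv_mul_eq_one.1 (Subtype.ext h3)).symm
      subst h4
      simp only [mul_right_inj] at h
      rw [ofSubtype_injective h]
    have := Nat.card_le_card_of_injective _ hinj
    rwa [Nat.card_prod, Nat.card_perm, Nat.card_perm, Nat.card_eq_fintype_card (α := Ω),
      Nat.card_eq_fintype_card (α := Δ), Fintype.card_coe] at this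
  have h2 : Fintype.card Ω ≤ 2 * Δ.card := by
    by_contra hlt
    have h3 : ¬ ∀ g ∈ H, g.support ⊆ Δᶜ → g = 1 := fun h => by
      have := hmax _ h
      rw [Finset.card_compl] at this
      omega
    push Not at h3
    obtain ⟨g, hg, hgs, hg1⟩ := h3
    obtain ⟨a, ha⟩ : g.support.Nonempty := by
      rwa [Finset.nonempty_iff_ne_empty, Ne, support_eq_empty_iff]
    have haΔ : a ∉ Δ := Finset.mem_compl.1 (hgs ha)
    have h4 : ¬ ∀ g ∈ H, g.support ⊆ insert a Δ → g = 1 := fun h => by
      have := hmax _ h
      rw [Finset.card_insert_of_notMem haΔ] at this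
      omega
    push Not at h4
    obtain ⟨h, hh, hhs, hh1⟩ := h4
    have hha : h a ≠ a := fun e => hh1 (hΔ h hh fun x hx => by
      rcases Finset.mem_insert.1 (hhs hx) with rfl | hx'
      · exact absurd e (mem_support.1 hx)
      · exact hx')
    refine hA (alternatingGroup_le_of_isPreprimitive_of_isThreeCycle_mem hHp
      (CL.Perm.isThreeCycle_commutator_of_inter_eq (mem_support.1 ha) hha fun x hx => ?_)
      (H.mul_mem (H.mul_mem (H.mul_mem hg hh) (H.inv_mem hg)) (H.inv_mem hh)))
    by_contra hc
    push Not at hc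
    rcases Finset.mem_insert.1 (hhs (mem_support.2 hc.2)) with e | e
    · exact hx e
    · exact Finset.mem_compl.1 (hgs (mem_support.2 hc.1)) e
  rw [hcard]
  exact (Nat.mul_le_mul_left _ (Nat.factorial_le (by omega))).trans h1

end Cfsg.Agent.S3681
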