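import Cfsg.Statements.S4567
import Cfsg.Agent.CHAR.Clifford
import Cfsg.Agent.CHAR.BrauerPerm
import Cfsg.Agent.CHAR.Values
import Cfsg.Agent.CHAR.Linear

set_option autoImplicit false
open Cfsg

open CL.Char
open scoped ComplexConjugate
namespace Cfsg.Agent.S4567

/-- Let N be a central subgroup of the finite group G and ψ a faithful irreducible (hence degree-one) character of N. Call a coset g N special when every x ∈ G whose commutator x⁻¹ g⁻¹ x g lies in N actually commutes with g (this depends only on the coset). Then the number of irreducible characters of G whose restriction to N contains ψ equals the number of conjugacy classes of G/N consisting of special cosets. -/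
theorem result {G : Type*} [Group G] [Fintype G] (N : Subgroup G) [N.Normal] [Fintype N] (hN : N ≤ Subgroup.center G) (ψ : Cfsg.IrrCharacter ↥N) (hfaith : ∀ n : ↥N, (ψ : ↥N → ℂ) n = (ψ : ↥N → ℂ) 1 → n = 1) : Nat.card {χ : Cfsg.IrrCharacter G // Cfsg.classInner (fun n : ↥N => (χ : G → ℂ) n) (ψ : ↥N → ℂ) ≠ 0} = Nat.card {C : ConjClasses (G ⧸ N) // ∃ g : G, ConjClasses.mk (g : G ⧸ N) = C ∧ ∀ x : G, x⁻¹ * g⁻¹ * x * g ∈ N → x * g = g * x} := by
  classical
  obtain ⟨ψ, hψ⟩ := ψ
  simp only at hfaith ⊢
  have hc : ∀ n ∈ N, ∀ g : G, g * n = n * g := fun n hn g => Subgroup.mem_center_iff.mp (hN hn) g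
  obtain ⟨lam, rfl⟩ := hψ.exists_hom_of_comm (fun a b => Subtype.ext (hc _ b.2 _))
  let Sp : G → Prop := fun g => ∀ x : G, x⁻¹ * g⁻¹ * x * g ∈ N → x * g = g * x
  let Ov : IrrCharacter G → Prop := fun χ =>
    classInner (fun n : N => (χ : G → ℂ) n) (fun n => (lam n : ℂ)) ≠ 0
  have hOv : ∀ χ : IrrCharacter G, Ov χ → ∀ (n : N) (g : G), χ.1 (n * g) = lam n * χ.1 g := by
    intro χ h n g
    have hinv : inertia N (fun n => (lam n : ℂ)) = ⊤ := by
      rw [inertia_eq_top_iff]
      intro g n
      congr 2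
      exact Subtype.ext (by simp [hc _ n.2 g])
    have h1 := clifford_of_invariant χ.2 hψ hinv h
    have h2 := congrFun h1 1
    have h3 := congrFun h1 n
    simp only [OneMemClass.coe_one, Pi.smul_apply, map_one, Units.val_one, smul_eq_mul,
      mul_one] at h2 h3
    have h4 := χ.2.apply_center_mul (hN n.2) g
    rw [h3, ← h2, mul_assoc] at h4
    exact mul_left_cancel₀ χ.2.one_ne_zero h4
  have hsum : ∀ (χ : IrrCharacter G) (g : G), ∑ n : N, χ.1 (n * g) * conj (lam n : ℂ) =
      if Ov χ then (Nat.card N : ℂ) * χ.1 g else 0 := by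
    intro χ g
    split_ifs with h
    · simp only [hOv χ h]
      have : ∀ n : N, (lam n : ℂ) * χ.1 g * conj (lam n : ℂ) = χ.1 g := fun n => by
        rw [mul_right_comm, hom_mul_conj, one_mul]
      simp [this]
    · simp only [Ov, ne_eq, not_not] at h
      apply mul_left_cancel₀ χ.2.one_ne_zero
      have h1 := card_mul_classInner (fun n : N => (χ : G → ℂ) n) (fun n => (lam n : ℂ))
      rw [h, mul_zero] at h1
      rw [Finset.mul_sum, mul_zero]
      simp only [← mul_assoc, fun n : N => χ.2.apply_center_mul (hN n.2) g]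
      simp only [mul_right_comm _ (χ.1 g), ← Finset.sum_mul, ← h1, zero_mul]
  have hcol : ∀ g : G, (Nat.card N : ℂ) *
      ∑ χ ∈ Finset.univ.filter Ov, χ.1 g * conj (χ.1 g) =
      if Sp g then (Nat.card (Subgroup.centralizer ({g} : Set G)) : ℂ) else 0 := by
    intro g
    split_ifs with h
    · have h1 : ∀ n : N, ∑ χ : IrrCharacter G, χ.1 (n * g) * conj (χ.1 g) =
          if n = 1 then (Nat.card (Subgroup.centralizer ({g} : Set G)) : ℂ) else 0 := by
        intro n
        split_ifs with hn
        · subst hn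
          simpa using column_conj (IsConj.refl g)
        · refine column_not_conj fun hcj => hn ?_
          obtain ⟨x, hx⟩ := isConj_iff.mp hcj
          have e : x⁻¹ * g⁻¹ * x * g = (n : G)⁻¹ := by
            have : x⁻¹ * g⁻¹ * x = g⁻¹ * (n : G)⁻¹ := by
              conv_lhs => rw [← hx]
              group
            rw [this, mul_assoc, ← hc _ (inv_mem n.2) g, inv_mul_cancel_left]
          have h2 := h x (e ▸ inv_mem n.2)
          rw [mul_assoc, mul_assoc, h2] at e
          apply Subtype.ext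
          simpa using e.symm
      calc (Nat.card N : ℂ) * ∑ χ ∈ Finset.univ.filter Ov, χ.1 g * conj (χ.1 g)
          = ∑ χ : IrrCharacter G, (∑ n : N, χ.1 (n * g) * conj (lam n : ℂ)) * conj (χ.1 g) := by
            rw [Finset.mul_sum, Finset.sum_filter]
            refine Finset.sum_congr rfl fun χ _ => ?_
            rw [hsum]
            split_ifs <;> ring
        _ = ∑ n : N, conj (lam n : ℂ) * ∑ χ : IrrCharacter G, χ.1 (n * g) * conj (χ.1 g) := by
            simp only [Finset.sum_mul, Finset.mul_sum]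
            rw [Finset.sum_comm]
            exact Finset.sum_congr rfl fun _ _ => Finset.sum_congr rfl fun _ _ => by ring
        _ = _ := by simp [h1]
    · simp only [Sp, not_forall] at h
      obtain ⟨x, hx, hne⟩ := h
      rw [Finset.sum_eq_zero, mul_zero]
      intro χ hχ
      have h1 := hOv χ (Finset.mem_filter.mp hχ).2 ⟨_, inv_mem hx⟩ g
      have e : (x⁻¹ * g⁻¹ * x * g)⁻¹ * g = x⁻¹ * g * x := by
        rw [← hc _ (inv_mem hx) g]; group
      simp only at h1
      rw [e, χ.2.isClassFunction.conj_inv] at h1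
      have h2 : (lam ⟨_, inv_mem hx⟩ : ℂ) ≠ 1 := by
        intro h3
        have := congrArg Subtype.val (hfaith ⟨_, inv_mem hx⟩ (by simpa using h3))
        apply hne
        simp only [OneMemClass.coe_one, inv_eq_one] at this
        calc x * g = g * x * (x⁻¹ * g⁻¹ * x * g) := by group
          _ = g * x := by rw [this, mul_one]
      have h4 : χ.1 g = 0 := by
        by_contra h5
        exact h2 (mul_right_cancel₀ h5 (by rw [← h1, one_mul]))
      rw [h4, zero_mul]
  let P : ConjClasses (G ⧸ N) → Prop := fun C =>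
    ∃ g : G, ConjClasses.mk (g : G ⧸ N) = C ∧ Sp g
  have hP : ∀ g : G, P (ConjClasses.mk (g : G ⧸ N)) ↔ Sp g := by
    refine fun g => ⟨fun ⟨g', h1, h2⟩ => ?_, fun h => ⟨g, rfl, h⟩⟩
    obtain ⟨y, hy⟩ := isConj_iff.mp (ConjClasses.mk_eq_mk_iff_isConj.mp h1)
    obtain ⟨y, rfl⟩ := QuotientGroup.mk_surjective y
    have h3 : (y * g' * y⁻¹)⁻¹ * g ∈ N := by
      rw [← QuotientGroup.eq, ← hy]; rfl
    obtain ⟨n, hn, rfl⟩ : ∃ n ∈ N, g = y * g' * y⁻¹ * n := ⟨_, h3, by group⟩
    intro x hx
    have e : x⁻¹ * (y * g' * y⁻¹ * n)⁻¹ * x * (y * g' * y⁻¹ * n) =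
        y * ((y⁻¹ * x * y)⁻¹ * g'⁻¹ * (y⁻¹ * x * y) * g') * y⁻¹ := by
      rw [← mul_assoc _ _ n, hc n hn, mul_inv_rev _ n, ← mul_assoc x⁻¹, hc _ (inv_mem hn)]
      group
    rw [e] at hx
    have h4 := h2 (y⁻¹ * x * y) (by
      simpa [mul_assoc] using (inferInstance : N.Normal).conj_mem _ hx y⁻¹)
    rw [mul_assoc _ n x, ← hc n hn x]
    calc x * (y * g' * y⁻¹ * n) = y * (y⁻¹ * x * y * g') * y⁻¹ * n := by group
      _ = _ := by rw [h4]; group
  have hcent : ∀ g : G, Sp g → Nat.card (Subgroup.centralizer ({g} : Set G)) =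
      Nat.card N * Nat.card (Subgroup.centralizer ({(g : G ⧸ N)} : Set (G ⧸ N))) := by
    intro g hg
    have := Fintype.ofFinite (G ⧸ N)
    have e : Subgroup.centralizer ({g} : Set G) =
        (Subgroup.centralizer ({(g : G ⧸ N)} : Set (G ⧸ N))).comap (QuotientGroup.mk' N) := by
      ext x
      rw [Subgroup.mem_comap, Subgroup.mem_centralizer_singleton_iff,
        Subgroup.mem_centralizer_singleton_iff]
      refine ⟨fun h => by simpa using congrArg (QuotientGroup.mk' N) h, fun h => hg x ?_⟩
      have : ((g * x : G) : G ⧸ N) = (x * g : G) := by simpa using h.symm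
      simpa [mul_assoc] using QuotientGroup.eq.mp this
    rw [e, card_comap_of_surjective _ (QuotientGroup.mk'_surjective N), QuotientGroup.ker_mk']
  have := Fintype.ofFinite (G ⧸ N)
  have h1 := sum_card_centralizer_filter (G := G ⧸ N) P
  have h2 := sum_comp_surjective_hom (QuotientGroup.mk' N) (QuotientGroup.mk'_surjective N)
    (fun q => ((if P (ConjClasses.mk q) then
      Nat.card (Subgroup.centralizer ({q} : Set (G ⧸ N))) else 0 : ℕ) : ℂ))
  rw [← Nat.cast_sum (ι := G ⧸ N), h1, QuotientGroup.ker_mk'] at h2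
  have h3 : (Nat.card N : ℂ) * (Nat.card G * (Finset.univ.filter Ov).card) =
      ∑ g : G, (Nat.card N : ℂ) * ∑ χ ∈ Finset.univ.filter Ov, χ.1 g * conj (χ.1 g) := by
    rw [← Finset.mul_sum, Finset.sum_comm]
    congr 1
    rw [Finset.sum_congr rfl fun χ _ => (card_mul_classInner χ.1 χ.1).symm]
    simp [fun χ : IrrCharacter G => χ.2.inner_self, mul_comm]
  simp only [hcol] at h3
  have h4 : ∑ g : G, (if Sp g then (Nat.card (Subgroup.centralizer ({g} : Set G)) : ℂ) else 0) =
      Nat.card N * (Nat.card N * (Nat.card (G ⧸ N) * Nat.card {C // P C} : ℕ)) := by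
    rw [← h2, Finset.mul_sum]
    refine Finset.sum_congr rfl fun g _ => ?_
    simp only [QuotientGroup.mk'_apply, hP]
    split_ifs with h
    · rw [hcent g h, Nat.cast_mul]
    · simp
  rw [h4, Subgroup.card_eq_card_quotient_mul_card_subgroup N] at h3
  have h5 : ((Finset.univ.filter Ov).card : ℂ) = Nat.card {C // P C} := by
    have a1 := card_ne_zero N
    have a2 := card_ne_zero (G ⧸ N)
    push_cast at h3
    field_simp at h3
    exact h3
  rw [Nat.card_eq_fintype_card, Fintype.card_subtype]
  exact_mod_cast h5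

end Cfsg.Agent.S4567
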