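import Cfsg.Statements.S4958
import Cfsg.Agent.BLK.KnorrAb

set_option autoImplicit false
open Cfsg

namespace Cfsg.Agent.S4958

open Subgroup CL.VCh


/-- Let X be a finite group and V a normal subgroup of X in which every element has order dividing the prime p, whose index in X is prime to p and which is its own centralizer in X; so V is an elementary abelian normal Sylow p-subgroup, and any complement G to V in X is a group of order prime to p acting faithfully on the vector space V by conjugation (the coprime linear setting of the k(GV) problem). Let G be a complement to V in X and suppose that for some v in V the centralizer of v in G is abelian. Then the number of conjugacy classes of X is at most the order of V (the abelian-stabilizer criterion for the k(GV) problem). -/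
theorem result {X : Type*} [Group X] [Finite X] (p : ℕ) [Fact p.Prime] (V : Subgroup X) [V.Normal] (hVexp : ∀ v ∈ V, v ^ p = 1) (hidx : ¬ p ∣ V.index) (hself : Subgroup.centralizer (V : Set X) = V) (G : Subgroup X) (hGV : Subgroup.IsComplement' V G) (v : X) (hv : v ∈ V) (hab : ∀ a ∈ G ⊓ Subgroup.centralizer ({v} : Set X), ∀ b ∈ G ⊓ Subgroup.centralizer ({v} : Set X), a * b = b * a) : Nat.card (ConjClasses X) ≤ Nat.card V := by
  have hp : p.Prime := Fact.out
  obtain ⟨M, hM⟩ := CL.Glb.exists_isPModular hp
  have hVp : IsPGroup p V := fun x => ⟨1, Subtype.ext (by simpa using hVexp x x.2)⟩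
  have habV : ∀ a ∈ V, ∀ b ∈ V, a * b = b * a := fun a ha b hb => (hself.ge hb) a ha
  have : IsMulCommutative ↥(G ⊓ centralizer ({v} : Set X)) :=
    ⟨⟨fun a b => Subtype.ext (hab a a.2 b b.2)⟩⟩
  have hG : ¬ p ∣ Nat.card G := by rwa [← hGV.symm.index_eq_card]
  obtain ⟨ψ, hψ⟩ := exists_good_of_comm hM (H := G ⊓ centralizer ({v} : Set X))
    (fun h => hG (h.trans (card_dvd_of_le inf_le_left))) V hVp habV
    (by rw [normalizer_eq_top]; exact le_top)
  refine knorr hM hVp hidx habV hGV hv hψ.mem (mul_ne_zero hp.ne_zero Nat.card_pos.ne')
    (dvd_mul_left _ _) hψ.fix hψ.le hψ.one fun h hh => hψ.zero h fun h1 => hh ?_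
  exact Subtype.ext (Subgroup.disjoint_def.1 hGV.disjoint (hself.le h1) h.2.1)

end Cfsg.Agent.S4958
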