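import Cfsg.Statements.S4443
import Cfsg.Agent.BLK.Robinson

set_option autoImplicit false
open Cfsg

namespace Cfsg.Agent.S4443

open CL CL.Char CL.Blk Subgroup

theorem rank_map {K L ι : Type*} [Field K] [Field L] [Fintype ι] [DecidableEq ι] (f : K →+* L)
    (A : Matrix ι ι K) : (A.map f).rank = A.rank := by
  classical
  obtain ⟨P, Q, D, rfl⟩ := Matrix.Pivot.exists_list_transvec_mul_diagonal_mul_list_transvec A
  have h := fun P : List (Matrix.TransvectionStruct ι K) =>
    Matrix.TransvectionStruct.det_toMatrix_prod P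
  have h' := fun P : List (Matrix.TransvectionStruct ι K) =>
    (f.map_det _).symm.trans ((congrArg f (h P)).trans f.map_one)
  rw [Matrix.map_mul, Matrix.map_mul, Matrix.diagonal_map f.map_zero,
    Matrix.rank_mul_eq_left_of_det_ne_zero _ _ ((h _).trans_ne one_ne_zero),
    Matrix.rank_mul_eq_right_of_det_ne_zero _ _ ((h _).trans_ne one_ne_zero),
    Matrix.rank_mul_eq_left_of_det_ne_zero _ _ (by exact (h' _).trans_ne one_ne_zero),
    Matrix.rank_mul_eq_right_of_det_ne_zero _ _ (by exact (h' _).trans_ne one_ne_zero),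
    Matrix.rank_diagonal, Matrix.rank_diagonal]
  simp

theorem rank_eq_card {K ι κ : Type*} [Field K] [Fintype ι] [Fintype κ] [DecidableEq κ]
    (A : Matrix ι κ K) (B : Matrix κ ι K) (h : B * A = 1) : (A * B).rank = Fintype.card κ := by
  refine le_antisymm ((Matrix.rank_mul_le_left _ _).trans (Matrix.rank_le_card_width _)) ?_
  calc Fintype.card κ = (B * (A * B) * A).rank := by
        rw [← Matrix.mul_assoc, h, Matrix.one_mul, h, Matrix.rank_one]
    _ ≤ _ := (Matrix.rank_mul_le_left _ _).trans (Matrix.rank_mul_le_right _ _)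

variable {G : Type*} [Group G] [Finite G] {p : ℕ} {M : Ideal AlgInt}

open Classical in
theorem sum_trivMult (hM : IsPModular p M) {B : Set (IrrCharacter G)} (hB : IsPBlock M B)
    {S : Subgroup G} (hS : IsPGroup p S) {x : G} (hx : ¬ p ∣ orderOf x) :
    ∑ χ with χ ∈ B, trivMult S χ.1 * χ.1 x⁻¹ = S.index * blockCoeff B x := by
  have := Fintype.ofFinite S
  have := Fact.mk hM.1
  have h0 : (Nat.card S : ℂ) ≠ 0 := Nat.cast_ne_zero.2 Nat.card_pos.ne'
  have h1 : (S.index : ℂ) ≠ 0 := Nat.cast_ne_zero.2 index_ne_zero_of_finite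
  simp only [trivMult, finsum_eq_sum_of_fintype, div_mul_eq_mul_div, Finset.sum_mul]
  rw [← Finset.sum_div, Finset.sum_comm, Fintype.sum_eq_single 1 fun s hs =>
    block_orth_of_int hM (blockCoeff_mem_V hM hB) (isPPart_self hM.1 (by
      simpa only [orderOf_coe] using IsPGroup.iff_orderOf.1 hS s)) (isPPart_one_iff.2 hx)
      (by simpa using hs), blockCoeff_eq_sum, ← S.card_mul_index]
  simp only [← fun χ : IrrCharacter G => χ.2.isCharacter.apply_inv x, OneMemClass.coe_one]
  push_cast
  field_simp

theorem red_sum_trivMult (hM : IsPModular p M) {S : Subgroup G} (hS : IsPGroup p S) {x : G}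
    (hx : ¬ p ∣ orderOf x) (y : G) :
    red M (∑ χ : IrrCharacter G, trivMult S χ.1 * χ.1 x⁻¹ * centralChar χ.1 y) =
      S.index * ∑ B ∈ blocks M G, (eB M B).coeff x * lamB M B (classSum (F M) y) := by
  classical
  have hV := fun (χ : IrrCharacter G) g => mul_mem (trivMult_mem_V (M := M) S χ) (irr_mem_V χ g)
  rw [red_sum _ fun χ _ => mul_mem (hV χ _) (centralChar_mem_V χ _), Finset.mul_sum,
    ← Finset.sum_fiberwise_of_maps_to (g := fun χ : IrrCharacter G => blockOf M χ.1)
      fun χ _ => mem_blocks.2 (isPBlock_blockOf χ)]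
  refine Finset.sum_congr rfl fun B hB => ?_
  rw [mem_blocks] at hB
  rw [coeff_eB, ← mul_assoc, ← red_natCast, ← red_mul (natCast_mem _ _) (blockCoeff_mem_V hM hB _),
    ← sum_trivMult hM hB hS hx, red_sum _ fun χ _ => hV χ _, Finset.sum_mul]
  refine Finset.sum_congr (Finset.filter_congr fun χ _ =>
    ⟨fun h => h ▸ mem_blockOf_self hM χ, fun h => (block_eq_blockOf hM hB h).symm⟩) fun χ hχ => ?_
  rw [red_mul (hV χ _) (centralChar_mem_V χ _), lamB_classSum hM hB (Finset.mem_filter.1 hχ).2]

/-- Let D be a normal p-subgroup of the finite group G, of order p^d, let p^a be the p-part of the order of G, and fix a Sylow p-subgroup S and a maximal ideal M of the algebraic integers containing p. Index by a finite type ι (via an injective map K) exactly the conjugacy classes of p-regular elements x of G for which D is a Sylow p-subgroup of C_G(x). For classes K_i, K_j let ω(i, j) be the number of pairs (y, z) ∈ K_i × K_j with z y⁻¹ ∈ S; this number is divisible by p^(a−d). Then the number of p-blocks of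 G having D as a defect group equals the rank over ℤ/pℤ of the matrix with (i, j) entry ω(i, j)/p^(a−d) reduced modulo p. -/
theorem result {G : Type*} [Group G] [Finite G] (p : ℕ) [Fact p.Prime] (M : Ideal Cfsg.AlgInt) (hM : Cfsg.IsPModular p M) (D : Subgroup G) [D.Normal] (hD : IsPGroup p D) (S : Sylow p G) {ι : Type*} [Fintype ι] [DecidableEq ι] (K : ι → ConjClasses G) (hKinj : Function.Injective K) (hK : ∀ C : ConjClasses G, (∃ i, K i = C) ↔ ∃ x ∈ C.carrier, ¬ p ∣ orderOf x ∧ ∃ Q : Sylow p (Subgroup.centralizer ({x} : Set G)), (Q : Subgroup (Subgroup.centralizer ({x} : Set G))).map (Subgroup.centralizer ({x} : Set G)).subtype = D) : Nat.card {B : Set (Cfsg.IrrCharacter G) // Cfsg.IsPBlock M B ∧ Cfsg.IsDefectGroup p M B D} = (Matrix.of fun i j : ι => ((Nat.card {yz : G × G // yz.1 ∈ (K i).carrier ∧ yz.2 ∈ (K j).carrier ∧ yz.2 * yz.1⁻¹ ∈ (S : Subgroup G)} / p ^ ((Nat.card G).factorization p - (Nat.card D).factorization p) : ℕ) : ZMod p)).rank := by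
  classical
  choose x hx1 hx2 hx3 using fun i => (hK (K i)).1 ⟨i, rfl⟩
  have hs : ∀ i, MSS.SylIn p D (centralizer {x i}) := fun i => by
    obtain ⟨R, hR⟩ := hx3 i
    exact hR ▸ MSS.sylIn_map_subtype R
  have hx4 : ∀ i g, g ∈ (K i).carrier ↔ IsConj (x i) g := fun i g => by
    rw [ConjClasses.mem_carrier_iff_mk_eq, ← ConjClasses.mem_carrier_iff_mk_eq.1 (hx1 i),
      ConjClasses.mk_eq_mk_iff_isConj, isConj_comm]
  have := charP_F hM
  have := Fintype.ofFinite {B : Set (IrrCharacter G) // IsPBlock M B ∧ IsDefectGroup p M B D}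
  set c := p ^ ((Nat.card G).factorization p - (Nat.card D).factorization p) with hce
  have hc : c.factorization p = _ := Nat.Prime.factorization_pow hM.1 ▸ Finsupp.single_eq_same
  have hc0 : c ≠ 0 := pow_ne_zero _ hM.1.ne_zero
  have h1 : ∀ i, (centralizer {x i}).index.factorization p = c.factorization p := fun i => by
    have := factorization_card_centralizer_add p (x i)
    rw [hc, (hs i).card_eq_pow_factorization, Nat.Prime.factorization_pow hM.1,
      Finsupp.single_eq_same]
    omega
  have h2 := fun i => (natCast_div_mem_V_iff hM index_ne_zero_of_finite hc0).2 (h1 i).ge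
  have h3 : ∀ i, red M (((centralizer {x i}).index : ℂ) / c) ≠ 0 := fun i h =>
    ((natCast_div_mem_nonunits_iff hM index_ne_zero_of_finite hc0).1
      ((red_eq_zero_iff (h2 i)).1 h)).ne' (h1 i)
  have hS : (((S : Subgroup G).index : ℕ) : ℂ) ∉ (V M).nonunits :=
    mt (natCast_mem_nonunits_iff hM _).1 S.not_dvd_index
  rw [← rank_map (ZMod.castHom (dvd_refl p) (F M)), Nat.card_eq_fintype_card,
    ← rank_eq_card (K := F M) (Matrix.of fun i B => (eB M B.1).coeff (x i))
      (Matrix.of fun B j => lamB M B.1 (classSum (F M) (x j))),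
    ← Matrix.rank_mul_eq_right_of_det_ne_zero (Matrix.diagonal fun i =>
      red M (((centralizer {x i}).index : ℂ) / c)) _
      (by rw [Matrix.det_diagonal]; exact Finset.prod_ne_zero_iff.2 fun i _ => h3 i)]
  · congr 1
    ext i j
    have h4 := card_mul_pairCnt_subgroup (S : Subgroup G) (x i) (x j)
    have h5 : ∑ χ : IrrCharacter G, trivMult S χ.1 * χ.1 (x i)⁻¹ * centralChar χ.1 (x j) ∈ V M :=
      sum_mem fun χ _ => mul_mem (mul_mem (trivMult_mem_V _ χ) (irr_mem_V χ _))
        (centralChar_mem_V χ _)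
    have h6 : ((S : Subgroup G).index : ℂ) * (pairCnt (S : Subgroup G) (x i) (x j) / c) =
        (centralizer {x i}).index / c * ∑ χ : IrrCharacter G,
          trivMult S χ.1 * χ.1 (x i)⁻¹ * centralChar χ.1 (x j) := by
      rw [← mul_div_assoc, h4, div_mul_eq_mul_div]
    have h7 := mem_V_of_mul_unit hS (h6 ▸ mul_mem (h2 i) h5)
    have h8 := congrArg (red M) h6
    rw [red_mul (natCast_mem _ _) h7, red_mul (h2 i) h5, red_sum_trivMult hM S.isPGroup' (hx2 i),
      red_natCast, mul_left_comm, ← Nat.cast_div_charZero ((natCast_div_pow_mem_V_iff hM _ _).1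
        (by simpa [hce] using h7)), red_natCast] at h8
    rw [Matrix.diagonal_mul]
    simp only [Matrix.mul_apply, Matrix.of_apply, Matrix.map_apply, map_natCast, hx4]
    refine Eq.trans ?_ (mul_left_cancel₀ (fun h => S.not_dvd_index
      ((natCast_F_eq_zero_iff hM _).1 h)) h8).symm
    rw [← Finset.sum_subtype ((blocks M G).filter fun B => IsDefectGroup p M B D) (by simp)
      fun B => (eB M B).coeff (x i) * lamB M B (classSum (F M) (x j)),
      Finset.sum_filter_of_ne fun B hB h => isDefectGroup_of_lamB hM (mem_blocks.1 hB) (hs j)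
        (right_ne_zero_of_mul h) ?_]
    rw [(hs i).card_eq_pow_factorization]
    exact Nat.pow_le_pow_right hM.1.pos
      (factorization_le_blockDefect hM (mem_blocks.1 hB) (left_ne_zero_of_mul h))
  · ext B B'
    have := Fintype.ofFinite (Set.range K)
    have h4 := map_eq_sum_subtype (lamB M B.1) (eB_isCentral B'.1) (· ∈ Set.range K)
      fun g h5 h6 => by
        obtain ⟨Q, hQ⟩ := MSS.exists_sylIn p (centralizer ({g} : Set G))
        obtain ⟨y, hy⟩ := (isBlk_eB hM B.2.1).exists_cj_le_of_map_classSum_ne_zero hM.1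
          (natCast_F hM) (IsDefectGroup.isDef hM B.2.1 B.2.2) h6 hQ
        have h7 := factorization_le_blockDefect hM B'.2.1 h5
        rw [MSS.cj_eq_of_normal] at hy
        refine (hK _).2 ⟨g, ConjClasses.mem_carrier_mk, not_dvd_orderOf_of_coeff_eB hM B'.2.1 h5,
          MSS.SylIn.exists_sylow ((eq_of_le_of_card_ge hy ?_).symm ▸ hQ)⟩
        rw [hQ.card_eq_pow_factorization, IsDefectGroup.card_eq_pow hM B'.2.1 B'.2.2]
        exact Nat.pow_le_pow_right hM.1.pos h7
    rw [lamB_eB hM B.2.1 B'.2.1, ← (Equiv.ofInjective K hKinj).sum_comp] at h4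
    simp only [Matrix.mul_apply, Matrix.of_apply, Matrix.one_apply, Subtype.ext_iff, h4]
    refine Finset.sum_congr rfl fun i _ => ?_
    have h5 : IsConj (Quotient.out (K i)) (x i) :=
      (isConj_out_iff _ _).2 (ConjClasses.mem_carrier_iff_mk_eq.1 (hx1 i)).symm
    rw [mul_comm, ← (eB_isCentral B'.1).eq_of_isConj h5, ← classSum_eq_of_isConj h5]
    rfl

end Cfsg.Agent.S4443
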