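import Cfsg.Statements.S4345
import Cfsg.Agent.FGS.SylowNum
import Cfsg.Agent.SOLV.MinNormal

set_option autoImplicit false
open Cfsg

namespace Cfsg.Agent.S4345

open CL CL.SN CL.MSS

universe u

theorem aux (p ℓ : ℕ) [Fact p.Prime] (hℓ : ℓ.Prime) (G : Type u) [Group G] [Finite G] :
    Group.IsSolvable G → ℓ ^ (Nat.card (Sylow p G)).factorization ℓ ≡ 1 [MOD p] := by
  refine card_induction (P := fun G _ _ => Group.IsSolvable G →
    ℓ ^ (Nat.card (Sylow p G)).factorization ℓ ≡ 1 [MOD p]) ?_ G
  · intro G _ _ ih hG
    rcases subsingleton_or_nontrivial G with h0 | h0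
    · rw [card_sylow_eq_one_of_not_dvd (by
        rw [Nat.card_of_subsingleton (1 : G)]
        exact (Fact.out : p.Prime).not_dvd_one)]
      simp [Nat.ModEq]
    · obtain ⟨N, r, hN, hr, -, hNr⟩ := exists_isMinNormal_isElementaryAbelian G
      have := hN.normal
      have := Fact.mk hr
      let P : Sylow p G := default
      have h1 := ih (G ⧸ N) (card_quotient_lt hN.ne_bot) inferInstance
      have h2 := relIndex_normalizer_modEq_one (sylIn_sylow P (le_sup_left : _ ≤ _ ⊔ N))
        Subgroup.le_normalizer_of_normal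
      obtain ⟨k, hk⟩ := hNr.index
        ((Subgroup.normalizer ((P : Subgroup G) : Set G)).subgroupOf N)
      change (Subgroup.normalizer ((P : Subgroup G) : Set G)).relIndex N = r ^ k at hk
      rw [card_sylow_eq_quotient_mul P N, hk,
        Nat.factorization_mul Nat.card_pos.ne' (pow_ne_zero _ hr.ne_zero), Finsupp.add_apply,
        pow_add]
      rw [hk] at h2
      have h3 : ℓ ^ (r ^ k).factorization ℓ ≡ 1 [MOD p] := by
        rw [hr.factorization_pow]
        by_cases h : r = ℓ
        · subst h
          rwa [Finsupp.single_eq_same]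
        · rw [Finsupp.single_eq_of_ne (Ne.symm h), pow_zero]
      simpa using h1.mul h3


/-- Let G be a finite solvable group and p, ℓ primes. Then the largest power of ℓ dividing the number of Sylow p-subgroups of G is congruent to 1 modulo p. -/
theorem result {G : Type*} [Group G] [Finite G]
    (hG : Group.IsSolvable G) (p ℓ : ℕ) [Fact p.Prime] (hℓ : ℓ.Prime) :
    ℓ ^ (Nat.card (Sylow p G)).factorization ℓ ≡ 1 [MOD p] := by
  exact aux p ℓ hℓ G hG

end Cfsg.Agent.S4345
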