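import Cfsg.Statements.S3559
import Cfsg.Agent.PERM.SRing

set_option autoImplicit false
open Cfsg

namespace Cfsg.Agent.S3559

/-- Let G act faithfully and transitively on a finite set whose number of points n ≥ 2 is not a prime power, and suppose G has a cyclic subgroup acting regularly (transitively with trivial point stabilizers). Then G is imprimitive or doubly transitive. -/
theorem result {G Ω : Type*} [Group G] [Finite G] [MulAction G Ω] [FaithfulSMul G Ω] [Finite Ω]
    (htrans : MulAction.IsPretransitive G Ω) (hn : 2 ≤ Nat.card Ω) (hnp : ¬ IsPrimePow (Nat.card Ω))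
    (C : Subgroup G) (hcyc : IsCyclic ↥C) (hC : MulAction.IsPretransitive ↥C Ω ∧ ∀ a : Ω, MulAction.stabilizer ↥C a = ⊥) :
    ¬ MulAction.IsPreprimitive G Ω ∨ MulAction.IsMultiplyPretransitive G Ω 2 := by
  rw [or_iff_not_imp_left, not_not]
  intro hP
  obtain ⟨a⟩ : Nonempty Ω := (Nat.card_pos_iff.1 (by omega)).1
  have hc : Nat.card C = Nat.card Ω := by
    have := hC.1
    rw [← MulAction.index_stabilizer_of_transitive C a, hC.2, Subgroup.index_bot]
  letI : CommGroup C := IsCyclic.commGroup
  obtain ⟨p, hp, hpn⟩ := Nat.exists_prime_and_dvd (n := Nat.card Ω) (by omega)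
  refine CL.SRing.two_trans_of_regular hP C (MulEquiv.refl C) hC.1 hC.2 fun S =>
    S.of_comm hp ?_ fun h => hnp (hc ▸ h ▸ hp.isPrimePow)
  rw [IsCyclic.card_powMonoidHom_ker, hc, Nat.gcd_eq_right hpn]

end Cfsg.Agent.S3559
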