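import Cfsg.Statements.S3549
import Cfsg.Agent.PERM.Derange

set_option autoImplicit false
open Cfsg

namespace Cfsg.Agent.S3549

open MulAction
open scoped Pointwise

/-- Let G act faithfully, transitively but imprimitively on a finite set with n points, and let D be the subgroup generated by the derangements. Then the index of D in G is at most √n − 1. -/
theorem result {G Ω : Type*} [Group G] [Finite G] [MulAction G Ω] [FaithfulSMul G Ω] [Finite Ω]
    (htrans : MulAction.IsPretransitive G Ω) (himp : ¬ MulAction.IsPreprimitive G Ω) :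
    ((Subgroup.closure {g : G | ∀ ω : Ω, g • ω ≠ ω}).index : ℝ) ≤ Real.sqrt (Nat.card Ω) - 1 := by
  classical
  set D := Subgroup.closure {g : G | ∀ ω : Ω, g • ω ≠ ω} with hDdef
  have hD : ∀ g : G, (∀ ω : Ω, g • ω ≠ ω) → g ∈ D := fun g hg => Subgroup.subset_closure hg
  obtain ⟨B, hB, hBt⟩ : ∃ B : Set Ω, IsBlock G B ∧ ¬ IsTrivialBlock B := by
    by_contra h
    push Not at h
    exact himp ⟨fun {B} hB => h B hB⟩
  rw [IsTrivialBlock, not_or, Set.not_subsingleton_iff] at hBt
  obtain ⟨hBn, hBu⟩ := hBt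
  obtain ⟨a, ha⟩ := hBn.nonempty
  have hcompl : ({a}ᶜ : Set Ω).ncard = Nat.card Ω - 1 := by
    rw [Set.ncard_compl, Set.ncard_singleton]
  have hinv : ∀ g : G, g • a = a → ∀ x ∈ ({a}ᶜ : Set Ω), g • x ∈ ({a}ᶜ : Set Ω) := by
    intro g hg x hx h
    rw [Set.mem_singleton_iff, ← hg] at h
    exact hx (smul_left_cancel g h)
  have h1 : D.index ∣ Nat.card Ω - 1 := by
    rw [← hcompl]
    exact CL.Perm.index_dvd_ncard_of_derang_le D hD a _ (by simp) hinv
  have h2 : D.index ∣ B.ncard - 1 := by
    rw [← Set.ncard_diff_singleton_of_mem ha]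
    apply CL.Perm.index_dvd_ncard_of_derang_le D hD a _ (by simp)
    intro g hg x hx
    refine ⟨?_, hinv g hg x hx.2⟩
    have : g • B = B := isBlock_iff_smul_eq_of_mem.mp hB ha (by rw [hg]; exact ha)
    rw [← this]
    exact Set.smul_mem_smul_set hx.1
  have h3 := hB.ncard_block_mul_ncard_orbit_eq hBn.nonempty
  set k := B.ncard with hk
  set l := (orbit G B).ncard with hl
  have hk2 : 2 ≤ k := by
    have := Set.one_lt_ncard_iff_nontrivial.mpr hBn
    omega
  have hkn : k < Nat.card Ω := by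
    rw [← Set.ncard_univ]
    exact Set.ncard_lt_ncard (Set.ssubset_univ_iff.mpr hBu)
  have hl2 : 2 ≤ l := by
    by_contra h
    have : k * l ≤ k * 1 := Nat.mul_le_mul_left _ (by omega)
    omega
  have h4 : D.index ∣ l - 1 := by
    have : Nat.card Ω - 1 = (k - 1) * l + (l - 1) := by
      rw [← h3]
      obtain ⟨k', hk'⟩ : ∃ k', k = k' + 1 := ⟨k - 1, by omega⟩
      rw [hk']
      simp only [add_tsub_cancel_right]
      have : (k' + 1) * l = k' * l + l := by ring
      omega
    rw [this] at h1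
    exact (Nat.dvd_add_right (Dvd.dvd.mul_right h2 l)).mp h1
  have h5 : D.index + 1 ≤ k := by
    have := Nat.le_of_dvd (by omega) h2
    omega
  have h6 : D.index + 1 ≤ l := by
    have := Nat.le_of_dvd (by omega) h4
    omega
  have h7 : (D.index + 1) ^ 2 ≤ Nat.card Ω := by
    rw [← h3, pow_two]
    exact Nat.mul_le_mul h5 h6
  rw [le_sub_iff_add_le]
  apply Real.le_sqrt_of_sq_le
  exact_mod_cast h7

end Cfsg.Agent.S3549
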