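import Cfsg.Statements.S0705
---PRE---
open MulAction

theorem exists_agree {α : Type*} [Fintype α] [DecidableEq α] (G : Subgroup (Equiv.Perm α)) {k : ℕ}
    (hgen : ∀ s : Finset α, s.card = k + 1 → ∀ σ : Equiv.Perm ↥s, ∃ g ∈ G, ∀ x : ↥s, g (x : α) = σ x)
    (t : Finset α) (ht : t.card = k + 1) (σ : Equiv.Perm α) (hσ : ∀ x ∈ t, σ x ∈ t) :
    ∃ g ∈ G, ∀ x ∈ t, g x = σ x := by
  have hiff : ∀ x, σ x ∈ t ↔ x ∈ t := by
    intro x
    refine ⟨fun hx => ?_, hσ x⟩
    have hsub : t.image σ ⊆ t := by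
      intro y hy
      obtain ⟨z, hz, rfl⟩ := Finset.mem_image.1 hy
      exact hσ z hz
    have heq : t.image σ = t := Finset.eq_of_subset_of_card_le hsub
      (by rw [Finset.card_image_of_injective _ σ.injective])
    rw [← heq] at hx
    obtain ⟨z, hz, hz'⟩ := Finset.mem_image.1 hx
    rwa [← σ.injective hz']
  obtain ⟨g, hg, h⟩ := hgen t ht (σ.subtypePerm hiff)
  exact ⟨g, hg, fun x hx => h ⟨x, hx⟩⟩

theorem exists_agree_swap {α : Type*} [Fintype α] [DecidableEq α] (G : Subgroup (Equiv.Perm α))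
    {k : ℕ} (hk : k < Fintype.card α)
    (hgen : ∀ s : Finset α, s.card = k + 1 → ∀ σ : Equiv.Perm ↥s, ∃ g ∈ G, ∀ x : ↥s, g (x : α) = σ x)
    (s : Finset α) (hs : s.card = k) (a b : α) :
    ∃ g ∈ G, ∀ x ∈ s, g x = Equiv.swap a b x := by
  have aux : ∀ t : Finset α, t.card = k + 1 → s ⊆ t → a ∈ t → b ∈ t →
      ∃ g ∈ G, ∀ x ∈ s, g x = Equiv.swap a b x := by
    intro t ht hst ha hb
    obtain ⟨g, hg, h⟩ := exists_agree G hgen t ht (Equiv.swap a b) (by
      intro x hx
      rw [Equiv.swap_apply_def]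
      split_ifs <;> assumption)
    exact ⟨g, hg, fun x hx => h x (hst hx)⟩
  by_cases ha : a ∈ s <;> by_cases hb : b ∈ s
  · obtain ⟨c, hc⟩ : ∃ c, c ∉ s := by
      by_contra hcon
      push Not at hcon
      have : s = Finset.univ := Finset.eq_univ_of_forall hcon
      rw [this, Finset.card_univ] at hs
      omega
    exact aux (insert c s) (by rw [Finset.card_insert_of_notMem hc, hs])
      (Finset.subset_insert _ _) (Finset.mem_insert_of_mem ha) (Finset.mem_insert_of_mem hb)
  · exact aux (insert b s) (by rw [Finset.card_insert_of_notMem hb, hs])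
      (Finset.subset_insert _ _) (Finset.mem_insert_of_mem ha) (Finset.mem_insert_self _ _)
  · exact aux (insert a s) (by rw [Finset.card_insert_of_notMem ha, hs])
      (Finset.subset_insert _ _) (Finset.mem_insert_self _ _) (Finset.mem_insert_of_mem hb)
  · refine ⟨1, G.one_mem, fun x hx => ?_⟩
    rw [Equiv.swap_apply_of_ne_of_ne (by rintro rfl; exact ha hx) (by rintro rfl; exact hb hx)]
    rfl

theorem exists_agree_perm {α : Type*} [Fintype α] [DecidableEq α] (G : Subgroup (Equiv.Perm α))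
    {k : ℕ} (hk : k < Fintype.card α)
    (hgen : ∀ s : Finset α, s.card = k + 1 → ∀ σ : Equiv.Perm ↥s, ∃ g ∈ G, ∀ x : ↥s, g (x : α) = σ x)
    (s : Finset α) (hs : s.card = k) (σ : Equiv.Perm α) :
    ∃ g ∈ G, ∀ x ∈ s, g x = σ x := by
  induction σ using Equiv.Perm.swap_induction_on with
  | one => exact ⟨1, G.one_mem, fun x _ => rfl⟩
  | swap_mul τ a b _ ih =>
    obtain ⟨g, hg, h⟩ := ih
    obtain ⟨g', hg', h'⟩ := exists_agree_swap G hk hgen (s.image τ)
      (by rw [Finset.card_image_of_injective _ τ.injective, hs]) a b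
    refine ⟨g' * g, G.mul_mem hg' hg, fun x hx => ?_⟩
    rw [Equiv.Perm.mul_apply, Equiv.Perm.mul_apply, h x hx]
    exact h' _ (Finset.mem_image_of_mem _ hx)

set_option autoImplicit false
open scoped Pointwise
open Cfsg

namespace Cfsg.Agent.S0705

open MulAction

theorem exists_agree {α : Type*} [Fintype α] [DecidableEq α] (G : Subgroup (Equiv.Perm α)) {k : ℕ}
    (hgen : ∀ s : Finset α, s.card = k + 1 → ∀ σ : Equiv.Perm ↥s, ∃ g ∈ G, ∀ x : ↥s, g (x : α) = σ x)
    (t : Finset α) (ht : t.card = k + 1) (σ : Equiv.Perm α) (hσ : ∀ x ∈ t, σ x ∈ t) :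
    ∃ g ∈ G, ∀ x ∈ t, g x = σ x := by
  have hiff : ∀ x, σ x ∈ t ↔ x ∈ t := by
    intro x
    refine ⟨fun hx => ?_, hσ x⟩
    have hsub : t.image σ ⊆ t := by
      intro y hy
      obtain ⟨z, hz, rfl⟩ := Finset.mem_image.1 hy
      exact hσ z hz
    have heq : t.image σ = t := Finset.eq_of_subset_of_card_le hsub
      (by rw [Finset.card_image_of_injective _ σ.injective])
    rw [← heq] at hx
    obtain ⟨z, hz, hz'⟩ := Finset.mem_image.1 hx
    rwa [← σ.injective hz']
  obtain ⟨g, hg, h⟩ := hgen t ht (σ.subtypePerm hiff)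
  exact ⟨g, hg, fun x hx => h ⟨x, hx⟩⟩

theorem exists_agree_swap {α : Type*} [Fintype α] [DecidableEq α] (G : Subgroup (Equiv.Perm α))
    {k : ℕ} (hk : k < Fintype.card α)
    (hgen : ∀ s : Finset α, s.card = k + 1 → ∀ σ : Equiv.Perm ↥s, ∃ g ∈ G, ∀ x : ↥s, g (x : α) = σ x)
    (s : Finset α) (hs : s.card = k) (a b : α) :
    ∃ g ∈ G, ∀ x ∈ s, g x = Equiv.swap a b x := by
  have aux : ∀ t : Finset α, t.card = k + 1 → s ⊆ t → a ∈ t → b ∈ t →
      ∃ g ∈ G, ∀ x ∈ s, g x = Equiv.swap a b x := by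
    intro t ht hst ha hb
    obtain ⟨g, hg, h⟩ := exists_agree G hgen t ht (Equiv.swap a b) (by
      intro x hx
      rw [Equiv.swap_apply_def]
      split_ifs <;> assumption)
    exact ⟨g, hg, fun x hx => h x (hst hx)⟩
  by_cases ha : a ∈ s <;> by_cases hb : b ∈ s
  · obtain ⟨c, hc⟩ : ∃ c, c ∉ s := by
      by_contra hcon
      push Not at hcon
      have : s = Finset.univ := Finset.eq_univ_of_forall hcon
      rw [this, Finset.card_univ] at hs
      omega
    exact aux (insert c s) (by rw [Finset.card_insert_of_notMem hc, hs])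
      (Finset.subset_insert _ _) (Finset.mem_insert_of_mem ha) (Finset.mem_insert_of_mem hb)
  · exact aux (insert b s) (by rw [Finset.card_insert_of_notMem hb, hs])
      (Finset.subset_insert _ _) (Finset.mem_insert_of_mem ha) (Finset.mem_insert_self _ _)
  · exact aux (insert a s) (by rw [Finset.card_insert_of_notMem ha, hs])
      (Finset.subset_insert _ _) (Finset.mem_insert_self _ _) (Finset.mem_insert_of_mem hb)
  · refine ⟨1, G.one_mem, fun x hx => ?_⟩
    rw [Equiv.swap_apply_of_ne_of_ne (by rintro rfl; exact ha hx) (by rintro rfl; exact hb hx)]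
    rfl

theorem exists_agree_perm {α : Type*} [Fintype α] [DecidableEq α] (G : Subgroup (Equiv.Perm α))
    {k : ℕ} (hk : k < Fintype.card α)
    (hgen : ∀ s : Finset α, s.card = k + 1 → ∀ σ : Equiv.Perm ↥s, ∃ g ∈ G, ∀ x : ↥s, g (x : α) = σ x)
    (s : Finset α) (hs : s.card = k) (σ : Equiv.Perm α) :
    ∃ g ∈ G, ∀ x ∈ s, g x = σ x := by
  induction σ using Equiv.Perm.swap_induction_on with
  | one => exact ⟨1, G.one_mem, fun x _ => rfl⟩
  | swap_mul τ a b _ ih =>
    obtain ⟨g, hg, h⟩ := ih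
    obtain ⟨g', hg', h'⟩ := exists_agree_swap G hk hgen (s.image τ)
      (by rw [Finset.card_image_of_injective _ τ.injective, hs]) a b
    refine ⟨g' * g, G.mul_mem hg' hg, fun x hx => ?_⟩
    rw [Equiv.Perm.mul_apply, Equiv.Perm.mul_apply, h x hx]
    exact h' _ (Finset.mem_image_of_mem _ hx)

/-- A generously `k`-transitive permutation group (every `(k+1)`-subset has its full symmetric group induced by the setwise stabiliser) of degree greater than `k` is `k`-transitive, and for a `k`-subset the setwise and pointwise stabilisers have the same orbits outside it. -/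
theorem result {α : Type*} [Fintype α] [DecidableEq α] (G : Subgroup (Equiv.Perm α)) {k : ℕ} (hk : k < Fintype.card α) (hgen : ∀ s : Finset α, s.card = k + 1 → ∀ σ : Equiv.Perm ↥s, ∃ g ∈ G, ∀ x : ↥s, g (x : α) = σ x) : MulAction.IsMultiplyPretransitive G α k ∧ ∀ s : Finset α, s.card = k → ∀ a b : α, a ∉ s → b ∉ s → (∃ g ∈ G, g • s = s ∧ g a = b) → ∃ g ∈ G, (∀ x ∈ s, g x = x) ∧ g a = b := by
  constructor
  · refine ⟨fun x y => ?_⟩
    obtain ⟨σ, hσ⟩ := Equiv.Perm.exists_smul_eq_embedding x y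
    obtain ⟨g, hg, h⟩ := exists_agree_perm G hk hgen (Finset.univ.image x)
      (by rw [Finset.card_image_of_injective _ x.injective, Finset.card_univ, Fintype.card_fin]) σ
    refine ⟨⟨g, hg⟩, ?_⟩
    rw [← hσ]
    ext i
    exact h _ (Finset.mem_image_of_mem _ (Finset.mem_univ i))
  · rintro s hs a b ha hb ⟨g, hg, hgs, hgab⟩
    have hmem : ∀ x, g x ∈ s ↔ x ∈ s := by
      intro x
      conv_lhs => rw [← hgs]
      exact Finset.smul_mem_smul_finset_iff g
    have hfix : ∀ x ∈ s, Equiv.swap a b x = x := fun x hx =>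
      Equiv.swap_apply_of_ne_of_ne (by rintro rfl; exact ha hx) (by rintro rfl; exact hb hx)
    have hinv : g⁻¹ b = a := by rw [← hgab]; simp
    obtain ⟨g', hg', h⟩ := exists_agree G hgen (insert b s)
      (by rw [Finset.card_insert_of_notMem hb, hs]) (Equiv.swap a b * g⁻¹) (by
        intro x hx
        rw [Equiv.Perm.mul_apply]
        rcases Finset.mem_insert.1 hx with rfl | hx
        · rw [hinv, Equiv.swap_apply_left]
          exact Finset.mem_insert_self _ _
        · have : g⁻¹ x ∈ s := by rw [← hmem]; simpa using hx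
          rw [hfix _ this]
          exact Finset.mem_insert_of_mem this)
    refine ⟨g' * g, G.mul_mem hg' hg, fun x hx => ?_, ?_⟩
    · rw [Equiv.Perm.mul_apply, h _ (Finset.mem_insert_of_mem ((hmem x).2 hx))]
      simpa using hfix x hx
    · rw [Equiv.Perm.mul_apply, hgab, h _ (Finset.mem_insert_self _ _), Equiv.Perm.mul_apply, hinv,
        Equiv.swap_apply_left]

end Cfsg.Agent.S0705
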