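import Cfsg.Statements.S0706
import Mathlib
import Cfsg.Agent.S0705
import Cfsg.Agent.PERM.MultiTrans
import Cfsg.Agent.TECH.SylIn

set_option autoImplicit false
open Cfsg

namespace Cfsg.Agent.S0706

open MulAction CL.MSS
open scoped Pointwise

/-- In a generously `k`-transitive permutation group, for a prime `p ≤ k` and a `k`-set `Γ`, there are no `p` points outside `Γ` lying in distinct orbits of the pointwise stabiliser of `Γ` all of length prime to `p` (at most `p - 1` such orbits). -/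
theorem result {α : Type*} [Fintype α] [DecidableEq α] (G : Subgroup (Equiv.Perm α)) {k : ℕ} (hk : k < Fintype.card α) (hgen : ∀ s : Finset α, s.card = k + 1 → ∀ σ : Equiv.Perm ↥s, ∃ g ∈ G, ∀ x : ↥s, g (x : α) = σ x) {p : ℕ} (hp : p.Prime) (hpk : p ≤ k) (Γ : Finset α) (hΓ : Γ.card = k) (f : Fin p → α) (hf : ∀ i, f i ∉ Γ) (hdist : ∀ i j, i ≠ j → f j ∉ MulAction.orbit (fixingSubgroup G (Γ : Set α)) (f i)) : ∃ i, p ∣ Nat.card (MulAction.orbit (fixingSubgroup G (Γ : Set α)) (f i)) := by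
  have : Fact p.Prime := ⟨hp⟩
  by_contra hcon
  push Not at hcon
  obtain ⟨hkt, horb⟩ := S0705.result G hk hgen
  obtain ⟨A, hAΓ, hA⟩ := Finset.exists_subset_card_eq (hΓ ▸ hpk : p ≤ Γ.card)
  obtain ⟨σ, hσ, hσs⟩ := A.exists_cycleOn
  obtain ⟨g, hg, hgσ⟩ := S0705.exists_agree_perm G hk hgen Γ hΓ σ
  have hσfix : ∀ x, x ∉ A → σ x = x := fun x hx => by
    by_contra h
    exact hx (hσs (Equiv.Perm.mem_support.2 h))
  have hσΓ : ∀ x ∈ Γ, σ x ∈ Γ := fun x hx => by
    by_cases h : x ∈ A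
    · exact hAΓ (hσ.apply_mem_iff.2 h)
    · rwa [hσfix x h]
  have hpow : ∀ n : ℕ, ∀ x ∈ Γ, (g ^ n) x = (σ ^ n) x ∧ (σ ^ n) x ∈ Γ := by
    intro n
    induction n with
    | zero => exact fun x hx => ⟨rfl, hx⟩
    | succ n ih =>
      intro x hx
      rw [pow_succ', pow_succ', Equiv.Perm.mul_apply, Equiv.Perm.mul_apply, (ih x hx).1]
      exact ⟨hgσ _ (ih x hx).2, hσΓ _ (ih x hx).2⟩
  obtain ⟨i, m, hm, him⟩ := Nat.exists_eq_pow_mul_and_not_dvd (orderOf_pos g).ne' p hp.ne_one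
  let y : G := ⟨g, hg⟩ ^ m
  have hy : ∀ x, y • x = (g ^ m) x := fun x => rfl
  have hyp : IsPGroup p (Subgroup.zpowers y) := by
    have h1 : y ^ p ^ i = 1 := by
      apply Subtype.ext
      show (g ^ m) ^ p ^ i = 1
      rw [← pow_mul, mul_comm, ← him, pow_orderOf_eq_one]
    obtain ⟨j, -, hj⟩ := (Nat.dvd_prime_pow hp).1 (orderOf_dvd_of_pow_eq_one h1)
    exact IsPGroup.of_card (by rw [Nat.card_zpowers, hj])
  let M : Subgroup G := stabilizer G (Γ : Set α)
  let K : Subgroup G := fixingSubgroup G (Γ : Set α)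
  have hmemM : ∀ x : G, x ∈ M ↔ ∀ a ∈ Γ, x • a ∈ Γ := fun x => by
    rw [mem_stabilizer_set_iff_smul_set_subset (Set.toFinite _)]
    constructor
    · exact fun h a ha => h (Set.smul_mem_smul_set ha)
    · rintro h _ ⟨a, ha, rfl⟩
      exact h a ha
  have hmemK : ∀ x : G, x ∈ K ↔ ∀ a ∈ Γ, x • a = a := fun x => mem_fixingSubgroup_iff G
  have hyM : y ∈ M := (hmemM y).2 fun a ha => by
    rw [hy, (hpow m a ha).1]; exact (hpow m a ha).2
  have hKM : K ≤ M := fun x hx => (hmemM x).2 fun a ha => by rwa [(hmemK x).1 hx a ha]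
  have hMK : M ≤ Subgroup.normalizer (K : Set G) := by
    intro x hx
    rw [mem_normalizer_iff_cj]
    apply cj_eq_of_le
    rw [cj_le_iff_forall]
    intro z hz
    rw [hmemK] at hz ⊢
    intro a ha
    rw [mul_smul, mul_smul, hz _ ((hmemM _).1 (M.inv_mem hx) a ha), smul_inv_smul]
  obtain ⟨P, hP, hyP⟩ := exists_sylIn_ge hyp (Subgroup.zpowers_le_of_mem hyM)
  have hQ := hP.inf_normal_of_le hMK hKM
  have hout : ∀ x ∈ M, ∀ a, a ∉ Γ → x • a ∉ Γ := fun x hx a ha h =>
    ha (by simpa using (hmemM _).1 (M.inv_mem hx) _ h)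
  have hout' : ∀ j, ∀ b ∈ orbit K (f j), b ∉ Γ := by
    rintro j _ ⟨z, rfl⟩
    exact hout z (hKM z.2) _ (hf j)
  have hfix : ∀ j, ∃ b ∈ orbit K (f j), b ∈ fixedPoints P α := by
    intro j
    have h1 := CL.Perm.ncard_modEq_ncard_inter_fixedPoints hP.pgroup (orbit K (f j))
      (Set.toFinite _) (by
        rintro x hx _ ⟨z, rfl⟩
        have hxz : x * z ∈ M := M.mul_mem (hP.le hx) (hKM z.2)
        obtain ⟨w, hw, hw1, hw2⟩ := horb Γ hΓ (f j) ((x * z) • f j) (hf j) (hout _ hxz _ (hf j))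
          ⟨(x * z).1, (x * z).2, by
            apply Finset.coe_injective
            rw [Finset.coe_smul_finset]
            exact hxz, rfl⟩
        exact ⟨⟨⟨w, hw⟩, (hmemK _).2 hw1⟩, hw2.trans (mul_smul _ _ _)⟩)
    by_contra h
    have h2 : orbit K (f j) ∩ fixedPoints P α = ∅ := by
      rw [Set.eq_empty_iff_forall_notMem]
      exact fun b hb => h ⟨b, hb.1, hb.2⟩
    rw [h2, Set.ncard_empty] at h1
    exact hcon j ((Nat.modEq_zero_iff_dvd).1 h1)
  choose b hb hbP using hfix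
  have hbinj : Function.Injective b := by
    intro j l hjl
    by_contra hne
    apply hdist j l hne
    have h1 := (orbit_eq_iff.2 (hb j))
    have h2 := (orbit_eq_iff.2 (hb l))
    rw [← h1, hjl, h2]
    exact mem_orbit_self _
  let Γ' : Finset α := (Γ \ A) ∪ Finset.univ.image b
  have hΓ' : Γ'.card = k := by
    rw [Finset.card_union_of_disjoint, Finset.card_sdiff_of_subset hAΓ,
      Finset.card_image_of_injective _ hbinj, Finset.card_univ, Fintype.card_fin, hΓ, hA]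
    · omega
    · rw [Finset.disjoint_right]
      intro x hx hx'
      obtain ⟨j, -, rfl⟩ := Finset.mem_image.1 hx
      exact hout' j _ (hb j) (Finset.mem_sdiff.1 hx').1
  let K' : Subgroup G := fixingSubgroup G (Γ' : Set α)
  have hmemK' : ∀ x ∈ P, (∀ a ∈ Γ, a ∉ A → x • a = a) → x ∈ K' := by
    intro x hx h
    rw [mem_fixingSubgroup_iff]
    intro a ha
    rcases Finset.mem_union.1 ha with ha | ha
    · exact h a (Finset.mem_sdiff.1 ha).1 (Finset.mem_sdiff.1 ha).2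
    · obtain ⟨j, -, rfl⟩ := Finset.mem_image.1 ha
      exact hbP j ⟨x, hx⟩
  have hKK' : Nat.card K = Nat.card K' := by
    have h1 := hkt.index_of_fixingSubgroup_mul (s := (Γ : Set α)) (by simp [hΓ])
    have h2 := hkt.index_of_fixingSubgroup_mul (s := (Γ' : Set α)) (by simp [hΓ'])
    have h3 : K.index = K'.index := Nat.eq_of_mul_eq_mul_right (Nat.factorial_pos _) (h1.trans h2.symm)
    have h4 := K.card_mul_index
    rw [h3, ← K'.card_mul_index] at h4
    exact Nat.eq_of_mul_eq_mul_right (Nat.pos_of_ne_zero Subgroup.index_ne_zero_of_finite) h4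
  obtain ⟨Q', hQ'⟩ := exists_sylIn p K'
  have hR := hQ'.card_le (hP.pgroup.to_le inf_le_left) (inf_le_right : P ⊓ K' ≤ K')
  rw [hQ'.card_eq_pow_factorization, ← hKK', ← hQ.card_eq_pow_factorization] at hR
  have hle : P ⊓ K ≤ P ⊓ K' := fun x hx =>
    ⟨hx.1, hmemK' x hx.1 fun a ha _ => (hmemK x).1 hx.2 a ha⟩
  have heq := Subgroup.eq_of_le_of_card_ge hle hR
  have hyP' := hyP (Subgroup.mem_zpowers y)
  have hyK : y ∈ P ⊓ K := by
    rw [heq]
    refine ⟨hyP', hmemK' y hyP' fun a ha haA => ?_⟩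
    rw [hy, (hpow m a ha).1]
    exact Equiv.Perm.pow_apply_eq_self_of_apply_eq_self (hσfix a haA) m
  obtain ⟨a, ha⟩ : A.Nonempty := by rw [← Finset.card_pos, hA]; exact hp.pos
  have h1 := (hmemK y).1 hyK.2 a (hAΓ ha)
  rw [hy, (hpow m a (hAΓ ha)).1, hσ.pow_apply_eq ha, hA] at h1
  exact hm h1

end Cfsg.Agent.S0706
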