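import Cfsg.Statements.S0699
import Cfsg.Agent.PERM.Witt
import Cfsg.Agent.PERM.NormalTrans
import Cfsg.Agent.S0706

set_option autoImplicit false
open Cfsg

namespace Cfsg.Agent.S0699

open MulAction CL.Perm CL.MSS
open scoped Pointwise

/-- If all transpositions of a finite set are induced by a group, so are all its permutations. -/
theorem exists_induce_of_swaps {α : Type*} [DecidableEq α] (G : Subgroup (Equiv.Perm α))
    (s : Finset α) (h : ∀ a b : s, a ≠ b → ∃ g ∈ G, ∀ x : s, g (x : α) = Equiv.swap a b x)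
    (σ : Equiv.Perm s) : ∃ g ∈ G, ∀ x : s, g (x : α) = σ x := by
  induction σ using Equiv.Perm.swap_induction_on with
  | one => exact ⟨1, G.one_mem, fun x => rfl⟩
  | swap_mul τ a b hab ih =>
    obtain ⟨g, hg, h1⟩ := ih
    obtain ⟨g', hg', h2⟩ := h a b hab
    exact ⟨g' * g, G.mul_mem hg' hg, fun x => by
      rw [Equiv.Perm.mul_apply, Equiv.Perm.mul_apply, h1, h2]⟩

/-- Wagner's Theorem: a non-trivial normal subgroup of a triply transitive permutation group of odd degree at least 5 is triply transitive. -/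
theorem result {α : Type*} [Fintype α] [DecidableEq α] (G : Subgroup (Equiv.Perm α)) (hodd : Odd (Fintype.card α)) (h5 : 5 ≤ Fintype.card α) (hG : MulAction.IsMultiplyPretransitive G α 3) (N : Subgroup G) [N.Normal] (hN : N ≠ ⊥) : MulAction.IsMultiplyPretransitive N α 3 := by
  have : Fact (Nat.Prime 2) := ⟨Nat.prime_two⟩
  have hc : Nat.card α = Fintype.card α := Nat.card_eq_fintype_card
  have hN2 : IsMultiplyPretransitive N α 2 := by
    rcases jordan_normal (k := 3) (by norm_num) (by omega) hG N hN with h | ⟨-, -, -, m, hm⟩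
    · exact h
    · exfalso
      rw [← hc, hm] at hodd h5
      rcases Nat.eq_zero_or_pos m with rfl | h
      · omega
      · exact (Nat.not_even_iff_odd.2 hodd) (Nat.even_pow.2 ⟨even_two, h.ne'⟩)
  have hG3 : ∀ a b c d : α, a ≠ b → c ∉ ({a, b} : Finset α) → d ∉ ({a, b} : Finset α) →
      ∃ g : G, g • a = a ∧ g • b = b ∧ g • c = d := by
    intro a b c d hab hc' hd
    obtain ⟨g, h1, h2⟩ := exists_fix_smul_eq_of_isMultiplyPretransitive hG (by omega) {a, b}
      (by rw [Finset.card_pair hab]; norm_num) hc' hd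
    exact ⟨g, h1 a (by simp), h1 b (by simp), h2⟩
  have hcompl : ∀ a b : α, a ≠ b → Odd ((({a, b} : Finset α) : Set α)ᶜ.ncard) := by
    intro a b hab
    have h1 := Set.ncard_add_ncard_compl (({a, b} : Finset α) : Set α)
    rw [Set.ncard_coe_finset, Finset.card_pair hab, hc] at h1
    rw [Nat.odd_iff] at hodd ⊢
    omega
  have hswap : ∀ a b c : α, a ≠ b → c ∉ ({a, b} : Finset α) →
      ∃ x ∈ N, x • a = b ∧ x • b = a ∧ x • c = c := by
    intro a b c hab hc'
    obtain ⟨x, hx1, hx2⟩ := is_two_pretransitive_iff.1 hN2 hab hab.symm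
    obtain ⟨m, i, hm, hmi⟩ := exists_pow_pElt Nat.prime_two (x : G)
    obtain ⟨j, rfl⟩ : Odd m := Nat.odd_iff.2 (by omega)
    have hx1' : (x : G) • a = b := hx1
    have hx2' : (x : G) • b = a := hx2
    have ha : ((x : G) ^ (2 * j)) • a = a := by
      rw [pow_mul]
      exact (stabilizer G a).pow_mem (show _ • a = a by rw [sq, mul_smul, hx1', hx2']) j
    have hb : ((x : G) ^ (2 * j)) • b = b := by
      rw [pow_mul]
      exact (stabilizer G b).pow_mem (show _ • b = b by rw [sq, mul_smul, hx2', hx1']) j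
    set y : G := (x : G) ^ (2 * j + 1) with hy
    have hya : y • a = b := by rw [hy, pow_succ', mul_smul, ha, hx1']
    have hyb : y • b = a := by rw [hy, pow_succ', mul_smul, hb, hx2']
    have hst : Subgroup.zpowers y ≤ stabilizer G (({a, b} : Finset α) : Set α)ᶜ := by
      apply Subgroup.zpowers_le_of_mem
      rw [stabilizer_compl, mem_stabilizer_iff, Finset.coe_pair, Set.smul_set_insert,
        Set.smul_set_singleton, hya, hyb, Set.pair_comm]
    have h1 := ncard_modEq_ncard_inter_fixedPoints (isPGroup_zpowers hmi)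
      (({a, b} : Finset α) : Set α)ᶜ (Set.toFinite _) fun g hg z hz => by
        rw [← mem_stabilizer_iff.1 (hst hg)]
        exact Set.smul_mem_smul_set hz
    obtain ⟨d, hd1, hd2⟩ : ((({a, b} : Finset α) : Set α)ᶜ ∩
        fixedPoints (Subgroup.zpowers y) α).Nonempty := by
      rw [Set.nonempty_iff_ne_empty]
      intro h
      rw [h, Set.ncard_empty] at h1
      exact (Nat.not_even_iff_odd.2 (hcompl a b hab))
        (even_iff_two_dvd.2 (Nat.modEq_zero_iff_dvd.1 h1))
    have hyd : y • d = d := hd2 ⟨y, Subgroup.mem_zpowers y⟩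
    obtain ⟨g, h2, h3, h4⟩ := hG3 a b d c hab hd1 hc'
    refine ⟨g * y * g⁻¹, (inferInstance : N.Normal).conj_mem _ (N.pow_mem x.2 _) g, ?_, ?_, ?_⟩
    · rw [mul_smul, mul_smul, inv_smul_eq_iff.2 h2.symm, hya, h3]
    · rw [mul_smul, mul_smul, inv_smul_eq_iff.2 h3.symm, hyb, h2]
    · rw [mul_smul, mul_smul, inv_smul_eq_iff.2 h4.symm, hyd, h4]
  have hgen : ∀ s : Finset α, s.card = 2 + 1 → ∀ σ : Equiv.Perm ↥s,
      ∃ g ∈ N.map G.subtype, ∀ x : ↥s, g (x : α) = σ x := by
    intro s hs
    apply exists_induce_of_swaps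
    intro a b hab
    have hab' : (a : α) ≠ b := fun h => hab (Subtype.ext h)
    obtain ⟨c, hcs, hc'⟩ := Finset.exists_mem_notMem_of_card_lt_card
      (s := ({a.1, b.1} : Finset α)) (t := s) (by rw [Finset.card_pair hab']; omega)
    obtain ⟨x, hx, h1, h2, h3⟩ := hswap a b c hab' hc'
    refine ⟨x, ⟨x, hx, rfl⟩, fun z => ?_⟩
    by_cases hza : z = a
    · rw [hza, Equiv.swap_apply_left]; exact h1
    by_cases hzb : z = b
    · rw [hzb, Equiv.swap_apply_right]; exact h2
    rw [Equiv.swap_apply_of_ne_of_ne hza hzb]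
    have heq : insert c ({a.1, b.1} : Finset α) = s := by
      apply Finset.eq_of_subset_of_card_le
      · intro w hw
        simp only [Finset.mem_insert, Finset.mem_singleton] at hw
        rcases hw with rfl | rfl | rfl
        exacts [hcs, a.2, b.2]
      · rw [Finset.card_insert_of_notMem hc', Finset.card_pair hab', hs]
    have hz : z.1 ∈ insert c ({a.1, b.1} : Finset α) := by rw [heq]; exact z.2
    simp only [Finset.mem_insert, Finset.mem_singleton] at hz
    rcases hz with h | h | h
    · rw [h]; exact h3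
    · exact absurd (Subtype.ext h) hza
    · exact absurd (Subtype.ext h) hzb
  apply isMultiplyPretransitive_of_forall_card_eq (by omega)
  intro T hT c hcT d hdT
  obtain ⟨a, b, hab, rfl⟩ := Finset.card_eq_two.1 (show T.card = 2 by omega)
  set K := fixingSubgroup (N.map G.subtype) (({a, b} : Finset α) : Set α) with hK
  have hmemK : ∀ u v : α, v ∈ orbit K u ↔ ∃ x ∈ N, x • a = a ∧ x • b = b ∧ x • u = v := by
    intro u v
    constructor
    · rintro ⟨⟨⟨_, x, hx, rfl⟩, h1⟩, rfl⟩
      rw [hK, mem_fixingSubgroup_iff] at h1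
      exact ⟨x, hx, h1 a (by simp), h1 b (by simp), rfl⟩
    · rintro ⟨x, hx, h1, h2, rfl⟩
      refine ⟨⟨⟨_, x, hx, rfl⟩, ?_⟩, rfl⟩
      rw [hK, mem_fixingSubgroup_iff]
      intro z hz
      simp only [Finset.coe_insert, Finset.coe_singleton, Set.mem_insert_iff,
        Set.mem_singleton_iff] at hz
      rcases hz with rfl | rfl
      exacts [h1, h2]
  by_contra hcon
  have hne : ∀ u v : α, v ∈ orbit K u → u = c → v = d → False := by
    rintro u v h rfl rfl
    obtain ⟨x, hx, h1, h2, h3⟩ := (hmemK _ _).1 h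
    refine hcon ⟨⟨x, hx⟩, fun t ht => ?_, h3⟩
    simp only [Finset.mem_insert, Finset.mem_singleton] at ht
    rcases ht with rfl | rfl
    exacts [h1, h2]
  have hlen : ∀ u v : α, u ∉ ({a, b} : Finset α) → v ∉ ({a, b} : Finset α) →
      (orbit K u).ncard = (orbit K v).ncard := by
    have key : ∀ u v : α, u ∉ ({a, b} : Finset α) → v ∉ ({a, b} : Finset α) →
        (orbit K u).ncard ≤ (orbit K v).ncard := by
      intro u v hu hv
      obtain ⟨g, h1, h2, h3⟩ := hG3 a b u v hab hu hv
      refine Set.ncard_le_ncard_of_injOn (fun w => g • w) (fun w hw => ?_)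
        (MulAction.injective g).injOn
      obtain ⟨x, hx, h4, h5, rfl⟩ := (hmemK _ _).1 hw
      refine (hmemK _ _).2 ⟨g * x * g⁻¹, (inferInstance : N.Normal).conj_mem _ hx g, ?_, ?_, ?_⟩
      · rw [mul_smul, mul_smul, inv_smul_eq_iff.2 h1.symm, h4, h1]
      · rw [mul_smul, mul_smul, inv_smul_eq_iff.2 h2.symm, h5, h2]
      · rw [mul_smul, mul_smul, inv_smul_eq_iff.2 h3.symm]
    exact fun u v hu hv => le_antisymm (key u v hu hv) (key v u hv hu)
  obtain ⟨i, hi⟩ := S0706.result (N.map G.subtype) (k := 2) (by omega) hgen Nat.prime_two le_rfl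
    {a, b} (Finset.card_pair hab) ![c, d] (by
      intro i; fin_cases i
      exacts [hcT, hdT]) (by
      intro i j hij h
      fin_cases i <;> fin_cases j
      · exact hij rfl
      · exact hne _ _ h rfl rfl
      · exact hne _ _ (mem_orbit_symm.1 h) rfl rfl
      · exact hij rfl)
  have hi' : ![c, d] i ∉ ({a, b} : Finset α) := by
    fin_cases i
    exacts [hcT, hdT]
  have h2 := dvd_ncard_of_dvd_orbits (H := K) (({a, b} : Finset α) : Set α)ᶜ (by
    intro h x hx hhx
    apply hx
    have h1 := (mem_fixingSubgroup_iff _).1 h.2 _ hhx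
    have h2 : h • x = x := smul_left_cancel h h1
    rwa [h2] at hhx) 2 fun x hx => by
      rw [hlen x _ hx hi']
      exact hi
  exact (Nat.not_even_iff_odd.2 (hcompl a b hab)) (even_iff_two_dvd.2 h2)

end Cfsg.Agent.S0699
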