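import Cfsg.Statements.S2357
import Mathlib
import Cfsg.Agent.CHEV.ReeConcrete
import Cfsg.Agent.CHEV.ReeTori

set_option autoImplicit false
open Cfsg

namespace Cfsg.Agent.S2357

/-- Let R be the small Ree group over the field with q = 3^(2m+1) ≥ 27 elements and write φ for Euler's totient function. Then R has exactly q²(q²−q+1) involutions, (q²−1)(q³+1) elements of order 3, and q²(q−1)(q³+1) elements of order 6 and as many of order 9; for i > 2 dividing q−1 it has φ(i)q³(q³+1)/2 elements of order i; for i > 1 dividing (q+1)/4 it has φ(i)q³(q−1)(q²−q+1)/6 elements of order i and φ(i)q³(q−1)(q²−q+1)/2 elements of order 2i; and for i > 1 dividing q − 3^(m+1) + 1 (respectively q + 3^(m+1) + 1) it has φ(i)q³(q²−1)(q + 3^(m+1) + 1)/6 (respectively φ(i)q³(q²−1)(q − 3^(m+1) + 1)/6) elements of order i. -/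
theorem result {K : Type*} [Field K] [Fintype K] {m : ℕ} (hm : 1 ≤ m)
    (hK : Fintype.card K = 3 ^ (2 * m + 1)) :
    Nat.card {g : ↥(Cfsg.Lie.twistedG2 K (3 ^ m)) // orderOf g = 2} = (3 ^ (2 * m + 1)) ^ 2 * ((3 ^ (2 * m + 1)) ^ 2 - 3 ^ (2 * m + 1) + 1) ∧
    Nat.card {g : ↥(Cfsg.Lie.twistedG2 K (3 ^ m)) // orderOf g = 3} = ((3 ^ (2 * m + 1)) ^ 2 - 1) * ((3 ^ (2 * m + 1)) ^ 3 + 1) ∧
    Nat.card {g : ↥(Cfsg.Lie.twistedG2 K (3 ^ m)) // orderOf g = 6} = (3 ^ (2 * m + 1)) ^ 2 * (3 ^ (2 * m + 1) - 1) * ((3 ^ (2 * m + 1)) ^ 3 + 1) ∧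
    Nat.card {g : ↥(Cfsg.Lie.twistedG2 K (3 ^ m)) // orderOf g = 9} = (3 ^ (2 * m + 1)) ^ 2 * (3 ^ (2 * m + 1) - 1) * ((3 ^ (2 * m + 1)) ^ 3 + 1) ∧
    (∀ i : ℕ, 2 < i → i ∣ 3 ^ (2 * m + 1) - 1 →
      2 * Nat.card {g : ↥(Cfsg.Lie.twistedG2 K (3 ^ m)) // orderOf g = i} = Nat.totient i * (3 ^ (2 * m + 1)) ^ 3 * ((3 ^ (2 * m + 1)) ^ 3 + 1)) ∧
    (∀ i : ℕ, 1 < i → i ∣ (3 ^ (2 * m + 1) + 1) / 4 →
      6 * Nat.card {g : ↥(Cfsg.Lie.twistedG2 K (3 ^ m)) // orderOf g = i} =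
          Nat.totient i * (3 ^ (2 * m + 1)) ^ 3 * (3 ^ (2 * m + 1) - 1) * ((3 ^ (2 * m + 1)) ^ 2 - 3 ^ (2 * m + 1) + 1) ∧
        2 * Nat.card {g : ↥(Cfsg.Lie.twistedG2 K (3 ^ m)) // orderOf g = 2 * i} =
          Nat.totient i * (3 ^ (2 * m + 1)) ^ 3 * (3 ^ (2 * m + 1) - 1) * ((3 ^ (2 * m + 1)) ^ 2 - 3 ^ (2 * m + 1) + 1)) ∧
    (∀ i : ℕ, 1 < i → i ∣ 3 ^ (2 * m + 1) - 3 ^ (m + 1) + 1 →
      6 * Nat.card {g : ↥(Cfsg.Lie.twistedG2 K (3 ^ m)) // orderOf g = i} =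
        Nat.totient i * (3 ^ (2 * m + 1)) ^ 3 * ((3 ^ (2 * m + 1)) ^ 2 - 1) * (3 ^ (2 * m + 1) + 3 ^ (m + 1) + 1)) ∧
    (∀ i : ℕ, 1 < i → i ∣ 3 ^ (2 * m + 1) + 3 ^ (m + 1) + 1 →
      6 * Nat.card {g : ↥(Cfsg.Lie.twistedG2 K (3 ^ m)) // orderOf g = i} =
        Nat.totient i * (3 ^ (2 * m + 1)) ^ 3 * ((3 ^ (2 * m + 1)) ^ 2 - 1) * (3 ^ (2 * m + 1) - 3 ^ (m + 1) + 1)) := by
  have := CL.Ree.charP_three hK
  have hK' := Nat.card_eq_fintype_card.trans hK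
  set M := CL.Ree.model hK'
  have := M.finite_G
  have hq := CL.Ree.three_lt_card hm hK'
  obtain ⟨C₁, T₁, h₁, n₁⟩ := M.exists_tor hm hK' (Or.inl rfl)
  obtain ⟨C₂, T₂, h₂, n₂⟩ := M.exists_tor hm hK' (Or.inr rfl)
  have hN := CL.Ree.kMinus_mul_kPlus m
  have hG := M.card_G'
  have e : ∀ i, Nat.card {g : ↥(Cfsg.Lie.twistedG2 K (3 ^ m)) // orderOf g = i} =
    {g : ↥(Cfsg.Lie.twistedG2 K (3 ^ m)) | orderOf g = i}.ncard := fun _ => rfl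
  have hs : Nat.card K ^ 2 - 1 = (Nat.card K - 1) * (Nat.card K + 1) := by
    rw [mul_comm, ← Nat.sq_sub_sq, one_pow]
  simp only [e]
  rw [← h₁] at hN n₁
  rw [← h₂] at hN n₂
  rw [← h₁, ← h₂, ← hK', ← M.card_A₂]
  rw [← hK'] at hN
  refine ⟨M.ncard_two, M.ncard_three.trans (by ring), M.ncard_six.trans (by ring), M.ncard_nine.trans (by ring),
    fun i h1 h2 => ?_, fun i h1 h2 => ⟨?_, ?_⟩, fun i h1 h2 => ?_, fun i h1 h2 => ?_⟩
  · have h := (M.tor_A₁ hq).ncard_mul (i := i) fun h => by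
      obtain ⟨k, hk, e, -⟩ := M.exists_k
      have := Nat.le_of_dvd two_pos (h.dvd_of_dvd_mul_right (h2.trans (dvd_of_eq (by omega))))
      omega
    rw [CL.HT.ncard_orderOf_of_isCyclic M.isCyclic_H (M.card_H ▸ h2), M.normalizer_H hq, M.card_N, M.card_G] at h
    exact Nat.eq_of_mul_eq_mul_right (by omega : 0 < Nat.card K - 1) (by linear_combination h)
  · have h := (M.tor_A₂ hq).ncard_mul_of_dvd h1 h2
    rw [M.card_normalizer_D hq, hG] at h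
    exact Nat.eq_of_mul_eq_mul_right (by omega : 0 < Nat.card K + 1) (by linear_combination h)
  · have h := (M.tor_A₂ hq).ncard_mul (i := 2 * i) fun h => h1.ne' ((Nat.Coprime.coprime_mul_left h).eq_one_of_dvd h2)
    rw [M.card_normalizer_D hq, hG, M.ncard_D_two_mul h2] at h
    exact Nat.eq_of_mul_eq_mul_right (by omega : 0 < 3 * (Nat.card K + 1)) (by linear_combination h)
  · have h := T₁.ncard_mul_of_dvd h1 h2
    rw [n₁, hG, ← hN] at h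
    exact Nat.eq_of_mul_eq_mul_right (Nat.card_pos (α := C₁)) (by rw [hs]; linear_combination h)
  · have h := T₂.ncard_mul_of_dvd h1 h2
    rw [n₂, hG, ← hN] at h
    exact Nat.eq_of_mul_eq_mul_right (Nat.card_pos (α := C₂)) (by rw [hs]; linear_combination h)

end Cfsg.Agent.S2357
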