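import Cfsg.Statements.S2507
import Cfsg.Agent.KSG.PSL2Basic

set_option autoImplicit false
open Cfsg CL.GL2 CL.Char

namespace Cfsg.Agent.S2507

/-- Let F be a finite field with q = 2^f ≥ 4 elements. The conjugacy class sizes of PSL(2,F) are exactly 1, q(q − 1), q² − 1 and q(q + 1). -/
theorem result {F : Type*} [Field F] [Fintype F]
    (h2 : 2 ∣ Fintype.card F) (h4 : 4 ≤ Fintype.card F) :
    Set.range (fun g : (Matrix.ProjectiveSpecialLinearGroup (Fin 2) F) => (Subgroup.centralizer ({g} : Set (Matrix.ProjectiveSpecialLinearGroup (Fin 2) F))).index) =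
      {1, Fintype.card F * (Fintype.card F - 1), Fintype.card F ^ 2 - 1, Fintype.card F * (Fintype.card F + 1)} := by
  classical
  have h0 := two_eq_zero_of_even h2
  have hq : Fintype.card F ^ 2 - 1 = (Fintype.card F + 1) * (Fintype.card F - 1) := by
    simpa using Nat.sq_sub_sq (Fintype.card F) 1
  have key : ∀ g : Matrix.SpecialLinearGroup (Fin 2) F,
      (Subgroup.centralizer ({pslMk F g} : Set (Matrix.ProjectiveSpecialLinearGroup (Fin 2) F))).index =
        (centSL (g : Matrix (Fin 2) (Fin 2) F)).index := fun g => by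
    rw [index_pcent, pcent_eq_centSL_even h0]
  have k1 : ∀ g : Matrix.SpecialLinearGroup (Fin 2) F, ¬ Reg g → ¬ IsScal (g : Matrix (Fin 2) (Fin 2) F) →
      (centSL (g : Matrix (Fin 2) (Fin 2) F)).index = Fintype.card F ^ 2 - 1 := fun g h hs =>
    index_eq_of_card_mul (card_centSL_of_not_reg h hs) (by rw [gcd_even h0, hq]; ring)
  have k2 : ∀ g : Matrix.SpecialLinearGroup (Fin 2) F,
      Nat.card (centSL (g : Matrix (Fin 2) (Fin 2) F)) = Fintype.card F + 1 →
      (centSL (g : Matrix (Fin 2) (Fin 2) F)).index = Fintype.card F * (Fintype.card F - 1) := fun g h =>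
    index_eq_of_card_mul h (by ring)
  have k3 : ∀ g : Matrix.SpecialLinearGroup (Fin 2) F,
      Nat.card (centSL (g : Matrix (Fin 2) (Fin 2) F)) = Fintype.card F - 1 →
      (centSL (g : Matrix (Fin 2) (Fin 2) F)).index = Fintype.card F * (Fintype.card F + 1) := fun g h =>
    index_eq_of_card_mul h (by ring)
  ext n
  simp only [Set.mem_range, Set.mem_insert_iff, Set.mem_singleton_iff]
  constructor
  · rintro ⟨g, rfl⟩
    obtain ⟨g, rfl⟩ := pslMk_surjective g
    rw [key]
    by_cases hs : IsScal (g : Matrix (Fin 2) (Fin 2) F)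
    · rw [centSL_eq_top hs, Subgroup.index_top]; exact Or.inl rfl
    by_cases hr : Reg g
    · rcases hr.cases with ⟨-, e⟩ | ⟨-, e⟩
      exacts [Or.inr (Or.inl (k2 g e)), Or.inr (Or.inr (Or.inr (k3 g e)))]
    · exact Or.inr (Or.inr (Or.inl (k1 g hr hs)))
  · rintro (rfl | rfl | rfl | rfl)
    · exact ⟨pslMk F 1, by rw [key, centSL_eq_top (isScal_SL_iff.2 (Or.inl rfl)), Subgroup.index_top]⟩
    · obtain ⟨d, hn⟩ := exists_noEig_SL (F := F)
      exact ⟨pslMk F d, by rw [key, k2 d (card_centSL_noEig hn)]⟩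
    · exact ⟨pslMk F (upSL 1 1), by
        rw [key, k1 _ (not_reg_upSL_one _) (not_isScal_upSL_one one_ne_zero)]⟩
    · obtain ⟨d, hr, hn⟩ := exists_reg_split h4
      exact ⟨pslMk F d, by rw [key, k3 d (hr.cases.resolve_left fun h => hn h.1).2]⟩

end Cfsg.Agent.S2507
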