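import Cfsg.Statements.S2508
import Cfsg.Agent.KSG.PSL2Basic

set_option autoImplicit false
open Cfsg CL.GL2 CL.Char

namespace Cfsg.Agent.S2508

/-- Let F be a finite field with q elements, q odd and q ≥ 7. If q ≡ 1 (mod 4) the conjugacy class sizes of PSL(2,F) are exactly 1, (q² − 1)/2, q(q + 1)/2, q(q − 1) and q(q + 1); if q ≡ 3 (mod 4) they are exactly 1, (q² − 1)/2, q(q − 1)/2, q(q + 1) and q(q − 1). -/
theorem result {F : Type*} [Field F] [Fintype F]
    (hodd : ¬ 2 ∣ Fintype.card F) (h7 : 7 ≤ Fintype.card F) :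
    (Fintype.card F % 4 = 1 →
      Set.range (fun g : (Matrix.ProjectiveSpecialLinearGroup (Fin 2) F) => (Subgroup.centralizer ({g} : Set (Matrix.ProjectiveSpecialLinearGroup (Fin 2) F))).index) =
        {1, (Fintype.card F ^ 2 - 1) / 2, Fintype.card F * (Fintype.card F + 1) / 2,
          Fintype.card F * (Fintype.card F - 1), Fintype.card F * (Fintype.card F + 1)}) ∧
    (Fintype.card F % 4 = 3 →
      Set.range (fun g : (Matrix.ProjectiveSpecialLinearGroup (Fin 2) F) => (Subgroup.centralizer ({g} : Set (Matrix.ProjectiveSpecialLinearGroup (Fin 2) F))).index) =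
        {1, (Fintype.card F ^ 2 - 1) / 2, Fintype.card F * (Fintype.card F - 1) / 2,
          Fintype.card F * (Fintype.card F + 1), Fintype.card F * (Fintype.card F - 1)}) := by
  classical
  have ho : Odd (Fintype.card F) := Nat.odd_iff.2 (by omega)
  have h2 := two_ne_zero_of_odd ho
  obtain ⟨k, hk⟩ := id ho
  have hq : Fintype.card F ^ 2 - 1 = (Fintype.card F + 1) * (Fintype.card F - 1) := by
    simpa using Nat.sq_sub_sq (Fintype.card F) 1
  have e1 : Fintype.card F - 1 = 2 * k := by omega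
  have e2 : Fintype.card F + 1 = 2 * (k + 1) := by omega
  have d1 : (Fintype.card F ^ 2 - 1) / 2 = (Fintype.card F + 1) * k := by
    rw [hq, e1, mul_left_comm, Nat.mul_div_cancel_left _ two_pos]
  have d2 : Fintype.card F * (Fintype.card F + 1) / 2 = Fintype.card F * (k + 1) := by
    rw [e2, mul_left_comm, Nat.mul_div_cancel_left _ two_pos]
  have d3 : Fintype.card F * (Fintype.card F - 1) / 2 = Fintype.card F * k := by
    rw [e1, mul_left_comm, Nat.mul_div_cancel_left _ two_pos]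
  have k0 : ∀ g : Matrix.SpecialLinearGroup (Fin 2) F, IsScal (g : Matrix (Fin 2) (Fin 2) F) →
      (pcent g).index = 1 := fun g hs => by
    rw [pcent_eq_centSL h2 (trace_ne_zero_of_not_reg h2 fun h => h.not_isScal hs), centSL_eq_top hs,
      Subgroup.index_top]
  have k1 : ∀ g : Matrix.SpecialLinearGroup (Fin 2) F, ¬ Reg g → ¬ IsScal (g : Matrix (Fin 2) (Fin 2) F) →
      (pcent g).index = (Fintype.card F ^ 2 - 1) / 2 := fun g h hs => by
    rw [pcent_eq_centSL h2 (trace_ne_zero_of_not_reg h2 h)]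
    exact index_eq_of_card_mul (card_centSL_of_not_reg h hs) (by rw [gcd_odd h2, d1, e1]; ring)
  have k2 : ∀ g : Matrix.SpecialLinearGroup (Fin 2) F, (g : Matrix (Fin 2) (Fin 2) F).trace ≠ 0 →
      Nat.card (centSL (g : Matrix (Fin 2) (Fin 2) F)) = Fintype.card F + 1 →
      (pcent g).index = Fintype.card F * (Fintype.card F - 1) := fun g ht h => by
    rw [pcent_eq_centSL h2 ht]
    exact index_eq_of_card_mul h (by ring)
  have k3 : ∀ g : Matrix.SpecialLinearGroup (Fin 2) F, (g : Matrix (Fin 2) (Fin 2) F).trace ≠ 0 →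
      Nat.card (centSL (g : Matrix (Fin 2) (Fin 2) F)) = Fintype.card F - 1 →
      (pcent g).index = Fintype.card F * (Fintype.card F + 1) := fun g ht h => by
    rw [pcent_eq_centSL h2 ht]
    exact index_eq_of_card_mul h (by ring)
  have k4 : ∀ g : Matrix.SpecialLinearGroup (Fin 2) F, (g : Matrix (Fin 2) (Fin 2) F).trace = 0 →
      (Fintype.card F % 4 = 1 → (pcent g).index = Fintype.card F * (Fintype.card F + 1) / 2) ∧
      (Fintype.card F % 4 = 3 → (pcent g).index = Fintype.card F * (Fintype.card F - 1) / 2) := by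
    intro g ht
    have hr := reg_of_trace_eq_zero h2 ht
    have h4 := four_dvd_card_centSL h2 ht
    have hc := hr.card_normalizer
    rw [pcent_eq_normalizer h2 ht]
    rcases hr.cases with ⟨-, e⟩ | ⟨-, e⟩ <;> rw [e] at h4 hc
    · exact ⟨fun h => by omega, fun _ => index_eq_of_card_mul hc (by rw [d3, e1]; ring)⟩
    · exact ⟨fun _ => index_eq_of_card_mul hc (by rw [d2, e2]; ring), fun h => by omega⟩
  have hall : ∀ g : Matrix.SpecialLinearGroup (Fin 2) F, (pcent g).index = 1 ∨
      (pcent g).index = (Fintype.card F ^ 2 - 1) / 2 ∨ (g : Matrix (Fin 2) (Fin 2) F).trace = 0 ∨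
      (pcent g).index = Fintype.card F * (Fintype.card F - 1) ∨
      (pcent g).index = Fintype.card F * (Fintype.card F + 1) := by
    intro g
    by_cases hs : IsScal (g : Matrix (Fin 2) (Fin 2) F)
    · exact Or.inl (k0 g hs)
    by_cases ht : (g : Matrix (Fin 2) (Fin 2) F).trace = 0
    · exact Or.inr (Or.inr (Or.inl ht))
    by_cases hr : Reg g
    · rcases hr.cases with ⟨-, e⟩ | ⟨-, e⟩
      exacts [Or.inr (Or.inr (Or.inr (Or.inl (k2 g ht e)))), Or.inr (Or.inr (Or.inr (Or.inr (k3 g ht e))))]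
    · exact Or.inr (Or.inl (k1 g hr hs))
  have x0 := k0 1 isScal_one
  have x1 := k1 _ (not_reg_upSL_one (1 : F)) (not_isScal_upSL_one one_ne_zero)
  obtain ⟨d, hn⟩ := exists_noEig_SL (F := F)
  obtain ⟨g2, -, t2, c2⟩ := (reg_of_noEig hn).exists_trace_ne_zero h2
    (by rw [card_centSL_noEig hn]; omega)
  have x2 := k2 g2 t2 (by rw [c2, card_centSL_noEig hn])
  obtain ⟨d', hr, hn'⟩ := exists_reg_split (F := F) (by omega)
  have c' := (hr.cases.resolve_left fun h => hn' h.1).2
  obtain ⟨g3, -, t3, c3⟩ := hr.exists_trace_ne_zero h2 (by rw [c']; omega)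
  have x3 := k3 g3 t3 (by rw [c3, c'])
  have x4 := k4 (compSL 0) (trace_compan _ _)
  rw [← index_pcent] at x0 x1 x2 x3 x4
  refine ⟨fun h => ?_, fun h => ?_⟩ <;> ext n <;>
    simp only [Set.mem_range, Set.mem_insert_iff, Set.mem_singleton_iff] <;> constructor
  · rintro ⟨g, rfl⟩
    obtain ⟨g, rfl⟩ := pslMk_surjective g
    rw [index_pcent]
    have := hall g
    have := fun ht => (k4 g ht).1 h
    tauto
  · rintro (rfl | rfl | rfl | rfl | rfl)
    exacts [⟨_, x0⟩, ⟨_, x1⟩, ⟨_, x4.1 h⟩, ⟨_, x2⟩, ⟨_, x3⟩]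
  · rintro ⟨g, rfl⟩
    obtain ⟨g, rfl⟩ := pslMk_surjective g
    rw [index_pcent]
    have := hall g
    have := fun ht => (k4 g ht).2 h
    tauto
  · rintro (rfl | rfl | rfl | rfl | rfl)
    exacts [⟨_, x0⟩, ⟨_, x1⟩, ⟨_, x4.2 h⟩, ⟨_, x3⟩, ⟨_, x2⟩]

end Cfsg.Agent.S2508
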