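import Mathlib
import Cfsg.Statements.S4040
import Cfsg.Agent.FGS.NilpMax

set_option autoImplicit false
open Cfsg

namespace Cfsg.Agent.S4040

/-- A finite group possessing a maximal subgroup that is nilpotent of odd order is solvable. -/
theorem result {G : Type*} [Group G] [Finite G]
    (M : Subgroup G) (hmax : IsCoatom M) (hnil : Group.IsNilpotent M) (hodd : Odd (Nat.card M)) :
    Group.IsSolvable G := by
  refine CL.NilpMax.isSolvable_of_nilpotent_coatom M hmax hnil fun S => ?_
  obtain ⟨n, hn⟩ := IsPGroup.iff_card.1 S.isPGroup'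
  have h1 : Nat.card (S : Subgroup M) ∣ Nat.card M := Subgroup.card_subgroup_dvd_card _
  have h2 : n = 0 := by
    rcases n with _ | n
    · rfl
    · exfalso
      rw [hn] at h1
      exact (Nat.not_even_iff_odd.2 hodd) (even_iff_two_dvd.2 ((dvd_pow_self 2 (Nat.succ_ne_zero n)).trans h1))
  rw [h2, pow_zero] at hn
  haveI : Subsingleton (S : Subgroup M) := (Nat.card_eq_one_iff_unique.1 hn).1
  rw [Group.nilpotencyClass_zero_iff_subsingleton.2 this]
  omega

end Cfsg.Agent.S4040
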