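import Cfsg.Statements.S5727
import Cfsg.Agent.PERM.PermMod

set_option autoImplicit false
open Cfsg

namespace Cfsg.Agent.S5727

/-- If a finite group acts faithfully and transitively on a set with m·p elements, where p is a prime and 1 ≤ m ≤ p, then some element of order p fixes no point. -/
theorem result {G Ω : Type*} [Group G] [Finite G] [MulAction G Ω] [FaithfulSMul G Ω] [Fintype Ω] (htr : MulAction.IsPretransitive G Ω)
    (p m : ℕ) (hp : p.Prime) (hm : 1 ≤ m) (hmp : m ≤ p) (hΩ : Fintype.card Ω = m * p) :
    ∃ g : G, orderOf g = p ∧ ∀ ω : Ω, g • ω ≠ ω := by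
  classical
  have := Fact.mk hp
  have hp2 := hp.two_le
  have hne : Nonempty Ω := Fintype.card_pos_iff.1 (by rw [hΩ]; positivity)
  obtain ⟨P⟩ : Nonempty (Sylow p G) := inferInstance
  rcases eq_or_lt_of_le hmp with rfl | hlt
  · -- degree `p ^ 2`
    have ht := CL.PermMod.sylow_pretransitive (G := G) (Ω := Ω) (p := m) (f := 2)
      (by rw [Nat.card_eq_fintype_card, hΩ]; ring) P
    have hnt : Nontrivial (P : Subgroup G) := by
      by_contra hc
      rw [not_nontrivial_iff_subsingleton] at hc
      obtain ⟨a, b, hab⟩ := Fintype.exists_pair_of_one_lt_card (α := Ω) (by rw [hΩ]; nlinarith)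
      obtain ⟨g, hg⟩ := ht.exists_smul_eq a b
      rw [Subsingleton.elim g 1, one_smul] at hg
      exact hab hg
    have hc := P.isPGroup'.center_nontrivial
    have hpc : IsPGroup m (Subgroup.center (P : Subgroup G)) := P.isPGroup'.to_subgroup _
    obtain ⟨k, hk0, hk⟩ := hpc.nontrivial_iff_card.1 hc
    obtain ⟨z, hz⟩ := exists_prime_orderOf_dvd_card' (G := Subgroup.center (P : Subgroup G)) m
      (hk ▸ dvd_pow_self m hk0.ne')
    refine ⟨(z.1 : G), by rw [Subgroup.orderOf_coe, Subgroup.orderOf_coe, hz], fun ω hω => ?_⟩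
    have h1 : (z.1 : G) = 1 := by
      apply FaithfulSMul.eq_of_smul_eq_smul (α := Ω)
      intro a
      obtain ⟨g, rfl⟩ := ht.exists_smul_eq ω a
      have hcm : (g : G) * z.1 = z.1 * g := by
        exact_mod_cast congrArg Subtype.val (Subgroup.mem_center_iff.1 z.2 g)
      change (z.1 : G) • (g : G) • ω = (1 : G) • (g : G) • ω
      rw [one_smul, ← mul_smul, ← hcm, mul_smul, hω]
    have h2 : z = 1 := Subtype.ext (Subtype.ext h1)
    rw [h2, orderOf_one] at hz
    omega
  · have hPf := Fintype.ofFinite (P : Subgroup G)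
    -- `P` fixes no point
    have hnf : ∀ ω : Ω, MulAction.stabilizer (P : Subgroup G) ω ≠ ⊤ := by
      intro ω h
      have hle : (P : Subgroup G) ≤ MulAction.stabilizer G ω := fun g hg => by
        have : (⟨g, hg⟩ : (P : Subgroup G)) ∈ MulAction.stabilizer (P : Subgroup G) ω :=
          h ▸ Subgroup.mem_top _
        exact this
      have h1 := Subgroup.index_dvd_of_le hle
      rw [MulAction.index_stabilizer_of_transitive, Nat.card_eq_fintype_card, hΩ] at h1
      exact P.not_dvd_index (dvd_trans (Dvd.intro_left m rfl) h1)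
    have hst : ∀ ω : Ω, p * Nat.card (MulAction.stabilizer (P : Subgroup G) ω) ≤
        Nat.card (P : Subgroup G) := by
      intro ω
      obtain ⟨k, hk⟩ := P.isPGroup'.index (MulAction.stabilizer (P : Subgroup G) ω)
      have hk0 : k ≠ 0 := by
        rintro rfl
        exact hnf ω (Subgroup.index_eq_one.1 (by simpa using hk))
      rw [← (MulAction.stabilizer (P : Subgroup G) ω).index_mul_card, hk]
      exact Nat.mul_le_mul_right _ (Nat.le_self_pow hk0 p)
    have hsum : ∑ g : (P : Subgroup G), Nat.card (MulAction.fixedBy Ω g) =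
        ∑ ω : Ω, Nat.card (MulAction.stabilizer (P : Subgroup G) ω) := by
      have e1 : ∀ g : (P : Subgroup G), Nat.card (MulAction.fixedBy Ω g) =
          ∑ ω : Ω, if g • ω = ω then 1 else 0 := fun g => by
        rw [Nat.card_eq_fintype_card, Finset.sum_boole, Nat.cast_id, Fintype.card_subtype]
        rfl
      have e2 : ∀ ω : Ω, Nat.card (MulAction.stabilizer (P : Subgroup G) ω) =
          ∑ g : (P : Subgroup G), if g • ω = ω then 1 else 0 := fun ω => by
        rw [Nat.card_eq_fintype_card, Finset.sum_boole, Nat.cast_id, Fintype.card_subtype]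
        rfl
      simp only [e1, e2]
      exact Finset.sum_comm
    have hder : ∃ g : (P : Subgroup G), ∀ ω : Ω, g • ω ≠ ω := by
      by_contra hc
      push Not at hc
      have hge : ∀ g : (P : Subgroup G), p ≤ Nat.card (MulAction.fixedBy Ω g) := by
        intro g
        obtain ⟨ω, hω⟩ := hc g
        have hz : IsPGroup p (Subgroup.zpowers g) := P.isPGroup'.to_subgroup _
        have hmod := hz.card_modEq_card_fixedPoints Ω
        have e : MulAction.fixedPoints (Subgroup.zpowers g) Ω = MulAction.fixedBy Ω g := by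
          ext x
          constructor
          · intro h; exact h ⟨g, Subgroup.mem_zpowers g⟩
          · rintro h ⟨_, k, rfl⟩
            exact MulAction.fixedBy_subset_fixedBy_zpow Ω g k h
        rw [e, Nat.card_eq_fintype_card (α := Ω), hΩ] at hmod
        have hd : p ∣ Nat.card (MulAction.fixedBy Ω g) :=
          (Nat.modEq_zero_iff_dvd.1 (hmod.symm.trans
            (Nat.modEq_zero_iff_dvd.2 (Dvd.intro_left m rfl))))
        have : Nonempty (MulAction.fixedBy Ω g) := ⟨⟨ω, hω⟩⟩
        exact Nat.le_of_dvd Nat.card_pos hd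
      have a1 : p * Nat.card (P : Subgroup G) ≤
          ∑ g : (P : Subgroup G), Nat.card (MulAction.fixedBy Ω g) := by
        calc p * Nat.card (P : Subgroup G) = ∑ _g : (P : Subgroup G), p := by
              simp [Nat.card_eq_fintype_card, mul_comm]
          _ ≤ _ := Finset.sum_le_sum fun g _ => hge g
      have a2 : p * ∑ ω : Ω, Nat.card (MulAction.stabilizer (P : Subgroup G) ω) ≤
          m * p * Nat.card (P : Subgroup G) := by
        rw [Finset.mul_sum]
        calc _ ≤ ∑ _ω : Ω, Nat.card (P : Subgroup G) := Finset.sum_le_sum fun ω _ => hst ω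
          _ = _ := by simp [hΩ]
      rw [hsum] at a1
      have hpos : 0 < Nat.card (P : Subgroup G) := Nat.card_pos
      have a3 : p * (p * Nat.card (P : Subgroup G)) ≤ m * p * Nat.card (P : Subgroup G) :=
        le_trans (Nat.mul_le_mul_left _ a1) a2
      have a4 : m * p * Nat.card (P : Subgroup G) < p * p * Nat.card (P : Subgroup G) :=
        Nat.mul_lt_mul_of_pos_right (Nat.mul_lt_mul_of_pos_right hlt (by omega)) hpos
      rw [← mul_assoc] at a3
      omega
    obtain ⟨g, hg⟩ := hder
    refine ⟨g, ?_, hg⟩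
    obtain ⟨ω₀⟩ := hne
    have hg1 : (g : G) ≠ 1 := fun h => hg ω₀ (by change (g : G) • ω₀ = ω₀; rw [h, one_smul])
    refine orderOf_eq_prime ?_ hg1
    apply FaithfulSMul.eq_of_smul_eq_smul (α := Ω)
    intro a
    rw [one_smul]
    obtain ⟨k, hk⟩ := P.isPGroup' g
    have hk' : (g : G) ^ p ^ k = 1 := by exact_mod_cast congrArg Subtype.val hk
    have h1 : MulAction.period (g : G) a ∣ p ^ k :=
      (MulAction.period_dvd_orderOf _ _).trans (orderOf_dvd_of_pow_eq_one hk')
    obtain ⟨j, -, hj⟩ := (Nat.dvd_prime_pow hp).1 h1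
    have h2 : MulAction.period (g : G) a ≤ Fintype.card Ω := by
      rw [MulAction.period_eq_minimalPeriod]
      exact Function.minimalPeriod_le_card
    have hj1 : j ≤ 1 := by
      by_contra hc
      have : p ^ 2 ≤ p ^ j := Nat.pow_le_pow_right (by omega) (by omega)
      rw [hj, hΩ] at h2
      nlinarith
    rw [MulAction.pow_smul_eq_iff_period_dvd, hj]
    interval_cases j <;> simp

end Cfsg.Agent.S5727
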