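import Cfsg.Statements.S0487
import Cfsg.Agent.TECH.S2L.Simple
import Cfsg.Agent.TECH.S2L.MinExc

set_option autoImplicit false
open Cfsg

namespace Cfsg.Agent.S0487

/-- A non-abelian finite simple group all of whose local subgroups are solvable is isomorphic to a projective special
linear group of dimension 2 over a field with at least 4 elements, to the projective special linear group of dimension 3
over the field with 3 elements, to the projective special unitary group of dimension 3 over the field with 9 elements,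
to the alternating group of degree 7, or is simple with the order of a Suzuki group, of the smallest Mathieu group, or
of the Tits group. -/
theorem result {G : Type*} [Group G] [Finite G] [IsSimpleGroup G]
    (hG : ¬ IsMulCommutative G) (hN : Cfsg.IsNGroup G) :
    (∃ (F : Type) (_ : Field F) (_ : Fintype F), 4 ≤ Fintype.card F ∧
        Nonempty (G ≃* Matrix.ProjectiveSpecialLinearGroup (Fin 2) F)) ∨
      Cfsg.IsSuzuki G ∨
      (∃ (F : Type) (_ : Field F) (_ : Fintype F), Fintype.card F = 3 ∧ Nonempty (G ≃* Matrix.ProjectiveSpecialLinearGroup (Fin 3) F)) ∨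
      (∃ (F : Type) (_ : Field F) (_ : Fintype F), Fintype.card F = 9 ∧ Nonempty (G ≃* Cfsg.PSU 3 F 3)) ∨
      Nonempty (G ≃* alternatingGroup (Fin 7)) ∨ Cfsg.IsM11 G ∨ Cfsg.IsTits G := by
  rcases CL.S2L.simple hG fun N ⟨T, h⟩ => hN N ⟨2, T, Nat.prime_two, h⟩ with h |
    ⟨F, _, _, m, hm, hF, ⟨e⟩⟩ | ⟨F, _, _, n, hn, hF, ⟨e⟩⟩ | h | h | h | ⟨⟨e⟩⟩ | h
  · exact .inl h
  · have := CL.Sz.charP_two hF
    refine .inr (.inl ⟨inferInstance, m, hm, ?_⟩)
    rw [Nat.card_congr e.toEquiv, (CL.Sz.lieModel hF).card_G, CL.Sz.natCard_eq hF]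
  · exact absurd hN (CL.S2L.not_isNGroup_psu3 hF (Nat.pow_le_pow_right (n := 2) (by norm_num) hn) e)
  · exact .inr (.inr (.inl h))
  · exact .inr (.inr (.inr (.inl h)))
  · exact .inr (.inr (.inr (.inr (.inl h))))
  · exact .inr (.inr (.inr (.inr (.inr (.inl ⟨inferInstance,
      (Nat.card_congr e.toEquiv).trans CL.MathMdl.card_M11⟩)))))
  · exact .inr (.inr (.inr (.inr (.inr (.inr ⟨inferInstance, h.2.card⟩)))))

end Cfsg.Agent.S0487
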