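import Cfsg.Statements.S2166
import Cfsg.Agent.KSG.SpUWall

set_option autoImplicit false
open Cfsg

namespace Cfsg.Agent.S2166

open CL.SpU CL.SymmTwo

/-- Conjugacy of involutions in the symplectic group Sp_{2m}(F), F a finite field of characteristic two, m ≥ 2 (Sp taken as the matrices A with A J Aᵀ = J, acting on column vectors, with the alternating form f(u, v) = u ⬝ (J v)). For an involution t write V(t) for the set of vectors v with f(v, t v) = 0 (a subspace). Two involutions a, b are conjugate in Sp_{2m}(F) exactly when a − 1 and b − 1 have the same rank and, in case that rank is even, V(a) and V(b) have the same number of elements. -/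
theorem result {F : Type*} [Field F] [Fintype F] [CharP F 2] {m : ℕ} (hm : 2 ≤ m) (a b : ↥(Matrix.symplecticGroup (Fin m) F)) (ha : orderOf a = 2) (hb : orderOf b = 2) :
    IsConj a b ↔ ((((a : ↥(Matrix.symplecticGroup (Fin m) F)) : Matrix (Fin m ⊕ Fin m) (Fin m ⊕ Fin m) F) - 1).rank = (((b : ↥(Matrix.symplecticGroup (Fin m) F)) : Matrix (Fin m ⊕ Fin m) (Fin m ⊕ Fin m) F) - 1).rank ∧
      (Even (((a : ↥(Matrix.symplecticGroup (Fin m) F)) : Matrix (Fin m ⊕ Fin m) (Fin m ⊕ Fin m) F) - 1).rank → Nat.card {v : Fin m ⊕ Fin m → F // Cfsg.sympForm m F v (Matrix.mulVec ((a : ↥(Matrix.symplecticGroup (Fin m) F)) : Matrix (Fin m ⊕ Fin m) (Fin m ⊕ Fin m) F) v) = 0} = Nat.card {v : Fin m ⊕ Fin m → F // Cfsg.sympForm m F v (Matrix.mulVec ((b : ↥(Matrix.symplecticGroup (Fin m) F)) : Matrix (Fin m ⊕ Fin m) (Fin m ⊕ Fin m) F) v) = 0})) := by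
  have ha2 : a ^ 2 = 1 := by rw [← ha, pow_orderOf_eq_one]
  have hb2 : b ^ 2 = 1 := by rw [← hb, pow_orderOf_eq_one]
  have hev : ∀ c : Matrix.symplecticGroup (Fin m) F,
      (∀ v, Cfsg.sympForm m F v (Matrix.mulVec c.1 v) = 0) → Even (c.1 - 1).rank := fun c h => by
    rw [← finrank_mov_spEquiv]
    exact even_finrank_of_alt (wall_nondeg (CL.Sp.spForm_nondeg m F) _)
      ((wall_isAlt_spEquiv c).mpr h)
  have hq : 1 < Fintype.card F := Fintype.one_lt_card
  have hq' : 0 < Fintype.card F ^ (2 * m) := by positivity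
  rw [isConj_invol_iff ha2 hb2]
  refine and_congr_right fun hr => ⟨fun h _ => ?_, fun h => ?_⟩
  · rcases card_zero_set ha2 with ⟨h1, h2⟩ | ⟨h1, h2⟩ <;>
      rcases card_zero_set hb2 with ⟨h3, h4⟩ | ⟨h3, h4⟩
    · rw [h2, h4]
    · exact absurd (h.mp h1) h3
    · exact absurd (h.mpr h3) h1
    · exact Nat.eq_of_mul_eq_mul_right (by omega) (h2.trans h4.symm)
  · rcases card_zero_set ha2 with ⟨h1, h2⟩ | ⟨h1, h2⟩ <;>
      rcases card_zero_set hb2 with ⟨h3, h4⟩ | ⟨h3, h4⟩
    · exact iff_of_true h1 h3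
    · rw [← h (hev a h1), h2] at h4
      nlinarith
    · rw [h (hr ▸ hev b h3), h4] at h2
      nlinarith
    · exact iff_of_false h1 h3

end Cfsg.Agent.S2166
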