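import Cfsg.Statements.S0517
import Cfsg.Agent.TECH.S2L.Simple
import Cfsg.Agent.TECH.S2L.AlmS
import Cfsg.Agent.PLOC.Involves
import Cfsg.Agent.CLAS.U3Syl
import Cfsg.Agent.KSG.MathieuMdl
import Cfsg.Agent.S2601
import Cfsg.Agent.S2602
import Cfsg.Agent.S2603
import Cfsg.Agent.S2126
import Cfsg.Agent.S2060
import Cfsg.Agent.S2119
import Cfsg.Agent.S0252
import Cfsg.Agent.S0253

set_option autoImplicit false
open Cfsg

namespace Cfsg.Agent.S0517

open Subgroup CL.S2L CL.Sec
open scoped MatrixGroups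

theorem card_le {G E : Type*} [Group G] [Group E] (h4 : SectionalPRankLE 2 4 G) (h : Involves E G)
    (hE : ∀ x : E, x * x = 1) : Nat.card E ≤ 16 := by
  obtain ⟨K, R, _, ⟨e⟩⟩ := h
  have h2 : ∀ x : K ⧸ R.subgroupOf K, x * x = 1 := fun x => e.injective (by rw [map_mul, hE, map_one])
  have := h4 K (R.subgroupOf K) ⊤ ⟨⟨fun a b => Subtype.ext (sq_comm (A := ⊤) (fun a _ => h2 a) a.2 b.2)⟩⟩
    fun a _ => by rw [sq, h2]
  rwa [card_top, Nat.card_congr e.toEquiv] at this

theorem inv_psl (F : Type*) [Field F] : Involves (Multiplicative F) PSL(2, F) := by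
  let u : Multiplicative F →* SL(2, F) :=
    { toFun t := ⟨!![1, t.toAdd; 0, 1], by simp [Matrix.det_fin_two]⟩
      map_one' := by ext i j; fin_cases i <;> fin_cases j <;> simp
      map_mul' a b := Subtype.ext (show _ = !![1, a.toAdd; 0, 1] * !![1, b.toAdd; 0, 1] by
        simp [add_comm]) }
  refine involves_of_injective ((QuotientGroup.mk' _).comp u) ((injective_iff_map_eq_one _).2 fun t ht => ?_)
  obtain ⟨r, -, hr⟩ := Matrix.SpecialLinearGroup.mem_center_iff.1 ((QuotientGroup.eq_one_iff _).1 ht)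
  have : (u t).1 0 1 = 0 := by simpa using (congrFun (congrFun hr 0) 1).symm
  exact this

theorem sq_one {F : Type*} [Field F] [CharP F 2] (x : Multiplicative F) : x * x = 1 :=
  CharTwo.add_self_eq_zero x.toAdd

theorem out_psl2 {F : Type*} [Field F] [Fintype F] (h : 4 ≤ Fintype.card F) :
    IsMulCommutative (Out PSL(2, F)) := by
  obtain ⟨p, _, n, hp, hn⟩ := FiniteField.card' F
  have := Fact.mk hp
  obtain ⟨φ, -, -, h2⟩ := S2602.result (p := p) (f := n) n.2 hn (hn ▸ h)
  exact comm_of_ker φ (h2 ▸ Nat.gcd_dvd_left _ _)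

theorem out_psl3 {F : Type*} [Field F] [Fintype F] (h : Fintype.card F = 3) :
    IsMulCommutative (Out PSL(3, F)) := by
  obtain ⟨φ, -, -, h2⟩ := S2601.result (p := 3) (f := 1) (n := 3) le_rfl h le_rfl
  have := (MonoidHom.ker_eq_bot_iff φ).1 (card_eq_one.1 h2)
  exact ⟨⟨fun a b => this (by rw [map_mul, map_mul, mul_comm])⟩⟩

theorem out_psu3 {F : Type*} [Field F] [Fintype F] {q : ℕ} (h : Fintype.card F = q ^ 2)
    (hq : q = 3 ∨ q = 4) : IsMulCommutative (Out (PSU 3 F q)) := by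
  rcases hq with rfl | rfl
  · obtain ⟨φ, -, -, h2⟩ := S2603.result (p := 3) (f := 1) (n := 3) le_rfl rfl h le_rfl (by simp)
    exact comm_of_ker φ (h2 ▸ by decide)
  · obtain ⟨φ, -, -, h2⟩ := S2603.result (p := 2) (f := 2) (n := 3) (by norm_num) rfl h le_rfl (by simp)
    exact comm_of_ker φ (h2 ▸ by decide)

theorem out_alt7 : IsMulCommutative (Out (alternatingGroup (Fin 7))) := by
  have h := (S2119.result 7 (by norm_num) (by norm_num)).2
  let f := (QuotientGroup.mk' (Inn (alternatingGroup (Fin 7)))).comp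
    (MulAut.conjNormal : Equiv.Perm (Fin 7) →* _)
  have hf : Function.Surjective f := (QuotientGroup.mk'_surjective _).comp h
  refine ⟨⟨fun a b => ?_⟩⟩
  obtain ⟨a, rfl⟩ := hf a
  obtain ⟨b, rfl⟩ := hf b
  rw [← map_mul, ← map_mul, ← mul_inv_eq_one, ← map_inv, ← map_mul]
  refine (QuotientGroup.eq_one_iff _).2 ⟨⟨a * b * (b * a)⁻¹, ?_⟩, by ext; simp⟩
  simp [mul_comm, mul_left_comm]

theorem comm_of_prime {X : Type*} [Group X] {p : ℕ} (hp : p.Prime) (h : Nat.card X ∣ p) :
    IsMulCommutative X := by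
  have := Fact.mk hp
  have := isCyclic_of_card_dvd_prime h
  exact IsCyclic.isMulCommutative

/-- Let G be a nonsolvable finite group of sectional 2-rank at most 4 in which every 2-local subgroup is solvable, and let
D be its commutator subgroup. Then D modulo its core is isomorphic to a projective special linear group of dimension 2
over a field of odd order or of order 8 or 16, to the projective special linear group of dimension 3 over the field
with 3 elements, to a projective special unitary group of dimension 3 for q = 3 or q = 4, to the alternating group of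
degree 7, or is simple of order 29120 or 7920. -/
theorem result {G : Type*} [Group G] [Finite G]
    (hG : ¬ Group.IsSolvable G) (h4 : Cfsg.SectionalPRankLE 2 4 G)
    (hL : ∀ N : Subgroup G, Cfsg.IsTwoLocal N → Group.IsSolvable N) :
    (∃ (F : Type) (_ : Field F) (_ : Fintype F),
        (Odd (Fintype.card F) ∨ Fintype.card F = 8 ∨ Fintype.card F = 16) ∧
          Nonempty (↥(commutator G) ⧸ Cfsg.oddCore ↥(commutator G) ≃* Matrix.ProjectiveSpecialLinearGroup (Fin 2) F)) ∨
      (∃ (F : Type) (_ : Field F) (_ : Fintype F), Fintype.card F = 3 ∧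
          Nonempty (↥(commutator G) ⧸ Cfsg.oddCore ↥(commutator G) ≃* Matrix.ProjectiveSpecialLinearGroup (Fin 3) F)) ∨
      (∃ (F : Type) (_ : Field F) (_ : Fintype F) (q : ℕ), Fintype.card F = q ^ 2 ∧ (q = 3 ∨ q = 4) ∧
          Nonempty (↥(commutator G) ⧸ Cfsg.oddCore ↥(commutator G) ≃* Cfsg.PSU 3 F q)) ∨
      Nonempty (↥(commutator G) ⧸ Cfsg.oddCore ↥(commutator G) ≃* alternatingGroup (Fin 7)) ∨
      (IsSimpleGroup (↥(commutator G) ⧸ Cfsg.oddCore ↥(commutator G)) ∧
        (Nat.card (↥(commutator G) ⧸ Cfsg.oddCore ↥(commutator G)) = 29120 ∨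
          Nat.card (↥(commutator G) ⧸ Cfsg.oddCore ↥(commutator G)) = 7920)) := by
  have hL' := L2S.quot hL
  obtain ⟨K, _, _, hs, hC⟩ := hL'.exists_simple (not_isSolvable_quot hG) (CL.pPrimeCore_quotient_pPrimeCore 2 G)
  have iK : Involves K G := involves_trans (involves_subgroup K) (involves_quotient _)
  have key : IsMulCommutative (Out K) → Nonempty (↥(commutator G) ⧸ oddCore ↥(commutator G) ≃* K) :=
    fun h => nonempty_quot_equiv (commutator_eq_of_out hs hC h)
  rcases simple (fun h => hs (Group.isSolvable_of_comm h.1.1)) (hL'.sub K) with ⟨F, _, _, hF, ⟨e⟩⟩ |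
    ⟨F, _, _, m, hm, hF, ⟨e⟩⟩ | ⟨F, _, _, n, hn, hF, ⟨e⟩⟩ | ⟨F, _, _, hF, ⟨e⟩⟩ | ⟨F, _, _, hF, ⟨e⟩⟩ |
    ⟨⟨e⟩⟩ | ⟨⟨e⟩⟩ | ⟨-, h⟩
  · obtain ⟨j⟩ := key (out_comm_congr e (out_psl2 hF))
    left
    obtain ⟨p, _, n, hp, hn⟩ := FiniteField.card' F
    rcases hp.eq_two_or_odd' with rfl | hp
    swap
    · exact ⟨F, _, _, .inl (hn ▸ hp.pow), ⟨j.trans e⟩⟩
    have h16 := card_le h4 (involves_trans (inv_psl F) (involves_trans (involves_of_equiv e) iK)) sq_one
    rw [Nat.card_eq_fintype_card, Fintype.card_multiplicative] at h16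
    have h1 : (n : ℕ) ≤ 4 := (Nat.pow_le_pow_iff_right Nat.one_lt_two).1 (hn ▸ h16 : 2 ^ (n : ℕ) ≤ 2 ^ 4)
    generalize (n : ℕ) = k at hn h1
    interval_cases k
    · omega
    · omega
    · obtain ⟨a⟩ := S0252.result hn
      have : Fact (Nat.Prime 5) := ⟨by norm_num⟩
      obtain ⟨b⟩ := S0253.result (F := ZMod 5) (by simp)
      exact ⟨ZMod 5, _, inferInstance, .inl (by simp; decide), ⟨((j.trans e).trans a).trans b.symm⟩⟩
    · exact ⟨F, _, _, .inr (.inl hn), ⟨j.trans e⟩⟩
    · exact ⟨F, _, _, .inr (.inr hn), ⟨j.trans e⟩⟩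
  · have := CL.Sz.charP_two hF
    have h16 := card_le h4 (involves_trans (involves_subgroup (CL.Sz.lieModel hF).Z)
      (involves_trans (involves_of_equiv e) iK))
      fun x => Subtype.ext ((CL.Sz.lieModel hF).sq_eq_one_of_mem_Z x.2)
    rw [CL.Sz.Model.card_Z, CL.Sz.natCard_eq hF] at h16
    have h1 : 2 * m + 1 ≤ 4 := (Nat.pow_le_pow_iff_right Nat.one_lt_two).1 h16
    obtain rfl : m = 1 := by omega
    obtain ⟨j⟩ := key (out_comm_congr e (comm_of_prime Nat.prime_three (S2126.result hm hF).dvd))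
    refine .inr (.inr (.inr (.inr ⟨j.isSimpleGroup, .inl ?_⟩)))
    rw [Nat.card_congr (j.trans e).toEquiv, (CL.Sz.lieModel hF).card_G, CL.Sz.natCard_eq hF]
    norm_num
  · have : CharP F 2 := by
      obtain ⟨p, hp, k, hp', hk⟩ := FiniteField.card' F
      rwa [(Nat.prime_dvd_prime_iff_eq hp' Nat.prime_two).1 (hp'.dvd_of_dvd_pow (n := n * 2)
        (by rw [pow_mul, ← hF, hk]; exact dvd_pow_self p k.ne_zero))] at hp
    obtain ⟨P⟩ : Nonempty (Sylow 2 (PSU 3 F (2 ^ n))) := inferInstance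
    obtain ⟨i⟩ := CL.U3.nonempty_sylow_PSU hF 2 P
    have h16 := card_le h4 (involves_trans (involves_of_surjective _ CL.U3.S.aHom_surjective)
      (involves_trans (involves_of_equiv i) (involves_trans (involves_subgroup _)
      (involves_trans (involves_of_equiv e) iK)))) sq_one
    rw [Nat.card_eq_fintype_card, Fintype.card_multiplicative, hF, ← pow_mul] at h16
    have h1 : n * 2 ≤ 4 := (Nat.pow_le_pow_iff_right Nat.one_lt_two).1 h16
    obtain rfl : n = 2 := by omega
    obtain ⟨j⟩ := key (out_comm_congr e (out_psu3 hF (.inr rfl)))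
    exact .inr (.inr (.inl ⟨F, _, _, 4, hF, .inr rfl, ⟨j.trans e⟩⟩))
  · obtain ⟨j⟩ := key (out_comm_congr e (out_psl3 hF))
    exact .inr (.inl ⟨F, _, _, hF, ⟨j.trans e⟩⟩)
  · obtain ⟨j⟩ := key (out_comm_congr e (out_psu3 hF (.inl rfl)))
    exact .inr (.inr (.inl ⟨F, _, _, 3, hF, .inl rfl, ⟨j.trans e⟩⟩))
  · obtain ⟨j⟩ := key (out_comm_congr e out_alt7)
    exact .inr (.inr (.inr (.inl ⟨j.trans e⟩)))
  · obtain ⟨j⟩ := key (out_comm_congr e (comm_of_prime Nat.prime_two (S2060.result ▸ one_dvd 2)))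
    exact .inr (.inr (.inr (.inr ⟨j.isSimpleGroup,
      .inr ((Nat.card_congr (j.trans e).toEquiv).trans CL.MathMdl.card_M11)⟩)))
  · obtain ⟨V, -, h1, h2⟩ := h.rank
    have := card_le h4 (involves_trans (involves_subgroup V) iK) fun x => Subtype.ext (h1 x x.2)
    omega

end Cfsg.Agent.S0517
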