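import Mathlib
import Cfsg.Statements.S2739
import Cfsg.Agent.KSG.GLnDiag
import Cfsg.Agent.KSG.GLnSemisimple

set_option autoImplicit false
open scoped Pointwise
open Cfsg

namespace Cfsg.Agent.S2739

open CL.GLn Polynomial Matrix in
theorem charpoly_eq {F : Type*} [Field F] [Fintype F] (hF : Fintype.card F = 4) (g : Matrix.SpecialLinearGroup (Fin 3) F)
    (h1 : g ∉ Subgroup.center _) (h3 : g ^ 3 ∈ Subgroup.center _) : g ^ 3 = 1 ∧ g.1.charpoly = X ^ 3 - 1 := by
  classical
  have hcube : ∀ a : F, a ≠ 0 → a ^ 3 = 1 := fun a ha => by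
    have := FiniteField.pow_card_sub_one_eq_one a ha
    rwa [hF] at this
  have h2 : (2 : F) = 0 := by
    have := FiniteField.cast_card_eq_zero F
    rw [hF] at this
    have h : (2 : F) ^ 2 = 0 := by rw [← this]; norm_num
    exact pow_eq_zero_iff two_ne_zero |>.1 h
  obtain ⟨c, hc, hgc⟩ := Matrix.SpecialLinearGroup.mem_center_iff.1 h3
  have hc0 : c ≠ 0 := by rintro rfl; simp at hc
  have hg3 : g ^ 3 = 1 := by
    by_contra hne
    have hc1 : c ≠ 1 := by
      rintro rfl
      exact hne (Subtype.ext (by rw [← hgc]; simp))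
    have hirr : Irreducible (X ^ 3 - C c : F[X]) := by
      refine (Monic.irreducible_iff_roots_eq_zero_of_degree_le_three (monic_X_pow_sub_C c (by norm_num))
        (by simp) (by simp)).2 (Multiset.eq_zero_of_forall_notMem fun a ha => ?_)
      have := isRoot_of_mem_roots ha
      simp only [IsRoot.def, eval_sub, eval_pow, eval_X, eval_C, sub_eq_zero] at this
      by_cases ha0 : a = 0
      · rw [ha0] at this; exact hc0 (by rw [← this]; simp)
      · exact hc1 (by rw [← this, hcube a ha0])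
    have hmin : minpoly F g.1 = X ^ 3 - C c := by
      refine (minpoly.eq_of_irreducible_of_monic hirr ?_ (monic_X_pow_sub_C c (by norm_num))).symm
      simp only [map_sub, map_pow, aeval_X, aeval_C]
      rw [← Matrix.SpecialLinearGroup.coe_pow, ← hgc, sub_eq_zero]; rfl
    have hch : g.1.charpoly = X ^ 3 - C c := by
      refine eq_of_monic_of_dvd_of_natDegree_le (monic_X_pow_sub_C c (by norm_num)) (charpoly_monic _)
        (hmin ▸ minpoly_dvd_charpoly _) (by simp)
    have := det_eq_sign_charpoly_coeff g.1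
    rw [g.2, hch] at this
    simp at this
    exact hc1 (by linear_combination -this)
  refine ⟨hg3, ?_⟩
  have hA : aeval (toLin' g.1) (∏ a ∈ (Finset.univ : Finset F), (X - C a)) = 0 := by
    have : ∏ a ∈ (Finset.univ : Finset F), (X - C a) = X ^ Fintype.card F - X := by
      have hm : (X ^ Fintype.card F - X : F[X]).Monic := by
        rw [hF]; monicity!
      have := prod_multiset_X_sub_C_of_monic_of_roots_card_eq hm (by
        rw [FiniteField.roots_X_pow_card_sub_X, FiniteField.X_pow_card_sub_X_natDegree_eq _ Fintype.one_lt_card]; rfl)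
      rw [← this, FiniteField.roots_X_pow_card_sub_X]; rfl
    rw [this, ← toLin'_aeval, hF]
    simp only [map_sub, map_pow, aeval_X]
    rw [pow_succ, ← Matrix.SpecialLinearGroup.coe_pow, hg3]; simp
  obtain ⟨b, χ, hb⟩ := exists_basis_eigenvectors (fun _ : Unit => toLin' g.1) (fun _ _ => Commute.refl _)
    fun _ => iSup_eigenspace_eq_top_of_aeval _ hA
  let b' := b.reindex (finCongr (Module.finrank_fin_fun F))
  obtain ⟨e, he⟩ : ∃ e : Fin 3 → F, ∀ k, toLin' g.1 (b' k) = e k • b' k :=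
    ⟨fun k => χ ((finCongr (Module.finrank_fin_fun F)).symm k) (), fun k => by
      simp only [b', Module.Basis.reindex_apply]; exact hb _ ()⟩
  have hM : LinearMap.toMatrix b' b' (toLin' g.1) = diagonal e := by
    ext i j
    rw [LinearMap.toMatrix_apply, he]
    by_cases h : i = j <;> simp [h, Finsupp.single_apply, eq_comm]
  have hdet := det_eq_prod_of_basis b' he
  rw [LinearMap.det_toLin', g.2, Fin.prod_univ_three] at hdet
  have h0 : e 0 ≠ 0 ∧ e 1 ≠ 0 ∧ e 2 ≠ 0 := by
    refine ⟨fun h => ?_, fun h => ?_, fun h => ?_⟩ <;> simp [h] at hdet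
  have c0 := hcube _ h0.1
  have c1 := hcube _ h0.2.1
  have c2 := hcube _ h0.2.2
  have hne : ¬ (e 0 = e 1 ∧ e 0 = e 2) := fun ⟨a, a'⟩ => h1 (Matrix.SpecialLinearGroup.mem_center_iff.2 ⟨e 0, by simpa using c0, by
    apply toLin'.injective
    refine b'.ext fun k => ?_
    rw [he]
    have : e k = e 0 := by fin_cases k <;> simp [a, ← a']
    simp [this]⟩)
  have n01 : e 0 ≠ e 1 := fun h => hne ⟨h, mul_left_cancel₀ (pow_ne_zero 2 h0.1) (by
    rw [← h] at hdet; linear_combination c0 + hdet)⟩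
  have n02 : e 0 ≠ e 2 := fun h => hne ⟨mul_left_cancel₀ (pow_ne_zero 2 h0.1) (by
    rw [← h] at hdet; linear_combination c0 + hdet), h⟩
  have n12 : e 1 ≠ e 2 := fun h => n01 (mul_left_cancel₀ (pow_ne_zero 2 h0.2.1) (by
    rw [← h] at hdet; linear_combination -c1 - hdet))
  have q1 : e 0 ^ 2 + e 0 * e 1 + e 1 ^ 2 = 0 := mul_left_cancel₀ (sub_ne_zero.2 n01) (by linear_combination c0 - c1)
  have q2 : e 0 ^ 2 + e 0 * e 2 + e 2 ^ 2 = 0 := mul_left_cancel₀ (sub_ne_zero.2 n02) (by linear_combination c0 - c2)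
  have s1 : e 0 + e 1 + e 2 = 0 := mul_left_cancel₀ (sub_ne_zero.2 n12) (by linear_combination q1 - q2)
  have s2 : e 0 * e 1 + e 0 * e 2 + e 1 * e 2 = 0 := by linear_combination (e 0 + e 1) * s1 - q1
  rw [← charpoly_toLin', ← LinearMap.charpoly_toMatrix _ b', hM, charpoly_diagonal, Fin.prod_univ_three]
  have t1 := congrArg (C : F → F[X]) s1
  have t2 := congrArg (C : F → F[X]) s2
  have t3 := congrArg (C : F → F[X]) hdet
  simp only [map_add, map_mul, map_zero, map_one] at t1 t2 t3
  linear_combination (-X ^ 2) * t1 + X * t2 + t3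


/-- In the projective special linear group PSL(3, 4) all subgroups of order 3 are conjugate. -/
theorem result (F : Type*) [Field F] [Fintype F] (hF : Fintype.card F = 4) (X Y : Subgroup (Matrix.ProjectiveSpecialLinearGroup (Fin 3) F)) (hX : Nat.card ↥X = 3) (hY : Nat.card ↥Y = 3) : ∃ g : Matrix.ProjectiveSpecialLinearGroup (Fin 3) F, MulAut.conj g • X = Y := by
  have : Fact (Nat.Prime 3) := ⟨Nat.prime_three⟩
  have h3 : ((3 : ℕ) : F) ≠ 0 := fun h => by
    have h4 := FiniteField.cast_card_eq_zero F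
    rw [hF] at h4
    exact one_ne_zero (α := F) (by push_cast at h h4; linear_combination h4 - h)
  have key : ∀ Z : Subgroup (Matrix.ProjectiveSpecialLinearGroup (Fin 3) F), Nat.card Z = 3 →
      ∃ g : Matrix.SpecialLinearGroup (Fin 3) F, Z = Subgroup.zpowers (g : Matrix.ProjectiveSpecialLinearGroup (Fin 3) F) ∧
        g ^ 3 = 1 ∧ g.1.charpoly = Polynomial.X ^ 3 - 1 := fun Z hZ => by
    have := isCyclic_of_prime_card hZ
    obtain ⟨x, hx⟩ := (Subgroup.isCyclic_iff_exists_zpowers_eq_top Z).1 this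
    obtain ⟨g, rfl⟩ := QuotientGroup.mk_surjective x
    have ho : orderOf (g : Matrix.ProjectiveSpecialLinearGroup (Fin 3) F) = 3 := by rw [← Nat.card_zpowers, hx, hZ]
    refine ⟨g, hx.symm, charpoly_eq hF g (fun h => ?_) ?_⟩
    · rw [(QuotientGroup.eq_one_iff _).2 h] at ho; simp at ho
    · rw [← QuotientGroup.eq_one_iff, QuotientGroup.mk_pow]
      exact orderOf_dvd_iff_pow_eq_one.1 ho.dvd
  obtain ⟨x, rfl, hx, hx'⟩ := key X hX
  obtain ⟨y, rfl, hy, hy'⟩ := key Y hY
  have sx := CL.GLn.isSemisimple_toLin'_of_pow_eq_one (A := x.1) h3 (by rw [← Matrix.SpecialLinearGroup.coe_pow, hx]; rfl)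
  have sy := CL.GLn.isSemisimple_toLin'_of_pow_eq_one (A := y.1) h3 (by rw [← Matrix.SpecialLinearGroup.coe_pow, hy]; rfl)
  obtain ⟨c, hc⟩ := isConj_iff.1 (CL.GLn.isConj_sl_of_isConj (CL.GLn.isConj_of_isSemisimple_of_charpoly_eq sx sy (hx'.trans hy'.symm))
    (CL.GLn.exists_gl_commute_det_of_isSemisimple sx))
  refine ⟨c, ?_⟩
  rw [← hc]
  exact MonoidHom.map_zpowers (MulAut.conj (c : Matrix.ProjectiveSpecialLinearGroup (Fin 3) F)).toMonoidHom _

end Cfsg.Agent.S2739
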