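import Cfsg.Statements.S0224
import Cfsg.Agent.INV.StrongEmb

set_option autoImplicit false
open Cfsg

namespace Cfsg.Agent.S0224

/-- Let H be a proper subgroup of even order of the finite group G. Then H is strongly embedded if and only if each involution of H fixes exactly one point (namely the coset H) in the action of G on the cosets of H. -/
theorem result {G : Type*} [Group G] [Finite G] (H : Subgroup G) (hH : H ≠ ⊤) (heven : Even (Nat.card H)) : Cfsg.IsStronglyEmbedded H ↔ ∀ t ∈ H, orderOf t = 2 → Nat.card {c : G ⧸ H // t • c = c} = 1 := by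
  have key : ∀ t g : G, t • (g : G ⧸ H) = g ↔ g⁻¹ * t * g⁻¹⁻¹ ∈ H := fun t g => by
    rw [MulAction.Quotient.smul_coe, eq_comm, QuotientGroup.eq, smul_eq_mul, inv_inv, mul_assoc]
  constructor
  · intro h t htH ht
    rw [Nat.card_eq_one_iff_exists]
    refine ⟨⟨((1 : G) : G ⧸ H), (key t 1).2 (by simpa using htH)⟩, ?_⟩
    rintro ⟨c, hc⟩
    induction c using QuotientGroup.induction_on with
    | H g =>
      apply Subtype.ext
      have := CL.StrongEmb.mem_of_conj_mem h htH ht ((key t g).1 hc)
      exact QuotientGroup.eq.2 (by simpa using this)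
  · intro h
    refine CL.StrongEmb.isStronglyEmbedded_iff.2 ⟨hH, heven, fun t htH ht g hg => ?_⟩
    have hs := (Nat.card_eq_one_iff_unique.1 (h t htH ht)).1
    have := Subsingleton.elim (α := {c : G ⧸ H // t • c = c})
      ⟨((1 : G) : G ⧸ H), (key t 1).2 (by simpa using htH)⟩
      ⟨((g⁻¹ : G) : G ⧸ H), (key t g⁻¹).2 (by simpa using hg)⟩
    have h2 := QuotientGroup.eq.1 (congrArg Subtype.val this)
    simpa using h2

end Cfsg.Agent.S0224
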