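import Cfsg.Statements.S0266
import Cfsg.Agent.CLAS.PGL2Basic

set_option autoImplicit false
open scoped MatrixGroups
open Cfsg

namespace Cfsg.Agent.S0266

/-- PGL_2(F) is sharply 3-transitive on the projective line: it is 3-transitive and the stabiliser of three distinct points is trivial. -/
theorem result {F : Type*} [Field F] : MulAction.IsMultiplyPretransitive (Matrix.ProjGenLinGroup (Fin 2) F) (Projectivization F (Fin 2 → F)) 3 ∧ ∀ (g : Matrix.ProjGenLinGroup (Fin 2) F) (a b c : Projectivization F (Fin 2 → F)), a ≠ b → a ≠ c → b ≠ c → g • a = a → g • b = b → g • c = c → g = 1 := by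
  refine ⟨?_, fun g a b c hab hac hbc ha hb hc =>
    CL.PGL2.eq_one_of_fix_three hab hac hbc ha hb hc⟩
  rw [MulAction.isMultiplyPretransitive_iff]
  intro x y
  obtain ⟨g, g0, g1, g2⟩ := CL.PGL2.exists_smul_std (a := x 0) (b := x 1) (c := x 2)
    (x.injective.ne (by decide)) (x.injective.ne (by decide)) (x.injective.ne (by decide))
  obtain ⟨h, h0, h1, h2⟩ := CL.PGL2.exists_smul_std (a := y 0) (b := y 1) (c := y 2)
    (y.injective.ne (by decide)) (y.injective.ne (by decide)) (y.injective.ne (by decide))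
  refine ⟨h * g⁻¹, ?_⟩
  ext i
  rw [Function.Embedding.smul_apply, mul_smul]
  fin_cases i
  · show h • g⁻¹ • x 0 = y 0
    rw [← g0, inv_smul_smul, h0]
  · show h • g⁻¹ • x 1 = y 1
    rw [← g1, inv_smul_smul, h1]
  · show h • g⁻¹ • x 2 = y 2
    rw [← g2, inv_smul_smul, h2]

end Cfsg.Agent.S0266
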