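import Cfsg.Statements.S0384
import Mathlib
import Cfsg.Agent.SPOR.M12
import Cfsg.Agent.SPOR.SimpleOn

set_option autoImplicit false
open scoped Pointwise
open Cfsg

namespace Cfsg.Agent.S0384

open CL.Golay CL.M12 MulAction

/-- A dodecad stabiliser is sharply 5-transitive on the dodecad. -/
theorem result (d : Finset Cfsg.GolayPt) (hd : d ∈ Cfsg.dodecads) (x y : Fin 5 ↪ Cfsg.GolayPt) (hx : ∀ i, x i ∈ d) (hy : ∀ i, y i ∈ d) : ∃! g : MulAction.stabilizer Cfsg.M24 d, ∀ i, ((g : Cfsg.M24) : Equiv.Perm Cfsg.GolayPt) (x i) = y i := by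
  obtain ⟨g, hg, e⟩ := trans5 hd x y x.injective hx y.injective hy
  refine ⟨⟨⟨g, hg.1⟩, hg.2⟩, e, ?_⟩
  rintro ⟨⟨h, hh⟩, hh'⟩ e'
  have : g⁻¹ * h = 1 := eq_one_of_fix5 hd x x.injective hx
    ((St d).mul_mem ((St d).inv_mem hg) ⟨hh, hh'⟩) fun i => by
      rw [Equiv.Perm.mul_apply, Equiv.Perm.inv_eq_iff_eq, e]
      exact e' i
  exact Subtype.ext (Subtype.ext (inv_mul_eq_one.1 this).symm)

end Cfsg.Agent.S0384
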