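import Cfsg.Statements.S0447
import Cfsg.Agent.KSG.AltCover3
set_option autoImplicit false
open Cfsg

namespace Cfsg.Agent.S0447

/-- Involutions in double covers of alternating groups: for n ≤ 7, a finite non-split double cover of the alternating group of degree n has exactly one element of order 2 (the central one); for degree 8 there is a non-split double cover with two distinct involutions. -/
theorem result : (∀ (n : ℕ) (H : Type) (_ : Group H) (_ : Finite H), n ≤ 7 → Cfsg.IsNonsplitDoubleCover H (alternatingGroup (Fin n)) → ∀ x y : H, orderOf x = 2 → orderOf y = 2 → x = y) ∧ ∃ (H : Type) (_ : Group H) (_ : Finite H), Cfsg.IsNonsplitDoubleCover H (alternatingGroup (Fin 8)) ∧ ∃ x y : H, x ≠ y ∧ orderOf x = 2 ∧ orderOf y = 2 := by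
  refine ⟨fun n H _ _ h7 ⟨hZ, ⟨e⟩, hL⟩ x y hx hy => ?_, ?_⟩
  · have hker : (e.toMonoidHom.comp (QuotientGroup.mk' (Subgroup.center H))).ker =
        Subgroup.center H := by
      ext k; simp
    have hσ : CL.Schur.IsCentralExt (e.toMonoidHom.comp (QuotientGroup.mk' (Subgroup.center H))) :=
      ⟨e.surjective.comp (QuotientGroup.mk'_surjective _), hker.le⟩
    obtain ⟨z, hz, hz1, hz2⟩ := CL.AltCover.exists_pair_of_card hZ
    have key : ∀ x : H, orderOf x = 2 → x = z := fun x hx => by
      refine (hz2 x (hσ.central (CL.AltCover.map_eq_one_of_sq h7 hσ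
        (CL.AltCover.sq_eq_one_of_pair (hker.ge hz)
          fun k hk => hz2 k (hσ.central hk))
        (fun s hs => hL _ (hker ▸ CL.AltCover.isComplement'_of_section hs))
        (hx ▸ pow_orderOf_eq_one x)))).resolve_left ?_
      rintro rfl
      simp at hx
    rw [key x hx, key y hy]
  · obtain ⟨Γ, _, _, σ, z, hσ, hker, hz⟩ := CL.AltCover.exists_double_cover (n := 8) (by decide)
    have hσ' := CL.Schur.isCentralExt_of_stem hσ
    have hc : Subgroup.center Γ = σ.ker := by
      refine le_antisymm (fun k hk => ?_) hσ.2.1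
      rw [MonoidHom.mem_ker, ← Subgroup.mem_bot, ← alternatingGroup.center_eq_bot (by simp),
        Subgroup.mem_center_iff]
      intro g
      obtain ⟨g, rfl⟩ := hσ.1 g
      rw [← map_mul, ← map_mul, Subgroup.mem_center_iff.mp hk]
    have hZ : Nat.card σ.ker = 2 := by rw [hker, Nat.card_zpowers, hz]
    obtain ⟨z, hz, hz1, hz2⟩ := CL.AltCover.exists_pair_of_card hZ
    obtain ⟨γ, h1, h2⟩ := CL.AltCover.exists_sq_eq_one le_rfl hσ' hz hz2
      (CL.AltCover.no_section_of_commutator hσ' hz hz1 (hσ.2.2 hz))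
    refine ⟨Γ, inferInstance, inferInstance, ⟨hc ▸ hZ, ⟨(QuotientGroup.quotientMulEquivOfEq hc).trans
      (QuotientGroup.quotientKerEquivOfSurjective σ hσ.1)⟩, fun L hL => hz1 ?_⟩, γ, z, ?_, ?_, ?_⟩
    · exact Subgroup.disjoint_def.mp hL.disjoint (hσ.2.1 hz)
        (CL.AltCover.commutator_le_of_isComplement' le_rfl hL (hσ.2.2 hz))
    · rintro rfl
      exact h2 hz
    · exact orderOf_eq_prime h1 (by rintro rfl; exact h2 (map_one σ))
    · exact orderOf_eq_prime (CL.AltCover.sq_eq_one_of_pair hz hz2 z hz) hz1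

end Cfsg.Agent.S0447
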