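import Cfsg.Statements.S5417
import Cfsg.Agent.SPOR.A10.HeMon

set_option autoImplicit false
open Cfsg CL CL.LX CL.MSS CL.MT CL.Leech CL.A10.Hd

namespace Cfsg.Agent.S5417

/-- Let G be a finite group of Monster type at the involution z with Q the extraspecial normal subgroup of order 2^25 of C = C_G(z) (so C/Q is identified with the first Conway group with Q modulo its centre the Leech lattice modulo 2, and z is not weakly closed in Q). Let s be a conjugate of z in Q other than z and let B be a Sylow 7-subgroup of the joint centralizer of z and s. Then the centralizer of B modulo B is isomorphic to the Held group (as presented on seven involutions). -/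
theorem result {G : Type*} [Group G] [Finite G] (z : G) (Q : Subgroup (Subgroup.centralizer ({z} : Set G))) [Q.Normal] (hM : Cfsg.IsOfMonsterType z Q) (s : G) (hsQ : ∃ hsc : s ∈ Subgroup.centralizer ({z} : Set G), (⟨s, hsc⟩ : Subgroup.centralizer ({z} : Set G)) ∈ Q) (hs : IsConj z s) (hs1 : s ≠ z) (B : Subgroup G) (hB : B ≤ Subgroup.centralizer ({z, s} : Set G)) (hBp : Nat.card B = 7 ^ (Nat.card ↥(Subgroup.centralizer ({z, s} : Set G))).factorization 7) [hn : (B.subgroupOf (Subgroup.centralizer (B : Set G))).Normal] : Cfsg.Spor.IsoHe (↥(Subgroup.centralizer (B : Set G)) ⧸ B.subgroupOf (Subgroup.centralizer (B : Set G))) := by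
  obtain ⟨Q1, R, A, b, h, hF, hs', hb, rfl, hsb, hA⟩ := setup_sylow hM hsQ hs hs1 (p := 7) (by norm_num)
    (by decide) (by decide +kernel) C7.orderOf_s0 hB hBp
  have hb7 : b ^ 7 = 1 := hb ▸ pow_orderOf_eq_one b
  obtain ⟨y, hy, P, hP, hL, -, hn', h1, ⟨e, -⟩, h2⟩ := h.odd_main hF (n := 7) (by decide)
    hb7 C7.σ_pow hA (w := 3) (by norm_num) C7.tab.1 C7.cdata.2 C7.cdata.1
    (h.R_mem hs') hsb hs hs1
  rw [show 2 ^ (2 * 3) = 8 * 8 from rfl, C7.card64] at h2
  have e1 := LX_map_subgroupOf hL.toES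
  have h7 := set7_of (e1.symm ▸ hL) h1.2.2.2.1 e
  rw [e1] at h7
  obtain ⟨g, ⟨hg, -⟩, hne⟩ := h1.2.2.2.2
  rcases h7.pin (Subgroup.mem_centralizer_singleton_iff.1 hg) hne with ⟨S, rfl⟩ | ⟨k, -⟩
  · refine (S.he_or_pure (Subgroup.mem_centralizer_singleton_iff.1 hg) hne).resolve_right ?_
    rintro ⟨U, n, u, u1, u2, u3, u4, u5, u6, u7, u8, u9, u10⟩
    have hU := h7.le_Q u1 u2
    have hodd := odd_card_zpowers (n := 7) (by decide) hb7
    have h4 := fun x hx => h.lx.pow_four (x := x) hx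
    have c4 : ∀ c x : G, x ∈ Q1 → (c * x * c⁻¹) ^ 4 = 1 := fun c x hx => by
      rw [conj_pow, h4 x hx]; group
    have cm : ∀ a : Subgroup.centralizer (Subgroup.zpowers b : Set G), b * a = a * b := fun a =>
      a.2 b (Subgroup.mem_zpowers b)
    rw [hP] at hU
    obtain ⟨n, rfl⟩ := QuotientGroup.mk'_surjective _ n
    obtain ⟨a, ha, rfl⟩ := hU u5
    obtain ⟨a', ha', k1⟩ := hU u3
    obtain ⟨a'', ha'', k2⟩ := hU u6
    obtain ⟨c, hc⟩ := isConj_iff.1 u7
    obtain ⟨c, rfl⟩ := QuotientGroup.mk'_surjective _ c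
    rw [hy] at k1 hc u4 u8 u9 u10
    simp only [← map_inv, ← map_mul] at k1 k2 hc u4 u9 u10
    have k1 := congrArg Subtype.val (eq_of_qm_eq hodd (h4 _ ha'.1) (c4 _ _ h.lx.z_mem) k1)
    have k2 := congrArg Subtype.val (eq_of_qm_eq hodd (h4 _ ha''.1)
      (by simpa using c4 (n : G)⁻¹ _ ha.1) k2)
    have hc := congrArg Subtype.val (eq_of_qm_eq hodd (c4 _ _ h.lx.z_mem) (h4 _ ha.1) hc)
    rcases h.not_pure (g := n) (x := a) hb (h.A_comm hA) ((congrArg (· ∈ Q1) k1).mp ha'.1)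
      (fun e => u4 (congrArg _ (Subtype.ext e))) (cm (n * ⟨z, h.z_mem_cent hA⟩ * n⁻¹)) ha.1
      (mem_cj.2 ((congrArg (· ∈ Q1) k2).mp ha''.1)) (cm a) (isConj_iff.2 ⟨c, hc⟩) with e | e | e
    exacts [u8 (congrArg _ (Subtype.ext e)), u9 (congrArg _ (Subtype.ext e)),
      u10 (congrArg _ (Subtype.ext e))]
  · rw [← Set.ncard_image_of_injective _ Subtype.val_injective] at h2
    refine absurd (h2.symm.trans ((congrArg Set.ncard (Set.ext fun x => ?_)).trans k)) (by norm_num)
    exact ⟨by rintro ⟨x, hx, rfl⟩; exact hx, fun hx => ⟨⟨x, LX_le_centralizer hL.toES hx.1⟩, hx, rfl⟩⟩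

end Cfsg.Agent.S5417
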