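import Cfsg.Statements.S0476
import Cfsg.Agent.SPOR.J4C
import Cfsg.Agent.SPOR.J4.Cover

set_option autoImplicit false
open Cfsg

namespace Cfsg.Agent.S0476

/-- In some simple group of the order of Janko's fourth group there is an involution whose centraliser C has a normal extraspecial subgroup Q of order 2 ^ 13, a normal subgroup N of order 3 · 2 ^ 13 containing Q, and a subgroup M of index 2 containing N as a normal subgroup with M / N simple of order 443520. -/
theorem result : ∃ (G : Type) (_ : Group G) (_ : Finite G), Cfsg.IsJ4 G ∧ ∃ z : G, orderOf z = 2 ∧ ∃ (Q N M : Subgroup (Subgroup.centralizer ({z} : Set G))), Q.Normal ∧ N.Normal ∧ Q ≤ N ∧ N ≤ M ∧ Nat.card Q = 2 ^ 13 ∧ Cfsg.IsExtraspecial 2 Q ∧ Nat.card N = 3 * 2 ^ 13 ∧ M.index = 2 ∧ ∃ (_ : (N.subgroupOf M).Normal), Cfsg.IsM22 (M ⧸ N.subgroupOf M) := by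
  open CL.J4G CL.MAut CL.Golay in
  have hM : μ.ker ≤ Spor.M22.comap μ := fun c hc => by
    rw [Subgroup.mem_comap, MonoidHom.mem_ker.1 hc]; exact one_mem _
  open CL.J4G CL.MAut CL.Golay in
  let f : Spor.M22.comap μ →* Spor.M22 := μ.subgroupComap _
  open CL.J4G CL.MAut CL.Golay in
  have hf : Function.Surjective f := fun m => by
    obtain ⟨c, hc⟩ := range_μ.ge (M22_le_Duad m.2)
    exact ⟨⟨c, by rw [Subgroup.mem_comap, hc]; exact m.2⟩, Subtype.ext hc⟩
  open CL.J4G CL.MAut CL.Golay in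
  have hk : μ.ker.subgroupOf (Spor.M22.comap μ) = f.ker := by
    ext c
    exact ⟨fun h => Subtype.ext h, fun h => congrArg Subtype.val h⟩
  open CL.J4G CL.MAut CL.Golay in
  have e := (QuotientGroup.quotientMulEquivOfEq hk).trans
    (QuotientGroup.quotientKerEquivOfSurjective f hf)
  have := CL.J4.simple_M22
  open CL.J4G CL.MAut CL.Golay in
  refine ⟨Spor.J4, inferInstance, inferInstance, ⟨isSimpleGroup, card⟩, z, raw.lx.orderOf_z, Q0,
    μ.ker, Spor.M22.comap μ, inferInstance, inferInstance, Q0_le_ker, hM, esQ.2.1,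
    esQ.2.2.isExtraspecial, card_ker_μ, ?_, inferInstance, e.isSimpleGroup,
    (Nat.card_congr e.toEquiv).trans card_M22⟩
  open CL.J4G CL.MAut CL.Golay in
  have h := (Spor.M22.subgroupOf Duad).card_mul_index
  open CL.J4G CL.MAut CL.Golay in
  rw [Nat.card_congr (Subgroup.subgroupOfEquivOfLe M22_le_Duad).toEquiv, card_M22, card_Duad] at h
  open CL.J4G CL.MAut CL.Golay in
  rw [Subgroup.index_comap, range_μ, Subgroup.relIndex]
  omega

end Cfsg.Agent.S0476
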