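import Cfsg.Statements.S0477
import Cfsg.Agent.SPOR.LyU.Ly
import Cfsg.Agent.SPOR.LyU.Quot

set_option autoImplicit false
open Cfsg CL CL.LyU

namespace Cfsg.Agent.S0477

/-- In some simple group of the Lyons group's order there is an element of order 3 whose centraliser has centre of order 3 with quotient by the centre simple of order 898128000 (a triple cover of a group of McLaughlin's order). -/
theorem result : ∃ (G : Type) (_ : Group G) (_ : Finite G), Cfsg.IsLy G ∧ ∃ x : G, orderOf x = 3 ∧ Nat.card (Subgroup.center (Subgroup.centralizer ({x} : Set G))) = 3 ∧ Cfsg.IsMcL ((Subgroup.centralizer ({x} : Set G)) ⧸ Subgroup.center (Subgroup.centralizer ({x} : Set G))) := by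
  have e : A0 ≃* Subgroup.centralizer ({ψL (gA 9)} : Set Spor.Ly) :=
    (A0.equivMapOfInjective ψL ψL_inj).trans (MulEquiv.subgroupCongr cent_xL.symm)
  have hk : (θ.comp e.symm.toMonoidHom).ker = Subgroup.center _ := by
    ext k
    obtain ⟨k, rfl⟩ := e.surjective k
    rw [MonoidHom.mem_ker, MonoidHom.comp_apply, MulEquiv.coe_toMonoidHom, e.symm_apply_apply,
      ← MonoidHom.mem_ker, ← center_A0, Subgroup.mem_center_iff, Subgroup.mem_center_iff,
      e.surjective.forall]
    simp only [← map_mul, e.apply_eq_iff_eq]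
  have f := (QuotientGroup.quotientMulEquivOfEq hk.symm).trans
    (QuotientGroup.quotientKerEquivOfSurjective _ (θ_surj.comp e.symm.surjective))
  have := Rec.McL.simpleM
  have hc := (Nat.card_congr f.toEquiv).trans Rec.McL.facts.cardM
  refine ⟨Spor.Ly, inferInstance, inferInstance, ⟨Ly.isSimpleGroup, Ly.card⟩, ψL (gA 9),
    (orderOf_injective ψL ψL_inj _).trans orderOf_x, ?_, f.isSimpleGroup, hc⟩
  have h := Subgroup.card_eq_card_quotient_mul_card_subgroup
    (Subgroup.center (Subgroup.centralizer ({ψL (gA 9)} : Set Spor.Ly)))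
  rw [hc, ← Nat.card_congr e.toEquiv, card_A0] at h
  omega


end Cfsg.Agent.S0477
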