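import Cfsg.Statements.S0478
import Cfsg.Agent.SPOR.A10.JU3

set_option autoImplicit false
open Cfsg

namespace Cfsg.Agent.S0478

open CL CL.JX CL.CE CL.A10 Cfsg.Spor Matrix

/-- the Frobenius map -/
def fr : F4 →+* F4 where
  toFun x := x ^ 2
  map_one' := by decide
  map_zero' := by decide
  map_mul' := by decide
  map_add' := by decide

theorem uni {A : Matrix F9 F9 F4} (h : Aᵀ * A.map fr = 1) (u v : F9 → F4) :
    ∑ i, (A *ᵥ u) i * (A *ᵥ v) i ^ 2 = ∑ i, u i * v i ^ 2 := by
  have h1 : fr ∘ (A *ᵥ v) = A.map fr *ᵥ (fr ∘ v) := funext fun i => fr.map_mulVec A v i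
  change (A *ᵥ u) ⬝ᵥ (fr ∘ (A *ᵥ v)) = u ⬝ᵥ (fr ∘ v)
  rw [h1, dotProduct_mulVec, ← vecMul_transpose, vecMul_vecMul, h, vecMul_one]

theorem U_le : U ≤ preserving (Units.coeHom _) fun u v : F9 → F4 => ∑ i, u i * v i ^ 2 := by
  refine (Subgroup.closure_le _).2 ?_
  rintro g ((((⟨Z, h⟩ | ⟨Z, h⟩) | ⟨Z, h⟩) | ⟨Z, h0, h⟩) | ⟨Z, h0, h⟩) <;>
    refine uni (A := (g : Matrix F9 F9 F4)) ?_
  · rw [← h]; clear h; revert Z; decide +kernel
  · rw [← h]; clear h; revert Z; decide +kernel
  · rw [← h]; clear h; revert Z; decide +kernel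
  · rw [h]; clear h; revert Z; decide +kernel
  · rw [h]; clear h; revert Z; decide +kernel

theorem det_U (g : U) : (g : GL F9 F4).val.det = 1 := by
  let δ : U →* F4ˣ := GeneralLinearGroup.det.comp U.subtype
  have h := pjU.pres.map δ
  have h1 : ∀ y : F4ˣ, y * y = 1 → y = 1 := fun y hy => Units.ext
    ((by decide : ∀ y : F4, y * y = 1 → y = 1) _ (congrArg Units.val hy))
  have h2 : ∀ a < 5, δ (uU a) = 1 := fun a ha => h1 _ (by
    simpa only [ev_cons, ev_nil, mul_one] using
      h.rel [a, a] ((by decide +kernel : ∀ a < 5, [a, a] ∈ R3) a ha))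
  have h3 : δ (uU 5) = 1 := h1 _ (by
    simpa only [ev_cons, ev_nil, mul_one, h2 2 (by norm_num), one_mul] using
      h.eq_one (w := [2, 5, 2, 5]) (by decide +kernel))
  have h4 : δ (uU 6) = 1 := by
    simpa only [ev_cons, ev_nil, mul_one, h3, one_mul] using
      h.eq_one (w := [5, 6]) (by decide +kernel)
  have h5 : gen uU AL ≤ δ.ker := gen_le_iff.2 fun w hw => ev_mem fun a ha => by
    have h6 := (by decide : ∀ w ∈ AL, ∀ a ∈ w, a < 5 ∨ a = 5 ∨ a = 6) w hw a ha
    rcases h6 with h6 | rfl | rfl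
    exacts [h2 a h6, h3, h4]
  have h6 : δ g = 1 := h5 (pjU.top.ge (Subgroup.mem_top g))
  rw [← GeneralLinearGroup.val_det_apply]
  exact congrArg Units.val h6

/-- a numbering of the indices -/
noncomputable def σ : F9 ≃ Fin 9 := Fintype.equivFinOfCardEq rfl

/-- the embedding into the special unitary group -/
noncomputable def Φ : U →* SU 9 F4 2 where
  toFun g := ⟨⟨reindex σ σ (g : GL F9 F4).val, by rw [det_reindex_self, det_U]⟩, fun u v => by
    have := U_le g.2 (u ∘ σ) (v ∘ σ)
    simp only [hermForm]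
    rw [← σ.sum_comp, ← σ.sum_comp (fun i => u i * v i ^ 2)]
    refine Eq.trans (Finset.sum_congr rfl fun i _ => ?_) this
    show (reindex σ σ _ *ᵥ u) _ * (reindex σ σ _ *ᵥ v) _ ^ 2 = _
    simp [submatrix_mulVec_equiv]⟩
  map_one' := Subtype.ext (Subtype.ext (by simp))
  map_mul' g k := Subtype.ext (Subtype.ext 
    (submatrix_mul_equiv (g : GL F9 F4).val (k : GL F9 F4).val σ.symm σ.symm σ.symm).symm)

theorem Φ_inj : Function.Injective Φ := fun _ _ e =>
  Subtype.ext (Units.ext ((reindex σ σ).injective (congrArg (fun x : SU 9 F4 2 => x.1.1) e)))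


/-- A triple cover of Janko's third group inside a unitary group: for a field F with four elements, the special unitary group of dimension 9 (with respect to the form with q = 2) has a subgroup whose centre has order 3 and whose quotient by its centre is simple of order 50232960. -/
theorem result : ∃ (F : Type) (_ : Field F) (_ : Fintype F), Fintype.card F = 4 ∧ ∃ H : Subgroup (Cfsg.SU 9 F 2), Nat.card (Subgroup.center H) = 3 ∧ Cfsg.IsJ3 (H ⧸ Subgroup.center H) := by
  have e := MonoidHom.ofInjective Φ_inj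
  have h := pjJ.map (QuotientGroup.congr _ _ e (map_center e))
  refine ⟨F4, inferInstance, inferInstance, rfl, Φ.range, ?_, h.simple3, h.card3⟩
  rw [← map_center e, Subgroup.card_map_of_injective e.injective, card_center]

end Cfsg.Agent.S0478
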