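import Cfsg.Statements.S0484
import Cfsg.Agent.INV.ABG.OfCent
import Cfsg.Agent.INV.ABG.SDCore
import Cfsg.Agent.INV.GL2Sylow

set_option autoImplicit false
open Cfsg

namespace Cfsg.Agent.S0484

/-- If a finite simple group has an involution whose centralizer is isomorphic to the quotient of the general linear
group of dimension 2 over a finite field of odd order by a central subgroup of odd order, then it is isomorphic to the
projective special linear group of dimension 3 over that field, or is simple of order 7920. -/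
theorem result {G : Type*} [Group G] [Finite G]
    [IsSimpleGroup G] {F : Type*} [Field F] [Fintype F] (hF : Odd (Fintype.card F)) (Z : Subgroup (GL (Fin 2) F))
    [Z.Normal] (hZc : Z ≤ Subgroup.center (GL (Fin 2) F)) (hZo : Odd (Nat.card Z)) (t : G) (ht : orderOf t = 2)
    (hC : Nonempty (Subgroup.centralizer ({t} : Set G) ≃* (GL (Fin 2) F ⧸ Z))) :
    Nonempty (G ≃* Matrix.ProjectiveSpecialLinearGroup (Fin 3) F) ∨ Cfsg.IsM11 G := by
  obtain ⟨e⟩ := hC
  let φ := e.symm.toMonoidHom.comp (QuotientGroup.mk' Z)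
  have hφ : Function.Surjective φ := e.symm.surjective.comp (QuotientGroup.mk'_surjective Z)
  have hk : φ.ker = Z := by
    rw [← MonoidHom.comap_ker, (MonoidHom.ker_eq_bot_iff _).2 e.symm.injective,
      MonoidHom.comap_bot, QuotientGroup.ker_mk']
  have hn : (Matrix.SpecialLinearGroup.toGL (n := Fin 2) (R := F)).range.Normal := by
    rw [show (Matrix.SpecialLinearGroup.toGL (n := Fin 2) (R := F)).range =
      Matrix.GeneralLinearGroup.det.ker from Subgroup.ext fun g => ⟨by
        rintro ⟨s, rfl⟩; exact Units.ext s.2, fun h => ⟨⟨g.1, congrArg Units.val h⟩, Units.ext rfl⟩⟩]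
    infer_instance
  obtain ⟨P⟩ : Nonempty (Sylow 2 (GL (Fin 2) F)) := inferInstance
  have h4 : Fintype.card F % 4 = 3 ∨ Fintype.card F % 4 = 1 := by have := Nat.odd_iff.1 hF; omega
  obtain ⟨Λ, rfl, ⟨f⟩⟩ := CL.ABG.exists_ctx_of_cent hF ht φ hφ (hk ▸ hZo) P
    (h4.imp (CL.GL2Syl.gl_quasiDihedral P) (CL.GL2Syl.gl_wreathed P)) _
    Matrix.SpecialLinearGroup.toGL_injective hn
  rcases h4 with h4 | h4
  swap
  · exact .inl ((Λ.wr_class (CL.Fus.isWreathed_of_equiv f
      (CL.GL2Syl.gl_wreathed P h4))).resolve_right fun h => by omega).2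
  have hS := CL.Fus.isQuasiDihedral_of_equiv f (CL.GL2Syl.gl_quasiDihedral P h4)
  by_cases h3 : Fintype.card F = 3
  · exact Λ.sd_three hS h3
  obtain ⟨U, hUS, hU⟩ := CL.ABG.exists_four_le (Or.inl hS)
  obtain ⟨u, u1, u2, -⟩ := Λ.exists_invol (Or.inl hS) hUS hU
  refine .inl (Λ.sd_of_core hS h4 (by omega) ⟨u, u1, u2, fun o ho => ?_⟩)
  obtain ⟨o, rfl⟩ := hφ o
  obtain ⟨u, rfl⟩ := hφ u
  have h1 := CL.ABG.eq_bot_of_odd_SL2 hF
    (N := (oddCore _).comap (φ.comp Matrix.SpecialLinearGroup.toGL)) (Nat.not_even_iff_odd.1 fun h => by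
      obtain ⟨x, hx⟩ := exists_prime_orderOf_dvd_card' 2 h.two_dvd
      have h1 : φ (Matrix.SpecialLinearGroup.toGL x.1) = 1 := CL.ABG.eq_one_of_odd_of_sq
        (CL.ABG.LC.odd_of_mem x.2) (by
          rw [← map_mul, ← map_mul, ← Subgroup.coe_mul, CL.TwoInv.mul_self_of_orderOf_eq_two hx]
          simp)
      have := hZo.of_dvd_nat (Subgroup.orderOf_dvd_natCard Z (hk.le h1))
      rw [orderOf_injective _ Matrix.SpecialLinearGroup.toGL_injective, Subgroup.orderOf_coe, hx] at this
      exact absurd this (by decide))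
  refine Commute.map (Subgroup.mem_center_iff.1 (Matrix.GeneralLinearGroup.mem_center_iff_val_mem_range_scalar.2
    (Matrix.mem_range_scalar_of_commute_transvectionStruct fun τ => ?_)) u).symm φ
  obtain ⟨m, hm⟩ : ∃ m : Matrix.SpecialLinearGroup (Fin 2) F, m.1 = τ.toMatrix := ⟨⟨_, τ.det⟩, rfl⟩
  obtain ⟨s, hs⟩ := hn.conj_mem _ ⟨m, rfl⟩ o
  have h2 : s * m⁻¹ = 1 :=
    Subgroup.mem_bot.1 (h1.le (by
      rw [Subgroup.mem_comap, MonoidHom.comp_apply, map_mul, map_inv, hs, mul_assoc, mul_assoc, map_mul,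
        ← mul_assoc, map_mul, map_mul, map_inv, map_inv]
      exact mul_mem ho (Subgroup.Normal.conj_mem inferInstance _ (inv_mem ho) _)))
  rw [mul_inv_eq_one.1 h2, eq_mul_inv_iff_mul_eq] at hs
  exact hm ▸ congrArg Units.val hs

end Cfsg.Agent.S0484
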