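import Cfsg.Statements.S0485
import Cfsg.Agent.INV.ABG.OfCent
import Cfsg.Agent.INV.GL2Sylow
import Cfsg.Agent.CLAS.UniTwo
import Cfsg.Agent.CLAS.UniCongr

set_option autoImplicit false
open Cfsg

namespace Cfsg.Agent.S0485

/-- If a finite simple group has an involution whose centralizer is isomorphic to the quotient of the general unitary
group of dimension 2 for an odd prime power q (realised over the field with q² elements) by a central subgroup of odd
order, then it is isomorphic to the projective special unitary group of dimension 3 for the same q. -/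
theorem result {G : Type*} [Group G] [Finite G]
    [IsSimpleGroup G] {F : Type*} [Field F] [Fintype F] (q : ℕ) (hq : Odd q) (hF : Fintype.card F = q ^ 2)
    (Z : Subgroup (Cfsg.GU 2 F q)) [Z.Normal] (hZc : Z ≤ Subgroup.center (Cfsg.GU 2 F q)) (hZo : Odd (Nat.card Z))
    (t : G) (ht : orderOf t = 2) (hC : Nonempty (Subgroup.centralizer ({t} : Set G) ≃* (Cfsg.GU 2 F q ⧸ Z))) :
    Nonempty (G ≃* Cfsg.PSU 3 F q) := by
  obtain ⟨e⟩ := hC
  obtain ⟨p, hp⟩ := CharP.exists F
  obtain ⟨n, hpp, hn⟩ := FiniteField.card F p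
  have h0 : 1 < Fintype.card F := Fintype.one_lt_card
  obtain ⟨m, -, hm⟩ := (Nat.dvd_prime_pow hpp).1
    (show q ∣ p ^ (n : ℕ) from hn ▸ hF ▸ dvd_pow_self q two_ne_zero)
  have hm0 : m ≠ 0 := by
    rintro rfl
    rw [hF, hm] at h0
    simp at h0
  have := Fact.mk hpp
  have hK : Nat.card (GaloisField p m) = q := by rw [GaloisField.card p m hm0, hm]
  obtain ⟨i⟩ := CL.Uni.nonempty_SU_two_equiv hF hK
  have := Fintype.ofFinite (GaloisField p m)
  rw [Nat.card_eq_fintype_card] at hK
  let j : SU 2 F q →* GU 2 F q :=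
    (Matrix.SpecialLinearGroup.toGL.comp (SU 2 F q).subtype).codRestrict _ fun g => g.2
  have hj : Function.Injective j := fun a b hab =>
    Subtype.ext (Matrix.SpecialLinearGroup.toGL_injective (congrArg Subtype.val hab))
  have hr : (j.comp i.symm.toMonoidHom).range =
      (Matrix.GeneralLinearGroup.det.comp (GU 2 F q).subtype).ker := by
    ext g
    constructor
    · rintro ⟨s, rfl⟩
      exact Units.ext (i.symm s).1.2
    · intro h
      exact ⟨i ⟨⟨g.1, congrArg Units.val h⟩, g.2⟩, by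
        rw [MonoidHom.comp_apply, MulEquiv.coe_toMonoidHom, i.symm_apply_apply]
        exact Subtype.ext (Units.ext rfl)⟩
  obtain ⟨P⟩ : Nonempty (Sylow 2 (GU 2 F q)) := inferInstance
  have h4 : q % 4 = 1 ∨ q % 4 = 3 := by have := Nat.odd_iff.1 hq; omega
  obtain ⟨Λ, -, ⟨f⟩⟩ := CL.ABG.exists_ctx_of_cent (hK ▸ hq) ht
    (e.symm.toMonoidHom.comp (QuotientGroup.mk' Z))
    (e.symm.surjective.comp (QuotientGroup.mk'_surjective Z))
    (by rwa [← MonoidHom.comap_ker, (MonoidHom.ker_eq_bot_iff _).2 e.symm.injective,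
      MonoidHom.comap_bot, QuotientGroup.ker_mk']) P
    (h4.imp (CL.GL2Syl.gu_quasiDihedral hF P) (CL.GL2Syl.gu_wreathed hF P))
    (j.comp i.symm.toMonoidHom) (hj.comp i.symm.injective) (by rw [hr]; infer_instance)
  obtain ⟨E, _, _, hE⟩ := CL.ABG.exists_sq_field _ Λ.hF
  obtain ⟨g⟩ := CL.Uni.nonempty_psuCongr (hE.trans (hK ▸ hF.symm)) 3 q
  suffices Nonempty (G ≃* PSU 3 E (Fintype.card (GaloisField p m))) from
    (hK ▸ this : Nonempty (G ≃* PSU 3 E q)).map (·.trans g)
  rcases h4 with h4 | h4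
  · exact Λ.sd_minus (CL.Fus.isQuasiDihedral_of_equiv f (CL.GL2Syl.gu_quasiDihedral hF P h4))
      (by omega) E hE
  · exact ((Λ.wr_class (CL.Fus.isWreathed_of_equiv f
      (CL.GL2Syl.gu_wreathed hF P h4))).resolve_left fun h => by omega).2 E hE

end Cfsg.Agent.S0485
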