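import Cfsg.Statements.S0488
import Cfsg.Agent.TECH.S2L.Minimal

set_option autoImplicit false
open Cfsg

namespace Cfsg.Agent.S0488

/-- A finite minimal simple group is isomorphic to a projective special linear group of dimension 2 over a field with
2^p elements (p prime), 3^p elements (p an odd prime) or p elements (p = 5, or p a prime greater than 5 congruent to
2 or 3 modulo 5), or to the projective special linear group of dimension 3 over the field with 3 elements, or is simple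
with the order of a Suzuki group over the field with 2^p elements, p prime. -/
theorem result {G : Type*} [Group G] [Finite G] (hG : Cfsg.IsMinimalSimple G) :
    (∃ p : ℕ, p.Prime ∧ ∃ (F : Type) (_ : Field F) (_ : Fintype F), Fintype.card F = 2 ^ p ∧ Nonempty (G ≃* Matrix.ProjectiveSpecialLinearGroup (Fin 2) F)) ∨
      (∃ p : ℕ, p.Prime ∧ p ≠ 2 ∧ ∃ (F : Type) (_ : Field F) (_ : Fintype F), Fintype.card F = 3 ^ p ∧ Nonempty (G ≃* Matrix.ProjectiveSpecialLinearGroup (Fin 2) F)) ∨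
      (∃ p : ℕ, p.Prime ∧ (p = 5 ∨ (5 < p ∧ (p % 5 = 2 ∨ p % 5 = 3))) ∧ ∃ (F : Type) (_ : Field F) (_ : Fintype F), Fintype.card F = p ∧ Nonempty (G ≃* Matrix.ProjectiveSpecialLinearGroup (Fin 2) F)) ∨
      (∃ (F : Type) (_ : Field F) (_ : Fintype F), Fintype.card F = 3 ∧ Nonempty (G ≃* Matrix.ProjectiveSpecialLinearGroup (Fin 3) F)) ∨
      (Cfsg.IsSuzuki G ∧ ∃ p : ℕ, p.Prime ∧ Nat.card G = (2 ^ p) ^ 2 * ((2 ^ p) ^ 2 + 1) * (2 ^ p - 1)) := by
  rcases CL.S2L.minimal hG with ⟨F, _, _, ⟨r, hr, h⟩ | ⟨r, hr, h2, h⟩ | ⟨h1, h2⟩ | h, e⟩ | h |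
    ⟨F, _, _, m, hm, hp, hF, ⟨e⟩⟩
  · exact .inl ⟨r, hr, F, _, _, h, e⟩
  · exact .inr (.inl ⟨r, hr, h2, F, _, _, h, e⟩)
  · exact .inr (.inr (.inl ⟨_, h1, .inr h2, F, _, _, rfl, e⟩))
  · exact .inr (.inr (.inl ⟨5, by norm_num, .inl rfl, F, _, _, h, e⟩))
  · exact .inr (.inr (.inr (.inl h)))
  · have := CL.Sz.charP_two hF
    have hc : Nat.card G = (2 ^ (2 * m + 1)) ^ 2 * ((2 ^ (2 * m + 1)) ^ 2 + 1) * (2 ^ (2 * m + 1) - 1) := by
      rw [Nat.card_congr e.toEquiv, (CL.Sz.lieModel hF).card_G, CL.Sz.natCard_eq hF]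
    exact .inr (.inr (.inr (.inr ⟨⟨hG.1, m, hm, hc⟩, _, hp, hc⟩)))

end Cfsg.Agent.S0488
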