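import Cfsg.Statements.S0489
import Cfsg.Agent.FGS.TwoGen
import Cfsg.Agent.BLK.B0Pairs
import Cfsg.Agent.S0144
import Cfsg.Agent.ODD.BaseNorm
import Cfsg.Agent.FGS.FpfTower

set_option autoImplicit false
open Cfsg

namespace Cfsg.Agent.S0489

open Subgroup CL CL.MSS CL.TwoGen

theorem exists_prime {G : Type*} [Group G] [Finite G] (h : ¬ Group.IsSolvable G) :
    ∃ p : ℕ, p.Prime ∧ 5 ≤ p ∧ p ∣ Nat.card G := by
  by_contra! hn
  refine h (Cfsg.Agent.S0144.result 2 3 ((Nat.card G).factorization 2)
    ((Nat.card G).factorization 3) Nat.prime_two Nat.prime_three ?_)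
  refine Nat.eq_of_factorization_eq Nat.card_pos.ne' (by positivity) fun q => ?_
  rw [Nat.factorization_mul (by positivity) (by positivity), Nat.prime_two.factorization_pow,
    Nat.prime_three.factorization_pow]
  by_cases h2 : q = 2
  · subst h2; simp
  by_cases h3 : q = 3
  · subst h3; simp
  rw [Finsupp.add_apply, Finsupp.single_eq_of_ne h2, Finsupp.single_eq_of_ne h3]
  by_cases hq : q.Prime
  · refine Nat.factorization_eq_zero_of_not_dvd (hn q hq ?_)
    have := hq.two_le
    have h4 : q ≠ 4 := by rintro rfl; exact absurd hq (by decide)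
    omega
  · exact Nat.factorization_eq_zero_of_not_prime _ hq

theorem false_of_simple {G : Type*} [Group G] [Finite G] [IsSimpleGroup G]
    (hG : ¬ Group.IsSolvable G) (hp : ∀ H : Subgroup G, H ≠ ⊤ → Group.IsSolvable H)
    (h : ∀ a b : G, Group.IsSolvable (closure ({a, b} : Set G))) : False := by
  obtain ⟨p, hpp, h5, hd⟩ := exists_prime hG
  have := Fact.mk hpp
  have hp2 : p ≠ 2 := by omega
  have hps : ∀ a b : G, IsPSolvable p (closure ({a, b} : Set G)) := fun a b =>
    have := h a b
    isPSolvable_of_isSolvable p _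
  have h0 : pPrimeCore p G = ⊥ := (IsSimpleGroup.eq_bot_or_eq_top_of_normal _ inferInstance).resolve_right
    fun e => (Nat.Prime.coprime_iff_not_dvd hpp).1 (pPrimeCore_eq_top_iff.1 e).symm hd
  have hN : ∀ A : Subgroup G, IsPGroup p A → A ≠ ⊥ → normalizer (A : Set G) ≠ ⊤ := by
    intro A hA hA1 e
    have := normalizer_eq_top_iff.1 e
    rcases IsSimpleGroup.eq_bot_or_eq_top_of_normal A this with e | rfl
    · exact hA1 e
    · exact hG (isSolvable_of_isPGroup (hA.of_equiv topEquiv))
  obtain ⟨S⟩ : Nonempty (Sylow p G) := inferInstance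
  have hS1 : (S : Subgroup G) ≠ ⊥ := S.ne_bot_of_dvd_card hd
  by_cases hc : IsCyclic (S : Subgroup G)
  · have h1 := Blk.isPSolvable_of_pairs (p := p) _ G rfl
      (fun P => isCyclic_of_surjective _ (Sylow.equiv S P).surjective) fun x y _ _ => hps x y
    exact hN _ (isPGroup_pCore p G) (IsPSolvable.pCore_ne_bot h1 h0) (normalizer_eq_top_iff.2 inferInstance)
  have hC : ∀ x : G, orderOf x = p → CharPIn p (centralizer ({x} : Set G)) := by
    intro x hx
    have hx' := SPE.isPGroup_zpowers_of_orderOf hx
    refine PC.charPIn_iff.2 ⟨PC.isPConstrained_of_isSolvable (hp _ fun e => hN _ hx'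
      (by rw [Ne, zpowers_eq_bot]; exact SPE.ne_one_of_orderOf_eq hx) (eq_top_iff.2 ?_)), ?_⟩
    · rw [← e, ← PCyc.centralizer_zpowers]; exact centralizer_le_normalizer _
    · refine (map_eq_bot_iff_of_injective _ (subtype_injective _)).1 (eq_bot_iff.2 (h0 ▸ ?_))
      exact map_pPrimeCore_centralizer_le (fun a b => PC.isPConstrained_of_isSolvable (h a b)) hx'
  set Y := normalizer (centerThompsonAOf (S : Subgroup G) : Set G)
  have hSY : (S : Subgroup G) ≤ Y := ThA.le_normalizer_centerThompsonAOf _
  have hY : IsStronglyPEmbedded p Y := by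
    refine SPE.isStronglyPEmbedded_iff_normalizer.2 ⟨hN _ (S.isPGroup'.to_le
      (ThA.centerThompsonAOf_le _)) (ThA.centerThompsonAOf_ne_bot S.isPGroup' hS1),
      dvd_card_of_isPGroup_le S.isPGroup' hS1 hSY, fun A h1 h2 h3 => ?_⟩
    refine normalizer_le_of_charP hp2 S (fun A hA hA1 => ?_) h1 h2 h3
    have := hp _ (hN A hA hA1)
    exact ⟨charPIn_normalizer_of_centralizer hC hA hA1 (PC.isPConstrained_of_isSolvable this),
      PSt.not_involves_qd_of_not_involves_sl2 (PSt.not_involves_sl2_of_isSolvable h5)⟩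
  obtain ⟨x, y, hx, hy, hxy, hn⟩ : ∃ x y : (S : Subgroup G), orderOf x = p ∧ orderOf y = p ∧
      Commute x y ∧ y ∉ zpowers x := by
    by_contra! e
    rcases PCyc.isCyclic_or_quaternion S.isPGroup' e with e | e
    exacts [hc e, hp2 e.1]
  have hxy' : Commute (x : G) y := congrArg Subtype.val hxy
  rw [← orderOf_coe] at hx hy
  obtain ⟨g, hg, hne⟩ := exists_not_le_of_spe hY (hSY x.2) hx (hps x) (c := y)
    (centralizer_le_normalizer _ (PCyc.centralizer_zpowers (x : G) ▸ mem_centralizer_singleton_iff.2
      hxy'.symm))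
  have hle : zpowers (x : G) ⊔ zpowers (y : G) ≤ S := sup_le (zpowers_le.2 x.2) (zpowers_le.2 y.2)
  have : IsMulCommutative ↥(zpowers (x : G) ⊔ zpowers (y : G)) :=
    ThA.comm_sup inferInstance inferInstance
      (zpowers_le.2 (PCyc.centralizer_zpowers (y : G) ▸ mem_centralizer_singleton_iff.2 hxy'))
  refine hne (le_of_spe_of_noncyclic hY (hps _ _) (S.isPGroup'.to_le hle) (fun e => hn ?_)
    (sup_le (zpowers_le.2 (subset_closure (by simp))) (zpowers_le.2 hg)) (hle.trans hSY))
  have h2 : (y : G) ∈ zpowers (x : G) := by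
    rw [BG.eq_of_card_eq_of_cyclic e le_sup_left le_sup_right
      (by rw [Nat.card_zpowers, Nat.card_zpowers, hx, hy])]
    exact mem_zpowers _
  obtain ⟨k, hk⟩ := h2
  exact ⟨k, Subtype.ext hk⟩

universe u

theorem aux (n : ℕ) : ∀ (G : Type u) [Group G] [Finite G], Nat.card G = n →
    (∀ a b : G, Group.IsSolvable (closure ({a, b} : Set G))) → Group.IsSolvable G := by
  induction n using Nat.strong_induction_on with | _ n ih => ?_
  intro G _ _ hn h
  by_contra hG
  have hp : ∀ H : Subgroup G, H ≠ ⊤ → Group.IsSolvable H := fun H hH =>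
    ih _ (hn ▸ card_lt_of_ne_top hH) H rfl fun a b => by
      have := h a b
      refine Group.isSolvable_of_isSolvable_injective (f := (H.subtype.comp (Subgroup.subtype _)).codRestrict
        (closure ({(a : G), (b : G)} : Set G)) fun x => ?_) fun _ _ e =>
          Subtype.ext (Subtype.ext (congrArg (Subtype.val : closure ({(a : G), (b : G)} : Set G) → G) e))
      have := mem_map_of_mem H.subtype x.2
      rwa [MonoidHom.map_closure, Set.image_pair] at this
  have hnt : Nontrivial G := by
    by_contra! e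
    exact hG inferInstance
  have : IsSimpleGroup G := ⟨fun N hN => by
    by_contra! e
    have h1 := hp N e.2
    have h2 := ih _ (hn ▸ card_quotient_lt e.1) (G ⧸ N) rfl fun a b => by
      obtain ⟨a, rfl⟩ := QuotientGroup.mk_surjective a
      obtain ⟨b, rfl⟩ := QuotientGroup.mk_surjective b
      have := FH.isSolvable_map (h a b) (QuotientGroup.mk' N)
      rwa [MonoidHom.map_closure, Set.image_pair] at this
    exact hG (Group.isSolvable_of_ker_le_range N.subtype (QuotientGroup.mk' N) (by simp))⟩
  exact false_of_simple hG hp h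


/-- A finite group in which every two elements generate a solvable subgroup is solvable. -/
theorem result {G : Type*} [Group G] [Finite G]
    (h : ∀ a b : G, Group.IsSolvable (Subgroup.closure ({a, b} : Set G))) : Group.IsSolvable G := by
  exact aux _ G rfl h

end Cfsg.Agent.S0489
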