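import Mathlib
import Cfsg.Statements.S0490
import Cfsg.Agent.FGS.MinTriple2

set_option autoImplicit false
open Cfsg

namespace Cfsg.Agent.S0490

/-- A finite group fails to be solvable exactly when it has three non-identity elements with pairwise coprime orders
whose product is the identity. -/
theorem result {G : Type*} [Group G] [Finite G] :
    ¬ Group.IsSolvable G ↔ ∃ a b c : G, a ≠ 1 ∧ b ≠ 1 ∧ c ≠ 1 ∧ (orderOf a).Coprime (orderOf b) ∧
      (orderOf b).Coprime (orderOf c) ∧ (orderOf a).Coprime (orderOf c) ∧ a * b * c = 1 := by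
  constructor
  · intro hG
    obtain ⟨p, q, -, -, hpq, a, b, -, h, -⟩ := CL.MinTr.exists_tr hG
    exact ⟨a, b, (a * b)⁻¹, h.ha, h.hb, inv_ne_one.2 h.hab, h.cop_ab hpq,
      by rw [orderOf_inv]; exact h.cop_b, by rw [orderOf_inv]; exact h.cop_a, mul_inv_cancel _⟩
  · rintro ⟨a, b, c, ha, -, -, h1, h2, h3, e⟩ hG
    rw [eq_inv_of_mul_eq_one_right e, orderOf_inv] at h2 h3
    exact CL.MinTr.not_solvable ha h1 h3 h2 inferInstance

end Cfsg.Agent.S0490
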