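import Cfsg.Statements.S0518
import Cfsg.Agent.TECH.S4Pair

set_option autoImplicit false
open Cfsg

namespace Cfsg.Agent.S0518

/-- Let G be a finite group of characteristic 2 type with trivial 2-core in which every 2-local subgroup is solvable
and, for every Sylow 2-subgroup S, the centralizer of the set of central involutions of S lies in the normalizer of S.
Then either G has a strongly embedded subgroup, or the subgroup generated by the elements of odd order has two distinct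
maximal 2-local subgroups, each isomorphic to the symmetric group of degree 4, whose intersection has order 8. -/
theorem result {G : Type*} [Group G] [Finite G]
    (hL : Cfsg.IsCharacteristicTwoType G) (hO : Cfsg.pCore 2 G = ⊥)
    (hN : ∀ N : Subgroup G, Cfsg.IsTwoLocal N → Group.IsSolvable N)
    (hZ : ∀ S : Sylow 2 G,
      Subgroup.centralizer {z : G | z ∈ (S : Subgroup G) ∧ z ^ 2 = 1 ∧ ∀ s ∈ (S : Subgroup G), s * z = z * s} ≤
        Subgroup.normalizer ((S : Subgroup G) : Set G))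
    (H : Subgroup G) (hH : H = Subgroup.closure {g : G | Odd (orderOf g)}) :
    (∃ K : Subgroup G, Cfsg.IsStronglyEmbedded K) ∨
      ∃ M₁ M₂ : Subgroup H, M₁ ≠ M₂ ∧ Cfsg.IsMaximalTwoLocal M₁ ∧ Cfsg.IsMaximalTwoLocal M₂ ∧
        Nonempty (M₁ ≃* Equiv.Perm (Fin 4)) ∧ Nonempty (M₂ ≃* Equiv.Perm (Fin 4)) ∧ Nat.card ↥(M₁ ⊓ M₂) = 8 := by
  have : Fact (Nat.Prime 2) := ⟨Nat.prime_two⟩
  have hH' : H = Cfsg.pResidual 2 G := by
    rw [hH, Cfsg.pResidual]
    simp only [Nat.coprime_two_right]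
  subst hH'
  have zn : CL.JC.ZN G := ⟨hL, hN, fun S => le_trans (Subgroup.centralizer_le fun z hz =>
    Subgroup.subset_closure ⟨⟨hz.1, hz.2.2⟩, hz.2.1⟩) (hZ S)⟩
  obtain ⟨S⟩ : Nonempty (Sylow 2 G) := inferInstance
  have hS := CL.MSS.sylIn_top S
  have hS1 : (S : Subgroup G) ≠ ⊥ := hS.ne_bot (by rw [Subgroup.card_top]; exact hL.1.two_dvd)
  have hM : Cfsg.IsTwoLocal (Subgroup.normalizer (Cfsg.thompsonSubgroupOf 2 (S : Subgroup G) : Set G)) :=
    CL.JC.twoLocal_normalizer (hS.pgroup.to_le (CL.Th.thompsonSubgroupOf_le _))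
      (CL.Th.thompsonSubgroupOf_ne_bot_of_isPGroup hS.pgroup hS1)
  by_cases hE : Cfsg.straddlingTwoSubgroups
      (Subgroup.normalizer (Cfsg.thompsonSubgroupOf 2 (S : Subgroup G) : Set G)) = ∅
  · exact Or.inl ⟨_, (CL.JC.stronglyEmbedded_iff hO hM).2 hE⟩
  obtain ⟨T, hT⟩ := CL.JC.exists_maxStraddling (Set.nonempty_iff_ne_empty.2 hE)
  have h : CL.JC.Setup _ T := ⟨zn, ⟨S, hS, le_rfl⟩, hT⟩
  obtain ⟨K, hK⟩ := h.exists_outside
  obtain ⟨L, hp⟩ := h.exists_pin hK
  obtain ⟨K', L', hP⟩ := hp.exists_pair h.zn hO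
  have h1 := hP.iso.2.2
  rw [hP.p_eq, hP.symm.p_eq] at h1
  exact Or.inr (CL.JC.s4_pair hp.max hP.p₂.max hp.syl hP.p₂.syl hP.ne h1)

end Cfsg.Agent.S0518
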