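import Cfsg.Statements.S0647

set_option autoImplicit false
open Cfsg

namespace Cfsg.Agent.S0647

theorem centralizer_eq_of_max {S : Type*} [Group S] (A : Subgroup S) (hA : IsMulCommutative A)
    (hmax : ∀ B : Subgroup S, IsMulCommutative B → A ≤ B → B = A) :
    Subgroup.centralizer (A : Set S) = A := by
  refine le_antisymm (fun x hx => ?_) (Subgroup.le_centralizer_iff_isMulCommutative.2 hA)
  have hc : IsMulCommutative (Subgroup.closure (insert x (A : Set S))) := by
    apply Subgroup.isMulCommutative_closure
    rintro a (rfl | ha) b (rfl | hb)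
    · rfl
    · exact (hx b hb).symm
    · exact hx a ha
    · exact (Subgroup.le_centralizer_iff_isMulCommutative.2 hA) hb a ha
  have := hmax _ hc (fun a ha => Subgroup.subset_closure (Set.mem_insert_of_mem _ ha))
  rw [← this]
  exact Subgroup.subset_closure (Set.mem_insert _ _)

/-- For a nonempty family of maximal abelian subgroups of a finite group, the intersection of the family is the centre of the subgroup it generates, which is also the full centralizer of that subgroup. -/
theorem result {S : Type*} [Group S] [Finite S] (𝒜 : Set (Subgroup S)) (hne : 𝒜.Nonempty) (hab : ∀ A ∈ 𝒜, IsMulCommutative A) (hmax : ∀ A ∈ 𝒜, ∀ B : Subgroup S, IsMulCommutative B → A ≤ B → B = A) : sInf 𝒜 = sSup 𝒜 ⊓ Subgroup.centralizer ((sSup 𝒜 : Subgroup S) : Set S) ∧ sInf 𝒜 = Subgroup.centralizer ((sSup 𝒜 : Subgroup S) : Set S) := by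
  have h2 : sInf 𝒜 = Subgroup.centralizer ((sSup 𝒜 : Subgroup S) : Set S) := by
    apply le_antisymm
    · rw [Subgroup.le_centralizer_iff]
      refine sSup_le fun A hA => ?_
      rw [Subgroup.le_centralizer_iff, centralizer_eq_of_max A (hab A hA) (hmax A hA)]
      exact sInf_le hA
    · refine le_sInf fun A hA => ?_
      rw [← centralizer_eq_of_max A (hab A hA) (hmax A hA)]
      exact Subgroup.centralizer_le (le_sSup hA : A ≤ sSup 𝒜)
  refine ⟨?_, h2⟩
  rw [← h2]
  obtain ⟨A, hA⟩ := hne
  exact (inf_eq_right.2 ((sInf_le hA).trans (le_sSup hA))).symm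

end Cfsg.Agent.S0647
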