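import Cfsg.Statements.S0649
import Mathlib.GroupTheory.Nilpotent

set_option autoImplicit false
open Cfsg

namespace Cfsg.Agent.S0649

theorem exists_mem_normalizer {S : Type*} [Group S] [Group.IsNilpotent S] {H K : Subgroup S}
    (hHK : H ≤ K) (hne : ¬ K ≤ H) :
    ∃ x ∈ K, x ∈ Subgroup.normalizer (H : Set S) ∧ x ∉ H := by
  have hlt : H.subgroupOf K < ⊤ := by
    rw [lt_top_iff_ne_top]
    intro h
    exact hne (Subgroup.subgroupOf_eq_top.1 h)
  have := normalizerCondition_of_isNilpotent (G := K) _ hlt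
  obtain ⟨x, hx, hx'⟩ := SetLike.exists_of_lt this
  rw [← Subgroup.subgroupOf_normalizer_eq hHK] at hx
  exact ⟨x, x.2, hx, hx'⟩

/-- In the Glauberman replacement situation, if B does not normalize A then some element of B normalizes N_S(A) without normalizing A. -/
theorem result {S : Type*} [Group S] [Finite S] {p : ℕ} [Fact p.Prime] (hS : IsPGroup p S) (B : Subgroup S) [B.Normal] (hB2 : p = 2 → IsMulCommutative B) (A : Subgroup S) (hA : IsMulCommutative A) (hBA : ⁅B, B⁆ ≤ A) (hnot : ¬ B ≤ Subgroup.normalizer (A : Set S)) : ∃ b ∈ B, b ∈ Subgroup.normalizer ((Subgroup.normalizer (A : Set S)) : Set S) ∧ b ∉ Subgroup.normalizer (A : Set S) := by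
  haveI := hS.isNilpotent
  set N := Subgroup.normalizer (A : Set S) with hN
  obtain ⟨x, hx, hxN, hx'⟩ := exists_mem_normalizer (H := N) (K := N ⊔ B) le_sup_left
    (fun h => hnot (le_sup_right.trans h))
  have hx2 : x ∈ ((N ⊔ B : Subgroup S) : Set S) := hx
  rw [Subgroup.mul_normal] at hx2
  obtain ⟨n, hn, b, hb, rfl⟩ := hx2
  refine ⟨b, hb, ?_, fun h => hx' (N.mul_mem hn h)⟩
  have := (Subgroup.normalizer (N : Set S)).mul_mem
    ((Subgroup.normalizer (N : Set S)).inv_mem (Subgroup.le_normalizer hn)) hxN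
  simpa using this

end Cfsg.Agent.S0649
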