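import Cfsg.Statements.S0650
import Cfsg.Agent.PLOC.Replacement

set_option autoImplicit false
open Cfsg

namespace Cfsg.Agent.S0650


/-- The Glauberman replacement Theorem: from an abelian A ⊇ [B, B] not normalized by the normal subgroup B and a suitable b ∈ B one gets the abelian subgroup A* = (A ∩ b⁻¹Ab)[A, b] of the same order, containing [B, B], meeting B strictly more than A does but not containing B, mutually normalizing with A, with strictly larger normalizer containing b, and (p odd) of no larger exponent. -/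
theorem result {S : Type*} [Group S] [Finite S] {p : ℕ} [Fact p.Prime] (hS : IsPGroup p S) (B : Subgroup S) [B.Normal] (hB2 : p = 2 → IsMulCommutative B) (A : Subgroup S) (hA : IsMulCommutative A) (hBA : ⁅B, B⁆ ≤ A) (hnot : ¬ B ≤ Subgroup.normalizer (A : Set S)) (b : S) (hb : b ∈ B) (hbN : b ∈ Subgroup.normalizer ((Subgroup.normalizer (A : Set S)) : Set S)) (hbA : b ∉ Subgroup.normalizer (A : Set S)) : Nat.card ↥((A ⊓ A.map (MulAut.conj (b⁻¹)).toMonoidHom) ⊔ Subgroup.closure {g : S | ∃ a ∈ A, g = a * b⁻¹ * a⁻¹ * b}) = Nat.card A ∧ IsMulCommutative ↥((A ⊓ A.map (MulAut.conj (b⁻¹)).toMonoidHom) ⊔ Subgroup.closure {g : S | ∃ a ∈ A, g = a * b⁻¹ * a⁻¹ * b}) ∧ ⁅B, B⁆ ≤ ((A ⊓ A.map (MulAut.conj (b⁻¹)).toMonoidHom) ⊔ Subgroup.closure {g : S | ∃ a ∈ A, g = a * b⁻¹ * a⁻¹ * b}) ∧ A ⊓ B < ((A ⊓ A.map (MulAut.conj (b⁻¹)).toMonoidHom) ⊔ Subgroup.closure {g : S | ∃ a ∈ A, g = a * b⁻¹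 * a⁻¹ * b}) ⊓ B ∧ ((A ⊓ A.map (MulAut.conj (b⁻¹)).toMonoidHom) ⊔ Subgroup.closure {g : S | ∃ a ∈ A, g = a * b⁻¹ * a⁻¹ * b}) ⊓ B < B ∧ A ≤ Subgroup.normalizer (((A ⊓ A.map (MulAut.conj (b⁻¹)).toMonoidHom) ⊔ Subgroup.closure {g : S | ∃ a ∈ A, g = a * b⁻¹ * a⁻¹ * b} : Subgroup S) : Set S) ∧ ((A ⊓ A.map (MulAut.conj (b⁻¹)).toMonoidHom) ⊔ Subgroup.closure {g : S | ∃ a ∈ A, g = a * b⁻¹ * a⁻¹ * b}) ≤ Subgroup.normalizer (A : Set S) ∧ b ∈ Subgroup.normalizer (((A ⊓ A.map (MulAut.conj (b⁻¹)).toMonoidHom) ⊔ Subgroup.closure {g : S | ∃ a ∈ A, g = a * b⁻¹ * a⁻¹ * b} : Subgroup S) : Set S) ∧ Subgroup.normalizer (A : Set S) < Subgroup.normalizer (((A ⊓ A.map (MulAut.conj (b⁻¹)).toMonoidHom) ⊔ Subgroup.closure {g : S | ∃ a ∈ A, g = a * b⁻¹ * a⁻¹ * b} : Subgroup S) : Set S) ∧ (p ≠ 2 → Monoid.exponent ↥((A ⊓ A.map (MulAut.conj (b⁻¹)).toMonoidHom) ⊔ Subgroup.closure {g : S | ∃ a ∈ A, g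 = a * b⁻¹ * a⁻¹ * b}) ∣ Monoid.exponent A) := by
  rw [CL.ZJ.commWith_eq]
  change Nat.card (CL.ZJ.repl A b) = _ ∧ IsMulCommutative (CL.ZJ.repl A b) ∧
    _ ≤ CL.ZJ.repl A b ∧ _ < CL.ZJ.repl A b ⊓ B ∧ CL.ZJ.repl A b ⊓ B < B ∧
    A ≤ Subgroup.normalizer (CL.ZJ.repl A b : Set S) ∧ CL.ZJ.repl A b ≤ _ ∧
    b ∈ Subgroup.normalizer (CL.ZJ.repl A b : Set S) ∧
    _ < Subgroup.normalizer (CL.ZJ.repl A b : Set S) ∧
    (p ≠ 2 → Monoid.exponent (CL.ZJ.repl A b) ∣ _)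
  have hAN : A ≤ Subgroup.normalizer (A : Set S) := Subgroup.le_normalizer
  have hNB : Subgroup.normalizer (A : Set S) ≤ Subgroup.normalizer (B : Set S) :=
    Subgroup.le_normalizer_of_normal
  have hodd : ∀ w ∈ ⁅B, B⁆, w ^ 2 = 1 → w = 1 := by
    intro w hw h
    by_cases h2 : p = 2
    · rw [Subgroup.commutator_self_eq_bot_iff.2 (hB2 h2)] at hw
      exact hw
    · exact CL.ZJ.eq_one_of_sq_of_isPGroup h2 (hS.to_subgroup ⊤) (Subgroup.mem_top w) h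
  have hcomm := CL.ZJ.comm_repl hA hBA hAN le_rfl hNB hb hbN hodd
  have hN := CL.ZJ.N_le_normalizer_repl hBA hAN le_rfl hNB hb hbN
  have hb' := CL.ZJ.mem_normalizer_repl hBA (hAN.trans hNB) hb
  have hle := CL.ZJ.repl_le_N hAN hbN
  refine ⟨CL.ZJ.card_repl hBA hAN le_rfl hNB hb hbN hcomm, hcomm, CL.ZJ.derived_le_repl hBA hb,
    CL.ZJ.inf_lt_repl_inf hBA (hAN.trans hNB) hb hbA, ?_, hAN.trans hN, hle, hb', ?_, ?_⟩
  · exact lt_of_le_not_ge inf_le_right fun h => hbA (hle (h hb).1)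
  · exact lt_of_le_not_ge hN fun h => hbA (h hb')
  · intro h2
    rw [Monoid.exponent_dvd_iff_forall_pow_eq_one]
    intro x
    obtain ⟨k, hk⟩ := isPGroup_iff_exponent_eq_pow.1 (hS.to_subgroup A)
    have hodd' : Odd (Monoid.exponent A) := by
      rw [hk]
      exact ((Fact.out : p.Prime).odd_of_ne_two h2).pow
    refine Subtype.ext ?_
    have := CL.ZJ.pow_eq_one_of_mem_repl hA hAN le_rfl hbN hcomm hodd' (fun a ha => by
      simpa using congrArg Subtype.val (Monoid.pow_exponent_eq_one (⟨a, ha⟩ : A))) x x.2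
    simpa using this

end Cfsg.Agent.S0650
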