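import Cfsg.Statements.S0651
import Cfsg.Agent.PLOC.Replacement
import Cfsg.Agent.PLOC.ThompsonA

set_option autoImplicit false
open Cfsg

namespace Cfsg.Agent.S0651


/-- For odd p and D normal in the p-group S, the abelian subgroups of D of largest order satisfy the replacement property: a class-2 normal subgroup B of S with a member containing [B, B] but not B normalizes some such member. -/
theorem result {S : Type*} [Group S] [Finite S] {p : ℕ} [Fact p.Prime] (hS : IsPGroup p S) (hp : p ≠ 2) (D : Subgroup S) [D.Normal] : ∀ (B : Subgroup S) [B.Normal], ⁅⁅B, B⁆, B⁆ = ⊥ → (∃ U ∈ (Set.image (fun A : Subgroup ↥D => A.map D.subtype) (Cfsg.maxAbelianSubgroups ↥D)), ⁅B, B⁆ ≤ U ∧ ¬ B ≤ U) → ∃ A ∈ (Set.image (fun A : Subgroup ↥D => A.map D.subtype) (Cfsg.maxAbelianSubgroups ↥D)), ⁅B, B⁆ ≤ A ∧ ¬ B ≤ A ∧ B ≤ Subgroup.normalizer (A : Set S) := by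
  intro B _ _ hU
  rw [CL.ThA.image_maxAbelianSubgroups] at hU ⊢
  obtain ⟨A, ⟨hA, hBA, hn⟩, hmax⟩ := Set.exists_max_image
    {A | A ∈ CL.ThA.maxAbIn D ∧ ⁅B, B⁆ ≤ A ∧ ¬ B ≤ A}
    (fun A => Nat.card (A ⊓ B : Subgroup S)) (Set.toFinite _) hU
  refine ⟨A, hA, hBA, hn, ?_⟩
  by_contra hnot
  obtain ⟨A', h1, h2, h3, h4, h5, -, ⟨b, hb, h7⟩, -⟩ := CL.ZJ.exists_replacement
    (hS.to_subgroup ⊤) le_top le_top Subgroup.le_normalizer_of_normal hA.2.1 hBA
    (fun w _ => CL.ZJ.eq_one_of_sq_of_isPGroup hp (hS.to_subgroup ⊤) (Subgroup.mem_top w)) hnot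
  have hA' : A' ∈ CL.ThA.maxAbIn D := CL.ThA.mem_maxAbIn_of_card_le hA (h7.trans (sup_le hA.1
    (CL.MSS.cj_le_of_mem_normalizer hA.1
      (Subgroup.le_normalizer_of_normal (Subgroup.mem_top b))))) h1 h2.ge
  exact absurd (hmax A' ⟨hA', h3, fun h => hnot (h.trans (h5.trans inf_le_right))⟩)
    (not_le.2 (CL.PN.card_lt_of_lt h4))

end Cfsg.Agent.S0651
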