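import Cfsg.Statements.S0652
import Cfsg.Agent.PLOC.Replacement
import Cfsg.Agent.PLOC.Thompson

set_option autoImplicit false
open Cfsg

namespace Cfsg.Agent.S0652

theorem image_max {G : Type*} [Group G] (p : ℕ) (P : Subgroup G) :
    (fun A : Subgroup P => A.map P.subtype) '' maxElementaryAbelianSubgroups p P =
      CL.Th.maxElemAbIn p P := by
  have hP : (⊤ : Subgroup P).map P.subtype = P := by
    rw [← MonoidHom.range_eq_map, Subgroup.range_subtype]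
  ext A
  constructor
  · rintro ⟨B, hB, rfl⟩
    rw [← CL.Th.maxElemAbIn_top] at hB
    have := CL.Th.map_mem_maxElemAbIn P.subtype_injective hB
    rwa [hP] at this
  · intro hA
    obtain ⟨h1, h2⟩ := CL.Th.comap_mem_maxElemAbIn (P := ⊤) P.subtype_injective (hP.symm ▸ hA)
    rw [CL.Th.maxElemAbIn_top] at h1
    exact ⟨_, h1, h2⟩

/-- For odd p and D normal in the p-group S, the elementary abelian subgroups of D of largest order satisfy the replacement property for class-2 normal subgroups of S. -/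
theorem result {S : Type*} [Group S] [Finite S] {p : ℕ} [Fact p.Prime] (hS : IsPGroup p S) (hp : p ≠ 2) (D : Subgroup S) [D.Normal] : ∀ (B : Subgroup S) [B.Normal], ⁅⁅B, B⁆, B⁆ = ⊥ → (∃ U ∈ (Set.image (fun A : Subgroup ↥D => A.map D.subtype) (Cfsg.maxElementaryAbelianSubgroups p ↥D)), ⁅B, B⁆ ≤ U ∧ ¬ B ≤ U) → ∃ A ∈ (Set.image (fun A : Subgroup ↥D => A.map D.subtype) (Cfsg.maxElementaryAbelianSubgroups p ↥D)), ⁅B, B⁆ ≤ A ∧ ¬ B ≤ A ∧ B ≤ Subgroup.normalizer (A : Set S) := by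
  intro B _ _ hU
  rw [image_max] at hU ⊢
  obtain ⟨A, ⟨hA, hBA, hn⟩, hmax⟩ := Set.exists_max_image
    {A | A ∈ CL.Th.maxElemAbIn p D ∧ ⁅B, B⁆ ≤ A ∧ ¬ B ≤ A}
    (fun A => Nat.card (A ⊓ B : Subgroup S)) (Set.toFinite _) hU
  refine ⟨A, hA, hBA, hn, ?_⟩
  by_contra hnot
  obtain ⟨A', h1, h2, h3, h4, h5, -, ⟨b, hb, h7⟩, h8⟩ := CL.ZJ.exists_replacement
    (hS.to_subgroup ⊤) le_top le_top Subgroup.le_normalizer_of_normal hA.2.1.1 hBA
    (fun w _ => CL.ZJ.eq_one_of_sq_of_isPGroup hp (hS.to_subgroup ⊤) (Subgroup.mem_top w)) hnot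
  have hA' : A' ∈ CL.Th.maxElemAbIn p D := CL.Th.mem_maxElemAbIn_of_card_le hA
    (h7.trans (sup_le hA.1 (CL.MSS.cj_le_of_mem_normalizer hA.1
      (Subgroup.le_normalizer_of_normal (Subgroup.mem_top b)))))
    ⟨h1, h8 p ((Fact.out : p.Prime).odd_of_ne_two hp) hA.2.1.2⟩ h2.ge
  exact absurd (hmax A' ⟨hA', h3, fun h => hnot (h.trans (h5.trans inf_le_right))⟩)
    (not_le.2 (CL.PN.card_lt_of_lt h4))

end Cfsg.Agent.S0652
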