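import Cfsg.Statements.S0654
import Cfsg.Agent.PLOC.ZJ

set_option autoImplicit false
open Cfsg

namespace Cfsg.Agent.S0654


/-- The ZJ-Theorem for the elementary-abelian Thompson subgroup: for an odd prime p, a finite group G with C_G(O_p(G)) ≤ O_p(G) acting p-stably on its normal p-subgroups, and a Sylow p-subgroup S of G, the subgroup generated by the elements of order dividing p in Z(J_e(S)) is characteristic in G. -/
theorem result {G : Type*} [Group G] [Finite G] {p : ℕ} [Fact p.Prime] (hp : p ≠ 2) (hc : Subgroup.centralizer (Cfsg.pCore p G : Set G) ≤ Cfsg.pCore p G) (hst : ∀ (P : Subgroup G) [P.Normal], IsPGroup p P → Cfsg.IsPStableOn p P) (S : Sylow p G) : ((Cfsg.omegaCenterThompson p ↥(S : Subgroup G)).map (S : Subgroup G).subtype).Characteristic := by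
  rw [CL.Th.map_omegaCenterThompson_subtype]
  refine CL.ZJ.characteristic_of_normal_of_natural
    (fun Q => Cfsg.omegaOne p (Cfsg.centerThompsonOf p Q))
    (fun φ Q => by
      rw [CL.Th.map_omegaOne _ φ.injective, CL.Th.map_centerThompsonOf Q φ.injective]) S ?_
  exact CL.ZJ.omegaOne_centerThompsonOf_normal hp S (CL.ZJ.isStronglyClosed_self _) hc
    fun V _ hV => CL.ZJ.qstable_of_isPStableOn (hst V hV)

end Cfsg.Agent.S0654
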