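import Cfsg.Statements.S0655

set_option autoImplicit false
open Cfsg

namespace Cfsg.Agent.S0655

theorem mem_of_centralizes {S : Type*} [Group S] [Finite S] {p : ℕ} {A : Subgroup S}
    (hA : A ∈ Cfsg.maxElementaryAbelianSubgroups p S) {x : S}
    (hx : x ∈ Subgroup.centralizer (A : Set S)) (hxp : x ^ p = 1) : x ∈ A := by
  have hcomm : ∀ a ∈ insert x (A : Set S), ∀ b ∈ insert x (A : Set S), a * b = b * a := by
    rintro a (rfl | ha) b (rfl | hb)
    · rfl
    · exact (hx b hb).symm
    · exact hx a ha
    · exact (Subgroup.le_centralizer_iff_isMulCommutative.2 hA.1.1) hb a ha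
  have hc : IsMulCommutative (Subgroup.closure (insert x (A : Set S))) :=
    Subgroup.isMulCommutative_closure hcomm
  have he : Cfsg.IsElementaryAbelian p (Subgroup.closure (insert x (A : Set S))) := by
    refine ⟨hc, fun a ha => ?_⟩
    induction ha using Subgroup.closure_induction with
    | mem a ha =>
      rcases ha with rfl | ha
      · exact hxp
      · exact hA.1.2 a ha
    | one => simp
    | mul a b ha hb iha ihb =>
      have : Commute a b := (Subgroup.le_centralizer_iff_isMulCommutative.2 hc) hb a ha
      rw [this.mul_pow, iha, ihb, one_mul]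
    | inv a ha iha => rw [inv_pow, iha, inv_one]
  have hle : A ≤ Subgroup.closure (insert x (A : Set S)) :=
    fun a ha => Subgroup.subset_closure (Set.mem_insert_of_mem _ ha)
  have := Subgroup.eq_of_le_of_card_ge hle (hA.2 _ he)
  rw [this]
  exact Subgroup.subset_closure (Set.mem_insert _ _)

theorem nonempty_max (S : Type*) [Group S] [Finite S] (p : ℕ) :
    (Cfsg.maxElementaryAbelianSubgroups p S).Nonempty := by
  obtain ⟨A, hA, hmax⟩ := Set.exists_max_image {A : Subgroup S | Cfsg.IsElementaryAbelian p A}
    (fun A => Nat.card A) (Set.toFinite _) ⟨⊥, inferInstance, by simp⟩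
  exact ⟨A, hA, fun B hB => hmax B hB⟩

/-- In a p-group the intersection of all elementary abelian subgroups of largest order is the subgroup generated by the elements of order dividing p in the centre (equivalently the centralizer) of the elementary-version Thompson subgroup. -/
theorem result {S : Type*} [Group S] [Finite S] {p : ℕ} [Fact p.Prime] (hS : IsPGroup p S) : sInf (Cfsg.maxElementaryAbelianSubgroups p S) = Cfsg.omegaCenterThompson p S ∧ Cfsg.omegaCenterThompson p S = Cfsg.omegaOne p (Subgroup.centralizer (Cfsg.thompsonSubgroup p S : Set S)) := by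
  obtain ⟨A₀, hA₀⟩ := nonempty_max S p
  have h1 : sInf (Cfsg.maxElementaryAbelianSubgroups p S) ≤ Cfsg.omegaCenterThompson p S := by
    intro x hx
    rw [Subgroup.mem_sInf] at hx
    refine Subgroup.subset_closure ⟨⟨le_sSup hA₀ (hx A₀ hA₀), ?_⟩, hA₀.1.2 x (hx A₀ hA₀)⟩
    have : Subgroup.zpowers x ≤ Subgroup.centralizer (Cfsg.thompsonSubgroup p S : Set S) := by
      rw [Subgroup.le_centralizer_iff]
      refine sSup_le fun A hA => ?_
      rw [Subgroup.le_centralizer_iff, Subgroup.zpowers_le]
      exact (Subgroup.le_centralizer_iff_isMulCommutative.2 hA.1.1) (hx A hA)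
    exact this (Subgroup.mem_zpowers x)
  have h2 : Cfsg.omegaCenterThompson p S ≤
      Cfsg.omegaOne p (Subgroup.centralizer (Cfsg.thompsonSubgroup p S : Set S)) :=
    Subgroup.closure_mono fun x hx => ⟨hx.1.2, hx.2⟩
  have h3 : Cfsg.omegaOne p (Subgroup.centralizer (Cfsg.thompsonSubgroup p S : Set S)) ≤
      sInf (Cfsg.maxElementaryAbelianSubgroups p S) := by
    refine (Subgroup.closure_le _).2 fun x hx => ?_
    refine Subgroup.mem_sInf.2 fun A hA => mem_of_centralizes hA ?_ hx.2
    exact Subgroup.centralizer_le (le_sSup hA : A ≤ Cfsg.thompsonSubgroup p S) hx.1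
  exact ⟨le_antisymm h1 (h2.trans h3), le_antisymm h2 (h3.trans h1)⟩

end Cfsg.Agent.S0655
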