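import Cfsg.Statements.S0711
import Cfsg.Agent.PERM.JordanCycle
import Cfsg.Agent.PERM.MultiTrans

set_option autoImplicit false
open Cfsg

namespace Cfsg.Agent.S0711

open MulAction Equiv Equiv.Perm

theorem card_support_comm {α : Type*} [Fintype α] [DecidableEq α] (g x : Perm α) (A B : Finset α)
    (hA : A ⊆ g.support) (hx : ∀ a ∈ A, x a = a) (hB : B ⊆ g.support)
    (hB' : B ⊆ (x * g * x⁻¹).support) :
    (g⁻¹ * (x * g * x⁻¹)).support.card + B.card + A.card ≤
      2 * g.support.card + (A.filter fun y => g y ∉ A).card := by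
  have h1 : (g⁻¹ * (x * g * x⁻¹)).support ⊆
      (g.support ∪ (x * g * x⁻¹).support) \ A.filter fun y => g y ∈ A := by
    intro y hy
    refine Finset.mem_sdiff.2 ⟨?_, fun h => ?_⟩
    · have := support_mul_le _ _ hy
      rwa [support_inv] at this
    · obtain ⟨h2, h3⟩ := Finset.mem_filter.1 h
      apply mem_support.1 hy
      have h4 : x⁻¹ y = y := by rw [Perm.inv_eq_iff_eq, hx y h2]
      simp only [Perm.mul_apply, h4, hx _ h3]
      simp
  have h2 := Finset.card_le_card h1
  have h3 : (A.filter fun y => g y ∈ A) ⊆ g.support ∪ (x * g * x⁻¹).support :=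
    (Finset.filter_subset _ _).trans (hA.trans Finset.subset_union_left)
  rw [Finset.card_sdiff_of_subset h3] at h2
  have h4 := Finset.card_union_add_card_inter g.support (x * g * x⁻¹).support
  rw [card_support_conj] at h4
  have h5 := Finset.card_le_card (Finset.subset_inter hB hB')
  have h6 := Finset.card_filter_add_card_filter_not (s := A) fun y => g y ∈ A
  have h7 := Finset.card_le_card h3
  omega

theorem exists_almost_invariant {α : Type*} [Fintype α] [DecidableEq α] [Nonempty α] (g : Perm α)
    (j : ℕ) (hj : j ≤ g.support.card) :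
    ∃ A : Finset α, A ⊆ g.support ∧ A.card = j ∧ ∃ a, ∀ y ∈ A, g y ∉ A → y = a := by
  induction j with
  | zero => exact ⟨∅, by simp, rfl, Classical.arbitrary α, by simp⟩
  | succ j ih =>
    obtain ⟨A, hA, hc, a, ha⟩ := ih (by omega)
    by_cases h : a ∈ A ∧ g a ∉ A
    · refine ⟨insert (g a) A, Finset.insert_subset (apply_mem_support.2 (hA h.1)) hA,
        by rw [Finset.card_insert_of_notMem h.2, hc], g a, fun y hy hy' => ?_⟩
      rcases Finset.mem_insert.1 hy with rfl | hy
      · rfl
      · rw [Finset.mem_insert, not_or] at hy'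
        exact absurd (congrArg g (ha y hy hy'.2)) hy'.1
    · obtain ⟨s, hs, hsA⟩ := Finset.exists_mem_notMem_of_card_lt_card
        (show A.card < g.support.card by omega)
      refine ⟨insert s A, Finset.insert_subset hs hA,
        by rw [Finset.card_insert_of_notMem hsA, hc], s, fun y hy hy' => ?_⟩
      rcases Finset.mem_insert.1 hy with rfl | hy
      · rfl
      · rw [Finset.mem_insert, not_or] at hy'
        obtain rfl := ha y hy hy'.2
        exact absurd ⟨hy, hy'.2⟩ h

/-- A `k`-transitive permutation group (`k ≥ 3`) with a non-identity element of support smaller than `2k - 2` contains a non-identity element of support at most 3, and therefore contains the alternating group. -/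
theorem result {α : Type*} [Fintype α] [DecidableEq α] (G : Subgroup (Equiv.Perm α)) {k : ℕ} (hk : 3 ≤ k) (hkn : k ≤ Fintype.card α) (hG : MulAction.IsMultiplyPretransitive G α k) (g : Equiv.Perm α) (hg : g ∈ G) (hg1 : g ≠ 1) (hsupp : g.support.card < 2 * k - 2) : (∃ h : Equiv.Perm α, h ∈ G ∧ h ≠ 1 ∧ h.support.card ≤ 3) ∧ alternatingGroup α ≤ G := by
  rw [← Nat.card_eq_fintype_card] at hkn
  have key : ∃ h : Equiv.Perm α, h ∈ G ∧ h ≠ 1 ∧ h.support.card ≤ 3 := by
    induction hm : g.support.card using Nat.strong_induction_on generalizing g with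
    | _ m ih =>
    by_cases h3 : m ≤ 3
    · exact ⟨g, hg, hg1, by omega⟩
    suffices h : ∃ g' ∈ G, g' ≠ 1 ∧ g'.support.card < m by
      obtain ⟨g', h1, h2, h4⟩ := h
      exact ih _ h4 g' h1 h2 (by omega) rfl
    have hmn : m ≤ Fintype.card α := hm ▸ Finset.card_le_univ _
    by_cases hn : m = Fintype.card α
    · obtain ⟨a, b, c, -, -, -, hab, hac, hbc⟩ :=
        (Finset.two_lt_card_iff (s := g.support)).1 (by omega)
      obtain ⟨x, hx, hxb⟩ := CL.Perm.exists_fix_smul_eq_of_isMultiplyPretransitive hG hkn {a}
        (by simp; omega) (a := b) (b := c) (by simpa using hab.symm) (by simpa using hac.symm)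
      refine ⟨x, x.2, fun e => hbc (by rw [← hxb]; show b = x.1 b; rw [e]; rfl), ?_⟩
      rw [hn]
      refine Finset.card_lt_card ⟨Finset.subset_univ _, fun h => ?_⟩
      exact mem_support.1 (h (Finset.mem_univ a)) (hx a (by simp))
    obtain ⟨d0, -, hd0⟩ := Finset.exists_mem_notMem_of_card_lt_card
      (show g.support.card < (Finset.univ : Finset α).card by rw [Finset.card_univ]; omega)
    have : Nonempty α := ⟨d0⟩
    obtain ⟨A, hA, hAc, a, ha⟩ := exists_almost_invariant g (min m k - 1) (by omega)
    have hL : (A.filter fun y => g y ∉ A).card ≤ 1 :=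
      (Finset.card_le_card (fun y hy => Finset.mem_singleton.2
        (ha y (Finset.mem_filter.1 hy).1 (Finset.mem_filter.1 hy).2))).trans
        (Finset.card_singleton a).le
    have hAx : ∀ x : Perm α, (∀ a ∈ A, x a = a) → A ⊆ (x * g * x⁻¹).support := fun x hx y hy => by
      rw [support_conj, Finset.mem_map]
      exact ⟨y, hA hy, hx y hy⟩
    by_cases hc : m ≤ k ∨ ¬ (a ∈ A ∧ g a ∉ A)
    · obtain ⟨c, hc1, hc2⟩ := Finset.exists_mem_notMem_of_card_lt_card
        (show A.card < g.support.card by omega)
      obtain ⟨x, hx, hxc⟩ := CL.Perm.exists_fix_smul_eq_of_isMultiplyPretransitive hG hkn A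
        (by omega) (a := c) (b := d0) hc2 (fun h => hd0 (hA h))
      refine ⟨g⁻¹ * (x.1 * g * x.1⁻¹),
        G.mul_mem (G.inv_mem hg) (G.mul_mem (G.mul_mem x.2 hg) (G.inv_mem x.2)), fun e => ?_, ?_⟩
      · rw [inv_mul_eq_one] at e
        apply hd0
        rw [e, support_conj, Finset.mem_map]
        exact ⟨c, hc1, hxc⟩
      · have := card_support_comm g x.1 A A hA hx hA (hAx _ hx)
        rcases hc with hc | hc
        · omega
        · have h0 : (A.filter fun y => g y ∉ A).card = 0 := by
            rw [Finset.card_eq_zero, Finset.filter_eq_empty_iff]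
            intro y hy hy'
            obtain rfl := ha y hy hy'
            exact hc ⟨hy, hy'⟩
          omega
    · push Not at hc
      obtain ⟨hc1, hc2, hc3⟩ := hc
      obtain ⟨d, hd1, hd2⟩ := Finset.exists_mem_notMem_of_card_lt_card
        (show (insert (g a) A).card < g.support.card by
          rw [Finset.card_insert_of_notMem hc3]; omega)
      rw [Finset.mem_insert, not_or] at hd2
      obtain ⟨x, hx, hxc⟩ := CL.Perm.exists_fix_smul_eq_of_isMultiplyPretransitive hG hkn A
        (by omega) (a := g a) (b := d) hc3 hd2.2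
      refine ⟨g⁻¹ * (x.1 * g * x.1⁻¹),
        G.mul_mem (G.inv_mem hg) (G.mul_mem (G.mul_mem x.2 hg) (G.inv_mem x.2)), fun e => ?_, ?_⟩
      · rw [inv_mul_eq_one] at e
        apply hd2.1
        have h4 : x.1⁻¹ a = a := by rw [Perm.inv_eq_iff_eq]; exact (hx a hc2).symm
        rw [e, Perm.mul_apply, Perm.mul_apply, h4]
        exact hxc.symm
      · have := card_support_comm g x.1 A (insert d A) hA hx (Finset.insert_subset hd1 hA)
          (Finset.insert_subset (by
            rw [support_conj, Finset.mem_map]
            exact ⟨g a, apply_mem_support.2 (hA hc2), hxc⟩) (hAx _ hx))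
        rw [Finset.card_insert_of_notMem hd2.2] at this
        omega
  refine ⟨key, ?_⟩
  obtain ⟨h, h1, h2, h3⟩ := key
  exact CL.Perm.alternatingGroup_le_of_card_support_le_three G
    (isPreprimitive_of_is_two_pretransitive
      (isMultiplyPretransitive_of_le (n := k) (by omega) hkn)) h1 h2 h3

end Cfsg.Agent.S0711
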