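import Cfsg.Statements.S0732
import Cfsg.Agent.PERM.ZassAffine
import Cfsg.Agent.PERM.ZassFeit
import Cfsg.Agent.SPOR.GraphIso

set_option autoImplicit false
open Cfsg

namespace Cfsg.Agent.S0732

open CL.Zass

/-- `PGL` over isomorphic rings. -/
noncomputable def pglCongr {R S : Type*} [CommRing R] [CommRing S] (e : R ≃+* S) :
    Matrix.ProjGenLinGroup (Fin 2) R ≃* Matrix.ProjGenLinGroup (Fin 2) S :=
  CL.Graph.centerQuotCongr (MonoidHom.toMulEquiv (Matrix.GeneralLinearGroup.map (e : R →+* S))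
    (Matrix.GeneralLinearGroup.map (e.symm : S →+* R))
    (by ext A i j; simp) (by ext A i j; simp))

theorem exists_ker {G Ω : Type*} [Group G] [Finite G] [MulAction G Ω] [FaithfulSMul G Ω] {p d : ℕ}
    (hp : p.Prime) (hΩ : Nat.card Ω = p + 1) {a : Ω}
    (hG : Nat.card (MulAction.stabilizer G a) = p * d) (hd : d < p) :
    ∃ F : Subgroup G, Ker a F ∧ Nat.card F = p := by
  have := Fact.mk hp
  have : Finite Ω := Nat.finite_of_card_ne_zero (by omega)
  have d0 : 0 < d := Nat.pos_of_mul_pos_left (hG ▸ Nat.card_pos)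
  obtain ⟨Q⟩ : Nonempty (Sylow p (MulAction.stabilizer G a)) := inferInstance
  have hQ : Nat.card Q = p := by
    rw [Q.card_eq_multiplicity, hG, Nat.factorization_mul hp.ne_zero d0.ne', Finsupp.add_apply,
      hp.factorization_self, Nat.factorization_eq_zero_of_lt hd, pow_one]
  have hi : (Q : Subgroup (MulAction.stabilizer G a)).index = d := by
    have := (Q : Subgroup (MulAction.stabilizer G a)).card_mul_index
    rw [hQ, hG] at this
    exact Nat.eq_of_mul_eq_mul_left hp.pos this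
  have h1 : Nat.card (Sylow p (MulAction.stabilizer G a)) = 1 :=
    (card_sylow_modEq_one p _).eq_of_lt_of_lt
      (lt_of_le_of_lt (Nat.le_of_dvd d0 (hi ▸ Q.card_dvd_index)) hd) hp.one_lt
  have := (Nat.card_eq_one_iff_unique.mp h1).1
  have hn := Q.normal_of_subsingleton
  have hF : Nat.card ((Q : Subgroup (MulAction.stabilizer G a)).map (Subgroup.subtype _)) = p := by
    rw [Subgroup.card_map_of_injective (Subgroup.subtype_injective _), hQ]
  have hfix := Subgroup.map_subtype_le (Q : Subgroup (MulAction.stabilizer G a))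
  set F := (Q : Subgroup (MulAction.stabilizer G a)).map (Subgroup.subtype _)
  have hfree : ∀ u ∈ F, ∀ y : Ω, y ≠ a → u • y = y → u = 1 := by
    intro u hu y hy e
    have h1 := CL.Perm.card_fixedBy_modEq (α := Ω) (p := p) (k := 1) (g := u) (by
      rw [pow_one, ← hF]
      exact congrArg Subtype.val (pow_card_eq_one' (x := (⟨u, hu⟩ : F))))
    have h2 : 1 < (MulAction.fixedBy Ω u).ncard :=
      (Set.one_lt_ncard_iff (Set.toFinite _)).mpr ⟨y, a, e, hfix hu, hy⟩
    have h3 := Set.ncard_le_card (MulAction.fixedBy Ω u)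
    rw [Nat.card_coe_set_eq, hΩ] at h1
    have h4 : p ∣ p + 1 - (MulAction.fixedBy Ω u).ncard :=
      (Nat.modEq_iff_dvd' (by omega)).mp h1.symm
    have h5 := Nat.eq_zero_of_dvd_of_lt h4 (by omega)
    have h6 := (Set.eq_univ_iff_ncard (MulAction.fixedBy Ω u)).mpr (by omega)
    exact eq_of_smul_eq_smul (α := Ω) fun x => by
      rw [one_smul]
      exact (h6 ▸ Set.mem_univ x : x ∈ MulAction.fixedBy Ω u)
  refine ⟨F, ⟨hfix, ?_, fun y z hy hz => ?_, hfree⟩, hF⟩
  · rintro h hh _ ⟨u, hu, rfl⟩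
    exact ⟨_, hn.conj_mem u hu ⟨h, hh⟩, rfl⟩
  · let f : F → {z : Ω // z ≠ a} := fun u => ⟨(u : G) • y, fun e =>
      hy (MulAction.injective (u : G) (e.trans (hfix u.2).symm))⟩
    have hf : Function.Bijective f := by
      rw [Nat.bijective_iff_injective_and_card]
      constructor
      · intro u v e
        have := hfree _ (F.mul_mem (F.inv_mem v.2) u.2) y hy (by
          rw [mul_smul, inv_smul_eq_iff]
          exact congrArg Subtype.val e)
        exact Subtype.ext (inv_mul_eq_one.mp this).symm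
      · have := Set.ncard_add_ncard_compl ({a} : Set Ω)
        rw [Set.ncard_singleton, ← Nat.card_coe_set_eq] at this
        change _ = Nat.card ↥({a} : Set Ω)ᶜ
        omega
    obtain ⟨u, hu⟩ := hf.2 ⟨z, hz⟩
    exact ⟨u, u.2, congrArg Subtype.val hu⟩


/-- A transitive permutation group on `p + 1` points (`p` prime) of order `(p+1) p d` with `d < p` is isomorphic to `PGL(2,p)` with `d = p - 1`, or to `PSL(2,p)` with `2d = p - 1`, or else `p + 1 = 2^q` for a prime `q`, `d = 1` or `d = q`, and the group is permutation-isomorphic to a group of semi-affine maps `x ↦ a φ(x) + b` of the field with `2^q` elements. -/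
theorem result {α : Type*} [Fintype α] [DecidableEq α] {p d : ℕ} (hp : p.Prime) (hα : Fintype.card α = p + 1) (G : Subgroup (Equiv.Perm α)) [MulAction.IsPretransitive G α] (hG : Nat.card G = (p + 1) * p * d) (hd : d < p) : (d = p - 1 ∧ Nonempty (G ≃* Matrix.ProjGenLinGroup (Fin 2) (ZMod p))) ∨ (2 * d = p - 1 ∧ Nonempty (G ≃* Matrix.ProjectiveSpecialLinearGroup (Fin 2) (ZMod p))) ∨ (∃ q : ℕ, q.Prime ∧ p + 1 = 2 ^ q ∧ (d = 1 ∨ d = q) ∧ ∃ e : α ≃ GaloisField 2 q, ∀ g : G, (e.symm.trans (((g : Equiv.Perm α)).trans e)) ∈ Cfsg.semiaffineGroup (GaloisField 2 q)) := by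
  rw [← Nat.card_eq_fintype_card] at hα
  have h2 := hp.two_le
  have : Nonempty α := (Nat.card_pos_iff.mp (by omega)).1
  obtain ⟨a⟩ := this
  have hGa : Nat.card (MulAction.stabilizer G a) = p * d := by
    have := (MulAction.stabilizer G a).card_mul_index
    rw [MulAction.index_stabilizer_of_transitive, hG, hα, mul_assoc, mul_comm] at this
    exact Nat.eq_of_mul_eq_mul_left (by omega) this
  obtain ⟨F, hK, hF⟩ := exists_ker hp hα hGa hd
  have hZ : Z2 G α := Z2.of_ker_prime hK (hF ▸ hp) (by omega)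
  obtain ⟨b, hb⟩ := hZ.exists_ne a
  have hab := hb.symm
  have hH : Nat.card (St G a b) = d := by
    have := hK.card_stabilizer hab
    rw [hGa, hF] at this
    exact (Nat.eq_of_mul_eq_mul_left hp.pos this).symm
  have d0 : 0 < d := hH ▸ Nat.card_pos
  have := Fact.mk hp
  have hFc : ∀ u ∈ F, ∀ v ∈ F, u * v = v * u := fun u hu v hv => by
    have := isCyclic_of_prime_card hF
    exact congrArg Subtype.val (IsCyclic.isMulCommutative.is_comm.comm (⟨u, hu⟩ : F) ⟨v, hv⟩)
  rcases hp.eq_two_or_odd' with rfl | hodd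
  · obtain ⟨s, hs, hsa, hsb⟩ := hZ.exists_invol_swap hab
    obtain ⟨K, _, _, h1, ⟨e⟩⟩ := hZ.pgl_of_inverted hab (by omega) hsa hsb
      (hZ.inverted_of_odd_degree (by rw [hα]; decide) hab hs hsa hsb)
    exact Or.inl ⟨by omega, ⟨e.trans (pglCongr (ZMod.ringEquivOfPrime K hp (by omega)).symm)⟩⟩
  by_cases hZ' : Cfsg.IsZassenhausGroup G α
  · rcases sharp_or_psl_of_comm hZ' hab hK hFc with h | h
    · obtain ⟨K, _, _, h1, -, -, h4⟩ := hZ.structure_of_even ((hZ.three_trans_iff_card hab).mpr h)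
        (hα ▸ hodd.add_one)
      obtain ⟨e⟩ := h4 fun φ hφ => ringAut_eq_one_of_sq hp odd_one
        (by rw [Nat.card_eq_fintype_card, pow_one]; omega) φ hφ
      exact Or.inl ⟨by omega, ⟨e.trans (pglCongr (ZMod.ringEquivOfPrime K hp (by omega)).symm)⟩⟩
    · obtain ⟨h0, K, _, _, h1, -, ⟨e⟩⟩ := h
      exact Or.inr (Or.inl ⟨by omega,
        ⟨e.trans (CL.Graph.pslCongr (ZMod.ringEquivOfPrime K hp (by omega)).symm)⟩⟩)
  obtain ⟨N, hN, hNt, hNr⟩ : ∃ N : Subgroup G, N.Normal ∧ MulAction.IsPretransitive N α ∧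
      ∀ x : α, MulAction.stabilizer N x = ⊥ := by
    by_contra h
    push Not at h
    refine hZ' ⟨hZ.faithful, hZ.two_trans,
      fun g _ _ _ hab hbc hac => hZ.sharp g hab hac hbc, ?_, h⟩
    by_contra h'
    push Not at h'
    have : Nonempty α := ⟨a⟩
    obtain ⟨N, n1, -, n2, n3⟩ := exists_regular_normal hZ.isPretransitive
      fun g y z hyz hy hz => by_contra fun g1 => h' g g1 y z hyz hy hz
    obtain ⟨x, hx⟩ := h N n1 n2
    exact hx (n3 x)
  obtain ⟨K, _, _, ι, rfl, rfl, h⟩ := hK.exists_affine_chart hab hFc N hNt hNr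
    (hZ.comm_of_regular_normal N hNt hNr).1
  have hKc : Fintype.card K = p + 1 := by
    rw [← hα, ← Nat.card_congr ι, Nat.card_eq_fintype_card]
  have hc : ringChar K = 2 := by
    rw [FiniteField.even_card_iff_char_two, hKc]
    exact Nat.even_iff.mp hodd.add_one
  have : CharP K 2 := ringChar.of_eq hc
  obtain ⟨q, -, hq⟩ := FiniteField.card K 2
  have hq1 : (q : ℕ).Prime := (Nat.prime_of_pow_sub_one_prime (a := 2) (fun h => by
    rw [h] at hq
    omega) (by rw [← hq, hKc]; exact hp)).2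
  refine Or.inr (Or.inr ⟨q, hq1, by omega, ?_, ?_⟩)
  · by_cases h1 : St G (ι 0) (ι 1) = ⊥
    · left
      rw [← hH, h1, Subgroup.card_bot]
    · right
      have := hZ.card_eq_two_pow ι h le_rfl h1
      rw [hH, hα, ← hKc, hq] at this
      exact (Nat.pow_right_injective le_rfl this).symm
  · have := Fintype.ofFinite (GaloisField 2 q)
    let ρ : K ≃+* GaloisField 2 q := FiniteField.ringEquivOfCardEq (by
      rw [hq, ← Nat.card_eq_fintype_card, GaloisField.card 2 q q.ne_zero])
    refine ⟨ι.symm.trans ρ.toEquiv, fun g => ?_⟩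
    obtain ⟨k, hk, c, φ, e⟩ := h g
    refine ⟨Units.mk0 (ρ k) ((map_ne_zero ρ).mpr hk), ρ c, ρ.symm.trans (φ.trans ρ), fun x => ?_⟩
    change ρ (ι.symm (g • ι (ρ.symm x))) = ρ k * ρ (φ (ρ.symm x)) + ρ c
    rw [e, ι.symm_apply_apply, map_add, map_mul]

end Cfsg.Agent.S0732
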