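import Cfsg.Statements.S1148
import Cfsg.Agent.INV.U3Ch.Rank
import Cfsg.Agent.INV.U3Ch.Arith
import Cfsg.Agent.CHEV.BNBasic
import Cfsg.Agent.S0482

set_option autoImplicit false
open Cfsg

namespace Cfsg.Agent.S1148

open CL.U3Ch Subgroup

theorem sp_of_bn {G : Type*} [Group G] [Finite G] [IsSimpleGroup G]
    (P : Cfsg.BNPair G) (h1 : P.rank = 1)
    (U : Subgroup G) (hUB : U ≤ P.B) (hUn : ∀ b ∈ P.B, ∀ u ∈ U, b * u * b⁻¹ ∈ U)
    (hsplit : U ⊔ (P.B ⊓ P.N) = P.B) (hind : P.B.index = Nat.card U + 1)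
    (hHc : IsCyclic ↥(P.B ⊓ P.N)) :
    ∃ b : G ⧸ P.B, Sp ((1 : G) : G ⧸ P.B) b U (P.B ⊓ P.N) := by
  obtain ⟨⟨hs⟩, ⟨s⟩⟩ := Nat.card_eq_one_iff_unique.1 h1
  have hsB := CL.BN.not_mem_B_of_mem_S P s.2
  have hsN : (s : G) ∈ P.N := P.subset s.2
  have fix : ∀ g : G, g • ((1 : G) : G ⧸ P.B) = ((1 : G) : G ⧸ P.B) ↔ g ∈ P.B := fun g => by
    rw [← MulAction.mem_stabilizer_iff, MulAction.stabilizer_quotient]
  have hW : ∀ w : CL.BN.W P, w = 1 ∨ w = CL.BN.sW P s := fun w => by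
    have hw : w ∈ closure (Set.range (CL.BN.sW P)) := CL.BN.closure_range_sW P ▸ mem_top w
    have h2 := CL.BN.sW_mul_self P s
    induction hw using closure_induction with
    | mem x hx => obtain ⟨i, rfl⟩ := hx; exact Or.inr (by rw [hs i s])
    | one => exact Or.inl rfl
    | mul x y _ _ hx hy => rcases hx with rfl | rfl <;> rcases hy with rfl | rfl <;> simp [h2]
    | inv x _ hx =>
      rcases hx with rfl | rfl
      · simp
      · exact Or.inr (inv_eq_of_mul_eq_one_left h2)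
  have hH : ∀ h ∈ P.B ⊓ P.N, h • ((s : G) : G ⧸ P.B) = (s : G) := fun h hh =>
    QuotientGroup.eq.2 (by
      have := P.conj_mem _ (P.N.inv_mem hsN) _ (inv_mem hh)
      simpa [mul_assoc] using this)
  have dec : ∀ g ∈ P.B, ∃ u ∈ U, ∃ h ∈ P.B ⊓ P.N, u * h = g := fun g hg => by
    rw [← hsplit, ← SetLike.mem_coe, coe_mul_of_right_le_normalizer_left U (P.B ⊓ P.N)
      fun h hh => mem_normalizer_fintype (hUn h hh.1)] at hg
    exact hg
  have ne : ((1 : G) : G ⧸ P.B) ≠ (s : G) := fun e => hsB (by simpa using QuotientGroup.eq.1 e)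
  have tr : ∀ x : G ⧸ P.B, x ≠ ((1 : G) : G ⧸ P.B) → ∃ u ∈ U, u • ((s : G) : G ⧸ P.B) = x := by
    intro x hx
    obtain ⟨g, rfl⟩ := QuotientGroup.mk_surjective x
    rcases hW (CL.BN.δ P g) with e | e
    · exact absurd (QuotientGroup.eq.2 (by simpa using (CL.BN.δ_eq_one_iff P).1 e)) hx
    · obtain ⟨c, hc, c', hc', rfl⟩ := (CL.BN.δ_eq_δ_iff P).1 (e.trans (CL.BN.δ_S P s).symm)
      obtain ⟨u, hu, h, hh, rfl⟩ := dec c hc
      refine ⟨u, hu, ?_⟩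
      rw [← hH h hh, smul_smul, QuotientGroup.mk_mul_of_mem _ hc']; rfl
  have free : ∀ u ∈ U, u • ((s : G) : G ⧸ P.B) = (s : G) → u = 1 := fun u hu e => by
    let f : U → {x : G ⧸ P.B // x ≠ ((1 : G) : G ⧸ P.B)} := fun v => ⟨(v : G) • (s : G), fun e =>
      ne (by rw [← inv_smul_smul (v : G) ((s : G) : G ⧸ P.B), e, (fix _).2 (inv_mem (hUB v.2))])⟩
    have hf : Function.Surjective f := fun x => by
      obtain ⟨v, hv, e⟩ := tr x x.2
      exact ⟨⟨v, hv⟩, Subtype.ext e⟩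
    have hb := hf.bijective_of_nat_card_le (by
      have := Set.ncard_sdiff_singleton_of_mem (Set.mem_univ ((1 : G) : G ⧸ P.B))
      rw [Set.ncard_univ, ← index, hind, ← Nat.card_coe_set_eq] at this
      exact le_of_eq (this.symm.trans (Nat.card_congr (Equiv.subtypeEquivRight fun x => by simp))))
    exact congrArg Subtype.val (hb.1 (a₁ := ⟨u, hu⟩) (a₂ := 1) (Subtype.ext (e.trans (one_smul _ _).symm)))
  refine ⟨(s : G), ne, fun g hg => ?_, fun g => ⟨fun h => ⟨(fix g).2 h.1, hH g h⟩, fun h => ?_⟩,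
    fun u hu => (fix u).2 (hUB hu), fun g hg => hUn g ((fix g).1 hg), tr, free,
    ⟨s, by simp [MulAction.Quotient.smul_mk], QuotientGroup.eq.2 (by
      simpa using P.B.inv_mem (P.sq_mem _ s.2))⟩, hHc⟩
  · rcases (MulAction.toPermHom G (G ⧸ P.B)).normal_ker.eq_bot_or_eq_top with e | e
    · exact mem_bot.1 (e ▸ Equiv.ext hg)
    · exact absurd ((fix s).1 (congrFun (congrArg DFunLike.coe
        (e ▸ mem_top _ : (s : G) ∈ (MulAction.toPermHom G (G ⧸ P.B)).ker)) ((1 : G) : G ⧸ P.B))) hsB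
  · obtain ⟨u, hu, k, hk, rfl⟩ := dec g ((fix g).1 h.1)
    rw [free u hu (by have := h.2; rwa [mul_smul, hH k hk] at this), one_mul]
    exact hk

/-- Let `G` be finite simple with a (B,N)-pair of rank 1, `B = U H` with `U` nilpotent normal in `B`, `H = B ⊓ N`, `U ⊓ H = 1`, where `[G : B] = p^(3n) + 1` for an odd prime `p`, `|U| = p^(3n)` and `H` is cyclic of order `(p^(2n) - 1)/gcd(3, p^n + 1)`. Then `G ≅ PSU₃(p^n)`. -/
theorem result {G : Type*} [Group G] [Finite G] [IsSimpleGroup G]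
    (P : Cfsg.BNPair G) (h1 : P.rank = 1) {p n : ℕ} (hp : p.Prime) (hp2 : p ≠ 2) (hn : 1 ≤ n)
    (U : Subgroup G) (hUB : U ≤ P.B) (hUn : ∀ b ∈ P.B, ∀ u ∈ U, b * u * b⁻¹ ∈ U)
    (hUnil : Group.IsNilpotent U) (hsplit : U ⊔ (P.B ⊓ P.N) = P.B) (hdisj : U ⊓ (P.B ⊓ P.N) = ⊥)
    (hind : P.B.index = p ^ (3 * n) + 1) (hU : Nat.card U = p ^ (3 * n))
    (hHc : IsCyclic ↥(P.B ⊓ P.N))
    (hH : Nat.gcd 3 (p ^ n + 1) * Nat.card ↥(P.B ⊓ P.N) = p ^ (2 * n) - 1) :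
    ∃ (F : Type) (_ : Field F) (_ : Fintype F), Fintype.card F = (p ^ n) ^ 2 ∧
      Nonempty (G ≃* Cfsg.PSU 3 F (p ^ n)) := by
  obtain ⟨b, s⟩ := sp_of_bn P h1 U hUB hUn hsplit (hU ▸ hind) hHc
  have hq := three_le hp hp2 hn
  have hqo : Odd (p ^ n) := (hp.odd_of_ne_two hp2).pow
  have e3 : p ^ (3 * n) = (p ^ n) ^ 3 := by rw [mul_comm, pow_mul]
  set w := p ^ (2 * n) - 1
  have hw : w + 1 = (p ^ n) ^ 2 := by
    rw [Nat.sub_add_cancel (Nat.one_le_pow _ _ hp.pos), mul_comm, pow_mul]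
  have hd := (Nat.dvd_prime Nat.prime_three).1 (Nat.gcd_dvd_left 3 (p ^ n + 1))
  have hdq := Nat.gcd_dvd_right 3 (p ^ n + 1)
  set d := Nat.gcd 3 (p ^ n + 1)
  set H := P.B ⊓ P.N
  have hG : Nat.card G = (p ^ n) ^ 3 * (((p ^ n) ^ 3 + 1) * Nat.card H) := by
    rw [← H.card_mul_index, s.index_H, hU, e3]; ring
  have hna := s.not_comm fun e => by
    rw [e, card_bot, e3] at hU
    have := Nat.pow_le_pow_left hq 3
    omega
  have hr : PRankLE 2 2 G := by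
    obtain ⟨v, hv⟩ := hqo
    rcases Nat.even_or_odd v with ⟨i, hi⟩ | hvo
    · refine s.rank_one ?_ (by rw [hU, e3]; exact Odd.pow ⟨v, hv⟩)
      rw [hU, e3, hv, hi, show (2 * (i + i) + 1) ^ 3 + 1 = 4 * (16 * i ^ 3 + 12 * i ^ 2 + 3 * i) + 2
        by ring]
      omega
    · obtain ⟨m, u, hu, e⟩ := Nat.exists_eq_two_pow_mul_odd (n := p ^ n + 1) (by omega)
      have hm : 2 ≤ m := by
        obtain ⟨i, hi⟩ := hvo
        obtain ⟨j, hj⟩ := hu
        by_contra h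
        have : m ≤ 1 := by omega
        interval_cases m <;> omega
      have hdo : Odd d := by rcases hd with e | e <;> rw [e] <;> decide
      obtain ⟨u', rfl⟩ := (Nat.Coprime.pow_right m (Nat.coprime_two_right.2 hdo)).dvd_of_dvd_mul_left
        (e ▸ hdq)
      have hu' := (Nat.odd_mul.1 hu).2
      have hHc : Nat.card H = 2 ^ (m + 1) * (u' * v) := Nat.eq_of_mul_eq_mul_left hdo.pos (by
        have : w = (p ^ n + 1) * (2 * v) := by rw [hv] at hw ⊢; nlinarith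
        rw [hH, this, e]; ring)
      refine s.rank_three hp hU hv hvo (hHc ▸ (dvd_mul_left v u').mul_left _) hp2 hm
        (hu'.mul hvo) (o' := (p ^ n) ^ 3 * (d * u') * (p ^ n * (2 * v) + 1) * (u' * v))
        (((Odd.pow ⟨v, hv⟩).mul hu).mul ⟨p ^ n * v, by ring⟩ |>.mul (hu'.mul hvo)) hHc ?_
      have : (p ^ n) ^ 3 + 1 = (p ^ n + 1) * (p ^ n * (2 * v) + 1) := by rw [hv]; ring
      rw [hG, this, e, hHc]; ring
  have hM : d * (((p ^ n) ^ 3 + 1) * Nat.card H) = ((p ^ n) ^ 3 + 1) * w := by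
    rw [mul_left_comm, hH]
  have hpn : p ∣ p ^ n := dvd_pow_self p (by omega)
  have hpM : ¬ p ∣ ((p ^ n) ^ 3 + 1) * Nat.card H := fun h => hp.one_lt.ne' (Nat.dvd_one.1
    (((Nat.Prime.dvd_mul hp).1 h).elim (Nat.dvd_add_right (dvd_pow hpn (by norm_num))).1 fun h =>
      (Nat.dvd_add_right (hH ▸ h.mul_left d : p ∣ w)).1 (hw ▸ dvd_pow hpn (by norm_num))))
  have fld : ∀ (F : Type) [Field F] [Fintype F], ∃ s j : ℕ, s.Prime ∧ 1 ≤ j ∧
      s ^ j = Fintype.card F := fun F _ _ => by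
    obtain ⟨j, hs, hj⟩ := FiniteField.card F (ringChar F)
    exact ⟨_, j, hs, j.2, hj.symm⟩
  have U3 : ∀ (F : Type) [Field F] [Fintype F] (r : ℕ), Fintype.card F = r ^ 2 →
      Nonempty (G ≃* PSU 3 F r) → r = p ^ n := fun F _ _ r hF ⟨e⟩ => by
    obtain ⟨s, j, hs, hj, hsj⟩ := fld F
    obtain ⟨x, rfl⟩ : ∃ x, r = x + 1 := ⟨r - 1, by
      have : r ≠ 0 := by rintro rfl; exact Fintype.card_pos.ne' hF
      omega⟩
    exact eq_U3 hp hp2 hn hw hd hM hpM hs hj (hsj.trans hF)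
      (by rw [← hG, Nat.card_congr e.toEquiv, card_U3 hF])
  rcases S0482.result hna hr with ⟨F, _, _, ho, -, ⟨e⟩⟩ | ⟨F, _, _, -, ⟨e⟩⟩ | ⟨F, _, _, r, hF, -, e⟩ |
    ⟨F, _, _, hF, e⟩ | ⟨⟨e⟩⟩ | h
  · obtain ⟨s, j, hs, hj, hsj⟩ := fld F
    refine (not_L2 hp hp2 hn hw hd hM hpM hs ?_ hj).elim
    have h2 := CL.SL.gcd_mul_card_PSL_two (F := F)
    rw [Nat.card_eq_fintype_card (α := F), Nat.gcd_eq_left (by obtain ⟨i, hi⟩ := ho; omega)] at h2
    rw [← hG, Nat.card_congr e.toEquiv, h2, hsj]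
  · obtain ⟨s, j, hs, hj, hsj⟩ := fld F
    obtain ⟨x, hx⟩ : ∃ x, Fintype.card F = x + 1 := ⟨_, (Nat.sub_add_cancel Fintype.card_pos).symm⟩
    exact (not_L3 hp hp2 hn hw hd hM hpM hs hj (hsj.trans hx)
      (by rw [← hG, Nat.card_congr e.toEquiv, card_L3 hx])).elim
  · obtain rfl := U3 F r hF e
    exact ⟨F, inferInstance, inferInstance, hF, e⟩
  · have := U3 F 4 hF e
    rw [← this] at hqo
    exact absurd hqo (by decide)
  · refine (hp2 (not_cube hp hn hG.symm (Or.inl ?_))).elim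
    have := two_mul_nat_card_alternatingGroup (α := Fin 7)
    rw [Nat.card_perm, Nat.card_fin, ← Nat.card_congr e.toEquiv] at this
    norm_num [Nat.factorial] at this
    omega
  · exact (hp2 (not_cube hp hn hG.symm (Or.inr h.2))).elim

end Cfsg.Agent.S1148
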