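import Cfsg.Statements.S1154
import Mathlib
import Cfsg.Agent.CHEV.ReeConcrete
import Cfsg.Agent.CHEV.ReeBasic

set_option autoImplicit false
open Cfsg

namespace Cfsg.Agent.S1154

/-- In the small Ree group ²G₂(q), q = 3^(2m+1) with m ≥ 1, realised as G¹ inside the Chevalley group G₂ over the field with q elements (θ the 3^m-th power map), with `U¹ = G¹ ∩ U` (U the positive unipotent subgroup of the ambient G₂): `U¹` has exactly `q² - 1` elements of order 3. -/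
theorem result {K : Type*} [Field K] [Fintype K] {m : ℕ} (hm : 1 ≤ m) (hK : Fintype.card K = 3 ^ (2 * m + 1)) :
    Nat.card {u : ↥(Cfsg.Lie.chevG2.posUnipotent K ⊓ Cfsg.Lie.twistedG2 K (3 ^ m)) // orderOf u = 3} = (3 ^ (2 * m + 1)) ^ 2 - 1 := by
  have := CL.Ree.charP_three hK
  have hK' := Nat.card_eq_fintype_card.trans hK
  set M := CL.Ree.model hK'
  have := M.finite_G
  rw [← hK', ← M.card_Y, ← Nat.card_congr (Equiv.ofBijective (α := {y : M.Y // y ≠ 1})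
    (fun y => ⟨⟨y.1.1.1, Subgroup.mem_inf.mpr ⟨(CL.Ree.mem_U_iff hK' _).mp (M.Y_le_U y.1.2), y.1.1.2⟩⟩, by
      rw [Subgroup.orderOf_mk, Subgroup.orderOf_coe]
      exact M.orderOf_of_mem_Y y.1.2 fun h => y.2 (Subtype.ext h)⟩) ⟨fun y y' h => ?_, fun u => ?_⟩)]
  · classical
    have := Fintype.ofFinite M.Y
    simp [Nat.card_eq_fintype_card]
  · exact Subtype.ext (Subtype.ext (Subtype.ext (congrArg (·.1.1) h)))
  · obtain ⟨⟨u, hu⟩, h3⟩ := u
    obtain ⟨h1, h2⟩ := Subgroup.mem_inf.mp hu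
    rw [Subgroup.orderOf_mk, ← Subgroup.orderOf_mk u h2,
      M.orderOf_eq_three_iff ((CL.Ree.mem_U_iff hK' _).mpr h1)] at h3
    exact ⟨⟨⟨⟨u, h2⟩, h3.1⟩, fun h => h3.2 (congrArg Subtype.val h)⟩, rfl⟩

end Cfsg.Agent.S1154
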