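import Cfsg.Statements.S1305
import Cfsg.Agent.SIG.BProp
import Cfsg.Agent.SIG.LBalance
import Cfsg.Agent.SIG.PTerminal
import Cfsg.Agent.SIG.Diagonal
import Cfsg.Agent.PLOC.ElemAb

set_option autoImplicit false
open Cfsg

namespace Cfsg.Agent.S1305

open Subgroup CL.Comp CL.PComp CL.MSS CL.Th

theorem card_sup_of_inf_eq_bot {G : Type*} [Group G] [Finite G] {A B : Subgroup G}
    (h : A ≤ normalizer (B : Set G)) (hi : A ⊓ B = ⊥) :
    Nat.card ↥(A ⊔ B) = Nat.card A * Nat.card B := by
  rw [← card_mul_relIndex' (le_sup_right : B ≤ A ⊔ B), relIndex_sup_of_normalizes h,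
    ← inf_relIndex_right, inf_comm, hi, relIndex_bot_left, mul_comm]

/-- Let G be a finite group of component type with the B-property and no nontrivial normal subgroup of odd order. Let a be an involution and K a component of C_G(a) such that (a) |K| is maximal among the orders of components of centralizers of involutions of G, (b) subject to (a) the 2-rank of the centralizer of K in C_G(a) is as large as possible, and (c) K has 2-rank at least 2. If B is an elementary abelian 2-subgroup of that centralizer of the largest possible order, then K is a component of C_G(b) for every non-identity b ∈ B. -/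
theorem result {G : Type*} [Group G] [Finite G] (hO : Cfsg.oddCore G = ⊥) (hB : Cfsg.HasBProperty G) (hct : Cfsg.IsComponentType G) (a : G) (ha : orderOf a = 2) (K : Subgroup G) (hKa : K ≤ Subgroup.centralizer ({a} : Set G)) (hK : Cfsg.IsComponent (K.subgroupOf (Subgroup.centralizer ({a} : Set G)))) (hmax : ∀ y : G, orderOf y = 2 → ∀ K' : Subgroup G, K' ≤ Subgroup.centralizer ({y} : Set G) → Cfsg.IsComponent (K'.subgroupOf (Subgroup.centralizer ({y} : Set G))) → Nat.card ↥K' ≤ Nat.card ↥K ∧ (Nat.card ↥K' = Nat.card ↥K → ∀ k : ℕ, Cfsg.PRankLE 2 k ↥(Subgroup.centralizer ({a} : Set G) ⊓ Subgroup.centralizer (K : Set G)) → Cfsg.PRankLE 2 k ↥(Subgroup.centralizer ({y} : Set G) ⊓ Subgroup.centralizer (K' : Set G)))) (hrk : ¬ Cfsg.PRankLE 2 1 ↥K) (B : Subgroup G) (hBle : B ≤ Subgroup.centralizer ({a} : Set G) ⊓ Subgroup.centralizer (K : Set G)) (hBel : Cfsg.IsElementaryAbelian 2 B) (hBmax : ∀ B' : Subgroup G, B' ≤ Subgroup.centralizer ({a} : Set G) ⊓ Subgroup.centralizer (K : Set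 G) → Cfsg.IsElementaryAbelian 2 B' → Nat.card ↥B' ≤ Nat.card ↥B) (b : G) (hb : b ∈ B) (hb1 : b ≠ 1) : K ≤ Subgroup.centralizer ({b} : Set G) ∧ Cfsg.IsComponent (K.subgroupOf (Subgroup.centralizer ({b} : Set G))) := by
  have := Nat.fact_prime_two
  set D := centralizer ({a} : Set G) ⊓ centralizer (K : Set G) with hD
  have hKc : IsCompIn K (centralizer {a}) := ⟨hKa, hK⟩
  have ha2 : a ^ 2 = 1 := ha ▸ pow_orderOf_eq_one a
  have haa : a * a = 1 := mul_self_of_orderOf_eq_two ha
  have haD : a ∈ D := ⟨mem_centralizer_singleton_iff.2 rfl, mem_centralizer_of_le hKa⟩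
  have hBa : B ≤ centralizer {a} := hBle.trans inf_le_left
  have haB : a ∈ B := by
    have h1 : IsElementaryAbelian 2 (zpowers a ⊔ B) :=
      elemAb_sup (elemAb_zpowers ha2) hBel (zpowers_le_centralizer_iff.2 hBa)
    have h2 := hBmax _ (sup_le (zpowers_le.2 haD) hBle) h1
    rw [eq_of_le_of_card_ge (le_sup_right : B ≤ zpowers a ⊔ B) h2]
    exact mem_sup_left (mem_zpowers a)
  have hb2 : orderOf b = 2 := orderOf_eq_prime (hBel.2 b hb) hb1
  have hBb : B ≤ centralizer {b} := (elemAb_le_centralizer hBel).trans (centralizer_le_singleton hb)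
  have hKb : K ≤ centralizer {b} := zpowers_le_centralizer_iff.1 (zpowers_le.2 (hBle hb).2)
  -- an elementary abelian subgroup of order more than two
  obtain ⟨A, hA1, hA2, hA3⟩ : ∃ A : Subgroup K, IsMulCommutative A ∧ (∀ x ∈ A, x ^ 2 = 1) ∧
      2 < Nat.card A := by
    by_contra hcon
    apply hrk
    intro A h1 h2
    by_contra h3
    exact hcon ⟨A, h1, h2, by omega⟩
  have hAel : IsElementaryAbelian 2 A := ⟨hA1, hA2⟩
  have hK2 : 2 ∣ Nat.card K := by
    obtain ⟨n, hn⟩ := elemAb_card hAel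
    refine Dvd.dvd.trans ?_ (card_subgroup_dvd_card A)
    rw [hn] at hA3 ⊢
    rcases n with _ | n
    · simp at hA3
    · exact dvd_pow_self 2 (Nat.succ_ne_zero n)
  have hKM : IsCompIn K (centralizer {b} ⊓ centralizer {a}) :=
    hKc.mono (le_inf hKb hKa) inf_le_right
  have hKM' := isPComponentOf_of_isCompIn hKM hK2
  have hab : a ∈ centralizer ({b} : Set G) := hBb haB
  have hle : K ≤ pLayerOf 2 (centralizer {b}) :=
    hKM'.le_pLayerOf.trans (pLayerOf_two_inf_centralizer_singleton_le (k := 1) (by simpa using ha2)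
      (le_normalizer hab))
  obtain ⟨J, hJ, hne⟩ := exists_not_le_cbar hKM'.isPQS hle
  have hJc := isCompIn_of_hasBProperty hB hO hb2 hJ
  have hJK : Nat.card J ≤ Nat.card K := (hmax b hb2 J hJc.1 hJc.2).1
  have hU : IsPGroup 2 (zpowers a) := isPGroup_zpowers_of_orderOf ha
  have hUH : zpowers a ≤ normalizer ((centralizer ({b} : Set G) : Subgroup G) : Set G) :=
    (zpowers_le.2 hab).trans le_normalizer
  have hM : centralizer ({b} : Set G) ⊓ centralizer (zpowers a : Set G) ≤
      centralizer {b} ⊓ centralizer {a} :=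
    inf_le_inf_left _ (centralizer_le_singleton (mem_zpowers a))
  have hKU : K ≤ centralizer (zpowers a : Set G) :=
    le_centralizer_comm.1 (zpowers_le_centralizer_iff.2 hKa)
  by_cases hn : a ∈ normalizer (J : Set G)
  · have h1 : K ≤ J := le_of_not_le_cbar hU hUH hKM' hM hKU hle hJ hne (zpowers_le.2 hn)
    rw [eq_of_le_of_card_ge h1 hJK]
    exact hJc
  exfalso
  have hzp : ∀ u ∈ zpowers a, u = 1 ∨ u = a := by
    intro u hu
    obtain ⟨n, rfl⟩ := mem_zpowers_iff.1 hu
    rcases Int.even_or_odd' n with ⟨k, rfl | rfl⟩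
    · left; rw [zpow_mul, zpow_ofNat, ha2, one_zpow]
    · right; rw [zpow_add, zpow_mul, zpow_ofNat, ha2, one_zpow, one_mul, zpow_one]
  have hc : ⁅J, a •ᶜ J⁆ = ⊥ := hJc.commutator_conj_eq_bot (le_normalizer hab) hn
  have hKs : K ≤ J ⊔ a •ᶜ J := by
    refine (le_iSup_cj_of_not_le_cbar hU hUH hKM' hM hKU hle hJ hne).trans (sSup_le ?_)
    rintro L ⟨u, hu, rfl⟩
    rcases hzp u hu with rfl | rfl
    · rw [cj_one]; exact le_sup_left
    · exact le_sup_right
  have hJa : IsCompIn (a •ᶜ J) (centralizer {b}) := hJc.conj_of_mem hab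
  have hKd : K = diag a J := by
    have h1 : IsCompIn K ((J ⊔ a •ᶜ J) ⊓ centralizer {a}) :=
      hKM.mono (le_inf hKs hKa) (inf_le_inf_right _ (sup_le hJc.le hJa.le))
    have h2 := isCompIn_layerOf_iff.2 h1
    rw [layerOf_sup_inf_centralizer haa hJc.isQuasisimple hc] at h2
    exact h2.eq_of_le (isCompIn_self (isQuasisimple_diag hJc.isQuasisimple hc)) h2.le
  have hrange : (diagHom a J hc).range = K := by rw [range_diagHom, hKd]
  have hinj : Function.Injective (diagHom a J hc) := by
    rw [← MonoidHom.ker_eq_bot_iff, ← card_le_one_iff_eq_bot]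
    have h1 := card_eq_card_quotient_mul_card_subgroup (diagHom a J hc).ker
    rw [Nat.card_congr (QuotientGroup.quotientKerEquivRange (diagHom a J hc)).toEquiv,
      hrange] at h1
    have h2 : 0 < Nat.card K := Nat.card_pos
    by_contra h3
    have : Nat.card K * 2 ≤ Nat.card K * Nat.card (diagHom a J hc).ker :=
      Nat.mul_le_mul_left _ (by omega)
    omega
  have hcard : Nat.card J = Nat.card K := by
    rw [← hrange]
    exact Nat.card_congr (MonoidHom.ofInjective hinj).toEquiv
  -- the subgroup `B₁`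
  set B₁ := B ⊓ normalizer (J : Set G) with hB₁
  have hB₁el : IsElementaryAbelian 2 B₁ := elemAb_inf_left hBel _
  have hB₁J : B₁ ≤ centralizer (J : Set G) := by
    intro u hu l hl
    have hl' : u * l * u⁻¹ ∈ J := (mem_normalizer_iff.1 hu.2 l).1 hl
    have h1 : diagHom a J hc ⟨_, hl'⟩ = diagHom a J hc ⟨l, hl⟩ := by
      have h2 : diagHom a J hc ⟨l, hl⟩ ∈ K := hrange ▸ ⟨_, rfl⟩
      have h3 := (hBle hu.1).2 _ h2
      have h4 : u * a = a * u := mem_centralizer_singleton_iff.1 (hBa hu.1)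
      rw [diagHom_apply] at h3
      rw [diagHom_apply, diagHom_apply]
      show u * l * u⁻¹ * (a * (u * l * u⁻¹) * a⁻¹) = l * (a * l * a⁻¹)
      calc u * l * u⁻¹ * (a * (u * l * u⁻¹) * a⁻¹)
          = u * l * u⁻¹ * ((a * u) * l * (a * u)⁻¹) := by group
        _ = u * (l * (a * l * a⁻¹)) * u⁻¹ := by rw [← h4]; group
        _ = l * (a * l * a⁻¹) := by rw [← h3]; group
    have h5 : u * l * u⁻¹ = l := congrArg Subtype.val (hinj h1)
    calc l * u = (u * l * u⁻¹) * u := by rw [h5]
      _ = u * l := by group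
  have hB₁a : a •ᶜ B₁ = B₁ :=
    cj_eq_of_mem_centralizer (mem_centralizer_of_le (inf_le_left.trans hBa))
  have hB₁Ja : B₁ ≤ centralizer ((a •ᶜ J : Subgroup G) : Set G) := by
    rw [← cj_centralizer, ← hB₁a]
    exact cj_mono a hB₁J
  have hBcov : B ≤ zpowers a ⊔ B₁ := by
    intro u hu
    have hJu : IsPComponentOf 2 (u •ᶜ J) (centralizer {b}) :=
      hJ.conj_of_mem_normalizer (le_normalizer (hBb hu))
    have hneu : ¬ K ≤ cbar 2 (u •ᶜ J) := by
      rw [← cj_cbar, ← cj_eq_of_mem_centralizer (hBle hu).2, cj_le_cj_iff]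
      exact hne
    obtain ⟨v, hv, hvu⟩ := exists_cj_eq_of_not_le_cbar hU hUH hKM' hM hKU hle hJ hne hJu hneu
    have h1 : v⁻¹ * u ∈ B₁ := ⟨B.mul_mem (B.inv_mem (zpowers_le.2 haB hv)) hu,
      mem_normalizer_iff_cj.2 (by rw [cj_mul, hvu, inv_cj_cj])⟩
    rw [show u = v * (v⁻¹ * u) by group]
    exact mul_mem_sup hv h1
  have hBcard : Nat.card B ≤ 2 * Nat.card B₁ := by
    refine (card_le_of_le hBcov).trans (Nat.le_of_dvd (Nat.mul_pos two_pos Nat.card_pos) ?_)
    have := card_sup_dvd_of_le_normalizer (H := zpowers a) (N := B₁)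
      (zpowers_le.2 (mem_normalizer_iff_cj.2 hB₁a))
    rwa [Nat.card_zpowers, ha] at this
  -- the subgroup `V`
  set V₀ : Subgroup J := (A.map K.subtype).comap (diagHom a J hc) with hV₀
  have hV₀el : IsElementaryAbelian 2 V₀ := elemAb_comap (elemAb_map hAel _) hinj
  have hV₀c : Nat.card V₀ = Nat.card A := by
    rw [← card_map_of_injective hinj, hV₀, map_comap_eq_self (by
      rw [hrange]; exact map_subtype_le A), card_map_of_injective K.subtype_injective]
  set V := a •ᶜ (V₀.map J.subtype) with hV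
  have hVel : IsElementaryAbelian 2 V := elemAb_map (elemAb_map hV₀el _) _
  have hVc : Nat.card V = Nat.card A := by
    rw [hV, card_cj, card_map_of_injective J.subtype_injective, hV₀c]
  have hVJ : V ≤ a •ᶜ J := cj_mono a (map_subtype_le _)
  have hB₁V : B₁ ≤ centralizer (V : Set G) := hB₁Ja.trans (centralizer_le hVJ)
  have hinf : B₁ ⊓ V = ⊥ := by
    rw [eq_bot_iff]
    intro u hu
    have h4 : u * a = a * u := mem_centralizer_singleton_iff.1 (hBa hu.1.1)
    have h1 : u ∈ J := by
      have := mem_cj.1 (hVJ hu.2)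
      rwa [mul_assoc, h4, inv_mul_cancel_left] at this
    have h2 : diagHom a J hc ⟨u, h1⟩ = diagHom a J hc 1 := by
      rw [diagHom_apply, map_one]
      show u * (a * u * a⁻¹) = 1
      rw [← h4, mul_inv_cancel_right, ← sq]
      exact hBel.2 u hu.1.1
    exact congrArg Subtype.val (hinj h2)
  have hW := card_sup_of_inf_eq_bot (hB₁V.trans (centralizer_le_normalizer_self V)) hinf
  have hWel : IsElementaryAbelian 2 (B₁ ⊔ V) := elemAb_sup hB₁el hVel hB₁V
  have hWle : B₁ ⊔ V ≤ centralizer {b} ⊓ centralizer (J : Set G) :=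
    sup_le (le_inf (inf_le_left.trans hBb) hB₁J) (le_inf (hVJ.trans hJa.le) (hVJ.trans
      (le_centralizer_comm.1 (Subgroup.commutator_eq_bot_iff_le_centralizer.1 hc))))
  obtain ⟨k, hk⟩ := elemAb_card hBel
  have hrkD : PRankLE 2 k D := by
    intro E h1 h2
    rw [← hk, ← card_map_of_injective D.subtype_injective]
    exact hBmax _ (map_subtype_le _) (elemAb_map ⟨h1, h2⟩ _)
  have h1 := elemAb_subgroupOf hWel (centralizer {b} ⊓ centralizer (J : Set G))
  have h2 := (hmax b hb2 J hJc.1 hJc.2).2 hcard k hrkD _ h1.1 h1.2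
  rw [Nat.card_congr (subgroupOfEquivOfLe hWle).toEquiv, hW, hVc, ← hk] at h2
  have h3 : 0 < Nat.card B₁ := Nat.card_pos
  have h4 : Nat.card B₁ * 3 ≤ Nat.card B₁ * Nat.card A := Nat.mul_le_mul_left _ hA3
  omega

end Cfsg.Agent.S1305
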