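import Cfsg.Statements.S1322
import Cfsg.Agent.SIG.PumpTwo
import Cfsg.Agent.SIG.LBalance
import Cfsg.Agent.SOLV.OddOrderCor

set_option autoImplicit false
open Cfsg

namespace Cfsg.Agent.S1322

open CL.Comp CL.PComp in

/-- Let G be finite with L_{2'}(G) = E(G), t an involution and L ≤ C_G(t) a component of C_G(t). Then there is a component D of G with: L = D; or L < D and D = ⁅D, ⟨t⟩⁆; or tDt⁻¹ ≠ D and L is the layer of C_{D ⊔ tDt⁻¹}(t). -/
theorem result {G : Type*} [Group G] [Finite G] (hL2 : Cfsg.pLayer 2 G = Cfsg.layer G) (t : G) (ht : orderOf t = 2) (L : Subgroup G) (hLt : L ≤ Subgroup.centralizer ({t} : Set G)) (hL : Cfsg.IsComponent (L.subgroupOf (Subgroup.centralizer ({t} : Set G)))) : ∃ D : Subgroup G, Cfsg.IsComponent D ∧ (L = D ∨ (L < D ∧ D = ⁅D, Subgroup.zpowers t⁆) ∨ (D.map (MulAut.conj t).toMonoidHom ≠ D ∧ L = (Cfsg.layer ↥((D ⊔ D.map (MulAut.conj t).toMonoidHom) ⊓ Subgroup.centralizer ({t} : Set G))).map ((D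 ⊔ D.map (MulAut.conj t).toMonoidHom) ⊓ Subgroup.centralizer ({t} : Set G)).subtype)) := by
  have hL' : IsCompIn L (Subgroup.centralizer {t}) := ⟨hLt, hL⟩
  have ht2 : t * t = 1 := mul_self_of_orderOf_eq_two ht
  have hd : 2 ∣ Nat.card L := by
    by_contra h
    exact hL'.not_isSolvable (CL.isSolvable_of_not_two_dvd L h)
  have hle : L ≤ layer G := by
    rw [← hL2]
    exact (isPComponentOf_of_isCompIn hL' hd).le_pLayerOf.trans
      (pLayerOf_two_centralizer_singleton_le (k := 1) (by rw [pow_one, pow_two, ht2]))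
  obtain ⟨D, hD, h⟩ := hL'.trichotomy ht2 hle
  refine ⟨D, hD, ?_⟩
  rcases h with h | ⟨h1, h2, -⟩ | ⟨h1, h2⟩
  · exact Or.inl h
  · exact Or.inr (Or.inl ⟨h1, h2⟩)
  · refine Or.inr (Or.inr ⟨h1, ?_⟩)
    rw [← layerOf_def, layerOf_sup_inf_centralizer ht2 hD.isQuasisimple
      (hD.commutator_eq_bot_of_ne (hD.conj t) (Ne.symm h1))]
    exact h2

end Cfsg.Agent.S1322
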