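import Cfsg.Statements.S1323
import Cfsg.Agent.SIG.Component

set_option autoImplicit false
open Cfsg

namespace Cfsg.Agent.S1323


open Equiv Equiv.Perm
open scoped Pointwise

section
variable {α : Type*} [Fintype α] [DecidableEq α]

/-- The alternating group on a finite subset. -/
abbrev AO (s : Finset α) : Subgroup (alternatingGroup α) := (alternatingGroup.ofSubtype s).range

theorem mem_AO {s : Finset α} {k : alternatingGroup α} :
    k ∈ AO s ↔ ∀ x, x ∉ s → (k : Perm α) x = x := by
  rw [alternatingGroup.mem_range_ofSubtype_iff]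
  constructor
  · intro h x hx
    by_contra hk
    exact hx (h (mem_support.mpr hk))
  · intro h x hx
    by_contra hs
    exact (mem_support.mp hx) (h x hs)

theorem exists_cyc {s : Finset α} {x : α} (hx : x ∈ s) (w : α) (hw : w ≠ x)
    (h : 3 ≤ (s.erase w).card) :
    ∃ c ∈ AO s, (c : Perm α) x ≠ x ∧ (c : Perm α) w = w := by
  have h2 : 1 < ((s.erase w).erase x).card := by
    rw [Finset.card_erase_of_mem (Finset.mem_erase.mpr ⟨hw.symm, hx⟩)]; omega
  obtain ⟨y, hy, z, hz, hyz⟩ := Finset.one_lt_card.mp h2
  simp only [Finset.mem_erase] at hy hz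
  have h3 := isThreeCycle_swap_mul_swap_same (Ne.symm hy.1) (Ne.symm hz.1) hyz
  refine ⟨⟨_, h3.mem_alternatingGroup⟩, mem_AO.mpr ?_, ?_, ?_⟩
  · intro u hu
    have : u ≠ x := by rintro rfl; exact hu hx
    have : u ≠ y := by rintro rfl; exact hu hy.2.2
    have : u ≠ z := by rintro rfl; exact hu hz.2.2
    simp [swap_apply_of_ne_of_ne, *]
  · simp only [coe_mul, Function.comp_apply, swap_apply_left]
    rw [swap_apply_of_ne_of_ne hz.1 hyz.symm]; exact hz.1
  · simp only [coe_mul, Function.comp_apply]
    rw [swap_apply_of_ne_of_ne hw (Ne.symm hz.2.1), swap_apply_of_ne_of_ne hw (Ne.symm hy.2.1)]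

theorem subset_of_AO_le {s t : Finset α} (hs : 3 ≤ s.card) (h : AO s ≤ AO t) : s ⊆ t := by
  intro x hx
  by_contra hxt
  have h2 : 1 < (s.erase x).card := by
    rw [Finset.card_erase_of_mem hx]; omega
  obtain ⟨y, hy, z, hz, hyz⟩ := Finset.one_lt_card.mp h2
  simp only [Finset.mem_erase] at hy hz
  have h3 := isThreeCycle_swap_mul_swap_same (Ne.symm hy.1) (Ne.symm hz.1) hyz
  have hm : (⟨_, h3.mem_alternatingGroup⟩ : alternatingGroup α) ∈ AO s := by
    rw [mem_AO]
    intro u hu
    have : u ≠ x := by rintro rfl; exact hu hx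
    have : u ≠ y := by rintro rfl; exact hu hy.2
    have : u ≠ z := by rintro rfl; exact hu hz.2
    simp [swap_apply_of_ne_of_ne, *]
  have := mem_AO.mp (h hm) x hxt
  simp only [coe_mul, Function.comp_apply, swap_apply_left] at this
  rw [swap_apply_of_ne_of_ne hz.1 hyz.symm] at this
  exact hz.1 this

theorem centralizer_AO {s : Finset α} (hs : 4 ≤ s.card) :
    Subgroup.centralizer (AO s : Set (alternatingGroup α)) = AO sᶜ := by
  ext g
  constructor
  · intro hg
    rw [mem_AO]
    intro x hx
    rw [Finset.mem_compl, not_not] at hx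
    by_contra hgx
    obtain ⟨c, hc, hc1, hc2⟩ := exists_cyc hx _ hgx (by
      have := Finset.pred_card_le_card_erase (s := s) (a := (g : Perm α) x); omega)
    have h1 := congrArg (fun u : alternatingGroup α => (u : Perm α) x) (hg c hc)
    simp only [Subgroup.coe_mul, coe_mul, Function.comp_apply] at h1
    rw [hc2] at h1
    exact hc1 ((g : Perm α).injective h1).symm
  · intro hg c hc
    apply Subtype.ext
    have : Perm.Disjoint (c : Perm α) (g : Perm α) := by
      intro x
      by_cases hx : x ∈ s
      · right; exact mem_AO.mp hg x (by simpa using hx)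
      · left; exact mem_AO.mp hc x hx
    exact this.commute.eq

theorem map_AO (s : Finset α) (g : alternatingGroup α) :
    (AO s).map (MulAut.conj g).toMonoidHom = AO (g • s) :=
  alternatingGroup.conj_smul_range_ofSubtype s g

theorem mem_normalizer_AO {s : Finset α} (hs : 3 ≤ s.card) {g : alternatingGroup α} :
    g ∈ Subgroup.normalizer (AO s : Set (alternatingGroup α)) ↔ g • s = s := by
  rw [CL.Comp.mem_normalizer_iff_conj, map_AO]
  constructor
  · intro h
    have h1 := subset_of_AO_le hs h.ge
    exact (Finset.eq_of_subset_of_card_le h1 (by rw [Finset.card_smul_finset])).symm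
  · intro h; rw [h]

theorem card_AO (s : Finset α) : Nat.card (AO s) = Nat.card (alternatingGroup s) :=
  (Nat.card_congr (MonoidHom.ofInjective alternatingGroup.ofSubtype_injective).toEquiv).symm

theorem odd_card_AO {s : Finset α} (hs : s.card ≤ 3) : Odd (Nat.card (AO s)) := by
  rw [card_AO]
  rcases subsingleton_or_nontrivial s with h | h
  · rw [Nat.card_unique]; exact odd_one
  · rw [nat_card_alternatingGroup]
    have h2 : 1 < Nat.card s := Finite.one_lt_card
    have h3 : Nat.card s = s.card := by simp
    rw [h3] at h2 ⊢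
    interval_cases s.card <;> decide

theorem AO_inf (s t : Finset α) : AO s ⊓ AO t = AO (s ∩ t) := by
  ext g
  simp only [Subgroup.mem_inf, alternatingGroup.mem_range_ofSubtype_iff, Finset.subset_inter_iff]

theorem smul_compl (g : alternatingGroup α) (s : Finset α) : g • sᶜ = (g • s)ᶜ := by
  ext x
  simp only [← Finset.inv_smul_mem_iff, Finset.mem_compl]

theorem std {s : Finset α} (hs : 5 ≤ s.card) (ht : sᶜ.card = 4) : IsStandardSubgroup (AO s) := by
  have hC := centralizer_AO (s := s) (by omega)
  refine ⟨?_, ⟨?_, ?_⟩, ?_, ?_⟩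
  · have h5 : 5 ≤ Nat.card s := by simpa using hs
    haveI := alternatingGroup.isSimpleGroup h5
    have h1 : IsQuasisimple (alternatingGroup s) := CL.Comp.isQuasisimple_of_isSimpleGroup (by
      rw [alternatingGroup.isMulCommutative_iff_card_le_three]; omega)
    exact h1.of_mulEquiv (MonoidHom.ofInjective alternatingGroup.ofSubtype_injective)
  · have h3 : Nat.card (sᶜ : Finset α) = 4 := by rw [Nat.card_eq_fintype_card, Fintype.card_coe, ht]
    haveI : Nontrivial (sᶜ : Finset α) := Finite.one_lt_card_iff_nontrivial.mp (by omega)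
    rw [hC, card_AO, nat_card_alternatingGroup, h3]; decide
  · intro g hg
    rw [hC] at hg ⊢
    rw [mem_normalizer_AO (by omega)] at hg
    rw [map_AO, AO_inf]
    apply odd_card_AO
    by_contra h
    apply hg
    have h1 : sᶜ ∩ g • sᶜ = sᶜ :=
      Finset.eq_of_subset_of_card_le Finset.inter_subset_left (by omega)
    have h2 : sᶜ ⊆ g • sᶜ := Finset.inter_eq_left.mp h1
    exact (Finset.eq_of_subset_of_card_le h2 (by rw [Finset.card_smul_finset])).symm
  · intro g _ h
    rw [Subgroup.commutator_comm, Subgroup.commutator_eq_bot_iff_le_centralizer, hC, map_AO] at h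
    have := Finset.card_le_card (subset_of_AO_le (by rw [Finset.card_smul_finset]; omega) h)
    rw [Finset.card_smul_finset] at this
    omega
  · rw [hC]
    ext g
    rw [mem_normalizer_AO (by omega), mem_normalizer_AO (by omega), smul_compl, compl_inj_iff]

end

/-- For n ≥ 9, the subgroup of the alternating group on Fin n fixing each of the points 0, 1, 2, 3 is a standard subgroup. -/
theorem result (n : ℕ) (h4 : 4 ≤ n) (hn : 9 ≤ n) : Cfsg.IsStandardSubgroup (⨅ i : Fin 4, MulAction.stabilizer ↥(alternatingGroup (Fin n)) (Fin.castLE h4 i : Fin n)) := by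
  have hinj : Function.Injective (Fin.castLE h4) := Fin.castLE_injective h4
  have hc : ((Finset.univ : Finset (Fin 4)).image (Fin.castLE h4)).card = 4 := by
    rw [Finset.card_image_of_injective _ hinj]; simp
  have h := std (s := ((Finset.univ : Finset (Fin 4)).image (Fin.castLE h4))ᶜ)
    (by rw [Finset.card_compl, hc]; simp; omega) (by rw [compl_compl, hc])
  convert h using 1
  ext g
  rw [mem_AO, Subgroup.mem_iInf]
  constructor
  · intro hg x hx
    simp only [Finset.mem_compl, not_not, Finset.mem_image, Finset.mem_univ, true_and] at hx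
    obtain ⟨i, rfl⟩ := hx
    exact hg i
  · intro hg i
    exact hg _ (by simp)

end Cfsg.Agent.S1323
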