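import Cfsg.Statements.S1333
import Cfsg.Agent.KSG.KOut
import Cfsg.Agent.SIG.Schreier
-- import your own Cfsg.Agent.* helpers here

set_option autoImplicit false
open Cfsg

namespace Cfsg.Agent.S1333

/-- Let X be a finite group whose non-abelian composition factors are known simple groups, p any prime, and P a p-subgroup of X. Then L_{p'}(C_X(P)) ≤ L_{p'}(X). -/
theorem result {X : Type*} [Group X] [Finite X] (hK : Cfsg.IsCompositionKGroup X) (p : ℕ) [Fact p.Prime] (P : Subgroup X) (hP : IsPGroup p ↥P) : (Cfsg.pLayer p ↥(Subgroup.centralizer (P : Set X))).map (Subgroup.centralizer (P : Set X)).subtype ≤ Cfsg.pLayer p X := by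
  exact CL.PComp.pLayerOf_centralizer_le_of_schreier (fun K hc => by
    have := hc.2.2
    exact CL.KOut.solvable (CL.KG.known_component
      (CL.KG.isCompositionKGroup_of_surjective hK _ (QuotientGroup.mk'_surjective _)) hc)) hP

end Cfsg.Agent.S1333
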