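import Cfsg.Statements.S1334
import Mathlib
import Cfsg.Agent.SIG.KBalance

set_option autoImplicit false
open Cfsg

namespace Cfsg.Agent.S1334

/-- Let G be finite such that every p-local subgroup has all its non-abelian composition factors among the known simple groups, and let a, b be commuting elements of order p. Then the p-layer of L_{p'}(C_G(a)) ∩ C_G(b) equals the p-layer of L_{p'}(C_G(b)) ∩ C_G(a) (both viewed in G). -/
theorem result {G : Type*} [Group G] [Finite G] (p : ℕ) [Fact p.Prime] (hK : ∀ T : Subgroup G, IsPGroup p ↥T → T ≠ ⊥ → Cfsg.IsCompositionKGroup ↥(Subgroup.normalizer (T : Set G))) (a b : G) (ha : orderOf a = p) (hb : orderOf b = p) (hab : a * b = b * a) : (Cfsg.pLayer p ↥((Cfsg.pLayer p ↥(Subgroup.centralizer ({a} : Set G))).map (Subgroup.centralizer ({a} : Set G)).subtype ⊓ Subgroup.centralizer ({b} : Set G))).map ((Cfsg.pLayer p ↥(Subgroup.centralizer ({a} : Set G))).map (Subgroup.centralizer ({a} : Set G)).subtype ⊓ Subgroup.centralizer ({b} : Set G)).subtype = (Cfsg.pLayer p ↥((Cfsg.pLayer p ↥(Subgroup.centralizer ({b}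 : Set G))).map (Subgroup.centralizer ({b} : Set G)).subtype ⊓ Subgroup.centralizer ({a} : Set G))).map ((Cfsg.pLayer p ↥(Subgroup.centralizer ({b} : Set G))).map (Subgroup.centralizer ({b} : Set G)).subtype ⊓ Subgroup.centralizer ({a} : Set G)).subtype := by
  open CL.PComp in
  have key : ∀ a b : G, orderOf a = p → orderOf b = p → a * b = b * a →
      pLayerOf p (pLayerOf p (Subgroup.centralizer ({a} : Set G)) ⊓ Subgroup.centralizer ({b} : Set G)) =
      pLayerOf p (Subgroup.centralizer ({a} : Set G) ⊓ Subgroup.centralizer ({b} : Set G)) := by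
    intro a b ha hb hab
    have hP : ∀ x : G, orderOf x = p → IsPGroup p (Subgroup.zpowers x) := fun x hx =>
      isPGroup_zpowers (k := 1) (by rw [pow_one, ← hx, pow_orderOf_eq_one])
    have ha1 : Subgroup.zpowers a ≠ ⊥ := by
      rw [Ne, Subgroup.zpowers_eq_bot]
      rintro rfl
      rw [orderOf_one] at ha
      exact (Fact.out : p.Prime).one_lt.ne ha
    have hle : Subgroup.centralizer ({a} : Set G) ≤
        Subgroup.normalizer ((Subgroup.zpowers a : Subgroup G) : Set G) := by
      rw [← centralizer_zpowers_eq]; exact centralizer_le_normalizer_self _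
    have h1 := CL.KG.isCompositionKGroup_subnormal (hK _ (hP a ha) ha1)
      (H := (Subgroup.centralizer ({a} : Set G)).subgroupOf _) (CL.Comp.subnormalIn_of_le_normalizer
        (by rw [← centralizer_zpowers_eq]; exact CL.normalizer_le_normalizer_centralizer _))
    have h2 : Cfsg.IsCompositionKGroup (Subgroup.centralizer ({a} : Set G)) :=
      CL.KG.isCompositionKGroup_of_surjective h1 (Subgroup.subgroupOfEquivOfLe hle).toMonoidHom
        (Subgroup.subgroupOfEquivOfLe hle).surjective
    have h3 := (lBal_of_compK (p := p) h2).le (hP b hb)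
      (Subgroup.zpowers_le.2 (Subgroup.mem_centralizer_singleton_iff.2 hab.symm))
    rw [centralizer_zpowers_eq] at h3
    refine pLayerOf_eq_pLayerOf (inf_le_inf_right _ (pLayerOf_le _))
      (CL.Comp.subnormalIn_of_le_normalizer (CL.le_normalizer_inf
        (inf_le_left.trans (le_normalizer_pLayerOf _)) (inf_le_right.trans Subgroup.le_normalizer)))
      (le_inf h3 ((pLayerOf_le _).trans inf_le_right))
  have h1 := key a b ha hb hab
  have h2 := key b a hb ha hab.symm
  rw [inf_comm (Subgroup.centralizer ({b} : Set G))] at h2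
  exact h1.trans h2.symm

end Cfsg.Agent.S1334
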