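import Cfsg.Statements.S1339
import Cfsg.Agent.SIG.FStar

set_option autoImplicit false
open Cfsg

namespace Cfsg.Agent.S1339


open Matrix

theorem eq_one_of_ne {F : Type*} [Field F] [Fintype F] (hF : Fintype.card F = 2) {a : F}
    (ha : a ≠ 0) : a = 1 := by
  have := FiniteField.pow_card_sub_one_eq_one a ha
  rw [hF] at this; simpa using this

/-- Let F be a field with 2 elements, n ≥ 3, and t ∈ SL(n, F) a transvection (t = 1 + E_{ij}, i ≠ j). Then the generalized Fitting subgroup of C(t) is O_2(C(t)). -/
theorem result {F : Type*} [Field F] [Fintype F] [DecidableEq F] (hF : Fintype.card F = 2) (n : ℕ) (hn : 3 ≤ n) (i j : Fin n) (hij : i ≠ j) (t : Matrix.SpecialLinearGroup (Fin n) F) (ht : (t : Matrix (Fin n) (Fin n) F) = Matrix.transvection i j 1) : Cfsg.generalizedFittingSubgroup ↥(Subgroup.centralizer ({t} : Set (Matrix.SpecialLinearGroup (Fin n) F))) = Cfsg.pCore 2 ↥(Subgroup.centralizer ({t} : Set (Matrix.SpecialLinearGroup (Fin n) F))) := by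
  haveI : Fact (Nat.Prime 2) := ⟨Nat.prime_two⟩
  have h2 : (2 : F) = 0 := by
    have := FiniteField.cast_card_eq_zero F
    rw [hF] at this; exact_mod_cast this
  let C := Subgroup.centralizer ({t} : Set (Matrix.SpecialLinearGroup (Fin n) F))
  let ρ : C →* Matrix (Fin n) (Fin n) F := Matrix.SpecialLinearGroup.coeMonoidHom.comp C.subtype
  have hρ : Function.Injective ρ := Subtype.val_injective.comp Subtype.val_injective
  let E : Matrix (Fin n) (Fin n) F := single i i 1
  have hEE : E * E = E := by simp [E]
  have hC : ∀ x : C, ρ x * E = E := by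
    intro x
    have h0 : x.1 * t = t * x.1 := Subgroup.mem_centralizer_singleton_iff.mp x.2
    have h1 : ρ x * t.1 = t.1 * ρ x := congrArg Subtype.val h0
    rw [ht, Matrix.transvection, mul_add, add_mul, mul_one, one_mul, add_right_inj] at h1
    have h3 : ρ x * E = single i i (ρ x j j) := by
      have : E = single i j (1 : F) * single j i 1 := by simp [E]
      rw [this, ← mul_assoc, h1, single_mul_mul_single]; simp
    have h4 : ρ x j j ≠ 0 := by
      intro h0
      rw [h0, single_zero] at h3
      have : E = 0 := by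
        calc E = ρ x⁻¹ * (ρ x * E) := by rw [← mul_assoc, ← map_mul]; simp
          _ = 0 := by rw [h3, mul_zero]
      have h5 := congrFun (congrFun this i) i
      simp [E] at h5
    rw [h3, eq_one_of_ne hF h4]
  let Q : Subgroup C :=
    { carrier := {x | (1 - E) * ρ x = 1 - E}
      mul_mem' := by
        intro a b ha hb
        simp only [Set.mem_ofPred_eq] at ha hb ⊢
        rw [map_mul, ← mul_assoc, ha, hb]
      one_mem' := by simp
      inv_mem' := by
        intro a ha
        simp only [Set.mem_ofPred_eq] at ha ⊢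
        calc (1 - E) * ρ a⁻¹ = (1 - E) * ρ a * ρ a⁻¹ := by rw [ha]
          _ = 1 - E := by rw [mul_assoc, ← map_mul]; simp }
  have hQ : ∀ x, x ∈ Q ↔ (1 - E) * ρ x = 1 - E := fun x => Iff.rfl
  haveI : Q.Normal := by
    constructor
    intro q hq x
    rw [hQ] at hq ⊢
    have h1 : (1 - E) * ρ x = (1 - E) * ρ x * (1 - E) := by
      rw [mul_sub, mul_one, mul_assoc, hC, sub_mul 1 E E, one_mul, hEE, sub_self, sub_zero]
    rw [map_mul, map_mul, ← mul_assoc, ← mul_assoc, h1, mul_assoc _ (1 - E), hq, ← h1, mul_assoc,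
      ← map_mul]
    simp
  have hp : IsPGroup 2 Q := by
    rintro ⟨q, hq⟩
    refine ⟨1, Subtype.ext (hρ ?_)⟩
    rw [hQ] at hq
    have h1 : ρ q - 1 = E * (ρ q - 1) := by
      rw [sub_mul, one_mul] at hq
      rw [mul_sub, mul_one]
      linear_combination (norm := noncomm_ring) hq
    have h3 : (ρ q - 1) * (ρ q - 1) = 0 := by
      conv_lhs => rw [h1, mul_assoc, ← mul_assoc (ρ q - 1) E, sub_mul (ρ q) 1 E, hC]
      simp
    have h4 : (2 : Matrix (Fin n) (Fin n) F) = 0 := by
      have : (2 : Matrix (Fin n) (Fin n) F) = (2 : F) • 1 := by rw [two_smul, one_add_one_eq_two]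
      rw [this, h2, zero_smul]
    show ρ (q ^ (2 ^ 1)) = ρ 1
    rw [pow_one, pow_two, map_mul, map_one]
    calc ρ q * ρ q = (ρ q - 1) * (ρ q - 1) + 2 * (ρ q - 1) + 1 := by noncomm_ring
      _ = 1 := by rw [h3, h4]; simp
  refine CL.Comp.fstar_eq_pCore_of_centralizer_le (Q := Q) hp ?_
  intro x hx
  have key : ∀ k, k ≠ i → single i k (1 : F) * ρ x = single i k 1 := by
    intro k hk
    have hmem : Matrix.SpecialLinearGroup.transvection hk.symm (1 : F) ∈ C := by
      rw [Subgroup.mem_centralizer_singleton_iff]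
      apply Subtype.ext
      show Matrix.transvection i k 1 * t.1 = t.1 * Matrix.transvection i k 1
      rw [ht]
      simp only [Matrix.transvection, mul_add, add_mul, mul_one, one_mul,
        single_mul_single_of_ne _ _ _ _ hk, single_mul_single_of_ne _ _ _ _ hij.symm]
      abel
    have hval : ρ ⟨_, hmem⟩ = 1 + single i k 1 := rfl
    have hq : (⟨_, hmem⟩ : C) ∈ Q := by
      rw [hQ, hval, mul_add, mul_one, sub_mul]
      simp [E]
    have h1 := congrArg ρ (hx _ hq)
    rw [map_mul, map_mul, hval, mul_add, add_mul, mul_one, one_mul, add_right_inj] at h1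
    have h3 : single i k (1 : F) = E * single i k 1 := by simp [E]
    rw [h1, h3, ← mul_assoc, hC]
  rw [hQ]
  ext a b
  by_cases ha : a = i
  · subst ha
    simp [sub_mul, E, one_apply, single_apply, eq_comm]
  · have := congrFun (congrFun (key a ha) i) b
    simp only [single_mul_apply_same, one_mul] at this
    simp [sub_mul, E, ha, Ne.symm ha, this, one_apply, single_apply]

end Cfsg.Agent.S1339
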