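import Cfsg.Statements.S1340
import Cfsg.Agent.SIG.SLCorner
import Cfsg.Agent.SOLV.Core

set_option autoImplicit false
open Cfsg

namespace Cfsg.Agent.S1340


theorem two_ne {F : Type*} [Field F] [Fintype F] (hF : Odd (Fintype.card F)) : (2 : F) ≠ 0 := by
  apply Ring.two_ne_zero
  intro h
  have := FiniteField.even_card_of_char_two h
  rw [Nat.odd_iff] at hF
  omega

/-- Let F be a finite field of odd order and n ≥ 3 with (n, |F|) ≠ (3, 3). Then GL(n, F) has a non-central involution t such that C(t) / O(C(t)) has a component. -/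
theorem result {F : Type*} [Field F] [Fintype F] [DecidableEq F] (hF : Odd (Fintype.card F)) (n : ℕ) (hn : 3 ≤ n) (h33 : ¬ (n = 3 ∧ Fintype.card F = 3)) : ∃ t : Matrix.GeneralLinearGroup (Fin n) F, orderOf t = 2 ∧ t ∉ Subgroup.center (Matrix.GeneralLinearGroup (Fin n) F) ∧ Cfsg.HasComponent (↥(Subgroup.centralizer ({t} : Set (Matrix.GeneralLinearGroup (Fin n) F))) ⧸ Cfsg.oddCore ↥(Subgroup.centralizer ({t} : Set (Matrix.GeneralLinearGroup (Fin n) F)))) := by
  obtain ⟨m, rfl⟩ : ∃ m, n = m + 1 := ⟨n - 1, by omega⟩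
  have h2 := two_ne hF
  let e : Fin m ⊕ Unit ≃ Fin (m + 1) :=
    ((Equiv.refl _).sumCongr (Equiv.ofUnique Unit (Fin 1))).trans finSumFinEquiv
  let ρ : Matrix.GeneralLinearGroup (Fin (m + 1)) F →* Matrix (Fin (m + 1)) (Fin (m + 1)) F :=
    Units.coeHom _
  have hρ : Function.Injective ρ := Units.val_injective
  have hsq : CL.Corner.blk e (-1 : Matrix (Fin m) (Fin m) F) 1 * CL.Corner.blk e (-1) 1 = 1 := by
    rw [CL.Corner.blk_mul]; simp [CL.Corner.blk_one]
  let t : Matrix.GeneralLinearGroup (Fin (m + 1)) F := ⟨_, _, hsq, hsq⟩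
  have ht' : ρ t = CL.Corner.blk e (-1) 1 := rfl
  haveI : Nontrivial (Fin m) := Fin.nontrivial_iff_two_le.mpr (by omega)
  have hperf : commutator (Matrix.SpecialLinearGroup (Fin m) F) = ⊤ := by
    by_cases hm : 3 ≤ m
    · exact CL.SL.commutator_eq_top_of_three_le (by simpa using hm)
    · have h1 : 1 < Fintype.card F := Fintype.one_lt_card
      rw [Nat.odd_iff] at hF
      obtain ⟨a, ha, ha2⟩ := CL.SL.exists_sq_ne_one_of_four_le_card (F := F) (by
        rw [Nat.card_eq_fintype_card]; omega)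
      exact CL.SL.commutator_eq_top_of_sq_ne_one ha ha2
  have hq := CL.Corner.isQuasisimple_SL hperf
  let φ : Matrix.SpecialLinearGroup (Fin m) F →* Matrix.GeneralLinearGroup (Fin (m + 1)) F :=
    Matrix.SpecialLinearGroup.toGL.comp (CL.Corner.emb e)
  have hφ : ∀ A, ρ (φ A) = CL.Corner.blk e A.1 1 := fun A => rfl
  have hneg1 : (-1 : F) ≠ 1 := fun h => h2 (by linear_combination -h)
  haveI : Fact (Nat.Prime 2) := ⟨Nat.prime_two⟩
  have ht2 : orderOf t = 2 := by
    apply orderOf_eq_prime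
    · apply hρ
      rw [pow_two, map_mul, ht', hsq, map_one]
    · intro h
      rw [h, map_one, ← CL.Corner.blk_one e] at ht'
      have := congrFun (congrFun (CL.Corner.blk_inj e ht').1 ⟨0, by omega⟩) ⟨0, by omega⟩
      simp at this
      exact hneg1 this.symm
  have hcomp := CL.Corner.isComponent_range e ρ hρ _ hφ ht' h2 hq
  have hle := CL.Corner.range_le_centralizer e ρ hρ _ hφ ht'
  refine ⟨t, ht2, ?_, ?_⟩
  · intro hc
    have hne : e (Sum.inl ⟨0, by omega⟩) ≠ e (Sum.inr ()) := by simp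
    have hg : Matrix.SpecialLinearGroup.toGL (Matrix.SpecialLinearGroup.transvection hne (1 : F)) ∈
        Subgroup.centralizer ({t} : Set _) :=
      Subgroup.mem_centralizer_singleton_iff.mpr (Subgroup.mem_center_iff.mp hc _)
    obtain ⟨A, -, d, -, h1, -⟩ := CL.Corner.exists_blk_of_mem e ρ ht' h2 hg
    have h3 := congrFun (congrFun h1 (e (Sum.inl ⟨0, by omega⟩))) (e (Sum.inr ()))
    rw [CL.Corner.blk_lr] at h3
    have h4 : Matrix.transvection (e (Sum.inl ⟨0, by omega⟩)) (e (Sum.inr ())) (1 : F)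
      (e (Sum.inl ⟨0, by omega⟩)) (e (Sum.inr ())) = 0 := h3
    simp [Matrix.transvection] at h4
  · refine (hcomp.map_of_surjective (QuotientGroup.mk' _) (QuotientGroup.mk'_surjective _)
      ?_).hasComponent
    rw [Ne, Subgroup.map_eq_bot_iff, QuotientGroup.ker_mk']
    intro h
    have hij : (⟨0, by omega⟩ : Fin m) ≠ ⟨1, by omega⟩ := by simp
    have hn0 : (-1 : F) ≠ 0 := by simp
    let s := Matrix.SpecialLinearGroup.diag2n hij (-1 : F) hn0
    have hs := CL.SL.diag2n_coe_eq hij (-1 : F) hn0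
    have hs2 : orderOf s = 2 := by
      apply orderOf_eq_prime
      · apply Subtype.ext
        show (s.1 ^ 2) = 1
        rw [pow_two, hs]
        simp only [add_mul, mul_add, one_mul, mul_one, Matrix.single_mul_single_same,
          Matrix.single_mul_single_of_ne _ _ _ _ hij, Matrix.single_mul_single_of_ne _ _ _ _ hij.symm]
        ext a b
        simp only [Matrix.add_apply, Matrix.single_apply, Matrix.zero_apply]
        split_ifs <;> simp <;> ring
      · intro h1
        have h3 := congrFun (congrFun hs ⟨0, by omega⟩) ⟨0, by omega⟩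
        have h4 : (Matrix.SpecialLinearGroup.diag2n hij (-1 : F) hn0) = 1 := h1
        rw [h4] at h3
        simp at h3
        exact hneg1 h3.symm
    have hmem := h (show (⟨φ s, hle ⟨s, rfl⟩⟩ : Subgroup.centralizer ({t} : Set _)) ∈ _ from
      Subgroup.mem_subgroupOf.mpr ⟨s, rfl⟩)
    have hd := Subgroup.orderOf_dvd_natCard _ hmem
    rw [← Subgroup.orderOf_coe, orderOf_injective φ (CL.Corner.phi_injective e ρ φ hφ), hs2] at hd
    exact CL.not_dvd_card_pPrimeCore 2 _ hd

end Cfsg.Agent.S1340
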