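import Cfsg.Statements.S1346
import Mathlib
import Cfsg.Agent.SIG.XLayer

set_option autoImplicit false
open Cfsg

namespace Cfsg.Agent.S1346

/-- Let G be a finite group all of whose 2-local subgroups have known non-abelian composition factors, and x, y commuting involutions. Then the extended 2-layer of L*_{2'}(C_G(x)) ∩ C_G(y) (as a group) is contained in L*_{2'}(C_G(y)). -/
theorem result {G : Type*} [Group G] [Finite G] (hK : ∀ T : Subgroup G, IsPGroup 2 ↥T → T ≠ ⊥ → Cfsg.IsCompositionKGroup ↥(Subgroup.normalizer (T : Set G))) (x y : G) (hx : orderOf x = 2) (hy : orderOf y = 2) (hxy : x * y = y * x) : (Cfsg.extendedTwoLayer ↥((Cfsg.extendedTwoLayer ↥(Subgroup.centralizer ({x} : Set G))).map (Subgroup.centralizer ({x} : Set G)).subtype ⊓ Subgroup.centralizer ({y} : Set G))).map ((Cfsg.extendedTwoLayer ↥(Subgroup.centralizer ({x} : Set G))).map (Subgroup.centralizer ({x} : Set G)).subtype ⊓ Subgroup.centralizer ({y} : Set G)).subtype ≤ (Cfsg.extendedTwoLayer ↥(Subgroup.centralizer ({y} : Set G))).map (Subgroup.centralizer ({y} : Set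 G)).subtype := by
  open CL.PComp in
  have hP : IsPGroup 2 (Subgroup.zpowers x) :=
    isPGroup_zpowers (k := 1) (by rw [pow_one, ← hx, pow_orderOf_eq_one])
  have hzx : Subgroup.zpowers x ≤ Subgroup.centralizer ({y} : Set G) :=
    Subgroup.zpowers_le.2 (Subgroup.mem_centralizer_singleton_iff.2 hxy)
  have := extendedTwoLayer_normal (G := Subgroup.centralizer ({x} : Set G))
  refine map_xLayer_le_of_normal' lBal_two hP hzx ?_ ?_
  · rw [centralizer_zpowers_eq, inf_comm]
    exact inf_le_inf_left _ (Subgroup.map_subtype_le _)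
  · rw [centralizer_zpowers_eq]
    exact CL.le_normalizer_inf (inf_le_right.trans (le_normalizer_map_subtype _))
      (inf_le_left.trans Subgroup.le_normalizer)

end Cfsg.Agent.S1346
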