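import Cfsg.Statements.S1626
import Cfsg.Agent.S0478
import Cfsg.Agent.CLAS.FormCount

set_option autoImplicit false
open scoped MatrixGroups
open Matrix
open Cfsg

namespace Cfsg.Agent.S1626

set_option maxRecDepth 100000
set_option exponentiation.threshold 300000

open CL CL.K CL.JX CL.CE CL.Net CL.F2M Cfsg.Spor Pointwise

/-- a stage acting linearly on the positions -/
noncomputable def st (k a b : ℕ) : ℕ × ℕ :=
  (k, Nat.xor (planeB 18 a) (Nat.land (planeB 18 a) (planeB 18 b)))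

/-- the five generators acting on codes of vectors -/
noncomputable def nets : List (List (ℕ × ℕ)) := [
  [st 4088 3 12, st 8176 4 13, st 16352 5 14, st 32768 6 15, st 65536 7 16, st 131072 8 17, st 8 12 3, st 16 13 4, st 32 14 5, st 64 15 6, st 128 16 7, st 256 17 8],
  [st 1022 1 10, st 2044 2 11, st 4088 3 12, st 8192 4 13, st 16384 5 14, st 32704 6 15, st 65536 7 16, st 131072 8 17, st 2 10 1, st 4 11 2, st 8 12 3, st 16 13 4, st 32 14 5, st 64 15 6, st 128 16 7, st 256 17 8],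
  [st 7 0 3, st 14 1 4, st 28 2 5, st 56 3 6, st 65520 4 16, st 224 5 8, st 131072 5 17, st 65408 7 16, st 3584 9 12, st 7168 10 13, st 14336 11 14, st 28672 12 15, st 57344 13 16, st 16 13 4, st 114688 14 17, st 32 14 5],
  [st 126 1 7, st 28 2 5, st 8 3 4, st 16 4 5, st 32 5 6, st 192 6 8, st 128 7 8, st 64512 10 16, st 14336 11 14, st 4096 12 13, st 8192 13 14, st 16384 14 15, st 98304 15 17, st 65536 16 17],
  [st 8 1 3, st 64 1 6, st 8 2 3, st 64 2 6, st 56 3 6, st 2 3 1, st 4 3 2, st 32 4 5, st 256 4 8, st 96 5 7, st 16 5 4, st 256 5 8, st 2 6 1, st 4 6 2, st 16 7 4, st 32 7 5, st 16 8 4, st 128 8 7, st 4096 10 12, st 32768 10 15, st 4096 11 12, st 32768 11 15, st 28672 12 15, st 1024 12 10, st 2048 12 11, st 16384 13 14, st 131072 13 17, st 49152 14 16, st 8192 14 13, st 131072 14 17, st 1024 15 10, st 2048 15 11, st 8192 16 13, st 16384 16 14, st 8192 17 13, st 65536 17 16]]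

theorem valid : Valid 262144 nets := valid_of_all (by decide +kernel)

theorem lin : ∀ a < 5, ∀ b < 18, app (nets.getD a []) (planeB 18 b) =
    xorLt (fun j => cond ((L5.getD a one).testBit (18 * j + b)) (planeB 18 j) 0) 18 := by
  decide +kernel

/-- the generators as words -/
def W : List (List ℕ) := [[0], [1], [2], [3], [4]]

theorem o1 : hasCard 14 (bfs nets W 6 (Nat.pow 2 1)) 69768 = true := by decide +kernel

theorem o2 : Net.inv nets W (bfs nets W 6 (Nat.pow 2 1)) = true := by decide +kernel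

theorem o3 : hasCard 14 (bfs nets W 6 (Nat.pow 2 72)) 130815 = true := by decide +kernel

theorem o4 : (bfs nets W 6 (Nat.pow 2 1)).testBit 1 = true := by decide +kernel

/-- a field element from two bits -/
def f4 : Bool → Bool → F4
  | false, false => .o | true, false => .l | false, true => .w | true, true => .v

/-- the vector with a given code -/
def dv (p : ℕ) (z : F9) : F4 := f4 (p.testBit (nr z)) (p.testBit (9 + nr z))

/-- restriction of scalars -/
def vb (v : F9 → F4) (i : Fin 18) : ZMod 2 := r4 (v (ix.symm i).1) (ix.symm i).2 0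

theorem vb_mul (A : Matrix F9 F9 F4) (v : F9 → F4) : vb (A *ᵥ v) = ρ A *ᵥ vb v := by
  ext i
  rw [Matrix.mulVec, dotProduct, ← ix.sum_comp, Fintype.sum_prod_type]
  simp only [ρ, vb, Matrix.of_apply, Equiv.symm_apply_apply]
  rw [Matrix.mulVec, dotProduct]
  change rho _ _ _ = _
  rw [map_sum, Matrix.sum_apply]
  refine Finset.sum_congr rfl fun k _ => ?_
  rw [map_mul, Matrix.mul_apply]; rfl

theorem vb_inj : Function.Injective vb := fun v w h => funext fun z => by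
  have h0 := congrFun h (ix (z, 0))
  have h1 := congrFun h (ix (z, 1))
  simp only [vb, Equiv.symm_apply_apply] at h0 h1
  exact (by decide : ∀ a b : F4, r4 a 0 0 = r4 b 0 0 → r4 a 1 0 = r4 b 1 0 → a = b) _ _ h0 h1

theorem vb_dv (p : ℕ) (i : Fin 18) : vb (dv p) i = b2z (p.testBit i) := by
  have h1 : ∀ i : Fin 18, ((ix.symm i).2 = 0 ∧ nr (ix.symm i).1 = i) ∨
      ((ix.symm i).2 = 1 ∧ 9 + nr (ix.symm i).1 = i) := by decide +kernel
  have h2 : ∀ a b, r4 (f4 a b) 0 0 = b2z a ∧ r4 (f4 a b) 1 0 = b2z b := by decide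
  rcases h1 i with ⟨e1, e2⟩ | ⟨e1, e2⟩ <;> rw [vb, dv, e1, e2]
  exacts [(h2 _ _).1, (h2 _ _).2]

theorem dv_inj : Set.InjOn dv (Set.Iio 262144) := fun p hp q hq e => Nat.eq_of_testBit_eq fun i => by
  by_cases hi : i < 18
  · exact b2z_inj ((vb_dv p ⟨i, hi⟩).symm.trans (e ▸ vb_dv q ⟨i, hi⟩))
  · have h := Nat.pow_le_pow_right two_pos (not_lt.1 hi)
    rw [Nat.testBit_lt_two_pow (hp.trans_le h), Nat.testBit_lt_two_pow (hq.trans_le h)]

/-- the five generators -/
noncomputable def g5 : ℕ → GL F9 F4 := ltC φ one L5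

theorem rho_g5 (a : ℕ) : ρ (g5 a).val = mdec 18 (L5.getD a one) := by
  have h : mcode (ρ (g5 a).val) = L5.getD a one := (mem_getD isCode mem5 a).code_elt
  rw [← h, mdec_mcode]

theorem bit_lin (c b : ℕ) {p : ℕ} (hp : p < 2 ^ 18) :
    b2z ((xorLt (fun j => cond (c.testBit (18 * j + b)) (planeB 18 j) 0) 18).testBit p) =
      ∑ j : Fin 18, b2z (c.testBit (18 * j + b)) * b2z (p.testBit j) := by
  rw [b2z_xorLt, Finset.sum_range]
  refine Finset.sum_congr rfl fun j _ => ?_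
  cases c.testBit (18 * j + b)
  · simp [b2z]
  · rw [cond_true, testBit_planeB, decide_eq_true hp]; simp [b2z]

theorem bit_sigma {a : ℕ} (ha : a < 5) {p : ℕ} (hp : p < 262144) {b : ℕ} (hb : b < 18) :
    b2z ((Net.sigma nets a p).testBit b) =
      ∑ j : Fin 18, b2z ((L5.getD a one).testBit (18 * j + b)) * b2z (p.testBit j) := by
  have h2 := (validNet_spec (valid.getD a)).1 (planeB 18 b) p
  have h3 := valid.ev_lt [a] hp
  rw [ev_singleton] at h3
  rw [← bit_lin _ _ hp, ← lin a ha b hb, h2, testBit_planeB]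
  change _ = b2z (decide (Net.sigma nets a p < 262144) && (Net.sigma nets a p).testBit b)
  rw [decide_eq_true h3, Bool.true_and]

theorem vb_smul (g : GL F9 F4) (c p : ℕ) (h : ρ g.val = mdec 18 c) (b : Fin 18) : vb (g • dv p) b =
    ∑ j : Fin 18, b2z (c.testBit (18 * j + b)) * b2z (p.testBit j) := by
  rw [Units.smul_def, Matrix.smul_eq_mulVec, vb_mul, h]
  rw [Matrix.mulVec, dotProduct]
  refine Finset.sum_congr rfl fun j _ => ?_
  rw [vb_dv, mdec, Matrix.of_apply]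

theorem dv_sigma {a : ℕ} (ha : a < 5) {p : ℕ} (hp : p < 262144) :
    dv (Net.sigma nets a p) = g5 a • dv p := vb_inj (funext fun b =>
  ((vb_dv _ b).trans (bit_sigma ha hp b.2)).trans (vb_smul _ _ p (rho_g5 a) b).symm)

theorem g5_mem (a : ℕ) : g5 a ∈ U := isCode.elt_mem (mem_getD isCode mem5 a)

theorem lower (p : ℕ) (hp : p < 262144) : bits (bfs nets W 6 (Nat.pow 2 p)) ⊆
    {q | q < 262144 ∧ dv q ∈ MulAction.orbit U (dv p)} := by
  refine valid.bfs_subset (fun w hw q hq => ?_) 6 (by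
    rw [show bits (Nat.pow 2 p) = {p} from bits_two_pow p]
    exact Set.singleton_subset_iff.2 ⟨hp, MulAction.mem_orbit_self _⟩)
  obtain ⟨h1, h2⟩ : _ < _ ∧ _ := hq
  have h3 : q < 262144 := by
    by_contra h
    rw [valid.ev_fix w (not_lt.1 h)] at h1
    exact h h1
  obtain ⟨a, ha, rfl⟩ := (by decide : ∀ w ∈ W, ∃ a < 5, w = [a]) w hw
  rw [ev_singleton, dv_sigma ha h3] at h2
  exact ⟨h3, (MulAction.orbit_eq_iff.2 h2).symm ▸
    MulAction.mem_orbit_symm.1 (MulAction.mem_orbit _ (⟨_, g5_mem a⟩ : U))⟩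

theorem ncard_dv (p : ℕ) (hp : p < 262144) : (dv '' bits (bfs nets W 6 (Nat.pow 2 p))).ncard =
    (bits (bfs nets W 6 (Nat.pow 2 p))).ncard :=
  (dv_inj.mono fun _ hq => (lower p hp hq).1).ncard_image

theorem orb1 : (MulAction.orbit U (Pi.single 0 1 : F9 → F4)).ncard = 69768 := by
  rw [← ncard_bits o1, ← ncard_dv 1 (by norm_num), show Pi.single 0 1 = dv 1 by decide +kernel]
  congr 1
  refine Set.Subset.antisymm ?_ fun _ ⟨q, hq, e⟩ => e ▸ (lower 1 (by norm_num) hq).2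
  have h1 : U ≤ MulAction.stabilizer _ (dv '' bits (bfs nets W 6 (Nat.pow 2 1))) := by
    have h2 : ∀ c ∈ L5, CG.Mem φ (MulAction.stabilizer _
        (dv '' bits (bfs nets W 6 (Nat.pow 2 1)))) c := fun c hc => by
      obtain ⟨a, ha, rfl⟩ := (by decide +kernel : ∀ c ∈ L5, ∃ a < 5, c = L5.getD a one) c hc
      refine (mem_getD isCode mem5 a).of_elt
        ((MulAction.mem_stabilizer_set_iff_smul_set_subset (Set.toFinite _)).2 ?_)
      rintro _ ⟨_, ⟨q, hq, rfl⟩, rfl⟩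
      refine ⟨_, (valid.mem_bits_iff_of_inv o2 (ev_mem_gen ((by decide : ∀ a < 5, [a] ∈ W) a ha))
        q).2 hq, ?_⟩
      rw [ev_singleton]
      exact dv_sigma ha (lower 1 (by norm_num) hq).1
    rw [← gen_eq]
    exact gen_le_iff.2 fun w _ => ev_memC isCode (mem7' h2) w
  rintro _ ⟨g, rfl⟩
  exact (MulAction.mem_stabilizer_iff.1 (h1 g.2)).le ⟨_, ⟨1, o4, rfl⟩, rfl⟩

theorem orb2 : MulAction.orbit U (dv 72) = {v | v ≠ 0 ∧ ∑ z, v z ^ 3 = 0} := by
  have h1 : ∀ v : F9 → F4, ∑ z, v z ^ 3 = ∑ z, v z * v z ^ 2 := fun v => by simp only [pow_succ']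
  refine Set.eq_of_subset_of_ncard_le ?_ (le_trans (le_of_eq ?_) (Set.ncard_le_ncard
    (s := dv '' bits (bfs nets W 6 (Nat.pow 2 72)))
    fun _ ⟨q, hq, e⟩ => e ▸ (lower 72 (by norm_num) hq).2))
  · rintro _ ⟨g, rfl⟩
    refine ⟨(smul_ne_zero_iff_ne g).2 (by decide +kernel), ?_⟩
    rw [h1]
    exact (S0478.U_le g.2 _ _).trans (by decide +kernel)
  · have h2 := FormCount.card_hermForm_eq_zero (F := F4) (q := 2) rfl 9
    rw [Nat.card_congr ((S0478.σ.arrowCongr (Equiv.refl F4)).symm.subtypeEquiv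
      (q := fun v => ∑ z, v z ^ 3 = 0) fun v => by
        rw [h1, hermForm, ← S0478.σ.sum_comp]; rfl)] at h2
    rw [ncard_dv 72 (by norm_num), ncard_bits o3, show {v : F9 → F4 | v ≠ 0 ∧ ∑ z, v z ^ 3 = 0} =
      {v | ∑ z, v z ^ 3 = 0} \ {0} from Set.ext fun v => and_comm,
      Set.ncard_sdiff_singleton_of_mem (by simp), show {v : F9 → F4 | ∑ z, v z ^ 3 = 0}.ncard = _
        from h2]
    rfl

theorem scal (c : F4) (hc : c ≠ 0) : ∃ g : U, ∀ v : F9 → F4, g • v = c • v := by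
  obtain ⟨n, -, rfl⟩ := (by decide : ∀ c : F4, c ≠ 0 → ∃ n < 3, F4.v ^ n = c) c hc
  refine ⟨ζ ^ n, fun v => ?_⟩
  show (((ζ ^ n : U) : GL F9 F4) : Matrix F9 F9 F4) *ᵥ v = _
  rw [Subgroup.coe_pow, Units.val_pow_eq_pow_val, coe_ζ, zw_eq, ← map_pow]
  simp

theorem eU_smul {F : Type*} [Field F] (e : F4 ≃+* F) (g : U) (v : F9 → F4) :
    ((eU e g : GL F9 F) : Matrix F9 F9 F) *ᵥ (e ∘ v) = e ∘ (g • v) :=
  funext fun i => (e.toRingHom.map_mulVec _ v i).symm


/-- Orbits of the triple cover of the third Janko group on lines of its 9-space over the field with 4 elements: the line through the first basis vector has exactly 23256 images, and the isotropic lines (nonzero v with Σ v_z³ = 0) form a single orbit. -/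
theorem result (F : Type) [Field F] [Fintype F] (hF : Fintype.card F = 4) (ω : F) (hω : ω ^ 2 + ω + 1 = 0) : {L : Submodule F (Cfsg.Spor.F9 → F) | ∃ g ∈ Cfsg.Spor.threeJ3 F ω, L = F ∙ ((g : Matrix Cfsg.Spor.F9 Cfsg.Spor.F9 F) *ᵥ (Pi.single (0 : Cfsg.Spor.F9) (1 : F) : Cfsg.Spor.F9 → F))}.ncard = 23256 ∧ ∀ v w : Cfsg.Spor.F9 → F, v ≠ 0 → w ≠ 0 → ∑ z, (v z) ^ 3 = 0 → ∑ z, (w z) ^ 3 = 0 → ∃ g ∈ Cfsg.Spor.threeJ3 F ω, ∃ c : F, c ≠ 0 ∧ (g : Matrix Cfsg.Spor.F9 Cfsg.Spor.F9 F) *ᵥ v = c • w := by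
  classical
  obtain ⟨e, rfl⟩ : ∃ e : F4 ≃+* F, e F4.w = ω := ⟨F4.equiv hF ω hω, rfl⟩
  have hi : Function.Injective fun v : F9 → F4 => e ∘ v := e.injective.comp_left
  have hs : Function.Surjective fun v : F9 → F4 => e ∘ v := e.surjective.comp_left
  constructor
  · let S := ((fun v : F9 → F4 => e ∘ v) ''
      MulAction.orbit U (Pi.single 0 1 : F9 → F4)).toFinite.toFinset
    have h1 : S.card = 69768 := by
      rw [← Set.ncard_eq_toFinset_card, Set.ncard_image_of_injective _ hi, orb1]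
    have h2 : e ∘ (Pi.single 0 1 : F9 → F4) = Pi.single 0 1 := by
      ext z; simp [Pi.single_apply, apply_ite e]
    have h3 : ∀ L ∈ S.image (fun v => F ∙ v), (S.filter fun v => (F ∙ v) = L).card = 3 := by
      intro L hL
      obtain ⟨v, hv, rfl⟩ := Finset.mem_image.1 hL
      obtain ⟨_, ⟨g, rfl⟩, rfl⟩ := (Set.Finite.mem_toFinset _).1 hv
      have h0 : ∀ g : U, e ∘ (g • Pi.single 0 1 : F9 → F4) ≠ 0 := fun g h =>
        (smul_ne_zero_iff_ne g).2 (by decide +kernel) (hi (h.trans (by ext; simp)))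
      refine Eq.trans ?_ (show (Finset.univ.erase (0 : F)).card = 3 by simp [hF])
      rw [← Finset.card_image_of_injective _ (smul_left_injective F (h0 g))]
      congr 1
      ext w
      simp only [Finset.mem_filter, Finset.mem_image, Finset.mem_erase, Finset.mem_univ, and_true]
      refine ⟨fun ⟨k1, k2⟩ => ?_, ?_⟩
      · obtain ⟨c, rfl⟩ := Submodule.mem_span_singleton.1 (k2.le (Submodule.mem_span_singleton_self w))
        obtain ⟨_, ⟨k, rfl⟩, e1⟩ := (Set.Finite.mem_toFinset _).1 k1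
        exact ⟨c, fun e2 => h0 k (e1.trans (by rw [e2, zero_smul])), rfl⟩
      · rintro ⟨c, hc, rfl⟩
        refine ⟨?_, Submodule.span_singleton_smul_eq (Ne.isUnit hc) _⟩
        obtain ⟨c, rfl⟩ := e.surjective c
        obtain ⟨k, hk⟩ := scal c (fun h => hc (by rw [h, map_zero]))
        exact (Set.Finite.mem_toFinset _).2 ⟨_, ⟨k * g, rfl⟩, by ext; simp [mul_smul, hk]⟩
    have h4 := Finset.card_le_mul_card_image S 3 fun L hL => (h3 L hL).le
    have h5 := Finset.mul_card_image_le_card S 3 fun L hL => (h3 L hL).ge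
    rw [show 23256 = (S.image fun v => F ∙ v).card by omega, ← Set.ncard_coe_finset]
    congr 1
    ext L
    simp only [Finset.coe_image, S, Set.Finite.coe_toFinset]
    refine ⟨fun ⟨g, hg, e1⟩ => ?_, ?_⟩
    · obtain ⟨k, e2⟩ := (eU e).surjective ⟨g, hg⟩
      exact ⟨_, ⟨_, ⟨k, rfl⟩, rfl⟩, by beta_reduce; rw [e1, ← h2, ← eU_smul, e2]⟩
    · rintro ⟨_, ⟨_, ⟨k, rfl⟩, rfl⟩, rfl⟩
      exact ⟨_, (eU e k).2, by rw [← h2, eU_smul]⟩
  · intro v w h1 h2 h3 h4
    obtain ⟨v, rfl⟩ := hs v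
    obtain ⟨w, rfl⟩ := hs w
    have key : ∀ v : F9 → F4, e ∘ v ≠ 0 → ∑ z, (e ∘ v) z ^ 3 = 0 → v ∈ MulAction.orbit U (dv 72) :=
      fun v h1 h2 => orb2.ge ⟨fun h => h1 (by ext; simp [h]), e.injective (by simpa using h2)⟩
    obtain ⟨g, hg⟩ := (MulAction.orbit_eq_iff.2 (key v h1 h3)).ge (key w h2 h4)
    exact ⟨_, (eU e g).2, 1, one_ne_zero, by rw [one_smul, eU_smul]; exact congrArg _ hg⟩

end Cfsg.Agent.S1626
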