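import Cfsg.Statements.S1628
import Mathlib
import Cfsg.Agent.SPOR.RuLat

set_option autoImplicit false
open Cfsg

namespace Cfsg.Agent.S1628

/-- The Conway–Wales lattice as stored is even with no vectors of true norm 2: stored norms are multiples of 8, never equal to 8, and the minimum over nonzero vectors is 16. -/
theorem result : (∀ x ∈ Cfsg.Spor.ruLattice, (8 : ℤ) ∣ Cfsg.Spor.ruNorm x) ∧ (∀ x ∈ Cfsg.Spor.ruLattice, Cfsg.Spor.ruNorm x ≠ 8) ∧ (∀ x ∈ Cfsg.Spor.ruLattice, x ≠ 0 → 16 ≤ Cfsg.Spor.ruNorm x) ∧ ∃ x ∈ Cfsg.Spor.ruLattice, Cfsg.Spor.ruNorm x = 16 := by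
  exact ⟨fun _ => CL.Ru.dvd_norm, fun _ => CL.Ru.norm_ne_eight, fun _ => CL.Ru.le_norm,
    _, CL.Ru.X_mem 0, CL.Ru.norm_X (by decide)⟩

end Cfsg.Agent.S1628
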