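import Cfsg.Statements.S1633
import Mathlib
import Cfsg.Agent.SPOR.LeechU35
import Cfsg.Agent.CLAS.UniGen
import Cfsg.Agent.CLAS.UniCongr
import Cfsg.Agent.CLAS.SLBasic
import Cfsg.Agent.S0243
import Cfsg.Agent.S0482

set_option autoImplicit false
open Cfsg

namespace Cfsg.Agent.S1633

open CL.Leech CL.Leech.U35 Cfsg.Spor MulAction

theorem base (F : Type) [Field F] [Fintype F] (hF : Fintype.card F = 25) :
    Nonempty (U35.GU ≃* PSU 3 F 5) := by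
  have := simple_GU
  have hc := card_GU
  have hna : ¬ IsMulCommutative U35.GU := fun h => by
    have h2 := Group.is_simple_iff_prime_card.1 simple_GU
    rw [hc] at h2
    norm_num at h2
  rcases Cfsg.Agent.S0482.result hna rank_GU with ⟨K, _, _, -, -, ⟨e⟩⟩ | ⟨K, _, _, -, ⟨e⟩⟩ |
    ⟨K, _, _, q, hq, ho, ⟨e⟩⟩ | ⟨K, _, _, hq, ⟨e⟩⟩ | ⟨⟨e⟩⟩ | h
  · exfalso
    have h1 := CL.SL.gcd_mul_card_PSL_two (F := K)
    rw [← Nat.card_congr e.toEquiv, hc] at h1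
    generalize Nat.card K = q at h1
    have h2 : Nat.gcd 2 (q - 1) ≤ 2 := Nat.gcd_le_left _ (by norm_num)
    have h3 : q < 64 := by
      by_contra h3
      have h4 : 64 ^ 2 ≤ q ^ 2 := Nat.pow_le_pow_left (by omega) 2
      have h5 : 64 * 4095 ≤ q * (q ^ 2 - 1) := Nat.mul_le_mul (by omega) (by omega)
      omega
    clear h2
    revert h1
    revert q
    decide +kernel
  · exfalso
    have h1 := Cfsg.Agent.S0243.result (F := K) rfl 3 (by norm_num)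
    rw [← Nat.card_congr e.toEquiv, hc, Fin.prod_univ_three] at h1
    have h0 : 1 < Fintype.card K := Fintype.one_lt_card
    generalize Fintype.card K = q at h1 h0
    have h2 : Nat.gcd 3 (q - 1) ≤ 3 := Nat.gcd_le_left _ (by norm_num)
    have h3 : q < 6 := by
      by_contra h3
      obtain ⟨k, rfl⟩ : ∃ k, q = k + 6 := ⟨q - 6, by omega⟩
      have h4 : 215 ≤ (k + 6) ^ 3 - (k + 6) ^ ((0 : Fin 3) : ℕ) := by
        apply Nat.le_sub_of_add_le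
        show 215 + (k + 6) ^ 0 ≤ _
        nlinarith [Nat.zero_le (k ^ 2), Nat.zero_le (k ^ 3)]
      have h5 : 210 ≤ (k + 6) ^ 3 - (k + 6) ^ ((1 : Fin 3) : ℕ) := by
        apply Nat.le_sub_of_add_le
        show 210 + (k + 6) ^ 1 ≤ _
        nlinarith [Nat.zero_le (k ^ 2), Nat.zero_le (k ^ 3)]
      have h6 : 36 * (k + 5) ≤ (k + 6) ^ 3 - (k + 6) ^ ((2 : Fin 3) : ℕ) := by
        apply Nat.le_sub_of_add_le
        show 36 * (k + 5) + (k + 6) ^ 2 ≤ _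
        nlinarith [Nat.zero_le (k ^ 2), Nat.zero_le (k ^ 3)]
      have h7 := Nat.mul_le_mul (Nat.mul_le_mul h4 h5) h6
      have h8 := Nat.mul_le_mul_right ((k + 6 - 1) * 126000) h2
      rw [h1] at h8
      omega
    clear h2
    revert h0 h1
    revert q
    decide +kernel
  · have h1 := CL.Uni.card_PSU hq (n := 3) (by norm_num)
    rw [← Nat.card_congr e.toEquiv, hc] at h1
    have h2 : Nat.gcd 3 (q + 1) ≤ 3 := Nat.gcd_le_left _ (by norm_num)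
    have h3 : q < 6 := by
      by_contra h3
      have h4 : CL.Uni.guOrder q 3 = q ^ 3 * ((q + 1) * (q ^ 2 - 1) * (q ^ 3 + 1)) := by
        simp [CL.Uni.guOrder, Finset.prod_range_succ]
      have h5 : 6 ^ 2 ≤ q ^ 2 := Nat.pow_le_pow_left (by omega) 2
      have h6 : 6 ^ 3 ≤ q ^ 3 := Nat.pow_le_pow_left (by omega) 3
      have h7 : 216 * ((q + 1) * 35 * 217) ≤ q ^ 3 * ((q + 1) * (q ^ 2 - 1) * (q ^ 3 + 1)) :=
        Nat.mul_le_mul h6 (Nat.mul_le_mul (Nat.mul_le_mul_left _ (by omega)) (by omega))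
      have h8 := Nat.mul_le_mul_right ((q + 1) * 126000) h2
      omega
    have h4 : q = 5 := by
      clear hq e h2
      revert ho h1
      revert q
      decide +kernel
    subst h4
    obtain ⟨f⟩ := CL.Uni.nonempty_psuCongr (F := K) (K := F) (by rw [hq, hF]; rfl) 3 5
    exact ⟨e.trans f⟩
  · exfalso
    have h1 := CL.Uni.card_PSU (q := 4) hq (n := 3) (by norm_num)
    rw [← Nat.card_congr e.toEquiv, hc] at h1
    exact absurd h1 (by decide +kernel)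
  · exfalso
    have h1 := Nat.card_congr e.toEquiv
    rw [hc, nat_card_alternatingGroup] at h1
    simp [Nat.factorial] at h1
  · exact absurd (hc.symm.trans h.2) (by norm_num)

/-- The Higman–Sims group acts transitively on 352 vectors, a set closed under x ↦ −w − x, with vector stabiliser isomorphic to PSU(3, 5). -/
theorem result (v w : ↥Cfsg.leechLattice) (hv : Cfsg.sqNorm (v : Cfsg.GolayPt → ℤ) = 48) (hw : Cfsg.sqNorm (w : Cfsg.GolayPt → ℤ) = 48) (hvw : Cfsg.dotInt (v : Cfsg.GolayPt → ℤ) (w : Cfsg.GolayPt → ℤ) = -32) (F : Type) [Field F] [Fintype F] (hF : Fintype.card F = 25) : {x : ↥Cfsg.leechLattice | Cfsg.sqNorm (x : Cfsg.GolayPt → ℤ) = 32 ∧ Cfsg.dotInt (v : Cfsg.GolayPt → ℤ) (x : Cfsg.GolayPt → ℤ) = 16 ∧ Cfsg.dotInt (w : Cfsg.GolayPt → ℤ) (x : Cfsg.GolayPt → ℤ) = -24}.ncard = 352 ∧ (∀ x ∈ {x : ↥Cfsg.leechLattice | Cfsg.sqNorm (x : Cfsg.GolayPt → ℤ) = 32 ∧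 Cfsg.dotInt (v : Cfsg.GolayPt → ℤ) (x : Cfsg.GolayPt → ℤ) = 16 ∧ Cfsg.dotInt (w : Cfsg.GolayPt → ℤ) (x : Cfsg.GolayPt → ℤ) = -24}, -w - x ∈ {x : ↥Cfsg.leechLattice | Cfsg.sqNorm (x : Cfsg.GolayPt → ℤ) = 32 ∧ Cfsg.dotInt (v : Cfsg.GolayPt → ℤ) (x : Cfsg.GolayPt → ℤ) = 16 ∧ Cfsg.dotInt (w : Cfsg.GolayPt → ℤ) (x : Cfsg.GolayPt → ℤ) = -24}) ∧ (∀ x ∈ {x : ↥Cfsg.leechLattice | Cfsg.sqNorm (x : Cfsg.GolayPt → ℤ) = 32 ∧ Cfsg.dotInt (v : Cfsg.GolayPt → ℤ) (x : Cfsg.GolayPt → ℤ) = 16 ∧ Cfsg.dotInt (w : Cfsg.GolayPt → ℤ) (x : Cfsg.GolayPt → ℤ) = -24}, ∀ x' ∈ {x : ↥Cfsg.leechLattice | Cfsg.sqNorm (x : Cfsg.GolayPt → ℤ) = 32 ∧ Cfsg.dotInt (v : Cfsg.GolayPt → ℤ) (x : Cfsg.GolayPt → ℤ) = 16 ∧ Cfsg.dotInt (w : Cfsg.GolayPt → ℤ) (x : Cfsg.GolayPt → ℤ) = -24}, ∃ g : ↥Cfsg.Co0, g • v = v ∧ g • w = w ∧ g • x = x') ∧ ∀ x ∈ {x : ↥Cfsg.leechLattice | Cfsg.sqNorm (x : Cfsg.GolayPt → ℤ) = 32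 ∧ Cfsg.dotInt (v : Cfsg.GolayPt → ℤ) (x : Cfsg.GolayPt → ℤ) = 16 ∧ Cfsg.dotInt (w : Cfsg.GolayPt → ℤ) (x : Cfsg.GolayPt → ℤ) = -24}, Nonempty (↥(MulAction.stabilizer ↥Cfsg.Co0 v ⊓ MulAction.stabilizer ↥Cfsg.Co0 w ⊓ MulAction.stabilizer ↥Cfsg.Co0 x) ≃* Cfsg.PSU 3 F 5) := by
  refine ⟨?_, fun x hx => ?_, fun x hx x' hx' => ?_, fun x hx => ?_⟩
  · obtain ⟨g, rfl, rfl⟩ := exists_smul_hs hv hw hvw
    have h2 := (conj_hs g).ncard_orbit X1
    rwa [orbit_conj_M2 (conj_hs g) orbit_352', ncard_352] at h2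
  · obtain ⟨h1, h2, h3⟩ := hx
    rw [sqNorm_eq_dot] at hw h1
    refine ⟨?_, ?_, ?_⟩
    · rw [sqNorm_eq_dot]
      simp only [AddSubgroup.coe_sub, AddSubgroup.coe_neg, dot_sub_left, dot_sub_right, dot_neg_left,
        dot_neg_right]
      rw [dot_comm (x : GolayPt → ℤ) w]
      omega
    · simp only [AddSubgroup.coe_sub, AddSubgroup.coe_neg, dot_sub_right, dot_neg_right]
      omega
    · simp only [AddSubgroup.coe_sub, AddSubgroup.coe_neg, dot_sub_right, dot_neg_right]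
      omega
  · obtain ⟨a, h1, h2, h3⟩ := exists_smul_hs3 hv hw hvw orbit_352' hx
    obtain ⟨b, h4, h5, h6⟩ := exists_smul_hs3 hv hw hvw orbit_352' hx'
    refine ⟨b * a⁻¹, ?_, ?_, ?_⟩
    · rw [mul_smul, inv_smul_eq_iff.2 h1.symm, h4]
    · rw [mul_smul, inv_smul_eq_iff.2 h2.symm, h5]
    · rw [mul_smul, inv_smul_eq_iff.2 h3.symm, h6]
  · obtain ⟨g, rfl, rfl, rfl⟩ := exists_smul_hs3 hv hw hvw orbit_352' hx
    obtain ⟨e⟩ := base F hF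
    exact ⟨((conj_hs g).inf (conj_stab g X1)).equiv.trans e⟩

end Cfsg.Agent.S1633
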