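import Cfsg.Statements.S1642
import Mathlib
import Cfsg.Agent.SPOR.LeechAll

set_option autoImplicit false
open Cfsg

namespace Cfsg.Agent.S1642

open CL.Leech CL.K CL.Pack Cfsg.Spor MulAction

/-- the involution -/
def tt : ℕ := 0x7210a52108421484210a4214842906419484194a3290a328c85290652148428c8428ca3190a528c83290a521485210632108420c842106420c84390a5210632108420c842106421c84190a41948418c651906529485290a52148428c8418ca5290a329485190a32148429484194a32906519483190a52148418c8429465290a518c85190a52148428c84194a5190a5194852906520c85210632108420c84210e420c84190a42948419465290a528c83290a320c841948428ca5290a319483290a520c842948429463190a329485190a520c8418c84294a32906529485290a320c85210632108421c842106420c84190a428c8429465290632948329065214842948428c63290a5194852906321485210672108420c842106420c84190a419484294a5190a52948319063214842948428ca52906528c851906520c85210e32108420c842106420c84190a429484294a51906318c85290a321483210a52108421484210a421484290e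

theorem tt_ok : okC (fun M K => mapsC cW0 cW0 M K && (mapsC cU' cU' M K && sqOneC M K)) tt = true := by
  decide +kernel

theorem tt_cnt : CntP GHS leechU (fun Y => !(Nat.beq (app (matOf tt) (kOf (matOf tt)) Y) Y)) 0
    0x600200100080040020010008004002001000800400200100080040020010008004002001000c 100 :=
  cntP_of_walk hsT_in le_U (f := 3) (L := [(100, 0x8800340004b00a28020b0073c008e0044c02490001c008d0071000c10043000910062401070011c00080045000cf00124008200030004e0000c038f00d48004f0084001c70101c03cd0010800c800028005300034010a0010c000f0034c028b0000403110001000cc00b44004100734009400218020100c04000201038008400f20040300110008c0011801ca00620018b00438019200844020a0020402020092802cd00634004d0030800110023c00c60064c005000214029200344001200718000904738001000838000e0042c000b0471000d2009340006007380187)]) enc_U (by decide +kernel)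

theorem base : ∃ g ∈ GHS, g * g = 1 ∧ ∀ x ∈ orbit GHS leechU, g • x ≠ x := by
  obtain ⟨g, hg, h⟩ := okC_spec tt_ok
  simp only [Bool.and_eq_true] at h
  refine ⟨g, ⟨mapsC_spec hg le_W0 le_W0 enc_W0 enc_W0 h.1,
    mapsC_spec hg le_U' le_U' enc_U' enc_U' h.2.1⟩, sqOneC_spec hg h.2.2, fun x hx e => ?_⟩
  have h1 := tt_cnt.forall ncard_100.le x hx
  have h2 : sqNorm (x : GolayPt → ℤ) ≤ 80 := by
    obtain ⟨k, rfl⟩ := hx
    exact le_of_eq_of_le (sqNorm_smul k _) le_U
  rw [hg x h2, e] at h1
  simp at h1

/-- Some involution of the Higman–Sims group acts without fixed points on its 100 points. -/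
theorem result (v w : ↥Cfsg.leechLattice) (hv : Cfsg.sqNorm (v : Cfsg.GolayPt → ℤ) = 48) (hw : Cfsg.sqNorm (w : Cfsg.GolayPt → ℤ) = 48) (hvw : Cfsg.dotInt (v : Cfsg.GolayPt → ℤ) (w : Cfsg.GolayPt → ℤ) = -32) : ∃ g : ↥Cfsg.Co0, g • v = v ∧ g • w = w ∧ orderOf g = 2 ∧ ∀ x ∈ {x : ↥Cfsg.leechLattice | Cfsg.sqNorm (x : Cfsg.GolayPt → ℤ) = 32 ∧ Cfsg.dotInt (v : Cfsg.GolayPt → ℤ) (x : Cfsg.GolayPt → ℤ) = 24 ∧ Cfsg.dotInt (w : Cfsg.GolayPt → ℤ) (x : Cfsg.GolayPt → ℤ) = -24}, g • x ≠ x := by
  obtain ⟨g, rfl, rfl⟩ := exists_smul_hs hv hw hvw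
  obtain ⟨t, ht, h2, h3⟩ := base
  have h4 : t • (leechU' - W0) = leechU' - W0 := fix_sub hs_U hs_W t ht
  have h5 : t • W0 = W0 := ht.1
  refine ⟨g * t * g⁻¹, by rw [mul_smul, inv_smul_smul, mul_smul, h5],
    by rw [mul_smul, inv_smul_smul, mul_smul, h4], ?_, fun x hx e => ?_⟩
  · have h6 : t ≠ 1 := by
      rintro rfl
      exact h3 _ (mem_orbit_self _) (one_smul _ _)
    have : Fact (Nat.Prime 2) := ⟨Nat.prime_two⟩
    apply orderOf_eq_prime
    · rw [conj_pow, pow_two, h2, mul_one, mul_inv_cancel]
    · intro h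
      apply h6
      have := congrArg (fun y => g⁻¹ * y * g) h
      simpa [mul_assoc] using this
  · obtain ⟨x, rfl⟩ := MulAction.surjective g x
    have h6 : x ∈ orbit GHS leechU := by
      rw [orbit_100', ← smul_mem_M2_iff g]
      exact hx
    rw [mul_smul, inv_smul_smul, mul_smul] at e
    exact h3 x h6 (MulAction.injective g e)

end Cfsg.Agent.S1642
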