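import Cfsg.Statements.S1678
import Cfsg.Agent.REC.Co3
-- import your own Cfsg.Agent.* helpers here

set_option autoImplicit false
open Cfsg

namespace Cfsg.Agent.S1678

/-- The third Conway group from an involution centraliser: let G be a finite group with no non-trivial normal subgroup of odd order and trivial centre, having an involution t whose centraliser is a non-split double cover of the symplectic group Sp(6, 2). Then G is isomorphic to the third Conway group (the stabiliser in the Leech lattice automorphism group of a vector of the second shortest length). -/
theorem result {G : Type*} [Group G] [Finite G] (hO : Cfsg.oddCore G = ⊥) (hZ : Subgroup.center G = ⊥) (t : G) (ht : orderOf t = 2) (hC : Cfsg.IsNonsplitDoubleCover (Subgroup.centralizer ({t} : Set G)) (Matrix.symplecticGroup (Fin 3) (ZMod 2))) : Cfsg.Spor.IsoCo3 G := by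
  refine CL.Rec.Co3.recog ht hC fun h => ?_
  have h1 := CL.Rec.cent_sup_core_of_isolated h
  rw [hO, sup_bot_eq] at h1
  have h2 : t ∈ Subgroup.center G := Subgroup.mem_center_iff.2 fun g =>
    Subgroup.mem_centralizer_singleton_iff.1 (h1.ge (Subgroup.mem_top g))
  rw [hZ, Subgroup.mem_bot] at h2
  rw [h2, orderOf_one] at ht
  cases ht

end Cfsg.Agent.S1678
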