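import Cfsg.Statements.S1722
import Cfsg.Agent.SPOR.A10.JAlt

set_option autoImplicit false
open Cfsg

namespace Cfsg.Agent.S1722

open CL CL.A10 CL.CE CL.Net CL.Reg

theorem cnt : RG.count (fun r : JH0.H => r * ev JH0.l0 [2, 3, 5] = ev JH0.l0 [2, 3, 5] * r) = 10 := by
  decide +kernel

theorem arith {m i : ℕ} (n1 : 2 ∣ 5 ^ 2 * m) (n2 : 3 ∣ 5 ^ 2 * m) (n4 : i ≡ 1 [MOD 5])
    (n5 : i * (5 ^ 2 * m) = 604800) (n7 : 5 ^ 2 * m ≤ (5 ^ 2 - 5) * (5 * 10)) : 5 ^ 2 * m = 300 := by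
  have n8 := n4.mul_right m
  rw [show i * m = 24192 by nlinarith only [n5], Nat.ModEq] at n8
  omega

/-- an element of order three -/
def Y : List ℕ := [4,3,2,6,3,4,2,4,3,6]

section

variable {G : Type*} [Group G] {g : ℕ → G} (h : PJ R2 g)
include h

theorem ord_h : orderOf (ev g [2, 3, 5]) = 5 :=
  have : Fact (Nat.Prime 5) := ⟨by norm_num⟩
  orderOf_eq_prime (by rw [← ev_wpow]; exact h.eq2 _ [] (by decide +kernel))
    (h.ne_of_fx JM2.fx_h (by norm_num))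

theorem fh : Commute (ev g F5) (ev g [2, 3, 5]) := h.comm2 _ _ (by decide +kernel)

theorem mem_P {u : G} (hu : u ∈ gen g [F5, [2, 3, 5]]) :
    ∃ i j : ℤ, ev g F5 ^ i * ev g [2, 3, 5] ^ j = u := by
  have c : ∀ m n, Commute (zpowersHom G (ev g F5) m) (zpowersHom G (ev g [2, 3, 5]) n) :=
    fun _ _ => (fh h).zpow_zpow _ _
  obtain ⟨p, e⟩ := (gen_le_iff (K := (MonoidHom.noncommCoprod _ _ c).range)).2 (by
    simp only [List.forall_mem_cons]
    exact ⟨⟨(Multiplicative.ofAdd 1, 1), by simp⟩, ⟨(1, Multiplicative.ofAdd 1), by simp⟩,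
      by simp⟩) hu
  exact ⟨_, _, e⟩

theorem conj_y (i j : ℤ) : ev g Y * (ev g F5 ^ i * ev g [2, 3, 5] ^ j) * (ev g Y)⁻¹ =
    ev g F5 ^ (2 * i + j) * ev g [2, 3, 5] ^ (3 * i + 2 * j) := by
  have h1 := h.eq2 (Y ++ F5) (wpow F5 2 ++ wpow [2, 3, 5] 3 ++ Y) (by decide +kernel)
  have h2 := h.eq2 (Y ++ [2, 3, 5]) (F5 ++ wpow [2, 3, 5] 2 ++ Y) (by decide +kernel)
  simp only [ev_append, ev_wpow] at h1 h2
  have c := fh h
  rw [← conj_mul, ← conj_zpow, ← conj_zpow, h1, h2, mul_inv_cancel_right, mul_inv_cancel_right,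
    (c.pow_pow 2 3).mul_zpow, (c.pow_right 2).mul_zpow, ← zpow_natCast, ← zpow_natCast,
    ← zpow_natCast, ← zpow_mul, ← zpow_mul, ← zpow_mul, zpow_add, zpow_add,
    (c.zpow_zpow _ _).symm.mul_mul_mul_comm]
  rfl

theorem nc {u : G} (hu : u ∈ Subgroup.zpowers (ev g F5)) : ¬ IsConj (ev g [2, 3, 5]) u := fun e => by
  have := h.model2.finite
  have h1 := h.model2.ncard_Fx_conj e
  rw [Fx_eq_of_zpowers (Subgroup.eq_of_le_of_card_ge (Subgroup.zpowers_le.2 hu) (by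
    rw [Nat.card_zpowers, Nat.card_zpowers, h.ord_f, Small.orderOf_eq_of_isConj e, ord_h h])),
    h.fx2 JM2.fx_h, h.fx2 (w := F5) JM2.fx_f] at h1
  omega

theorem exists_syl (P : Sylow 5 G) : ∃ g : ℕ → G, PJ R2 g ∧ gen g [F5, [2, 3, 5]] = P := by
  have := h.model2.finite
  have : Fact (Nat.Prime 5) := ⟨by norm_num⟩
  have h1 : IsPGroup 5 (gen g [F5, [2, 3, 5]]) := fun ⟨u, hu⟩ => ⟨1, Subtype.ext (by
    obtain ⟨i, j, rfl⟩ := mem_P h hu
    rw [Subgroup.coe_pow, ((fh h).zpow_zpow i j).mul_pow, ← zpow_natCast, ← zpow_natCast, ← zpow_mul,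
      ← zpow_mul, orderOf_dvd_iff_zpow_eq_one.1 (by rw [h.ord_f]; simp),
      orderOf_dvd_iff_zpow_eq_one.1 (by rw [ord_h h]; simp), mul_one, Subgroup.coe_one])⟩
  obtain ⟨R, hR⟩ := h1.exists_le_sylow
  obtain ⟨k, rfl⟩ := MulAction.exists_smul_eq G R P
  refine ⟨_, h.map (MulAut.conj k), (map_gen (MulAut.conj k).toMonoidHom g _).symm.trans ?_⟩
  rw [Subgroup.eq_of_le_of_card_ge hR ((sylow_card (k := 2) (a := 24192) (by norm_num) h.card2
    (by norm_num) R).le.trans (h.ge2 JM2.ge_P))]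
  rfl

end


/-- Sylow 5-structure of a group of Hall–Janko type (large-extraspecial hypothesis with Q of order 32, quotient Ω⁻(4, 2), z not weakly closed in Q, more than one class of involutions): a Sylow 5-subgroup P is its own centraliser, has order 25, its normaliser has order 300, and the subgroups of order 5 fall into exactly two conjugacy classes. -/
theorem result {G : Type*} [Group G] [Finite G] (z : G) (hz : orderOf z = 2) (Q : Subgroup (Subgroup.centralizer ({z} : Set G))) [Q.Normal] (hF : Cfsg.generalizedFittingSubgroup (Subgroup.centralizer ({z} : Set G)) = Q) (hQ : Cfsg.IsExtraspecial 2 Q) (hcard : Nat.card Q = 2 ^ 5) (e : (Subgroup.centralizer ({z} : Set G)) ⧸ Q ≃* Cfsg.Omega (ZMod 2) (Cfsg.quadFormMinus 1 (ZMod 2) 1 1)) (hnwc : ∃ g : G, (∃ hq : g * z * g⁻¹ ∈ Subgroup.centralizer ({z} : Set G), (⟨g * z * g⁻¹, hq⟩ : Subgroup.centralizer ({z} : Set G)) ∈ Q) ∧ g * z * g⁻¹ ≠ z) (hcl : ∃ x y : G, orderOf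 x = 2 ∧ orderOf y = 2 ∧ ¬ IsConj x y) (P : Sylow 5 G) : Subgroup.centralizer ((P : Subgroup G) : Set G) = P ∧ Nat.card P = 25 ∧ Nat.card (Subgroup.normalizer ((P : Subgroup G) : Set G)) = 300 ∧ ∃ X Y : Subgroup G, Nat.card X = 5 ∧ Nat.card Y = 5 ∧ (∀ g : G, X.map (MulAut.conj g).toMonoidHom ≠ Y) ∧ ∀ W : Subgroup G, Nat.card W = 5 → ∃ g : G, W.map (MulAut.conj g).toMonoidHom = X ∨ W.map (MulAut.conj g).toMonoidHom = Y := by
  obtain ⟨g, -, h⟩ := typ2 (typ_of (exists_mdl_of_fstar hz hF hQ hcard e hnwc)) hcl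
  obtain ⟨g, h, hP⟩ := exists_syl h P
  have : Fact (Nat.Prime 5) := ⟨by norm_num⟩
  have h1 := sylow_card (k := 2) (a := 24192) (by norm_num) h.card2 (by norm_num) P
  have mf : ev g F5 ∈ (P : Subgroup G) := hP ▸ ev_mem_gen (by simp)
  have mh : ev g [2, 3, 5] ∈ (P : Subgroup G) := hP ▸ ev_mem_gen (by simp)
  have h2 := h.cent_le (by decide +kernel) JM2.fx_h cnt
  have h3 : (P : Subgroup G) ≤ Subgroup.centralizer (P : Subgroup G) := fun u hu v hv =>
    h.comm_gen (by decide +kernel) (hP.ge hv) (hP.ge hu)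
  have h4 : Subgroup.centralizer (P : Subgroup G) ≤ Subgroup.centralizer {ev g [2, 3, 5]} :=
    Subgroup.centralizer_le (Set.singleton_subset_iff.2 mh)
  have a1 := h.comm2 [0] [2, 3, 5] (by decide +kernel)
  have a2 := h.eq2 ([0] ++ F5) (wpow F5 4 ++ [0]) (by decide +kernel)
  simp only [ev_append, ev_wpow, ev_singleton] at a1 a2
  have h5 : ∀ i j : ℤ, ev g F5 ^ i * ev g [2, 3, 5] ^ j ∈ (P : Subgroup G) := fun i j =>
    mul_mem (zpow_mem mf i) (zpow_mem mh j)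
  refine ⟨Subgroup.eq_of_le_of_card_ge h3 ?_ |>.symm, h1, ?_, Subgroup.zpowers (ev g F5),
    Subgroup.zpowers (ev g [2, 3, 5]), (Nat.card_zpowers _).trans h.ord_f,
    (Nat.card_zpowers _).trans (ord_h h), fun k e => ?_, fun W hW => ?_⟩
  · by_contra hn
    obtain ⟨m, hm⟩ := Subgroup.card_dvd_of_le h3
    have h6 := (Subgroup.eq_of_le_of_card_ge h4 (by
      rw [hm, h1] at hn ⊢
      omega)).ge (Subgroup.mem_centralizer_singleton_iff.2 a1) _ mf
    rw [← h6, mul_left_inj, ← pow_one (ev g F5), ← pow_mul, pow_eq_pow_iff_modEq, h.ord_f] at a2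
    exact absurd a2 (by decide)
  · set N := Subgroup.normalizer ((P : Subgroup G) : Set G)
    have n1 := Subgroup.orderOf_dvd_natCard N (x := g 0) (Subgroup.mem_normalizer_fintype
      fun u hu => by
        obtain ⟨i, j, rfl⟩ := mem_P h (hP.ge hu)
        rw [← conj_mul, ← conj_zpow, ← conj_zpow, a1, a2, mul_inv_cancel_right, mul_inv_cancel_right]
        exact mul_mem (zpow_mem (pow_mem mf 4) i) (zpow_mem mh j))
    have n2 := Subgroup.orderOf_dvd_natCard N (x := ev g Y) (Subgroup.mem_normalizer_fintype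
      fun u hu => by
        obtain ⟨i, j, rfl⟩ := mem_P h (hP.ge hu)
        rw [conj_y h]
        exact h5 _ _)
    have : Fact (Nat.Prime 3) := ⟨by norm_num⟩
    rw [ord_a (Pres.left h.pres) h.ne] at n1
    rw [orderOf_eq_prime (p := 3) (by rw [← ev_wpow]; exact h.eq2 _ [] (by decide +kernel))
      (h.lift2.ne_one JM2.valid0 0 (by decide +kernel))] at n2
    obtain ⟨m, n3⟩ := Subgroup.card_dvd_of_le (Subgroup.le_normalizer (H := (P : Subgroup G)))
    have n4 := card_sylow_modEq_one 5 G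
    have n5 := N.index_mul_card
    rw [P.card_eq_index_normalizer] at n4
    have n6 := Set.ncard_le_ncard (show cls N (ev g [2, 3, 5]) ⊆
      ((P : Subgroup G) : Set G) \ Subgroup.zpowers (ev g F5) from fun _ ⟨n, hn, e⟩ =>
        ⟨e ▸ (Subgroup.mem_normalizer_iff.1 hn _).1 mh, fun hu => nc h hu (isConj_iff.2 ⟨n, e⟩)⟩)
    rw [Set.ncard_sdiff (Subgroup.zpowers_le.2 mf), show ((P : Subgroup G) : Set G).ncard = _ from h1,
      show (Subgroup.zpowers (ev g F5) : Set G).ncard = 5 from (Nat.card_zpowers _).trans h.ord_f]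
      at n6
    have n7 := Nat.mul_le_mul n6 ((Subgroup.card_le_of_le (inf_le_right (a := N))).trans h2)
    rw [ncard_cls_mul] at n7
    rw [h1] at n3
    change Nat.card N = _ at n3
    change N.index ≡ _ [MOD _] at n4
    rw [n3] at n1 n2 n5 n7 ⊢
    rw [h.card2] at n5
    exact arith n1 n2 n4 n5 n7
  · obtain ⟨u, hu, e⟩ := e.ge (Subgroup.mem_zpowers _)
    exact nc h hu (isConj_iff.2 ⟨k, e⟩).symm
  · obtain ⟨R, hR⟩ := (IsPGroup.of_card (p := 5) (n := 1) hW).exists_le_sylow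
    obtain ⟨k, e⟩ := MulAction.exists_smul_eq G R P
    obtain ⟨u, hu, e1⟩ := Small.exists_mem_orderOf_eq_prime W 5 (hW ▸ dvd_rfl)
    obtain rfl := Subgroup.eq_of_le_of_card_ge (Subgroup.zpowers_le.2 hu)
      (by rw [hW, Nat.card_zpowers, e1])
    obtain ⟨i, j, e2⟩ := mem_P h (u := k * u * k⁻¹) (by
      rw [hP, ← e]; exact ⟨u, hR hu, rfl⟩)
    have k1 : ∀ {k v : G}, orderOf v = 5 → k * u * k⁻¹ ∈ Subgroup.zpowers v →
        (Subgroup.zpowers u).map (MulAut.conj k).toMonoidHom = Subgroup.zpowers v := fun h1 h2 => by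
      rw [MonoidHom.map_zpowers]
      exact Subgroup.eq_of_le_of_card_ge (Subgroup.zpowers_le.2 h2) (by
        rw [Nat.card_zpowers, Nat.card_zpowers, h1]; exact (e1.symm.trans (Small.orderOf_conj' _ _).symm).le)
    have k2 : ∀ (k : G) (i j : ℤ), ev g F5 ^ i * ev g [2, 3, 5] ^ j = k * u * k⁻¹ → 5 ∣ j ∨ 5 ∣ i →
        ∃ k : G, (Subgroup.zpowers u).map (MulAut.conj k).toMonoidHom = Subgroup.zpowers (ev g F5) ∨
          (Subgroup.zpowers u).map (MulAut.conj k).toMonoidHom = Subgroup.zpowers (ev g [2, 3, 5]) := by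
      rintro k i j e (d | d)
      · rw [orderOf_dvd_iff_zpow_eq_one.1 (show ((orderOf (ev g [2, 3, 5]) : ℕ) : ℤ) ∣ j by
          rwa [ord_h h]), mul_one] at e
        exact ⟨k, Or.inl (k1 h.ord_f ⟨i, e⟩)⟩
      · rw [orderOf_dvd_iff_zpow_eq_one.1 (show ((orderOf (ev g F5) : ℕ) : ℤ) ∣ i by
          rwa [h.ord_f]), one_mul] at e
        exact ⟨k, Or.inr (k1 (ord_h h) ⟨j, e⟩)⟩
    have k3 : ∀ {k : G} {i j : ℤ}, ev g F5 ^ i * ev g [2, 3, 5] ^ j = k * u * k⁻¹ →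
        ev g F5 ^ (2 * i + j) * ev g [2, 3, 5] ^ (3 * i + 2 * j) =
          ev g Y * k * u * (ev g Y * k)⁻¹ := fun e => by rw [← conj_y h, e]; group
    by_cases d1 : 5 ∣ j ∨ 5 ∣ i
    · exact k2 _ _ _ e2 d1
    by_cases d2 : 5 ∣ 3 * i + 2 * j ∨ 5 ∣ 2 * i + j
    · exact k2 _ _ _ (k3 e2) d2
    · exact k2 _ _ _ (k3 (k3 e2)) (by
        clear * - d1 d2
        rcases (by omega : i % 5 = 1 ∨ i % 5 = 2 ∨ i % 5 = 3 ∨ i % 5 = 4) with h | h | h | h <;>
          rcases (by omega : j % 5 = 1 ∨ j % 5 = 2 ∨ j % 5 = 3 ∨ j % 5 = 4) with h | h | h | h <;>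
          omega)

end Cfsg.Agent.S1722
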