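import Cfsg.Statements.S1723
import Cfsg.Agent.SPOR.A10.JAlt
import Cfsg.Agent.FUS.EssSmall

set_option autoImplicit false
open Cfsg

namespace Cfsg.Agent.S1723

set_option maxRecDepth 100000
set_option synthInstance.maxSize 2000

open CL CL.A10 CL.CE CL.Net CL.Reg CL.JN

/-- the elements of a Sylow subgroup -/
def L : List ℕ := [0, 36, 42, 640, 671, 687, 695, 724, 755, 756, 789, 1082, 1182, 1305, 1319, 1345,
  1422, 1423, 1443, 1480, 1570, 1748, 1865, 2022, 2069, 2152, 2156]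

/-- a central element -/
noncomputable def x' : N := RG.mk' N_good 2152

/-- a non-central element -/
noncomputable def y' : N := RG.mk' N_good 42

theorem t1 : ∀ i ∈ L, (RG.mk' N_good i)⁻¹.val ∈ L ∧ RG.mk' N_good i * x' = x' * RG.mk' N_good i ∧
    (∀ j ∈ L, (RG.mk' N_good i * RG.mk' N_good j).val ∈ L) ∧
    ((∀ j ∈ L, RG.mk' N_good i * RG.mk' N_good j = RG.mk' N_good j * RG.mk' N_good i) →
      ∃ n ∈ [0, 1, 2], x' ^ n = RG.mk' N_good i) ∧
    (RG.mk' N_good i = 1 ∨ ∃ h, h * RG.mk' N_good i = x' * h ∨ h * RG.mk' N_good i = y' * h) := by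
  decide +kernel

theorem t2 : RG.count (fun r : N => r.val ∈ L) = 27 := by decide +kernel

theorem t3 : RG.count (fun r : N => ∀ i ∈ L, (r * RG.mk' N_good i * r⁻¹).val ∈ L) = 216 := by
  decide +kernel

theorem t4 : ∀ r : N, r * x' = x' * r ∨ r * x' = x'⁻¹ * r := by decide +kernel

theorem t5 : x' = RG.wd N_good (wpow [1, 2, 3, 2, 3] 4) ∧ y' = RG.wd N_good [1, 2, 3, 2] ∧
    y' * RG.mk' N_good 640 ≠ RG.mk' N_good 640 * y' ∧ x' ^ 3 = 1 ∧ y' ^ 3 = 1 ∧ x' ≠ 1 ∧ y' ≠ 1 ∧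
    ∀ i ∈ L, (RG.mk' N_good i).val = i := by
  decide +kernel

theorem t6 : RG.count (fun r : JH0.H => r * JH0.x = JH0.x * r ∨ r * JH0.x = JH0.x⁻¹ * r) = 48 := by
  decide +kernel

theorem t7 : ∀ r : JH0.H, r ^ 3 = 1 → r * JH0.x = JH0.x * r → r = 1 ∨ r = JH0.x ∨ r = JH0.x⁻¹ :=
  fun r h1 h2 => JH0.w3 r h2 (by rwa [← pow_three'])

/-- the Sylow subgroup -/
def P' : Subgroup N where
  carrier := {r | r.val ∈ L}
  one_mem' := List.mem_cons_self
  mul_mem' {a b} ha hb := by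
    have := (t1 _ ha).2.2.1 _ hb
    rwa [RG.mk'_val, RG.mk'_val] at this
  inv_mem' {a} ha := by
    have := (t1 _ ha).1
    rwa [RG.mk'_val] at this

theorem mk_mem {i : ℕ} (hi : i ∈ L) : RG.mk' N_good i ∈ P' := by
  show _ ∈ L
  rwa [t5.2.2.2.2.2.2.2 i hi]

theorem main {G : Type*} [Group G] {g : ℕ → G} (h : PJ R2 g) : ∃ ψ : N →* G,
    Function.Injective ψ ∧ ψ.range = Subgroup.normalizer (Subgroup.zpowers (ψ x') : Set G) ∧
    ¬ IsConj (ψ y') (ψ x') := by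
  have := h.model2.finite
  obtain ⟨ψ, h1, h2⟩ := N_hom ((Pres.left h.pres).subst (ws := [[0], [1], [2], [4]])
    (ivl := [0, 1, 2, 3]) (Rels' := JN.Rels) (by decide +kernel))
  rw [gen_subst] at h1
  have h3 : 2160 ≤ Nat.card ψ.range := h1 ▸ h.ge2 JM2.ge_K
  have e1 : ψ x' = g 5 := by
    rw [t5.1, h2 _ (by decide +kernel), ← ev_substW, ← ev_singleton g 5]
    exact h.eq2 _ _ (by decide +kernel)
  have e2 : ψ y' = ev g [1, 2, 4, 2] := by rw [t5.2.1, h2 _ (by decide +kernel), ← ev_substW]; rfl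
  have m5 : g 5 ∈ gen g HL := ev_singleton g 5 ▸ ev_mem_gen (by decide)
  refine ⟨ψ, ?_, Subgroup.eq_of_le_of_card_ge ?_ (le_trans ?_ h3), ?_⟩
  · rw [← MonoidHom.rangeRestrict_injective_iff]
    exact (ψ.rangeRestrict_surjective.bijective_of_nat_card_le (RG.card.le.trans h3)).1
  · rintro _ ⟨r, rfl⟩
    refine Subgroup.mem_normalizer_fintype fun _ ⟨n, e⟩ => ?_
    rw [← e, ← conj_zpow, ← map_mul]
    rcases t4 r with e | e <;> rw [e, map_mul, mul_inv_cancel_right]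
    · exact ⟨n, rfl⟩
    · exact zpow_mem (map_inv ψ x' ▸ inv_mem (Subgroup.mem_zpowers _)) n
  · obtain ⟨φ, M, k1, k2⟩ := h.mdl2
    have k3 : g 5 = φ JH0.x := congrFun k1 5
    rw [e1]
    refine (h.model2.card_le_Fx (u := g 5) fun k hk => Subgroup.zpowers_le.2 m5
      ((Subgroup.mem_normalizer_iff''.1 hk _).1 (Subgroup.mem_zpowers _))).trans ?_
    rw [← ev_singleton g 5, h.fx2 JM2.fx_x, ev_singleton, ← k2, k3]
    refine Nat.mul_le_mul_left 45 (?_ : _ ≤ 48)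
    rw [← t6, ← RG.ncard_eq, ← Set.ncard_image_of_injective _ M.inj]
    refine Set.ncard_le_ncard (fun _ ⟨hk, r, e⟩ => ⟨r, ?_, e⟩)
    obtain ⟨n, hn⟩ := (Subgroup.mem_normalizer_iff.1 (e ▸ hk) _).1 (Subgroup.mem_zpowers _)
    have x3 : JH0.x ^ 3 = 1 := (pow_three' _).trans JH0.basic.2.2.2.2.2.1
    have k4 : JH0.x ^ n = r * JH0.x * r⁻¹ := M.inj (by simpa using hn)
    rcases t7 (r * JH0.x * r⁻¹) (by rw [conj_pow, x3]; simp)
      (k4 ▸ (Commute.zpow_self _ n).eq) with e | e | e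
    · exact absurd (conj_eq_one_iff.1 e) JH0.basic.2.2.2.2.2.2.2.2.2.1
    · exact Or.inl (mul_inv_eq_iff_eq_mul.1 e)
    · exact Or.inr (mul_inv_eq_iff_eq_mul.1 e)
  · rw [e1, e2]
    exact h.model2.not_conj (h.fx2 JM2.fx_y) m5


/-- Sylow 3-structure of a group of Hall–Janko type (large-extraspecial hypothesis with Q of order 32, quotient Ω⁻(4, 2), z not weakly closed in Q, more than one class of involutions): a Sylow 3-subgroup P is extraspecial of order 27, its normaliser has order 216, and the elements of order 3 form exactly two conjugacy classes. -/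
theorem result {G : Type*} [Group G] [Finite G] (z : G) (hz : orderOf z = 2) (Q : Subgroup (Subgroup.centralizer ({z} : Set G))) [Q.Normal] (hF : Cfsg.generalizedFittingSubgroup (Subgroup.centralizer ({z} : Set G)) = Q) (hQ : Cfsg.IsExtraspecial 2 Q) (hcard : Nat.card Q = 2 ^ 5) (e : (Subgroup.centralizer ({z} : Set G)) ⧸ Q ≃* Cfsg.Omega (ZMod 2) (Cfsg.quadFormMinus 1 (ZMod 2) 1 1)) (hnwc : ∃ g : G, (∃ hq : g * z * g⁻¹ ∈ Subgroup.centralizer ({z} : Set G), (⟨g * z * g⁻¹, hq⟩ : Subgroup.centralizer ({z} : Set G)) ∈ Q) ∧ g * z * g⁻¹ ≠ z) (hcl : ∃ x y : G, orderOf x = 2 ∧ orderOf y = 2 ∧ ¬ IsConj x y) (P : Sylow 3 G) : Cfsg.IsExtraspecial 3 (P : Subgroup G) ∧ Nat.card P = 27 ∧ Nat.card (Subgroup.normalizer ((P : Subgroup G) : Set G)) = 216 ∧ ∃ a b : G, orderOf a = 3 ∧ orderOf b = 3 ∧ ¬ IsConj a b ∧ ∀ c : G, orderOf c = 3 → IsConj c a ∨ IsConj c b := by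
  obtain ⟨g, -, h⟩ := typ2 (typ_of (exists_mdl_of_fstar hz hF hQ hcard e hnwc)) hcl
  have : Fact (Nat.Prime 3) := ⟨by norm_num⟩
  obtain ⟨ψ, h1, h2, h3⟩ := main h
  have c1 : Nat.card (P'.map ψ) = 27 := by
    rw [Subgroup.card_map_of_injective h1, ← t2, ← RG.ncard_eq]; rfl
  have c2 := fun P : Sylow 3 G => exists_conj_sylow (k := 3) (a := 22400) (by norm_num) h.card2 (by norm_num) P c1
  obtain ⟨-, -, t8, x3, y3, x1, y1, -⟩ := t5
  have c3 : Subgroup.normalizer (P'.map ψ : Set G) =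
      ψ '' {r : N | ∀ i ∈ L, (r * RG.mk' N_good i * r⁻¹).val ∈ L} := by
    ext k
    refine ⟨fun hk => ?_, ?_⟩
    · have k1 := Subgroup.mem_normalizer_iff.1 hk
      obtain ⟨r, rfl⟩ : k ∈ ψ.range := by
        rw [h2]
        refine Subgroup.mem_normalizer_fintype fun _ ⟨n, e⟩ => ?_
        obtain ⟨s, hs, e1⟩ := (k1 _).1 ⟨x', mk_mem (by decide), rfl⟩
        obtain ⟨m, -, e2⟩ := (t1 _ hs).2.2.2.1 fun j hj => h1 (by
          obtain ⟨v, hv, e3⟩ := (Subgroup.mem_normalizer_iff''.1 hk _).1 ⟨_, mk_mem hj, rfl⟩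
          have := congrArg ψ (t1 _ hv).2.1
          rw [RG.mk'_val, map_mul, map_mul, e3] at this
          rw [RG.mk'_val, map_mul, map_mul, e1]
          calc _ = k * (ψ x' * (k⁻¹ * ψ (RG.mk' N_good j) * k)) * k⁻¹ := by group
            _ = _ := by rw [← this]; group)
        rw [← e, ← conj_zpow, ← e1, ← RG.mk'_val s, ← e2, map_pow]
        exact zpow_mem (pow_mem (Subgroup.mem_zpowers _) m) n
      refine ⟨r, fun i hi => ?_, rfl⟩
      have := (k1 _).1 ⟨_, mk_mem hi, rfl⟩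
      rwa [← map_mul, ← map_inv, ← map_mul, Subgroup.mem_map_iff_mem h1] at this
    · rintro ⟨r, hr, rfl⟩
      refine Subgroup.mem_normalizer_fintype ?_
      rintro _ ⟨s, hs, rfl⟩
      exact ⟨_, hr _ hs, by simp [RG.mk'_val]⟩
  obtain ⟨k, hk⟩ := c2 P
  have c4 : Nat.card P = 27 := by
    rw [← hk, Subgroup.card_map_of_injective (MulAut.conj k).injective, c1]
  refine ⟨EssSm.isExtraspecial_of_card c4 fun hc => t8 (h1 ((MulAut.conj k).injective ?_)), c4, ?_,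
    ψ y', ψ x', (orderOf_injective ψ h1 _).trans (orderOf_eq_prime y3 y1),
    (orderOf_injective ψ h1 _).trans (orderOf_eq_prime x3 x1), h3, fun u hu => ?_⟩
  · simp only [map_mul]
    exact congrArg Subtype.val (hc.is_comm.comm (⟨_, hk.le ⟨_, ⟨y', mk_mem (by decide), rfl⟩, rfl⟩⟩ : P)
      ⟨_, hk.le ⟨_, ⟨_, mk_mem (by decide), rfl⟩, rfl⟩⟩)
  · rw [← hk, ← Subgroup.map_normalizer_eq_of_bijective _ (MulAut.conj k).bijective,
      Subgroup.card_map_of_injective (MulAut.conj k).injective, ← t3, ← RG.ncard_eq,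
      ← Set.ncard_image_of_injective _ h1, ← c3]
    rfl
  · obtain ⟨R, hR⟩ := (IsPGroup.of_card (p := 3) (n := 1)
      ((Nat.card_zpowers u).trans hu)).exists_le_sylow
    obtain ⟨k, hk⟩ := c2 R
    obtain ⟨_, ⟨s, hs, rfl⟩, rfl⟩ := hk.ge (hR (Subgroup.mem_zpowers u))
    have k1 : ∀ {h v : N}, h * s = v * h → IsConj (k * ψ s * k⁻¹) (ψ v) := fun {h v} e =>
      (isConj_iff.2 ⟨k, rfl⟩).symm.trans (isConj_iff.2 ⟨ψ h, by
        rw [← map_mul, e, map_mul, mul_inv_cancel_right]⟩)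
    have := (t1 _ hs).2.2.2.2
    rw [RG.mk'_val] at this
    rcases this with e | ⟨v, e | e⟩
    · simp [e] at hu
    exacts [Or.inr (k1 e), Or.inl (k1 e)]

end Cfsg.Agent.S1723
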