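import Cfsg.Statements.S1724
import Cfsg.Agent.SPOR.A10.JSyl

set_option autoImplicit false
open Cfsg

namespace Cfsg.Agent.S1724

open CL CL.A10


/-- In a group of Hall–Janko type (large-extraspecial hypothesis with Q of order 32, quotient Ω⁻(4, 2), z not weakly closed in Q, more than one class of involutions), a Sylow 7-subgroup is its own centraliser and its normaliser is non-abelian of order 42. -/
theorem result {G : Type*} [Group G] [Finite G] (z : G) (hz : orderOf z = 2) (Q : Subgroup (Subgroup.centralizer ({z} : Set G))) [Q.Normal] (hF : Cfsg.generalizedFittingSubgroup (Subgroup.centralizer ({z} : Set G)) = Q) (hQ : Cfsg.IsExtraspecial 2 Q) (hcard : Nat.card Q = 2 ^ 5) (e : (Subgroup.centralizer ({z} : Set G)) ⧸ Q ≃* Cfsg.Omega (ZMod 2) (Cfsg.quadFormMinus 1 (ZMod 2) 1 1)) (hnwc : ∃ g : G, (∃ hq : g * z * g⁻¹ ∈ Subgroup.centralizer ({z} : Set G), (⟨g * z * g⁻¹, hq⟩ : Subgroup.centralizer ({z} : Set G)) ∈ Q) ∧ g * z * g⁻¹ ≠ z) (hcl : ∃ x y : G, orderOf x = 2 ∧ orderOf y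 = 2 ∧ ¬ IsConj x y) (D : Sylow 7 G) : Subgroup.centralizer ((D : Subgroup G) : Set G) = D ∧ Nat.card (Subgroup.normalizer ((D : Subgroup G) : Set G)) = 42 ∧ ¬ IsMulCommutative (Subgroup.normalizer ((D : Subgroup G) : Set G)) := by
  obtain ⟨g, -, h⟩ := typ2 (typ_of (exists_mdl_of_fstar hz hF hQ hcard e hnwc)) hcl
  have : Fact (Nat.Prime 7) := ⟨by norm_num⟩
  have h1 := sylow_card (k := 1) (a := 86400) (by norm_num) h.card2 (by norm_num) D
  obtain ⟨x, hx⟩ := exists_prime_orderOf_dvd_card' (G := G) 7 (by rw [h.card2]; norm_num)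
  obtain ⟨m, -, -, h2, -⟩ := cent_arith (a := 86400) (by norm_num) h.card2 (by norm_num) hx
  have h3 : m = 1 := by
    by_contra hm
    have := Fact.mk (Nat.minFac_prime hm)
    obtain ⟨y, hy, e⟩ := Small.exists_mem_orderOf_eq_prime _ _ (h2 ▸ (Nat.minFac_dvd m).mul_left 7)
    have h4 : m.minFac ≠ 7 := fun e => by
      have := (Subgroup.centralizer {x}).card_subgroup_dvd_card
      rw [h2, h.card2] at this
      have := (e ▸ Nat.minFac_dvd m).trans (Nat.dvd_of_mul_dvd_mul_left (n := 86400) (by norm_num) this)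
      omega
    have h5 := h.spec2 (x * y)
    rw [Commute.orderOf_mul_eq_mul_orderOf_of_coprime
      (Subgroup.mem_centralizer_singleton_iff.1 hy).symm
      (by rw [hx, e]; exact (Nat.coprime_primes (by norm_num) this.1).2 h4.symm), hx, e] at h5
    have := this.1.two_le
    simp only [Set.mem_insert_iff, Set.mem_singleton_iff] at h5
    omega
  obtain ⟨h4, h5⟩ := Fi.frobenius_of_centralizer (a := 86400) (k := 6) (by norm_num) hx
    (cent_le_zpowers (by rw [h2, h3, hx])) h.card2 (by norm_num) (by norm_num) h1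
  refine ⟨h5, h4, fun hc => ?_⟩
  have := Subgroup.card_le_of_le (show Subgroup.normalizer ((D : Subgroup G) : Set G) ≤ D from
    fun y hy => h5.le fun w hw => congrArg Subtype.val
      (hc.is_comm.comm (⟨w, Subgroup.le_normalizer hw⟩ : Subgroup.normalizer _) ⟨y, hy⟩))
  omega

end Cfsg.Agent.S1724
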