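import Cfsg.Statements.S1725
import Cfsg.Agent.SPOR.A10.SThree
-- import your own Cfsg.Agent.* helpers here

set_option autoImplicit false
open Cfsg

namespace Cfsg.Agent.S1725

/-- A 3-local step in the uniqueness proof for the sporadic Suzuki group: let G satisfy the large-extraspecial hypothesis with Q of order 2 ^ 7, quotient Ω⁻(6, 2) and z not weakly closed in Q, and let X be a subgroup of order 3 of the centraliser C of z with the commutator subgroup of Q and X of order 8 and non-abelian (a quaternion group). Then for any Sylow 3-subgroup P of the normaliser of X in G, P is a Sylow 3-subgroup of G (its index in G is prime to 3), and P contains an elementary abelian subgroup A of order 3 ^ 5 with C_G(A) = A and N_G(A) / A isomorphic to the Mathieu group M₁₁. -/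
theorem result {G : Type*} [Group G] [Finite G] (z : G) (hz : orderOf z = 2) (Q : Subgroup (Subgroup.centralizer ({z} : Set G))) [Q.Normal] (hF : Cfsg.generalizedFittingSubgroup (Subgroup.centralizer ({z} : Set G)) = Q) (hQ : Cfsg.IsExtraspecial 2 Q) (hcard : Nat.card Q = 2 ^ 7) (e : (Subgroup.centralizer ({z} : Set G)) ⧸ Q ≃* Cfsg.Omega (ZMod 2) (Cfsg.quadFormMinus 2 (ZMod 2) 1 1)) (hnwc : ∃ g : G, (∃ hq : g * z * g⁻¹ ∈ Subgroup.centralizer ({z} : Set G), (⟨g * z * g⁻¹, hq⟩ : Subgroup.centralizer ({z} : Set G)) ∈ Q) ∧ g * z * g⁻¹ ≠ z) (X : Subgroup (Subgroup.centralizer ({z} : Set G))) (hX : Nat.card X = 3) (hQX : Nat.card ↥⁅Q, X⁆ = 8) (hQXna : ¬ IsMulCommutative ↥⁅Q, X⁆) (P : Sylow 3 ↥(Subgroup.normalizer ((X.map (Subgroup.subtype (Subgroup.centralizer ({z} : Set G))) : Subgroup G) : Set G))) : ¬ 3 ∣ (((P : Subgroup ↥(Subgroup.normalizer ((X.map (Subgroup.subtype (Subgroup.centralizer ({z} : Set G))) : Subgroup G) : Set G))).map (Subgroup.subtype (Subgroup.normalizer ((X.map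 (Subgroup.subtype (Subgroup.centralizer ({z} : Set G))) : Subgroup G) : Set G)))).index) ∧ ∃ A : Subgroup G, A ≤ (P : Subgroup ↥(Subgroup.normalizer ((X.map (Subgroup.subtype (Subgroup.centralizer ({z} : Set G))) : Subgroup G) : Set G))).map (Subgroup.subtype (Subgroup.normalizer ((X.map (Subgroup.subtype (Subgroup.centralizer ({z} : Set G))) : Subgroup G) : Set G))) ∧ Cfsg.IsElementaryAbelian 3 A ∧ Nat.card A = 3 ^ 5 ∧ Subgroup.centralizer (A : Set G) = A ∧ ∃ _ : (A.subgroupOf (Subgroup.normalizer (A : Set G))).Normal, Cfsg.Spor.IsoM11 (↥(Subgroup.normalizer (A : Set G)) ⧸ A.subgroupOf (Subgroup.normalizer (A : Set G))) := by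
  have : Fact (Nat.Prime 3) := ⟨Nat.prime_three⟩
  obtain ⟨φ, g, h, h', hY⟩ := CL.SM.of_type3 hz hF hQ hcard e hnwc hX hQX hQXna
  have hc : Nat.card (X.map (Subgroup.subtype _)) = 3 :=
    (Subgroup.card_map_of_injective (Subgroup.subtype_injective _)).trans hX
  generalize X.map (Subgroup.subtype _) = Y at *
  have a : CL.CE.gen g CL.SM.wA ≤ Subgroup.centralizer (Y : Set G) := fun c hc y hy =>
    (h'.comm3 (hY.le.trans (Subgroup.zpowers_le.2 (CL.CE.ev_singleton g 15 ▸
      CL.CE.ev_mem_gen (by decide))) hy) c hc).symm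
  have b : Y ≤ Subgroup.centralizer (Y : Set G) := hY ▸ Subgroup.le_centralizer _
  have : (Y.subgroupOf (Subgroup.centralizer (Y : Set G))).Normal :=
    (Subgroup.normal_subgroupOf_iff_le_normalizer b).2 (Subgroup.centralizer_le_normalizer _)
  obtain ⟨-, ⟨f⟩, -⟩ := h.cx h' hY
  refine ⟨fun H => ?_, ?_⟩
  · have c := Subgroup.card_eq_card_quotient_mul_card_subgroup
      (Y.subgroupOf (Subgroup.centralizer (Y : Set G)))
    have d := (Subgroup.centralizer (Y : Set G)).index_mul_card
    rw [c, ← Nat.card_congr f.toEquiv, CL.F24.card_PSU9,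
      Nat.card_congr (Subgroup.subgroupOfEquivOfLe b).toEquiv, hc, h'.card] at d
    rw [Subgroup.index_map_subtype, Nat.prime_three.dvd_mul] at H
    have := (H.resolve_left P.not_dvd_index).trans
      (Subgroup.index_dvd_of_le (Subgroup.centralizer_le_normalizer _))
    omega
  obtain ⟨R, hR⟩ := ((IsPGroup.of_card (h'.three (h.no22 h')).2.1).comap_subtype
    (K := Subgroup.normalizer (Y : Set G))).exists_le_sylow
  obtain ⟨k, rfl⟩ := MulAction.exists_smul_eq (Subgroup.normalizer (Y : Set G)) R P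
  obtain ⟨φ', h''⟩ := h'.conj k
  refine ⟨_, ?_, h''.three (h.no22 h')⟩
  refine (CL.CE.map_gen (MulAut.conj (k : G)).toMonoidHom g _).ge.trans ?_
  rintro _ ⟨x, hx, rfl⟩
  exact ⟨_, ⟨⟨x, Subgroup.centralizer_le_normalizer _ (a hx)⟩, hR hx, rfl⟩, rfl⟩

end Cfsg.Agent.S1725
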