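import Cfsg.Statements.S1733
import Cfsg.Agent.REC.StdCo3
import Cfsg.Agent.S1678
import Cfsg.Agent.INV.AbPSL2
-- import your own Cfsg.Agent.* helpers here

set_option autoImplicit false
open Cfsg

namespace Cfsg.Agent.S1733

/-- Let G be a non-abelian finite simple group which is locally balanced (the centralizer of every involution has no nontrivial normal subgroup of odd order) and has the strong B-property (every section of G has the B-property), and let L be a standard subgroup of G whose centre has order 2 with quotient isomorphic to the symplectic group of dimension 6 over the field with 2 elements. Then G is isomorphic to the third Conway group. -/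
theorem result {G : Type*} [Group G] [Finite G] [IsSimpleGroup G] (hG : ¬ IsMulCommutative G)
    (hbal : ∀ t : G, orderOf t = 2 → Cfsg.centralizerPPrimeCore 2 t = ⊥) (hB : Cfsg.HasStrongBProperty G)
    (L : Subgroup G) (hL : Cfsg.IsStandardSubgroup L)
    {F : Type*} [Field F] [Fintype F] (hF : Fintype.card F = 2) (hLX : (Nat.card ↥(Subgroup.center ↥L) = 2 ∧ Nonempty (↥L ⧸ Subgroup.center ↥L ≃* Cfsg.PSp 3 F))) :
    Cfsg.Spor.IsoCo3 G := by
  have hO := CL.AbS.oddCore_eq_bot hG
  have hZ : Subgroup.center G = ⊥ := (Subgroup.Normal.eq_bot_or_eq_top inferInstance).resolve_right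
    fun e => hG ⟨⟨fun a b => Subgroup.mem_center_iff.1 (e.ge (Subgroup.mem_top b)) a⟩⟩
  let e := CL.SchurC.spCongr (ι := Fin 3) (FiniteField.ringEquivOfCardEq (hF.trans (ZMod.card 2).symm))
  obtain ⟨t, ht, h⟩ := CL.Rec.Co3.facts.recog_std CL.Rec.Co3.facts2 CL.Rec.Co3.spFacts hL hLX.1
    (hLX.2.some.trans (QuotientGroup.congr _ _ e (le_antisymm
      (fun _ ⟨x, h, e'⟩ => e' ▸ (Subgroup.centerCongr e ⟨x, h⟩).2)
      fun x h => ⟨_, (Subgroup.centerCongr e.symm ⟨x, h⟩).2, e.apply_symm_apply x⟩))) hO hZ hbal
  exact Cfsg.Agent.S1678.result hO hZ t ht h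

end Cfsg.Agent.S1733
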