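import Cfsg.Statements.S1743
import Cfsg.Agent.SYL.G2SFus
import Cfsg.Agent.SYL.G2SCon

set_option autoImplicit false
open Cfsg

namespace Cfsg.Agent.S1743

/-- Let G be a finite simple group whose Sylow 2-subgroups are isomorphic to a Sylow 2-subgroup of the Chevalley group of type G₂ over a finite field of odd order, and let S be a Sylow 2-subgroup of G. Then either all involutions of G are conjugate, or S has order 64 and the involutions of G form exactly two conjugacy classes. -/
theorem result {G : Type*} [Group G] [Finite G] [IsSimpleGroup G]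
    {F : Type*} [Field F] [Fintype F] (hF : Odd (Fintype.card F)) (S : Sylow 2 G) (P : Sylow 2 ↥(Cfsg.Lie.chevG2.group F))
    (hS : Nonempty (↥(S : Subgroup G) ≃* ↥(P : Subgroup ↥(Cfsg.Lie.chevG2.group F)))) :
    (∀ x y : G, orderOf x = 2 → orderOf y = 2 → IsConj x y) ∨
      (Nat.card ↥(S : Subgroup G) = 64 ∧ ∃ x y : G, orderOf x = 2 ∧ orderOf y = 2 ∧ ¬ IsConj x y ∧
        ∀ z : G, orderOf z = 2 → IsConj z x ∨ IsConj z y) := by
  obtain ⟨n, φ, H⟩ := CL.G2S.exists_sy hF
  obtain ⟨e⟩ := hS
  have : Finite ↥(Cfsg.Lie.chevG2.group F) := Nat.finite_of_card_ne_zero (by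
    have h1 : 1 < Fintype.card F := Fintype.one_lt_card
    have h2 := Nat.one_lt_pow two_ne_zero h1
    have h3 := Nat.one_lt_pow (n := 6) (by decide) h1
    rw [S1059.result rfl]
    exact mul_ne_zero (mul_ne_zero (by positivity) (by omega)) (by omega))
  let e' := ((MonoidHom.ofInjective H.inj).trans (Sylow.equiv H.syl.toSylowTop P)).trans e.symm
  let ψ := (S : Subgroup G).subtype.comp e'.toMonoidHom
  have hψ : CL.S64.Sy ψ := ⟨(Subgroup.subtype_injective _).comp e'.injective, by
    rw [MonoidHom.range_comp, MonoidHom.range_eq_top.2 e'.surjective, ← MonoidHom.range_eq_map,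
      Subgroup.range_subtype]
    exact CL.MSS.sylIn_top S⟩
  refine (CL.G2S.fusion hψ (CL.G2S.cy_zmod (k := 2 ^ n) (by positivity))).imp_right fun h => ⟨?_, h.2⟩
  rw [← Nat.card_congr e'.toEquiv, CL.G2S.card_W, Nat.card_zmod]
  rcases n with _ | n
  · rfl
  · exact (h.1 ((2 ^ n : ℕ) : ZMod _) (by push_cast; ring)).elim

end Cfsg.Agent.S1743
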