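import Cfsg.Statements.S1821
import Cfsg.Agent.QT.C5

set_option autoImplicit false
open Cfsg

namespace Cfsg.Agent.S1821

/-- Nonsolvable uniqueness groups in a simple QTKE-group. Let G be a non-abelian finite simple QTKE-group, T a Sylow 2-subgroup of G, and L a maximal member of ℒ(G, T) (so L is a 𝒞-component of ⟨L, T⟩, T is Sylow in ⟨L, T⟩ and O₂(⟨L, T⟩) ≠ 1, and L is maximal among such subgroups). Then (1) L is a 𝒞-component of every subgroup H of G with O₂(H) ≠ 1 containing ⟨L, T⟩; (2) F*(L) = O₂(L); and (3) N_G(⟨L^T⟩) is the unique maximal 2-local subgroup of G containing ⟨L, T⟩, so that ⟨L, T⟩ is a uniqueness subgroup. -/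
theorem result {G : Type*} [Group G] [Finite G] [IsSimpleGroup G]
    (hG : ¬ IsMulCommutative G) (hQ : Cfsg.IsQTKE G) (T : Sylow 2 G) (L : Subgroup G)
    (hL : L ∈ Cfsg.calLMax (T : Subgroup G)) :
    (∀ H ∈ Cfsg.calHOver (L ⊔ (T : Subgroup G)), L.subgroupOf H ∈ Cfsg.calC ↥H) ∧
    Cfsg.generalizedFittingSubgroup ↥L = Cfsg.pCore 2 ↥L ∧
    Cfsg.maxTwoLocalsContaining (L ⊔ (T : Subgroup G)) =
      {Subgroup.normalizer (Cfsg.conjClosure L (T : Subgroup G) : Set G)} := by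
  have hm := ((CL.QT.calC_subgroupOf_iff le_sup_left).1 hL.1.1).2
  have h1 : ∀ H ∈ Cfsg.calHOver (L ⊔ (T : Subgroup G)), L.subgroupOf H ∈ Cfsg.calC ↥H := by
    rintro H ⟨hH, hle⟩
    have hT : (T : Subgroup G) ≤ H := le_sup_right.trans hle
    have hLH : L ≤ H := le_sup_left.trans hle
    have hS := (CL.MSS.sylIn_sylow T hT).subgroupOf le_rfl
    rw [Subgroup.subgroupOf_self] at hS
    obtain ⟨K, hK, hLK⟩ := CL.QT.exists_calC_ge (CL.QT.sqt_of_calH hQ.1 hH)
      (CL.QT.isKGroup_of_calH hG hQ.2.1 hH) hS (L := L.subgroupOf H) (by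
        refine (CL.QT.calC_subgroupOf_iff le_sup_left).2 ⟨?_, hm.subgroupOf hLH⟩
        rw [← Subgroup.subgroupOf_sup hLH hT]
        exact CL.Comp.subnormalIn_comap (CL.QT.calC_subnormal hL.1.1) H.subtype)
    have h2 := hL.2 _ (CL.QT.mem_calL T hH hT hK) (by
      have := Subgroup.map_mono (f := H.subtype) hLK
      rwa [Subgroup.subgroupOf_map_subtype, inf_eq_left.2 hLH] at this)
    rw [← h2, CL.Comp.subgroupOf_map_subtype_self]
    exact hK
  have h3 : ∀ H ∈ Cfsg.calHOver (L ⊔ (T : Subgroup G)),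
      H ≤ Subgroup.normalizer (Cfsg.conjClosure L (T : Subgroup G) : Set G) := fun H hH =>
    CL.QT.le_normalizer_conjClosure_of_calC (CL.QT.sqt_of_calH hQ.1 hH.1)
      (CL.MSS.sylIn_sylow T (le_sup_right.trans hH.2)) (le_sup_left.trans hH.2) (h1 H hH)
  have hB : L ⊔ (T : Subgroup G) ∈ calH G := hL.1.2.2
  have hM := CL.QT.twoLocal_normalizer hB
  have hBM := CL.QT.le_normalizer_pCoreOf (L ⊔ (T : Subgroup G))
  have hM' := CL.QT.mem_calH_of_twoLocal hM
  refine ⟨h1, CL.Comp.fstar_eq_pCore_iff_isPGroup_fstarOf.2 (CL.QT.isPGroup_fstarOf hQ.2.2 T hM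
    (le_sup_right.trans hBM) (le_sup_left.trans hBM) (CL.QT.calC_subnormal (h1 _ ⟨hM', hBM⟩))),
    CL.QT.maxTwoLocals_eq (CL.QT.mem_calH_of_fstarOf (CL.QT.isPGroup_fstarOf hQ.2.2 T hM
      (le_sup_right.trans hBM) ?_ (CL.Comp.subnormalIn_of_le_normalizer (h3 _ ⟨hM', hBM⟩))) ?_)
      (h3 _ ⟨hB, le_rfl⟩) h3⟩
  · exact CL.QT.conjClosure_le (le_sup_left.trans hBM)
      ((le_sup_right.trans hBM).trans Subgroup.le_normalizer)
  · exact fun h => hm.ne_bot (le_bot_iff.1 ((CL.QT.le_conjClosure L _).trans h.le))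

end Cfsg.Agent.S1821
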