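import Cfsg.Statements.S1829
import Cfsg.Agent.INV.W4.Loc
import Cfsg.Agent.INV.Rank

set_option autoImplicit false
open Cfsg

namespace Cfsg.Agent.S1829

open Subgroup CL.W4 CL.MSS CL.Comp in
/-- The embedding of the model in `Sym(4 + 4)`. -/
def th : M →* Equiv.Perm (Fin 4 ⊕ Fin 4) :=
  MonoidHom.mk' (fun m => Equiv.Perm.sumCongr m.l m.r * cond m.s (Equiv.sumComm _ _) 1) (by
    rintro ⟨a, b, _ | _⟩ ⟨c, d, _ | _⟩ <;> ext (x | x) <;> rfl)

open CL.W4 in
theorem th_inj : Function.Injective th := by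
  rw [injective_iff_map_eq_one]
  rintro ⟨a, b, _ | _⟩ h
  · have h1 : a = 1 := Equiv.ext fun x => Sum.inl_injective (congrArg (fun f => f (Sum.inl x)) h)
    have h2 : b = 1 := Equiv.ext fun x => Sum.inr_injective (congrArg (fun f => f (Sum.inr x)) h)
    rw [h1, h2]; rfl
  · exact absurd (congrArg (fun f => f (Sum.inl 0)) h) Sum.inr_ne_inl

open CL.W4 Pointwise in
theorem th_mem (m : M) : th m ∈ blockStabilizerS4wr2 := by
  have k1 : ∀ a b : S4, (Equiv.Perm.sumCongr a b : Fin 4 ⊕ Fin 4 → Fin 4 ⊕ Fin 4) ''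
      Set.range Sum.inl = Set.range Sum.inl := fun a b => by
    rw [← Set.range_comp]
    exact a.surjective.range_comp Sum.inl
  have k2 : ∀ a b : S4, (Equiv.Perm.sumCongr a b : Fin 4 ⊕ Fin 4 → Fin 4 ⊕ Fin 4) ''
      Set.range Sum.inr = Set.range Sum.inr := fun a b => by
    rw [← Set.range_comp]
    exact b.surjective.range_comp Sum.inr
  have k3 : ((Equiv.sumComm (Fin 4) (Fin 4)) : Fin 4 ⊕ Fin 4 → Fin 4 ⊕ Fin 4) ''
      Set.range Sum.inl = Set.range Sum.inr := by rw [← Set.range_comp]; rfl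
  have k4 : ((Equiv.sumComm (Fin 4) (Fin 4)) : Fin 4 ⊕ Fin 4 → Fin 4 ⊕ Fin 4) ''
      Set.range Sum.inr = Set.range Sum.inl := by rw [← Set.range_comp]; rfl
  have key : ∀ g : Equiv.Perm (Fin 4 ⊕ Fin 4),
      (g '' Set.range Sum.inl = Set.range Sum.inl ∧ g '' Set.range Sum.inr = Set.range Sum.inr) ∨
      (g '' Set.range Sum.inl = Set.range Sum.inr ∧ g '' Set.range Sum.inr = Set.range Sum.inl) →
      g ∈ blockStabilizerS4wr2 := fun g hg => by
    rw [blockStabilizerS4wr2, MulAction.mem_stabilizer_iff, Set.smul_set_insert,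
      Set.smul_set_singleton]
    change ({g '' _, g '' _} : Set (Set _)) = _
    rcases hg with ⟨h1, h2⟩ | ⟨h1, h2⟩
    · rw [h1, h2]
    · rw [h1, h2, Set.pair_comm]
  obtain ⟨a, b, s⟩ := m
  refine Subgroup.mul_mem _ (key _ (Or.inl ⟨k1 a b, k2 a b⟩)) ?_
  cases s
  · exact Subgroup.one_mem _
  · exact key _ (Or.inr ⟨k3, k4⟩)

/-- There is no non-abelian finite simple QTKE-group G with a Sylow 2-subgroup T and a maximal 2-local subgroup M containing T such that M is isomorphic to the wreath product S₄ ≀ Z₂ (the subgroup of the symmetric group of degree 8 preserving a partition into two blocks of size 4; order 1152). -/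
theorem result {G : Type*} [Group G] [Finite G] [IsSimpleGroup G]
    (hG : ¬ IsMulCommutative G) (hQ : Cfsg.IsQTKE G) (T : Sylow 2 G) (M : Subgroup G)
    (hM : M ∈ Cfsg.maxTwoLocalsContaining (T : Subgroup G))
    (hW : Nonempty (↥M ≃* ↥Cfsg.blockStabilizerS4wr2)) : False := by
  open Subgroup CL.W4 CL.MSS CL.Comp in
  obtain ⟨e⟩ := hW
  let ψ : CL.W4.M →* G := M.subtype.comp (e.symm.toMonoidHom.comp (th.codRestrict _ th_mem))
  have hinj : Function.Injective ψ := M.subtype_injective.comp (e.symm.injective.comp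
    fun a b h => th_inj (congrArg Subtype.val h))
  have hT : Nat.card T ≤ Nat.card (im ψ ⊤) := by
    rw [← Nat.card_congr ((⊤ : Subgroup W).equivMapOfInjective _
      (hinj.comp emb_injective)).toEquiv, card_top, card_W]
    obtain ⟨k, hk⟩ := T.isPGroup'.exists_card_eq
    have h1 : Nat.card T ∣ Nat.card (Equiv.Perm (Fin 4 ⊕ Fin 4)) :=
      (card_dvd_of_le hM.2).trans (by
        rw [Nat.card_congr e.toEquiv]; exact card_subgroup_dvd_card _)
    rw [Nat.card_eq_fintype_card (α := Equiv.Perm _), Fintype.card_perm, hk] at h1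
    rw [hk]
    refine Nat.pow_le_pow_right (by norm_num) ?_
    by_contra hlt
    exact absurd ((pow_dvd_pow 2 (show 8 ≤ k by omega)).trans h1) (by decide)
  have hsyl : SylIn 2 (im ψ ⊤) ⊤ := (sylIn_top T).of_card_le (isPGroup_im _) le_top hT
  have h : Cfg ψ := ⟨hinj, hsyl, fun H hH => by
    have hN := H.normal_of_index_eq_two hH
    rcases hN.eq_bot_or_eq_top with rfl | rfl
    · rw [index_bot] at hH
      exact hG (isCyclic_of_prime_card (hp := ⟨Nat.prime_two⟩) hH).isMulCommutative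
    · simp at hH⟩
  have hz1 : io ψ zz ≠ 1 := fun h1 => absurd (h.io_inj (h1.trans (map_one _).symm)) (by decide)
  have hzp : IsPGroup 2 (zpowers (io ψ zz)) :=
    (isPGroup_im (ψ := ψ) ⊤).to_le (zpowers_le_of_mem ⟨zz, trivial, rfl⟩)
  have hch : IsPGroup 2 (fstarOf (centralizer {io ψ zz})) := by
    have h1 := hQ.2.2 (normalizer (zpowers (io ψ zz) : Set G))
      ⟨_, hzp, by simpa using hz1, rfl⟩ ⟨hsyl.toSylowTop, (h.sylT.le.trans (by
        rw [← centralizer_closure, ← zpowers_eq_closure]; exact centralizer_le_normalizer _))⟩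
    have h2 := (isPGroup_fstarOf_normalizer_iff hzp).1 (fstar_eq_pCore_iff_isPGroup_fstarOf.1
      (fstar_eq_pCore_iff_centralizer.2 h1))
    rwa [zpowers_eq_closure, centralizer_closure] at h2
  obtain ⟨X, hX, hE, hc⟩ := h.main hch
  have hA : im ψ A1 ≠ ⊥ := fun h1 => by
    have : io ψ z1 ∈ im ψ A1 := ⟨z1, (by decide : z1 ∈ A1), rfl⟩
    rw [h1, mem_bot] at this
    exact absurd (h.io_inj (this.trans (map_one _).symm)) (by decide)
  exact (CL.Rank.not_prankLE_subgroup_iff.2 ⟨X, hX, hE, hc⟩)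
    (hQ.1 3 (by norm_num) (by norm_num) _ ⟨_, isPGroup_im A1, hA, rfl⟩)

end Cfsg.Agent.S1829
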