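import Cfsg.Statements.S1914
import Cfsg.Agent.SOLV.SemiR4
import Cfsg.Agent.S0949
import Cfsg.Agent.INV.Three2

set_option autoImplicit false
open Cfsg

namespace Cfsg.Agent.S1914

open Subgroup CL.SR1 CL.PCyc CL.MSS

theorem no_homo {A : Type*} [Group A] [Finite A] (hA : commutator A = ⊤) (P : Sylow 2 A)
    (e : P ≃* Multiplicative (ZMod (2 ^ 2) × ZMod (2 ^ 2))) : False := by
  have : Fact (Nat.Prime 2) := ⟨Nat.prime_two⟩
  obtain ⟨N, ⟨hN, hodd⟩, hmax⟩ := (wellFounded_gt (α := Subgroup A)).has_min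
    {U | U.Normal ∧ Odd (Nat.card U)} ⟨⊥, inferInstance, by simp⟩
  let π := QuotientGroup.mk' N
  have hπ : Function.Surjective π := QuotientGroup.mk'_surjective N
  have hinj : Function.Injective (π.subgroupMap P) := by
    rw [injective_iff_map_eq_one]
    intro a ha
    have h1 : (a : A) ∈ N := (QuotientGroup.eq_one_iff _).1 (congrArg Subtype.val ha)
    obtain ⟨k, hk⟩ := IsPGroup.iff_orderOf.1 P.isPGroup' a
    have h2 := N.orderOf_dvd_natCard h1
    rw [orderOf_coe, hk] at h2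
    rcases k with _ | k
    · simpa using hk
    · exact absurd (hodd.of_dvd_nat ((dvd_pow_self 2 k.succ_ne_zero).trans h2)) (by decide)
  let e' := (MulEquiv.ofBijective _ ⟨hinj, π.subgroupMap_surjective P⟩).symm.trans e
  obtain ⟨h1, -, h3⟩ := Cfsg.Agent.S0949.result (P.mapSurjective hπ) 2 le_rfl e' fun K hK hKo => by
    have h1 : K.comap π = N := by
      by_contra hne
      refine hmax (K.comap π) ⟨inferInstance, ?_⟩
        (lt_of_le_of_ne (fun n hn => ?_) (Ne.symm hne))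
      · have h2 := relIndex_mul_relIndex ⊥ N (K.comap π) bot_le fun n hn => by
          rw [mem_comap, show π n = 1 from (QuotientGroup.eq_one_iff n).2 hn]; exact one_mem _
        have h3 := relIndex_comap ⊥ π (K.comap π)
        rw [map_comap_eq_self_of_surjective hπ, MonoidHom.comap_bot, QuotientGroup.ker_mk',
          relIndex_bot_left] at h3
        rw [relIndex_bot_left, relIndex_bot_left, h3] at h2
        exact h2 ▸ hodd.mul hKo
      · rw [mem_comap, show π n = 1 from (QuotientGroup.eq_one_iff n).2 hn]; exact one_mem _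
    rw [← map_comap_eq_self_of_surjective hπ K, h1, Subgroup.map_eq_bot_iff,
      QuotientGroup.ker_mk']
  have hA' : commutator (A ⧸ N) = ⊤ := by
    rw [_root_.commutator_def, ← map_top_of_surjective π hπ, ← map_commutator, ← _root_.commutator_def, hA]
  have h4 : ((P.mapSurjective hπ : Sylow 2 (A ⧸ N)) : Subgroup (A ⧸ N)) = ⊤ := by
    rcases h3 with h3 | h3
    · exact index_eq_one.1 h3
    · have : Fact (Nat.Prime 3) := ⟨Nat.prime_three⟩
      have hc := isCyclic_of_prime_card (p := 3)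
        (α := (A ⧸ N) ⧸ ((P.mapSurjective hπ : Sylow 2 (A ⧸ N)) : Subgroup (A ⧸ N))) h3
      rw [eq_top_iff, ← hA', ← Normal.quotient_commutative_iff_commutator_le]
      infer_instance
  have h5 : ∀ x y : A ⧸ N, x * y = y * x := fun x y =>
    congrArg Subtype.val (e'.injective (a₁ := ⟨x, h4.ge trivial⟩ * ⟨y, h4.ge trivial⟩)
      (a₂ := ⟨y, h4.ge trivial⟩ * ⟨x, h4.ge trivial⟩) (by rw [map_mul, map_mul, mul_comm]))
  have h6 : (⊤ : Subgroup (A ⧸ N)) = ⊥ := by
    rw [← hA', _root_.commutator_def, commutator_eq_bot_iff_le_centralizer]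
    exact fun x _ y _ => h5 y x
  have h7 := Nat.card_congr e'.toEquiv
  rw [show map π (P : Subgroup A) = ⊥ from h4.trans h6] at h7
  simp at h7

variable {G : Type*} [Group G] [Finite G] {A S : Subgroup G} {t r b : G} {n : ℕ}

theorem caseIII (h : Cx S t r b (n + 1)) (hA : pResidual 2 A = ⊤) (hA' : commutator A = ⊤)
    (hS : SylIn 2 S A) (hrb : Commute r b) : False := by
  obtain ⟨hi, hMS, hM⟩ := h.M2
  have bb := mem_zpowers b
  have huB : b ^ 2 ^ n ∈ zpowers b := pow_mem bb _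
  have hu2 : b ^ 2 ^ n * b ^ 2 ^ n = b ^ 2 ^ (n + 1) := by rw [← pow_two, ← pow_mul, pow_succ]
  set u := b ^ 2 ^ n with hu
  set z := b ^ 2 ^ (n + 1) with hz
  have z1 : z ≠ 1 := h.z1
  have z2 : z * z = 1 := h.z2
  have zB : z ∈ zpowers b := h.zB
  have rr : r * r = z := h.rr
  have uniq : ∀ f ∈ zpowers b, f * f = 1 → f = 1 ∨ f = z := fun f hf => h.uniq hf
  have zc : ∀ s ∈ S, Commute s z := fun s hs => h.zc hs
  have rc : ∀ β ∈ zpowers b, Commute r β := fun β hβ => comm_of_gen hrb hβ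
  set w := r * u with hw
  have w2 : w * w = 1 := by rw [← pow_two, (rc u huB).mul_pow, pow_two, pow_two, rr, hu2, z2]
  have wS : w ∈ S := mul_mem h.rS (h.BS huB)
  have wB : w ∉ zpowers b := fun e => h.rB (by simpa [hw] using mul_mem e (inv_mem huB))
  have wc : ∀ β ∈ zpowers b, Commute w β := fun β hβ => (rc β hβ).mul_left (cyc_comm huB hβ)
  have wr : Commute r w := (Commute.refl r).mul_right (rc u huB)
  have wM : w ∈ zpowers b ⊔ zpowers r :=
    mul_mem (mem_sup_right (mem_zpowers r)) (mem_sup_left huB)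
  have hM' : ∀ m ∈ zpowers b ⊔ zpowers r, m ∈ zpowers b ∨ ∃ β ∈ zpowers b, m = β * w :=
    fun m hm => (hM m hm).imp_right fun e => ⟨_, mul_mem e (inv_mem huB), by
      rw [hw, (rc u huB).eq]; group⟩
  have wz : w ≠ z := fun e => wB (e ▸ zB)
  have w1 : w ≠ 1 := fun e => wB (e ▸ one_mem _)
  have sqw : ∀ β ∈ zpowers b, β * w * (β * w) = β * β := fun β hβ => by
    rw [← pow_two, (wc β hβ).symm.mul_pow, pow_two, pow_two, w2, mul_one]
  by_cases hsq : ∀ s ∈ S, s * s ∈ zpowers b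
  · have key : ∀ s ∈ S, s ∉ zpowers b ⊔ zpowers r → ∃ e ∈ S, e * e = 1 ∧ e * s⁻¹ ∈ zpowers b ∧
        e ∉ zpowers b ⊔ zpowers r ∧ ∃ ρ ∈ S, Commute ρ e ∧ ρ * ρ ≠ 1 := fun s hs hsM => by
      obtain ⟨hi1, -, h1⟩ := h.two hs (fun e => hsM (mem_sup_left e)) (hsq s hs)
      obtain ⟨g, -, h2, h3⟩ := xt2 hA hS hi1 wS (fun e => (h1 w e).elim wB fun e => hsM (by
        simpa using mul_mem (inv_mem (mem_sup_left e)) wM)) w2
      have h4 : g * w * g⁻¹ * (g * w * g⁻¹) = 1 := by rw [conj_sq, w2]; group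
      have h5 : g * r * g⁻¹ * (g * r * g⁻¹) = g * z * g⁻¹ := by rw [conj_sq, rr]
      have h6 : g * z * g⁻¹ = z := (uniq _ (h5 ▸ hsq _ (h3 r h.rS wr))
        (by rw [conj_sq, z2]; group)).resolve_left fun e => z1 (conj_one e)
      have h7 := (h1 _ h2).resolve_left fun e => by
        rcases uniq _ e h4 with e | e
        · exact w1 (conj_one e)
        · exact wz (conj_inj (e.trans h6.symm))
      refine ⟨_, h3 w wS (Commute.refl w), h4, h7, fun e => hsM ?_, _, h3 r h.rS wr, wr.conj g,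
        by rw [h5, h6]; exact z1⟩
      have := mul_mem (inv_mem (mem_sup_left h7)) e
      convert this using 1; group
    obtain ⟨s, hs, hsM⟩ := h.exists_out
    obtain ⟨e₁, he₁, a1, a2, a3, ρ, hρ, a4, a5⟩ := key s hs hsM
    obtain ⟨e₂, he₂, b1, b2, b3, -⟩ := key (s * w) (mul_mem hs wS) fun e =>
      hsM (by simpa using mul_mem e (inv_mem wM))
    have hβ : e₁⁻¹ * e₂ * w⁻¹ ∈ zpowers b := by
      have := h.nrm' (inv_mem hs) (mul_mem (inv_mem a2) b2)
      convert this using 1; group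
    have hew : Commute e₁ w := by
      have h1 := h.einv he₁ a3 a1 hβ
      have i1 := inv_eq_of_mul_eq_one_right a1
      have i2 := inv_eq_of_mul_eq_one_right b1
      have h2 : e₁ * (e₁⁻¹ * e₂) * e₁⁻¹ = (e₁⁻¹ * e₂)⁻¹ := by
        rw [mul_inv_rev, inv_inv, i2, mul_inv_cancel_left, i1]
      generalize hγ : e₁⁻¹ * e₂ * w⁻¹ = β at hβ h1
      rw [mul_inv_eq_iff_eq_mul.1 hγ, mul_inv_rev, inv_eq_of_mul_eq_one_right w2,
        (wc _ (inv_mem hβ)).eq, ← h1] at h2
      refine mul_inv_eq_iff_eq_mul.1 (mul_left_cancel (a := e₁ * β * e₁⁻¹) ?_)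
      rw [← h2]; group
    have h3 : ∀ m ∈ zpowers b ⊔ zpowers r, Commute m e₁ → m * m = 1 := fun m hm hc => by
      have h4 : ∀ β ∈ zpowers b, Commute β e₁ → β * β = 1 := fun β hβ e => by
        have := h.einv he₁ a3 a1 hβ
        rwa [← e.eq, mul_inv_cancel_right, eq_inv_iff_mul_eq_one] at this
      rcases hM' m hm with e | ⟨β, hβ, rfl⟩
      · exact h4 m e hc
      · rw [sqw β hβ]
        exact h4 β hβ (by simpa using hc.mul_left hew.symm.inv_left)
    by_cases hρM : ρ ∈ zpowers b ⊔ zpowers r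
    · exact a5 (h3 ρ hρM a4)
    · have := h3 _ ((mul_iff hi hρ he₁).2 (by simp [hρM, a3])) (a4.mul_left (Commute.refl _))
      rw [← pow_two, a4.mul_pow, pow_two, pow_two, a1, mul_one] at this
      exact a5 this
  push Not at hsq
  obtain ⟨s, hs, hsq⟩ := hsq
  have sqM : ∀ m ∈ zpowers b ⊔ zpowers r, m * m ∈ zpowers b := fun m hm => by
    rcases hM' m hm with e | ⟨β, hβ, rfl⟩
    · exact mul_mem e e
    · exact (sqw β hβ).symm ▸ mul_mem hβ hβ
  have hsM : s ∉ zpowers b ⊔ zpowers r := fun e => hsq (sqM s e)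
  have sqO : ∀ f ∈ S, f * f ∈ zpowers b → f ∈ zpowers b ⊔ zpowers r := fun f hf e => by
    by_contra hfM
    have h1 := (mul_iff hi hs (inv_mem hf)).2 (by simp [hsM, hfM])
    have h2 := mul_mem (mul_mem (sqM _ h1)
      (h.comm (inv_mem (hMS h1)) hf)) e
    exact hsq (by convert h2 using 1; group)
  obtain ⟨g, -, h1, h2⟩ := xt hA hS (N := zpowers b) (fun a ha a' ha' => h.comm ha ha') wS wB w2
    fun f hf f2 => (hM' f (sqO f hf (f2 ▸ one_mem _))).imp_right (by
      rintro ⟨β, hβ, rfl⟩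
      rw [← (wc β hβ).eq, inv_mul_cancel_left]; exact hβ)
  have h3 : g * w * g⁻¹ = z := (uniq _ h1 (by rw [conj_sq, w2]; group)).resolve_left
    fun e => w1 (conj_one e)
  have z'2 : g * z * g⁻¹ * (g * z * g⁻¹) = 1 := by rw [conj_sq, z2]; group
  have z'B : g * z * g⁻¹ ∉ zpowers b := fun e => by
    rcases uniq _ e z'2 with e | e
    · exact z1 (conj_one e)
    · exact wz (conj_inj (h3.trans e.symm))
  have b'S : g * b * g⁻¹ ∈ S := h2 b h.bS (wc b bb).symm
  rcases n with _ | n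
  swap
  · have h4 := pow_mem b'S (2 ^ n)
    have h5 := sqM _ ((mul_iff hi h4 h4).2 Iff.rfl)
    refine z'B ?_
    convert h5 using 1
    rw [hz, ← conj_pow, ← pow_add, ← pow_add]; congr 1; ring
  have hbz : b * b = z := by rw [hz, zero_add, pow_one, pow_two]
  have b'2 : g * b * g⁻¹ * (g * b * g⁻¹) = g * z * g⁻¹ := by rw [conj_sq, hbz]
  have hzg : ∀ κ, z ∈ zpowers κ → g * κ * g⁻¹ ∉ zpowers b := fun κ ⟨i, hi⟩ e => z'B (by
    rw [← hi, ← conj_zpow]; exact zpow_mem e i)
  have z'1 : g * z * g⁻¹ ≠ 1 := fun e => z'B (e ▸ one_mem _)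
  generalize g * b * g⁻¹ = c at b'S b'2
  generalize g * z * g⁻¹ = z' at z'2 z'B b'2 z'1
  have cM : c ∉ zpowers b ⊔ zpowers r := fun e => z'B (b'2 ▸ sqM c e)
  have cw : Commute c w := by
    obtain ⟨β, hβ, e⟩ := (hM' z' (sqO z' (b'2 ▸ mul_mem b'S b'S) (z'2 ▸ one_mem _))).resolve_left z'B
    have h4 : Commute c β := by
      rcases uniq β hβ (by rw [← sqw β hβ, ← e, z'2]) with e | e <;> rw [e]
      exacts [Commute.one_right c, zc c b'S]
    have h5 : Commute c (β * w) := by rw [← e, ← b'2]; exact (Commute.refl c).mul_right (Commute.refl c)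
    simpa using h4.inv_right.mul_right h5
  have all : ∀ p, Commute p b → Commute p w → Commute p c → ∀ s ∈ S, Commute p s := by
    intro p p1 p2 p3 s hs
    have h4 : ∀ m ∈ zpowers b ⊔ zpowers r, Commute p m := fun m hm => by
      rcases hM' m hm with e | ⟨β, hβ, rfl⟩
      exacts [comm_of_gen p1 e, (comm_of_gen p1 hβ).mul_right p2]
    by_cases e : s ∈ zpowers b ⊔ zpowers r
    · exact h4 s e
    · simpa using (h4 _ ((mul_iff hi hs (inv_mem b'S)).2 (by simp [e, cM]))).mul_right p3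
  have allw := all w (wc b bb) (Commute.refl w) cw.symm
  have cb : Commute c b := by
    by_contra hne
    have h4 := h.comm b'S h.bS
    refine hzg _ (pow_pow_mem_of_ne_bot Nat.prime_two h.bo (H := zpowers (c * b * c⁻¹ * b⁻¹))
      fun e => hne ?_) ?_
    · have : c * b * c⁻¹ * b⁻¹ ∈ zpowers (c * b * c⁻¹ * b⁻¹) ⊓ zpowers b := ⟨mem_zpowers _, h4⟩
      rwa [e, mem_bot, mul_inv_eq_one, mul_inv_eq_iff_eq_mul] at this
    · have := h.comm (h2 c b'S cw) (h2 b h.bS (wc b bb).symm)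
      convert this using 1; group
  have allb := all b (Commute.refl b) (wc b bb).symm cb.symm
  have allc := all c cb cw (Commute.refl c)
  have ab : ∀ p ∈ S, ∀ s ∈ S, Commute p s := fun p hp =>
    all p (allb p hp).symm (allw p hp).symm (allc p hp).symm
  have hV : CL.Three.V3 (⟨z, h.BS zB⟩ : S) ⟨w, wS⟩ :=
    ⟨hS.pgroup, fun e => z1 (congrArg Subtype.val e), fun e => w1 (congrArg Subtype.val e),
      fun e => wz (congrArg Subtype.val e).symm, Subtype.ext z2, Subtype.ext w2,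
      fun x => Subtype.ext (ab _ x.2 _ (h.BS zB)), fun x => Subtype.ext (ab _ x.2 _ wS),
      fun x hx => by
        have x2 : (x : G) * x = 1 := congrArg Subtype.val hx
        simp only [Subtype.ext_iff, coe_one, coe_mul]
        rcases hM' x (sqO x x.2 (x2 ▸ one_mem _)) with e | ⟨β, hβ, e⟩
        · rcases uniq _ e x2 with e | e <;> simp [e]
        · rcases uniq β hβ (by rw [← sqw β hβ, ← e, x2]) with e' | e' <;> simp [e, e']⟩
  have B4 : ∀ β ∈ zpowers b, β * β * (β * β) = 1 := fun β hβ => by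
    have := orderOf_dvd_iff_pow_eq_one.1 (h.bo ▸ orderOf_dvd_of_mem_zpowers hβ)
    rw [← this]; simp [pow_succ, mul_assoc]
  have M4 : ∀ m ∈ zpowers b ⊔ zpowers r, m * m * (m * m) = 1 := fun m hm => by
    rcases hM' m hm with e | ⟨β, hβ, rfl⟩
    · exact B4 m e
    · rw [sqw β hβ]; exact B4 β hβ
  have p4 : ∀ m : G, m ^ 2 ^ (1 + 1) = m * m * (m * m) := fun m => by simp [pow_succ, mul_assoc]
  obtain ⟨e⟩ := hV.nonempty_equiv (fun x y => Subtype.ext (ab _ x.2 _ y.2)) (x := ⟨b, h.bS⟩)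
    (y := ⟨c, b'S⟩) (n := 1) (fun x => Subtype.ext (by
      change (x : G) ^ 2 ^ (1 + 1) = 1
      by_cases e : (x : G) ∈ zpowers b ⊔ zpowers r
      · rw [p4, M4 _ e]
      have h4 := (mul_iff hi x.2 (inv_mem b'S)).2 (by simp [e, cM])
      have h5 := (ab _ (hMS h4) _ b'S).mul_pow (2 ^ (1 + 1))
      rwa [inv_mul_cancel_right, p4 c, b'2, z'2, mul_one, p4 (_ * _), M4 _ h4] at h5))
    (fun e => z1 (by rw [← hbz, ← pow_two]; exact congrArg Subtype.val e))
    (fun e => z'1 (by rw [← b'2, ← pow_two]; exact congrArg Subtype.val e))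
    (fun e => z'B (by
      have : b ^ 2 = c ^ 2 := congrArg Subtype.val e
      rw [← b'2, ← pow_two, ← this]; exact pow_mem bb 2))
  exact no_homo hA' hS.toSylow
    (((MulEquiv.subgroupCongr hS.coe_toSylow).trans (subgroupOfEquivOfLe hS.le)).trans e)

/-- Let A be a semisimple subgroup (a central product of quasisimple groups, A = E(A)) of a finite group and t an involution normalizing A such that the Sylow 2-subgroups of C_A(t) are cyclic of order 4. Then A has 2-rank exactly 1. -/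
theorem result {G : Type*} [Group G] [Finite G] (A : Subgroup G) (hA : Cfsg.layer ↥A = ⊤)
    (t : G) (ht : orderOf t = 2) (htA : t ∈ Subgroup.normalizer (A : Set G))
    (hC : ∀ R : Sylow 2 ↥(A ⊓ Subgroup.centralizer ({t} : Set G)), IsCyclic R ∧ Nat.card R = 4) :
    Cfsg.PRankLE 2 1 A ∧ ¬ Cfsg.PRankLE 2 0 A := by
  have : Fact (Nat.Prime 2) := ⟨Nat.prime_two⟩
  have t2 : t * t = 1 := by rw [← pow_two, ← ht, pow_orderOf_eq_one]
  obtain ⟨R, hR⟩ := exists_sylIn 2 (A ⊓ centralizer ({t} : Set G))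
  obtain ⟨r, rfl, ro⟩ : ∃ r, zpowers r = R ∧ orderOf r = 4 := by
    obtain ⟨h1, h2⟩ := hC hR.toSylow
    let e := (MulEquiv.subgroupCongr hR.coe_toSylow).trans (subgroupOfEquivOfLe hR.le)
    have : IsCyclic R := isCyclic_of_surjective e e.surjective
    obtain ⟨r, rfl⟩ := (Subgroup.isCyclic_iff_exists_zpowers_eq_top R).1 this
    exact ⟨r, rfl, by rw [← Nat.card_zpowers, ← Nat.card_congr e.toEquiv, h2]⟩
  have hr := hR.le (mem_zpowers r)
  have rt : Commute r t := mem_centralizer_singleton_iff.1 hr.2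
  refine ⟨?_, fun h => ?_⟩
  swap
  · have h1 : orderOf ((⟨r, hr.1⟩ : A) ^ 2 ^ 1) = 2 :=
      orderOf_pow_pow Nat.prime_two (by rw [← orderOf_coe, ro]; rfl)
    have := h (zpowers ((⟨r, hr.1⟩ : A) ^ 2 ^ 1)) inferInstance fun a ha =>
      orderOf_dvd_iff_pow_eq_one.1 (h1 ▸ orderOf_dvd_of_mem_zpowers ha)
    rw [Nat.card_zpowers, h1] at this; omega
  have htp : IsPGroup 2 (zpowers t) := IsPGroup.of_card (n := 1) (by rw [Nat.card_zpowers, ht]; rfl)
  obtain ⟨T, hT, hle⟩ := exists_sylIn_ge (H := A ⊔ zpowers t)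
    (htp.to_sup_of_normal_right' hR.pgroup (zpowers_le.2 (centralizer_le_normalizer _ (by
      rw [centralizer_zpowers]; exact mem_centralizer_singleton_iff.2 rt.symm.eq))))
    (sup_le le_sup_right ((zpowers_le.2 hr.1).trans le_sup_left))
  have hN : A ⊔ zpowers t ≤ normalizer (A : Set G) := sup_le le_normalizer (zpowers_le.2 htA)
  have hS := hT.inf_normal_of_le hN le_sup_left
  have htT : t ∈ T := hle (mem_sup_left (mem_zpowers t))
  have hrS : r ∈ T ⊓ A := ⟨hle (mem_sup_right (mem_zpowers r)), hr.1⟩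
  have cen : ∀ s ∈ T ⊓ A, Commute s t → s ∈ zpowers r := fun s hs e => by
    rw [← hR.max (T ⊓ A ⊓ centralizer {t}) (hS.pgroup.to_le inf_le_left)
      (zpowers_le.2 ⟨hrS, hr.2⟩) (inf_le_inf_right _ inf_le_right)]
    exact ⟨hs, mem_centralizer_singleton_iff.2 e⟩
  have hG : ∀ g ∈ normalizer (A : Set G), ∀ P ≤ T ⊓ A, P ≤ centralizer {g * t * g⁻¹} →
      ∃ k : G, ∀ p ∈ P, k * p * k⁻¹ ∈ zpowers r := fun g hg P hP hPc => by
    obtain ⟨k, -, hk⟩ := hR.exists_conj_le ((hS.pgroup.to_le hP).map (MulAut.conj g⁻¹).toMonoidHom)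
      (by
        rintro _ ⟨p, hp, rfl⟩
        refine ⟨(mem_normalizer_iff.1 (inv_mem hg) p).1 (hP hp).2,
          mem_centralizer_singleton_iff.2 ?_⟩
        have := (Commute.conj (mem_centralizer_singleton_iff.1 (hPc hp)) g⁻¹).eq
        simpa [mul_assoc] using this)
    refine ⟨k * g⁻¹, fun p hp => ?_⟩
    have := hk (mem_map_of_mem _ (mem_map_of_mem _ hp))
    simpa [mul_assoc] using this
  have uq : ∀ a ∈ zpowers r, ∀ a' ∈ zpowers r, a ≠ 1 → a' ≠ 1 → a * a = 1 → a' * a' = 1 →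
      a = a' := fun a ha a' ha' a1 a1' a2 a2' =>
    ((cyc_inv (m := 1) ro ha a2).resolve_left a1).trans
      ((cyc_inv (m := 1) ro ha' a2').resolve_left a1').symm
  refine rank_of_sylIn hS fun a ha a' ha' a1 a1' a2 a2' hc => ?_
  by_cases htA' : t ∈ A
  · have htS : t ∈ T ⊓ A := ⟨htT, htA'⟩
    obtain ⟨z, -, hz, oz⟩ := CL.PN.exists_mem_center_orderOf_eq (p := 2) hS.pgroup ⊤ (by
      intro e
      have : (⟨r, hrS⟩ : ↥(T ⊓ A)) ∈ (⊥ : Subgroup ↥(T ⊓ A)) := e ▸ mem_top _
      rw [show r = 1 from congrArg Subtype.val (mem_bot.1 this)] at ro; simp at ro)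
    have hz' : ∀ s ∈ T ⊓ A, Commute s z := fun s hs =>
      congrArg Subtype.val (mem_center_iff.1 hz ⟨s, hs⟩)
    rw [← orderOf_coe] at oz
    have : (z : G) = t := uq _ (cen _ z.2 (hz' t htS).symm) _ (cen t htS (Commute.refl t))
      (fun e => by rw [e] at oz; simp at oz) (fun e => by rw [e] at ht; simp at ht)
      (by rw [← pow_two, ← oz, pow_orderOf_eq_one]) t2
    exact uq a (cen a ha (this ▸ hz' a ha)) a' (cen a' ha' (this ▸ hz' a' ha')) a1 a1' a2 a2'
  have hi : A.relIndex T = 2 := by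
    rw [relIndex, index_eq_two_iff]
    refine ⟨⟨t, htT⟩, fun x => ?_⟩
    rw [mem_subgroupOf, mem_subgroupOf]
    have h1 : ¬((x : G) * t ∈ A ∧ (x : G) ∈ A) := fun e => htA' (by
      simpa using mul_mem (inv_mem e.2) e.1)
    have h2 : (x : G) * t ∈ A ∨ (x : G) ∈ A := by
      have h3 := hT.le x.2
      rw [← SetLike.mem_coe, coe_mul_of_right_le_normalizer_left _ _ (zpowers_le.2 htA)] at h3
      obtain ⟨p, hp, q, hq, e⟩ := h3
      rcases zp2 t2 hq with rfl | rfl
      · right; simpa [← e] using hp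
      · left; simpa [← e, mul_assoc, t2] using hp
    change Xor ((x : G) * t ∈ A) _
    unfold Xor; tauto
  rcases exists_cx hT.pgroup htT htA' (hT.le.trans hN) hi t2 hrS ro rt cen with h | ⟨b, n, h⟩
  · exact uq a (h ha) a' (h ha') a1 a1' a2 a2'
  by_contra hne
  obtain ⟨y, hy, y1, y2, yz⟩ : ∃ y ∈ T ⊓ A, y ≠ 1 ∧ y * y = 1 ∧ y ≠ b ^ 2 ^ n := by
    by_cases e : a = b ^ 2 ^ n
    · exact ⟨a', ha', a1', a2', fun e' => hne (e.trans e'.symm)⟩
    · exact ⟨a, ha, a1, a2, e⟩
  rcases n with _ | n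
  · exact h.caseI (res_top hA) hS htA hy y1 y2 (by simpa using yz)
  rcases h.dich with e | e
  · refine h.caseII (by omega) (res_top hA) hS htA e (fun g hg x hx hc => ?_)
      (fun g hg x hx x' hx' x1 x1' x2 x2' _ c1 c2 => ?_) hy y1 y2 yz
    · obtain ⟨k, hk⟩ := hG g hg (zpowers x) (zpowers_le.2 hx)
        (zpowers_le.2 (mem_centralizer_singleton_iff.2 hc))
      have := orderOf_dvd_iff_pow_eq_one.1 (ro ▸ orderOf_dvd_of_mem_zpowers (hk x (mem_zpowers x)))
      rw [conj_pow] at this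
      rw [← conj_one this]; simp [pow_succ, mul_assoc]
    · obtain ⟨k, hk⟩ := hG g hg (zpowers x ⊔ zpowers x')
        (sup_le (zpowers_le.2 hx) (zpowers_le.2 hx'))
        (sup_le (zpowers_le.2 (mem_centralizer_singleton_iff.2 c1))
          (zpowers_le.2 (mem_centralizer_singleton_iff.2 c2)))
      exact conj_inj (uq _ (hk x (mem_sup_left (mem_zpowers x))) _
        (hk x' (mem_sup_right (mem_zpowers x'))) (fun e => x1 (conj_one e))
        (fun e => x1' (conj_one e)) (by rw [conj_sq, x2]; group) (by rw [conj_sq, x2']; group))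
  · refine caseIII h (res_top hA) ?_ hS e
    have := CL.Comp.commutator_layer_self (G := A)
    rwa [hA] at this

end Cfsg.Agent.S1914
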