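import Cfsg.Statements.S1915
import Cfsg.Agent.SOLV.SemiR2

set_option autoImplicit false
open Cfsg

namespace Cfsg.Agent.S1915

open Subgroup CL.SR1 CL.PCyc CL.MSS

theorem core {P : Type*} [Group P] [Finite P] (hP : IsPGroup 2 P) (S : Subgroup P) [hSn : S.Normal]
    {u₁ u₂ : P} (h1 : u₁ * u₁ = 1) (h2 : u₂ * u₂ = 1) (h12 : Commute u₁ u₂)
    (hU : ∀ u, (u = u₁ ∨ u = u₂ ∨ u = u₁ * u₂) → ∀ a ∈ S, ∀ b ∈ S, a ≠ 1 → b ≠ 1 → a * a = 1 →
      b * b = 1 → Commute a b → Commute u a → Commute u b → a = b)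
    {a b : P} (ha : a ∈ S) (hb : b ∈ S) (a1 : a ≠ 1) (b1 : b ≠ 1) (a2 : a * a = 1) (b2 : b * b = 1)
    (hab : a ≠ b) :
    ∃ (X : Subgroup P) (z c y : P), X.relIndex S = 2 ∧ X ≤ S ∧ z ∈ S ∧ z ≠ 1 ∧ z * z = 1 ∧
      (∀ f ∈ X, f * f = 1 → f = 1 ∨ f = z) ∧
      (∀ f ∈ S, f ∉ X → f * f = 1 → ∀ w ∈ S, Commute w f → w = 1 ∨ w = z ∨ w = f ∨ w = f * z) ∧
      c * c = z ∧ (∀ f ∈ S, f * f = 1 → Commute c f) ∧ y ∈ S ∧ y ∉ X ∧ y * y = 1 := by
  have : Fact (Nat.Prime 2) := ⟨Nat.prime_two⟩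
  have hu2 : ∀ u, (u = u₁ ∨ u = u₂ ∨ u = u₁ * u₂) → u * u = 1 := by
    rintro u (rfl | rfl | rfl)
    · exact h1
    · exact h2
    · rw [← pow_two, h12.mul_pow, pow_two, pow_two, h1, h2, one_mul]
  have pig : ∀ a a' : P, (∀ g : P, g * a * g⁻¹ = a ∨ g * a * g⁻¹ = a') →
      ∃ u, (u = u₁ ∨ u = u₂ ∨ u = u₁ * u₂) ∧ Commute u a := fun a a' h => by
    rcases pigeon h1 (h u₁) (h u₂) with e | e | e
    · exact ⟨_, .inl rfl, e⟩
    · exact ⟨_, .inr (.inl rfl), e⟩
    · exact ⟨_, .inr (.inr rfl), e⟩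
  obtain ⟨x, hxn, n, d, hd⟩ := exists_dqs hP S (fun W hWS hWn hW hc => by
      obtain ⟨z, hzW, hzc, hz⟩ := CL.PN.exists_mem_center_orderOf_eq (p := 2) hP W
        (by rintro rfl; simp at hc)
      have hz1 : z ≠ 1 := by rintro rfl; simp at hz
      have hz2 : z * z = 1 := by rw [← pow_two, hW.2 z hzW]
      have hi : (zpowers z).relIndex W = 2 := by
        have := relIndex_mul_relIndex ⊥ (zpowers z) W bot_le (zpowers_le.2 hzW)
        rw [relIndex_bot_left, relIndex_bot_left, Nat.card_zpowers, hz, hc] at this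
        omega
      obtain ⟨w, hw, hwz⟩ : ∃ w ∈ W, w ∉ zpowers z := by
        by_contra! h
        rw [relIndex_eq_one.2 h] at hi; omega
      obtain ⟨u, hu, huw⟩ := pig w (w * z) fun g => by
        have h3 : g * w * g⁻¹ ∉ zpowers z := fun e => hwz (by
          rcases zp2 hz2 e with e | e
          · have : w = 1 := by simpa [mul_inv_eq_one] using e
            exact this ▸ one_mem _
          · have : w = z := by
              rw [mul_inv_eq_iff_eq_mul, ← mem_center_iff.1 hzc g] at e; simpa using e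
            exact this ▸ mem_zpowers _)
        have h4 := (mul_iff hi (inv_mem hw) (hWn.conj_mem w hw g)).2 (by simp [hwz, h3])
        rcases zp2 hz2 h4 with e | e
        · exact .inl (inv_mul_eq_one.1 e).symm
        · exact .inr (inv_mul_eq_iff_eq_mul.1 e)
      have := hU u hu w (hWS hw) z (hWS hzW) (fun e => hwz (e ▸ one_mem _)) hz1
        (by rw [← pow_two, hW.2 w hw]) hz2 (mem_center_iff.1 hzc w) huw (mem_center_iff.1 hzc u)
      exact hwz (this ▸ mem_zpowers _))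
    (fun hc => by
      obtain ⟨x, rfl⟩ := (Subgroup.isCyclic_iff_exists_zpowers_eq_top S).1 hc
      obtain ⟨k, hk⟩ := IsPGroup.iff_orderOf.1 hP x
      rcases k with _ | k
      · rw [pow_zero, orderOf_eq_one_iff] at hk; subst hk; simp at ha; exact a1 ha
      · exact hab (((cyc_inv hk ha a2).resolve_left a1).trans
          ((cyc_inv hk hb b2).resolve_left b1).symm))
  obtain ⟨m, rfl⟩ : ∃ m, n = m + 2 := ⟨n - 2, by have := hd.two_le; omega⟩
  have hx : orderOf (x : P) = 2 ^ (m + 2) := by rw [orderOf_coe, hd.orderOf_eq]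
  have hmem : ∀ a : S, a ∈ zpowers x ↔ (a : P) ∈ zpowers (x : P) := fun a =>
    ⟨fun ⟨k, hk⟩ => ⟨k, congrArg Subtype.val hk⟩, fun ⟨k, hk⟩ => ⟨k, Subtype.ext hk⟩⟩
  set z := (x : P) ^ 2 ^ (m + 1) with hz
  set v := (x : P) ^ 2 ^ m with hv
  have hvz : v * v = z := by rw [hv, hz, ← pow_two, ← pow_mul, pow_succ]
  have hzo : orderOf z = 2 := orderOf_pow_pow Nat.prime_two hx
  have hz1 : z ≠ 1 := by intro e; rw [e] at hzo; simp at hzo
  have hz2 : z * z = 1 := by rw [← pow_two, ← hzo, pow_orderOf_eq_one]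
  have hvX : v ∈ zpowers (x : P) := pow_mem (mem_zpowers _) _
  have hzX : z ∈ zpowers (x : P) := pow_mem (mem_zpowers _) _
  have hXS : zpowers (x : P) ≤ S := zpowers_le.2 x.2
  have huniq : ∀ f ∈ zpowers (x : P), f * f = 1 → f = 1 ∨ f = z := fun f hf e => cyc_inv hx hf e
  have hcX : ∀ f ∈ zpowers (x : P), ∀ f' ∈ zpowers (x : P), Commute f f' := by
    rintro _ ⟨i, rfl⟩ _ ⟨j, rfl⟩; exact Commute.zpow_zpow_self _ _ _
  have hi : (zpowers (x : P)).relIndex S = 2 := by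
    rw [← hd.index_eq, relIndex]; congr 1; ext a; exact (hmem a).symm
  have hzc : ∀ g : P, g * z * g⁻¹ = z := fun g =>
    (huniq _ (hxn.conj_mem z hzX g) (by
      calc _ = g * (z * z) * g⁻¹ := by group
        _ = 1 := by rw [hz2]; group)).resolve_left fun e => hz1 (by simpa [mul_inv_eq_one] using e)
  have hzc' : ∀ g : P, Commute g z := fun g => mul_inv_eq_iff_eq_mul.1 (hzc g)
  have hvc : ∀ g : P, g * v * g⁻¹ = v ∨ g * v * g⁻¹ = v * z := fun g => by
    have h3 := hxn.conj_mem v hvX g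
    have h4 := huniq _ (mul_mem (inv_mem hvX) h3) (by
      rw [← pow_two, (hcX _ (inv_mem hvX) _ h3).mul_pow, inv_pow, pow_two, pow_two, hvz,
        inv_mul_eq_one]
      calc z = g * (v * v) * g⁻¹ := by rw [hvz, hzc]
        _ = _ := by group)
    rcases h4 with e | e
    · exact .inl (inv_mul_eq_one.1 e).symm
    · exact .inr (inv_mul_eq_iff_eq_mul.1 e)
  have hcomm : ∀ f ∈ S, f ∉ zpowers (x : P) → ∀ w ∈ zpowers (x : P), Commute w f →
      w = 1 ∨ w = z := fun f hf hfX w hw e => by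
    have := hd.mem_zpowers_of_commute (x := ⟨f, hf⟩) (g := ⟨w, hXS hw⟩) (by rwa [hmem])
      (by rwa [hmem]) (Subtype.ext e.eq)
    obtain ⟨k, hk⟩ := this
    exact zp2 hz2 ⟨k, congrArg Subtype.val hk⟩
  obtain ⟨u, hu, huv⟩ := pig v _ hvc
  have hv2 : v ≠ 1 ∧ v ≠ z := ⟨fun e => hz1 (by rw [← hvz, e, one_mul]), fun e => hz1 (by
    rw [← hvz, e, hz2])⟩
  refine ⟨zpowers (x : P), z, u * v, if a ∈ zpowers (x : P) then b else a, hi, hXS, hXS hzX, hz1,
    hz2, huniq, fun f hf hfX f2 w hw e => ?_, ?_, fun f hf f2 => ?_, ?_, ?_, ?_⟩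
  · by_cases hwX : w ∈ zpowers (x : P)
    · rcases hcomm f hf hfX w hwX e with e | e <;> simp [e]
    · have h3 := (mul_iff hi (inv_mem hf) hw).2 (by simp [hfX, hwX])
      rcases hcomm f hf hfX _ h3 (((Commute.refl f).inv_left).mul_left e) with e | e
      · exact .inr (.inr (.inl (inv_mul_eq_one.1 e).symm))
      · exact .inr (.inr (.inr (inv_mul_eq_iff_eq_mul.1 e)))
  · rw [← pow_two, huv.mul_pow, pow_two, pow_two, hu2 u hu, hvz, one_mul]
  · by_cases hfX : f ∈ zpowers (x : P)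
    · rcases huniq f hfX f2 with rfl | rfl
      · exact Commute.one_right _
      · exact hzc' _
    have hf1 : f ≠ 1 := fun e => hfX (e ▸ one_mem _)
    have h3 : f * v * f⁻¹ = v * z := (hvc f).resolve_left fun e => by
      rcases hcomm f hf hfX v hvX (Commute.symm (mul_inv_eq_iff_eq_mul.1 e)) with e | e
      exacts [hv2.1 e, hv2.2 e]
    have h4 : u * f * u⁻¹ ∉ zpowers (x : P) := fun e => hfX (by
      have := hxn.conj_mem _ e u⁻¹; simpa [mul_assoc] using this)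
    have h5 := (mul_iff hi (inv_mem hf) (hSn.conj_mem f hf u)).2 (by simp [hfX, h4])
    have hfi : f⁻¹ = f := inv_eq_of_mul_eq_one_right f2
    have hui : u⁻¹ = u := inv_eq_of_mul_eq_one_right (hu2 u hu)
    have h6 : u * (f⁻¹ * (u * f * u⁻¹)) * u⁻¹ = (f⁻¹ * (u * f * u⁻¹))⁻¹ := by
      calc _ = u * f⁻¹ * u * f * (u * u)⁻¹ := by group
        _ = _ := by rw [hu2 u hu]; simp [mul_assoc, hui, hfi]
    have h7 : f⁻¹ * (u * f * u⁻¹) = z := by
      refine (huniq _ h5 ?_).resolve_left fun e => ?_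
      · by_contra h8
        obtain ⟨k, hk⟩ := cyc_four hx h5 h8
        have h9 : u * v * u⁻¹ = v⁻¹ := by
          rw [hv, ← hk, ← conj_zpow, h6, inv_zpow]
        rw [huv.eq, mul_inv_cancel_right, eq_inv_iff_mul_eq_one, hvz] at h9
        exact hz1 h9
      · have := hU u hu f hf z (hXS hzX) hf1 hz1 f2 hz2 (hzc' f)
          (mul_inv_eq_iff_eq_mul.1 (inv_mul_eq_one.1 e).symm) (hzc' u)
        exact hfX (this ▸ hzX)
    rw [inv_mul_eq_iff_eq_mul, mul_inv_eq_iff_eq_mul] at h7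
    rw [mul_inv_eq_iff_eq_mul] at h3
    have h8 : v * f = f * v * z := by
      rw [h3, mul_assoc, (hzc' f).eq, mul_assoc v, ← mul_assoc z, hz2, one_mul]
    change u * v * f = f * (u * v)
    rw [mul_assoc, h8, ← mul_assoc, ← mul_assoc, h7, mul_assoc (f * z), mul_assoc (f * z),
      (hzc' (u * v)).eq, mul_assoc f, ← mul_assoc z, hz2, one_mul]
  · split_ifs; exacts [hb, ha]
  · split_ifs with h
    · exact fun h' => hab (((huniq a h a2).resolve_left a1).trans
        ((huniq b h' b2).resolve_left b1).symm)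
    · exact h
  · split_ifs; exacts [b2, a2]

/-- Let A be a semisimple subgroup (A = E(A)) of a finite group and U a Klein four-group normalizing A. If the subgroup of A generated by the normalizers N_A(V) of the nontrivial subgroups V of U has 2-rank exactly 1, then A has 2-rank exactly 1. -/
theorem result {G : Type*} [Group G] [Finite G] (A : Subgroup G) (hA : Cfsg.layer ↥A = ⊤)
    (U : Subgroup G) (hU : IsKleinFour U) (hUA : U ≤ Subgroup.normalizer (A : Set G))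
    (hΓ : Cfsg.PRankLE 2 1 ↥(⨆ V : {V : Subgroup G // V ≤ U ∧ V ≠ ⊥}, A ⊓ Subgroup.normalizer ((V : Subgroup G) : Set G)) ∧
      ¬ Cfsg.PRankLE 2 0 ↥(⨆ V : {V : Subgroup G // V ≤ U ∧ V ≠ ⊥}, A ⊓ Subgroup.normalizer ((V : Subgroup G) : Set G))) :
    Cfsg.PRankLE 2 1 A ∧ ¬ Cfsg.PRankLE 2 0 A := by
  have : Fact (Nat.Prime 2) := ⟨Nat.prime_two⟩
  have hΓA : (⨆ V : {V : Subgroup G // V ≤ U ∧ V ≠ ⊥},
      A ⊓ Subgroup.normalizer ((V : Subgroup G) : Set G)) ≤ A := iSup_le fun _ => inf_le_left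
  refine ⟨?_, fun h => hΓ.2 fun E hE h2 => ?_⟩
  swap
  · have := h (E.map (inclusion hΓA)) inferInstance (by
      rintro _ ⟨a, ha, rfl⟩; rw [← map_pow, h2 a ha, map_one])
    rwa [card_map_of_injective (inclusion_injective hΓA)] at this
  have hUp : IsPGroup 2 U := IsPGroup.of_card (n := 2) hU.card_four
  obtain ⟨T, hT, hUT⟩ := exists_sylIn_ge (H := A ⊔ U) hUp le_sup_right
  have hN : A ⊔ U ≤ normalizer (A : Set G) := sup_le le_normalizer hUA
  have hS := hT.inf_normal_of_le hN le_sup_left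
  refine rank_of_sylIn hS fun a ha b hb a1 b1 a2 b2 _ => ?_
  by_contra hab
  have hSn : (A.subgroupOf T).Normal := ⟨fun n hn g =>
    (mem_normalizer_iff.1 (hN (hT.le g.2)) _).1 hn⟩
  obtain ⟨u₁, hu₁, u₂, hu₂, o1, o2, h12⟩ := exists_pair_of_elemAb (p := 2) (E := U)
    ⟨hU.isMulCommutative, fun u hu => congrArg Subtype.val
      (by simpa [pow_two] using IsKleinFour.mul_self (⟨u, hu⟩ : U) : (⟨u, hu⟩ : U) ^ 2 = 1)⟩
    (by rw [hU.card_four]; omega)
  have sq : ∀ u : G, orderOf u = 2 → u * u = 1 := fun u o => by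
    rw [← pow_two, ← o, pow_orderOf_eq_one]
  have hc12 : Commute u₁ u₂ :=
    have := hU.isMulCommutative
    congrArg Subtype.val (mul_comm' (⟨u₁, hu₁⟩ : U) ⟨u₂, hu₂⟩)
  obtain ⟨X, z, c, y, e1, e0, e2, e3, e4, e5, e6, e7, e8, e9, e10, e11⟩ := core hT.pgroup
    (A.subgroupOf T) (u₁ := ⟨u₁, hUT hu₁⟩) (u₂ := ⟨u₂, hUT hu₂⟩) (Subtype.ext (sq _ o1))
    (Subtype.ext (sq _ o2)) (Subtype.ext hc12.eq)
    (fun u hu p hp q hq p1 q1 p2 q2 hpq hup huq => by
      have hu' : (u : G) ∈ U ∧ (u : G) ≠ 1 := by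
        rcases hu with rfl | rfl | rfl
        · exact ⟨hu₁, fun e => by simp only at e; rw [e] at o1; simp at o1⟩
        · exact ⟨hu₂, fun e => by simp only at e; rw [e] at o2; simp at o2⟩
        · exact ⟨mul_mem hu₁ hu₂, fun e => h12 (by
            have : u₂ = u₁⁻¹ := eq_inv_of_mul_eq_one_right e
            exact this ▸ inv_mem (mem_zpowers _))⟩
      have hle := le_iSup (fun V : {V : Subgroup G // V ≤ U ∧ V ≠ ⊥} =>
        A ⊓ Subgroup.normalizer ((V : Subgroup G) : Set G))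
        ⟨zpowers (u : G), zpowers_le.2 hu'.1, by simpa using hu'.2⟩
      have hm : ∀ p : T, p ∈ A.subgroupOf T → Commute u p →
          (p : G) ∈ A ⊓ normalizer (zpowers (u : G) : Set G) := fun p hp e =>
        ⟨hp, centralizer_le_normalizer _ (by
          rw [centralizer_zpowers]
          exact mem_centralizer_singleton_iff.2 (congrArg Subtype.val e.symm.eq))⟩
      exact Subtype.ext (eq_of_rank hΓ.1 (hle (hm p hp hup)) (hle (hm q hq huq))
        (fun e => p1 (Subtype.ext e)) (fun e => q1 (Subtype.ext e)) (congrArg Subtype.val p2)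
        (congrArg Subtype.val q2) (congrArg Subtype.val hpq.eq)))
    (a := ⟨a, ha.1⟩) (b := ⟨b, hb.1⟩) ha.2 hb.2 (fun e => a1 (congrArg Subtype.val e))
    (fun e => b1 (congrArg Subtype.val e)) (Subtype.ext a2) (Subtype.ext b2)
    (fun e => hab (congrArg Subtype.val e))
  have hmX : ∀ f : T, (f : G) ∈ X.map T.subtype ↔ f ∈ X := fun f =>
    mem_map_iff_mem T.subtype_injective
  refine kprime (X := X.map T.subtype) (z := z) (c := c) (y := y) (res_top hA) hS ?_ ⟨z.2, e2⟩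
    (fun e => e3 (Subtype.ext e)) (congrArg Subtype.val e4) ?_ ?_ (hN (hT.le c.2))
    (congrArg Subtype.val e7) ?_ ⟨y.2, e9⟩ (by rwa [hmX]) (congrArg Subtype.val e11)
  · rw [← e1, inf_comm, ← subgroupOf_map_subtype,
      relIndex_map_map_of_injective _ _ T.subtype_injective]
  · rintro _ ⟨f, hf, rfl⟩ e
    rcases e5 f hf (Subtype.ext e) with rfl | rfl
    exacts [.inl rfl, .inr rfl]
  · intro f hf hfX f2 w hw e
    have := e6 ⟨f, hf.1⟩ hf.2 (by rwa [← hmX]) (Subtype.ext f2) ⟨w, hw.1⟩ hw.2 (Subtype.ext e.eq)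
    simpa [Subtype.ext_iff] using this
  · intro f hf f2
    exact congrArg Subtype.val (e8 ⟨f, hf.1⟩ hf.2 (Subtype.ext f2)).eq

end Cfsg.Agent.S1915
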