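import Cfsg.Statements.S1921
import Cfsg.Agent.SIG.Diagonal

set_option autoImplicit false
open Cfsg

namespace Cfsg.Agent.S1921

/-- Let a be an involution of a finite group H and L a component of H with a L a⁻¹ ≠ L; put M = ⟨L, aLa⁻¹⟩ and let J be the subgroup generated by the elements x · a x a⁻¹ with x ∈ L (the diagonal). Then every element of M outside J·Z(M) generates M together with J. -/
theorem result {H : Type*} [Group H] [Finite H] (a : H) (ha : orderOf a = 2) (L : Subgroup H) (hL : Cfsg.IsComponent L)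
    (hLa : L.map (MulAut.conj a).toMonoidHom ≠ L) (x : H) (hxM : x ∈ L ⊔ L.map (MulAut.conj a).toMonoidHom)
    (hxJ : x ∉ Subgroup.closure {y : H | ∃ l ∈ L, y = l * (a * l * a⁻¹)} ⊔
      ((L ⊔ L.map (MulAut.conj a).toMonoidHom) ⊓ Subgroup.centralizer ((L ⊔ L.map (MulAut.conj a).toMonoidHom : Subgroup H) : Set H))) :
    Subgroup.closure {y : H | ∃ l ∈ L, y = l * (a * l * a⁻¹)} ⊔ Subgroup.zpowers x = L ⊔ L.map (MulAut.conj a).toMonoidHom := by
  have hc := hL.commutator_eq_bot_of_ne (hL.conj a) (Ne.symm hLa)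
  rcases CL.Comp.eq_or_le_diag_sup hL.2 hc (H := CL.Comp.diag a L ⊔ Subgroup.zpowers x) le_sup_left
    (sup_le (CL.Comp.diag_le_sup a L) (Subgroup.zpowers_le.mpr hxM)) with h | h
  · exact h
  · refine absurd ((h.trans (sup_le_sup_left (le_inf (inf_le_left.trans le_sup_left) ?_) _))
      (Subgroup.mem_sup_right (Subgroup.mem_zpowers x))) hxJ
    exact hL.center_le_centralizer_layer.trans
      (CL.Comp.centralizer_anti (sup_le hL.le_layer (hL.conj a).le_layer))

end Cfsg.Agent.S1921
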