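import Cfsg.Statements.S1923
import Mathlib
import Cfsg.Agent.SIG.NS.Rec

set_option autoImplicit false
open Cfsg

namespace Cfsg.Agent.S1923

open CL CL.MSS CL.BG CL.SF CL.NE Subgroup

/-- Let r be a prime and let A and G be subgroups of a finite group X with G nontrivial and A normalizing G, A an elementary abelian r-group of order at least r³. For each nontrivial a ∈ A let θ(a) be an A-invariant subgroup of C_G(a) of order prime to r such that: (a) whenever the layer E(θ(a)) is nontrivial, it is a non-abelian group whose only A-invariant normal subgroups are 1 and itself, all of its non-abelian simple sections are known simple groups, the Fitting subgroup of θ(a) is trivial, and C_A(E(θ(a))) = ⟨a⟩; (b) for all nontrivial a, b ∈ A, θ(a) ∩ C_G(b) ≤ θ(b) and E(E(θ(a)) ∩ C_G(b)) ≤ E(θ(b)); (c) G is generated by the subgroups E(θ(a)). Then G has order prime to r, G is non-abelian with no A-invariant normal subgroups other than 1 and G,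 every non-abelian simple section of G is a known simple group, and C_G(a) = θ(a) for every nontrivial a ∈ A. -/
theorem result {X : Type*} [Group X] [Finite X] {r : ℕ} [Fact r.Prime] (A G : Subgroup X) (hG : G ≠ ⊥) (hAG : A ≤ Subgroup.normalizer (G : Set X))
    (hA : Cfsg.IsElementaryAbelian r A) (hrank : r ^ 3 ≤ Nat.card A)
    (θ : X → Subgroup X)
    (hθ : ∀ a ∈ A, a ≠ 1 → θ a ≤ G ⊓ Subgroup.centralizer ({a} : Set X) ∧ A ≤ Subgroup.normalizer ((θ a : Subgroup X) : Set X) ∧ (Nat.card ↥(θ a)).Coprime r)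
    (hE : ∀ a ∈ A, a ≠ 1 → Cfsg.layer ↥(θ a) ≠ ⊥ →
      ¬ IsMulCommutative ↥((Cfsg.layer ↥(θ a)).map (θ a).subtype) ∧
      (∀ N : Subgroup X, N ≤ (Cfsg.layer ↥(θ a)).map (θ a).subtype → (N.subgroupOf ((Cfsg.layer ↥(θ a)).map (θ a).subtype)).Normal →
         A ≤ Subgroup.normalizer (N : Set X) → N = ⊥ ∨ N = (Cfsg.layer ↥(θ a)).map (θ a).subtype) ∧
      Cfsg.IsKGroup ↥((Cfsg.layer ↥(θ a)).map (θ a).subtype) ∧
      Cfsg.fittingSubgroup ↥(θ a) = ⊥ ∧
      A ⊓ Subgroup.centralizer (((Cfsg.layer ↥(θ a)).map (θ a).subtype : Subgroup X) : Set X) = Subgroup.zpowers a)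
    (hbal : ∀ a ∈ A, ∀ b ∈ A, a ≠ 1 → b ≠ 1 →
      θ a ⊓ Subgroup.centralizer ({b} : Set X) ≤ θ b ∧
      (Cfsg.layer ↥((Cfsg.layer ↥(θ a)).map (θ a).subtype ⊓ Subgroup.centralizer ({b} : Set X))).map
          ((Cfsg.layer ↥(θ a)).map (θ a).subtype ⊓ Subgroup.centralizer ({b} : Set X)).subtype ≤ (Cfsg.layer ↥(θ b)).map (θ b).subtype)
    (hgen : G = ⨆ a : {a : X // a ∈ A ∧ a ≠ 1}, (Cfsg.layer ↥(θ a.1)).map (θ a.1).subtype) :
    (Nat.card G).Coprime r ∧ ¬ IsMulCommutative ↥G ∧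
    (∀ N : Subgroup X, N ≤ G → (N.subgroupOf G).Normal → A ≤ Subgroup.normalizer (N : Set X) → N = ⊥ ∨ N = G) ∧
    Cfsg.IsKGroup ↥G ∧ ∀ a ∈ A, a ≠ 1 → G ⊓ Subgroup.centralizer ({a} : Set X) = θ a := by
  have hr : r.Prime := Fact.out
  have h : Hyp (geo r A hr hA hrank) θ fun a => Comp.layerOf (θ a) := by
    have k := fun a (ha : a ∈ A ∧ a ≠ 1) (e : Comp.layerOf (θ a) ≠ ⊥) =>
      hE a ha.1 ha.2 fun e' => e (Comp.layerOf_eq_bot_iff_layer.2 e')
    have hF : ∀ a, a ∈ A ∧ a ≠ 1 → Comp.layerOf (θ a) ≠ ⊥ → fittingOf (θ a) = ⊥ := fun a ha e => by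
      rw [fittingOf, (k a ha e).2.2.2.1, Subgroup.map_bot]
    have hs : ∀ a, a ∈ A ∧ a ≠ 1 → Semi (Comp.layerOf (θ a)) := fun a ha => by
      by_cases e : Comp.layerOf (θ a) = ⊥
      · exact e ▸ bot_le
      · exact semi_layerOf (hF a ha e)
    refine ⟨fun a ha => (hθ a ha.1 ha.2).1.trans inf_le_right, fun a ha => (hθ a ha.1 ha.2).2.1,
      fun a ha => hr.coprime_iff_not_dvd.1 (hθ a ha.1 ha.2).2.2.symm, fun a => Comp.layerOf_le _,
      fun a => Comp.normalizer_le_normalizer_layerOf _, hs, fun a N ha h1 h2 h3 => ?_, fun a ha => ?_,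
      fun a ha e => ?_, fun a ha e => (k a ha e).2.2.2.2.le, fun a b ha hb => (hbal a ha.1 b hb.1 ha.2 hb.2).1,
      fun a b ha hb e => e.le_layerOf.trans (hbal a ha.1 b hb.1 ha.2 hb.2).2,
      fun a ha => (hθ a ha.1 ha.2).1.trans (inf_le_left.trans hgen.le), ?_⟩
    · by_cases e : Comp.layerOf (θ a) = ⊥
      · exact .inl (le_bot_iff.1 (e ▸ h1))
      · exact (k a ha e).2.1 N h1 ((normal_subgroupOf_iff_le_normalizer h1).2 h2) h3
    · by_cases e : Comp.layerOf (θ a) = ⊥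
      · exact KG.isKGroup_of_isSolvable (by rw [e]; infer_instance)
      · exact (k a ha e).2.2.1
    · have := Comp.inf_centralizer_fstarOf_le_fittingOf (θ a)
      rwa [Comp.fstarOf_eq, hF a ha e, sup_bot_eq, le_bot_iff] at this
    · by_contra! e
      exact hG (hgen.trans (iSup_eq_bot.2 fun a => e a a.2))
  subst hgen
  refine ⟨(hr.coprime_iff_not_dvd.2 h.cases.1).symm, fun e => h.not_sol (@isSolvable_of_isMulCommutative _ _ e),
    fun N h1 h2 h3 => h.simple h1 ((normal_subgroupOf_iff_le_normalizer h1).1 h2) h3, h.isKGroup,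
    fun a h1 h2 => h.fix_eq ⟨h1, h2⟩⟩

end Cfsg.Agent.S1923
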