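import Cfsg.Statements.S1930
import Mathlib
import Cfsg.Agent.SIG.QFixH
import Cfsg.Agent.SIG.FStar
import Cfsg.Agent.TECH.Amb

set_option autoImplicit false
open Cfsg

namespace Cfsg.Agent.S1930

/-- Inside a finite group let G be a nontrivial subgroup and R an r-subgroup (r a prime) normalizing G, with the order of G prime to r. Let p > 3 be a prime with F*(G) = O_p(G), and let P be the intersection of all R-invariant Sylow p-subgroups of G. Then P has a nontrivial characteristic subgroup that is normalized by G. -/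
theorem result {X : Type*} [Group X] [Finite X] (G R : Subgroup X) (r : ℕ) [Fact r.Prime] (hR : IsPGroup r ↥R) (hcop : (Nat.card ↥G).Coprime r) (hnorm : R ≤ Subgroup.normalizer (G : Set X)) (hG : G ≠ ⊥) (p : ℕ) [Fact p.Prime] (hp : 3 < p) (hF : Cfsg.generalizedFittingSubgroup ↥G = Cfsg.pCore p ↥G) (P : Subgroup X) (hP : P = ⨅ S : {S : Sylow p ↥G // ∀ a ∈ R, ((S : Subgroup ↥G).map G.subtype).map (MulAut.conj a).toMonoidHom = (S : Subgroup ↥G).map G.subtype}, ((S : Sylow p ↥G) : Subgroup ↥G).map G.subtype) : ∃ C : Subgroup ↥P, C.Characteristic ∧ C ≠ ⊥ ∧ G ≤ Subgroup.normalizer ((C.map P.subtype : Subgroup X) : Set X) := by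
  open Subgroup CL CL.QFix in
  have hc : (Nat.card R).Coprime (Nat.card G) := (coprime_card_of_isPGroup hR hcop).symm
  have mem : ∀ {x}, x ∈ P ↔ ∀ S : Sylow p G, (∀ a ∈ R, ((S : Subgroup G).map G.subtype).map
      (MulAut.conj a).toMonoidHom = (S : Subgroup G).map G.subtype) →
      x ∈ (S : Subgroup G).map G.subtype := by
    intro x
    rw [hP, mem_iInf]
    exact Subtype.forall
  obtain ⟨S₀, hS₀⟩ := coprime_exists_invariant_sylow R G hnorm hc (isSolvable_or_of_coprime _ _ hc) p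
  have h0 : P ≤ (S₀ : Subgroup G).map G.subtype := fun x hx =>
    mem.1 hx S₀ fun a ha => mem_normalizer_iff_map_conj_eq.1 (hS₀ ha)
  have hPG : P ≤ G := h0.trans (map_subtype_le _)
  have hPp : IsPGroup p P := (S₀.isPGroup'.map _).to_le h0
  have hRP : R ≤ normalizer (P : Set X) := le_normalizer_of_conj fun a ha x hx =>
    mem.2 fun S hS => hS a ha ▸ ⟨x, mem.1 hx S hS, rfl⟩
  have hCP : G ⊓ centralizer (R : Set X) ≤ normalizer (P : Set X) := by
    refine le_normalizer_of_conj fun c hc x hx => mem.2 fun S hS => ?_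
    obtain ⟨Q, hQ⟩ := exists_sylow_map_subtype_eq_conj G S (le_normalizer (G.inv_mem hc.1))
    have := mem.1 hx Q fun a ha => by
      rw [hQ]
      conv_rhs => rw [← hS a ha]
      generalize (S : Subgroup G).map G.subtype = T
      open scoped Pointwise in
      show MulAut.conj a • MulAut.conj c⁻¹ • T = MulAut.conj c⁻¹ • MulAut.conj a • T
      rw [← mul_smul, ← mul_smul, ← map_mul, ← map_mul, (inv_mem hc.2 : c⁻¹ ∈ centralizer _) a ha]
    rw [hQ] at this
    obtain ⟨y, hy, rfl⟩ := this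
    show c * (c⁻¹ * y * c⁻¹⁻¹) * c⁻¹ ∈ _
    rw [show c * (c⁻¹ * y * c⁻¹⁻¹) * c⁻¹ = y by group]
    exact hy
  have hT : ∀ N : Subgroup X, N ≤ G → IsPGroup p N → G ≤ normalizer (N : Set X) → N ≤ P :=
    fun N h1 h2 h3 x hx => mem.2 fun S _ => le_map_sylow_of_le_normalizer h1 h2 h3 S hx
  have hcen : G ⊓ centralizer (pCoreOf p G : Set X) ≤ pCoreOf p G := by
    rintro x ⟨h1, h2⟩
    refine ⟨⟨x, h1⟩, ?_, rfl⟩
    have := Comp.centralizer_fstar_le (G := G)
    rw [hF] at this
    exact this fun y hy => Subtype.ext (h2 _ ⟨y, hy, rfl⟩)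
  have hne : P ≠ ⊥ := by
    rintro rfl
    have h1 := le_bot_iff.1 (hT _ (MSS.oP_le G) (MSS.oP_isPGroup G) (MSS.oP_normal G))
    rw [h1] at hcen
    exact hG (le_bot_iff.1 fun x hx => hcen ⟨hx, fun y hy => by rw [mem_bot.1 hy]; simp⟩)
  have hW := CF.isCharPFunctor_kInfUpper p
  refine ⟨kInfUpper P, characteristic_iff_map_eq.2 fun φ => hW.2 _ _ hPp φ,
    hW.1 _ hPp ((nontrivial_iff_ne_bot _).2 hne), ?_⟩
  let Γ := normalizer (G : Set X)
  have hGΓ : G ≤ Γ := le_normalizer
  have hn : ((pCoreOf p G).subgroupOf Γ).Normal :=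
    Subgroup.normal_subgroupOf_of_le_normalizer (MSS.normalizer_le_normalizer_oP G)
  have hle : (pCoreOf p G).subgroupOf Γ ≤ pCore p Γ :=
    le_pCore ((MSS.oP_isPGroup G).comap_subtype)
  have key := (kInf_normal (p := p) (by
      have := (Fact.out : p.Prime).eq_two_or_odd'
      rcases this with h | ⟨m, h⟩ <;> omega)
    (G := G.subgroupOf Γ) (R := R.subgroupOf Γ) (P := P.subgroupOf Γ)
    (by rwa [Nat.card_congr (subgroupOfEquivOfLe hnorm).toEquiv,
      Nat.card_congr (subgroupOfEquivOfLe hGΓ).toEquiv])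
    (subgroupOf_mono _ hPG) hPp.comap_subtype
    (le_normalizer_of_conj fun a ha x hx => (mem_normalizer_iff.1 (hRP ha) _).1 hx)
    (le_normalizer_of_conj fun a ha x hx => (mem_normalizer_iff.1 (hCP ⟨ha.1, fun y hy =>
      congrArg Subtype.val (ha.2 ⟨y, hnorm hy⟩ hy)⟩) _).1 hx)
    (map_le_iff_le_comap.1 (hT _ (map_le_iff_le_comap.2 inf_le_right)
      ((isPGroup_pCore p Γ).to_inf_left.map _) (hGΓ.trans (by
        have := map_le_normalizer Γ.subtype (le_normalizer_of_normal (H := pCore p Γ ⊓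
          G.subgroupOf Γ) (K := ⊤))
        rwa [← MonoidHom.range_eq_map, range_subtype] at this))))
    (fun x hx => hle (hcen ⟨hx.1, fun y hy => congrArg Subtype.val (hx.2 ⟨y, hGΓ (MSS.oP_le G hy)⟩
      ⟨hle hy, MSS.oP_le G hy⟩)⟩))).2
  have e := CF.iF_map_inj hW (T := P.subgroupOf Γ) hPp.comap_subtype Γ.subtype_injective
  rw [map_subgroupOf_eq_of_le (hPG.trans hGΓ)] at e
  have := map_le_normalizer Γ.subtype (le_normalizer_of_normal
    (H := inducedFunctor kInfUpper (P.subgroupOf Γ)) (K := ⊤))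
  rw [← MonoidHom.range_eq_map, range_subtype, ← e] at this
  exact hGΓ.trans this

end Cfsg.Agent.S1930
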