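import Cfsg.Statements.S1931
import Mathlib
import Cfsg.Agent.SIG.EqZJ
import Cfsg.Agent.SOLV.PGroupCyclicSCN

set_option autoImplicit false
open Cfsg

namespace Cfsg.Agent.S1931

/-- Inside a finite group let G be a subgroup and R a noncyclic abelian r-subgroup (r a prime) normalizing G, with the order of G prime to r, and let p > 3 be a prime. Suppose that for every nonidentity a ∈ R, R centralizes the subgroup O^p(F*(C_G(a))) generated by the p'-elements of the generalized Fitting subgroup of C_G(a). Then R centralizes O^p(F*(G)). -/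
theorem result {X : Type*} [Group X] [Finite X] (G R : Subgroup X) (r : ℕ) [Fact r.Prime] (hR : IsPGroup r ↥R) (hcop : (Nat.card ↥G).Coprime r) (hnorm : R ≤ Subgroup.normalizer (G : Set X)) (hab : IsMulCommutative ↥R) (hnc : ¬ IsCyclic ↥R) (p : ℕ) [Fact p.Prime] (hp : 3 < p) (hloc : ∀ a ∈ R, a ≠ 1 → R ≤ Subgroup.centralizer ((((Cfsg.pResidual p ↥(Cfsg.generalizedFittingSubgroup ↥(G ⊓ Subgroup.centralizer ({a} : Set X)))).map (Cfsg.generalizedFittingSubgroup ↥(G ⊓ Subgroup.centralizer ({a} : Set X))).subtype).map (G ⊓ Subgroup.centralizer ({a} : Set X)).subtype : Subgroup X) : Set X)) : R ≤ Subgroup.centralizer ((((Cfsg.pResidual p ↥(Cfsg.generalizedFittingSubgroup ↥G)).map (Cfsg.generalizedFittingSubgroup ↥G).subtype).map G.subtype : Subgroup X) : Set X) := by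
  open Subgroup CL CL.MSS CL.EqZJ in
  have e : ∀ H : Subgroup X, ((pResidual p (generalizedFittingSubgroup H)).map
      (generalizedFittingSubgroup H).subtype).map H.subtype = Y p H := fun H =>
    oU_map H.subtype (generalizedFittingSubgroup H)
  simp only [e] at hloc ⊢
  have hr : r.Prime := Fact.out
  obtain ⟨E, hE, hEa, hEc⟩ := PCyc.exists_elemAb_le_of_not_isCyclic hR hnc
  have hEn := PCyc.not_isCyclic_of_elemAb hr hEa (hEc ▸ lt_self_pow₀ hr.one_lt one_lt_two)
  have h : Hyp p E G := ⟨hE.trans hnorm, hEc ▸ hcop.symm.pow_left 2, fun a ha h1 =>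
    hE.trans (hloc a (hE ha) h1)⟩
  have key := h.main hr hEa.1 hEn (fun b hb h1 => ?_)
    (fun n hn => ((hEc ▸ hn).coprime_dvd_left (dvd_pow_self r two_ne_zero)).symm) (by
      have := (Fact.out : p.Prime).eq_two_or_odd'
      rcases this with h | ⟨m, h⟩ <;> omega)
  · obtain ⟨⟨a, ha⟩, h1⟩ := ne_bot_iff_exists_ne_one.1 (fun e : E = ⊥ => hEn (e ▸ inferInstance))
    refine (hloc a (hE ha) fun e => h1 (Subtype.ext e)).trans (MSS.centralizer_anti ?_)
    rw [← Y_Y]
    exact Y_mono (le_inf (Y_le G) ((le_centralizer_symm key).trans (cent_le ha)))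
      (le_normalizer_Y (inf_le_left.trans le_normalizer))
  have hb' : Nat.card (zpowers b) = r := by
    rw [Nat.card_zpowers, orderOf_eq_prime (hEa.2 b hb) h1]
  obtain ⟨x, hx, hxb⟩ := SetLike.not_le_iff_exists.1 fun e : E ≤ zpowers b =>
    hEn (isCyclic_of_le e)
  refine ⟨x, hx, hEa.2 x hx, ?_⟩
  have hle : zpowers x ⊔ zpowers b ≤ E := sup_le (zpowers_le.2 hx) (zpowers_le.2 hb)
  obtain ⟨k, hk, h2⟩ := (Nat.dvd_prime_pow hr).1 (hEc ▸ card_dvd_of_le hle)
  have h3 := card_lt_of_lt (lt_of_le_of_ne (le_sup_right : zpowers b ≤ zpowers x ⊔ zpowers b)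
    fun e => hxb (e.ge (mem_sup_left (mem_zpowers x))))
  rw [hb', h2] at h3
  obtain rfl : k = 2 := by
    by_contra h4
    exact h3.not_ge ((Nat.pow_le_pow_right hr.pos (by omega : k ≤ 1)).trans (pow_one r).le)
  rw [← eq_of_le_of_card_ge hle (hEc.trans h2.symm).le, MSS.centralizer_sup_eq, centralizer_zpowers b]

end Cfsg.Agent.S1931
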