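import Cfsg.Statements.S1932
import Cfsg.Agent.TECH.FFOff
import Cfsg.Agent.TECH.CFChief
import Cfsg.Agent.PLOC.QdTwo
import Cfsg.Agent.PLOC.PConstrained
import Cfsg.Agent.PLOC.ThFact
import Cfsg.Agent.PLOC.Involves

set_option autoImplicit false
open Cfsg

namespace Cfsg.Agent.S1932

open Subgroup CL.MSS CL.Th
open scoped commutatorElement

theorem aux {G : Type*} [Group G] [Finite G]
    (hc : centralizer (pCore 2 G : Set G) ≤ pCore 2 G) (hq : ¬ Involves (qd 2) G)
    {S : Subgroup G} (hS : SylIn 2 S ⊤) (hcl : ⁅⁅S, S⁆, S⁆ = ⊥) :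
    (thompsonSubgroupOf 2 S).Normal := by
  have : Fact (Nat.Prime 2) := ⟨Nat.prime_two⟩
  have hQ : (pCore 2 G).Normal := inferInstance
  have hQS : pCore 2 G ≤ S := CL.pCore_le_sylow hS.toSylowTop
  set Q := pCore 2 G
  set Z := S ⊓ centralizer (S : Set G) with hZ
  have hN : (ncl (thompsonSubgroupOf 2 S) ⊤).Normal :=
    normalizer_eq_top_iff.1 (top_le_iff.1 (ncl_normal _ _))
  have hV : (ncl Z ⊤).Normal := normalizer_eq_top_iff.1 (top_le_iff.1 (ncl_normal _ _))
  set N := ncl (thompsonSubgroupOf 2 S) ⊤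
  set V := ncl Z ⊤
  have h1 : N ≤ centralizer (V : Set G) := le_centralizer_iff.1
    (ncl_le (le_centralizer_iff.1 (CL.FFO.ncl_thompson_le hc hq hS).1) le_normalizer_of_normal)
  have h2 : ⁅S, S⁆ ≤ V := (le_inf (commutator_le.2 fun a ha b hb =>
    mul_mem (mul_mem (mul_mem ha hb) (inv_mem ha)) (inv_mem hb))
    (commutator_eq_bot_iff_le_centralizer.1 hcl)).trans (le_ncl Z ⊤)
  have := CL.CF.secC_normal Q V
  have h3 : N ≤ secC Q V := ncl_le ((thompsonSubgroupOf_le S).trans (le_secC_iff.2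
    ⟨le_normalizer_of_normal, (commutator_mono hQS le_rfl).trans h2⟩)) le_normalizer_of_normal
  have hVQ : V ≤ Q := ncl_le (inf_le_right.trans ((centralizer_le hQS).trans hc))
    le_normalizer_of_normal
  have hp : IsPGroup 2 Q := pcore_isPGroup
  obtain ⟨k, hk⟩ := IsPGroup.iff_card.1 hp
  have h4 : IsPGroup 2 N := by
    intro g
    have a : (g : G) ^ 2 ^ k ∈ Q := hc fun q hq => by
      have hv : ⁅q, (g : G)⁆ ∈ V := (mem_secC.1 (h3 g.2)).2 q hq
      have hg : Commute ⁅q, (g : G)⁆ (g : G) := h1 g.2 _ hv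
      have e : ∀ n : ℕ, q * (g : G) ^ n * q⁻¹ = ⁅q, (g : G)⁆ ^ n * (g : G) ^ n := fun n => by
        rw [← hg.mul_pow, ← conj_pow, commutatorElement_def]; simp
      have e2 : ⁅q, (g : G)⁆ ^ 2 ^ k = 1 := by
        have := pow_card_eq_one' (x := (⟨_, hVQ hv⟩ : Q))
        rw [hk] at this
        exact congrArg Subtype.val this
      have := e (2 ^ k)
      rw [e2, one_mul, mul_inv_eq_iff_eq_mul] at this
      exact this
    have := pow_card_eq_one' (x := (⟨_, a⟩ : Q))
    rw [hk] at this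
    refine ⟨k + k, Subtype.ext ?_⟩
    rw [pow_add, pow_mul]
    simpa using congrArg Subtype.val this
  have h5 : thompsonSubgroupOf 2 S ≤ Q := (le_ncl _ ⊤).trans (le_pcore hN h4)
  rw [← thompsonSubgroupOf_eq_of_le h5 hQS]
  exact normalizer_eq_top_iff.1 (top_le_iff.1
    (le_normalizer_of_normal.trans (normalizer_le_normalizer_thompsonSubgroupOf Q)))

/-- Let G be a finite group that is 2-constrained and has no section isomorphic to the symmetric group of degree 4, and let S be a Sylow 2-subgroup of G of nilpotency class at most 2. Then G = N_G(J(S))·O_{2'}(G), where J(S) is the Thompson subgroup generated by the elementary abelian subgroups of S of largest order. -/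
theorem result {G : Type*} [Group G] [Finite G] (hcon : Cfsg.IsPConstrained 2 G) (hS4 : ¬ Cfsg.Involves (Equiv.Perm (Fin 4)) G) (S : Sylow 2 G) (hcl : Subgroup.lowerCentralSeries (S : Subgroup G) 2 = ⊥) : Subgroup.normalizer ((Cfsg.thompsonSubgroupOf 2 (S : Subgroup G)) : Set G) ⊔ Cfsg.pPrimeCore 2 G = ⊤ := by
  have : Fact (Nat.Prime 2) := ⟨Nat.prime_two⟩
  have hf := QuotientGroup.mk'_surjective (pPrimeCore 2 G)
  have hk : (S : Subgroup G) ⊓ (QuotientGroup.mk' (pPrimeCore 2 G)).ker = ⊥ :=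
    CL.inf_eq_bot_of_isPGroup_of_coprime S.isPGroup'
      (by rw [QuotientGroup.ker_mk']; exact CL.coprime_card_pPrimeCore 2 G)
  have h := aux (CL.PC.charP_iff_isPConstrained.2 ⟨(CL.PC.isPConstrained_quotient_iff _
      (CL.coprime_card_pPrimeCore 2 G)).2 hcon, CL.pPrimeCore_quotient_pPrimeCore 2 G⟩)
    (fun h => hS4 (CL.Sec.involves_trans (CL.Qd.involves_qd_two_iff.1 h)
      (CL.Sec.involves_of_surjective _ hf))) (sylIn_top (S.mapSurjective hf)) (by
      have := congrArg (Subgroup.map (QuotientGroup.mk' (pPrimeCore 2 G))) hcl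
      simpa [map_commutator] using this)
  rw [Sylow.coe_mapSurjective, ← map_thompsonSubgroupOf_of_inf_ker hk] at h
  have h2 := h.comap (QuotientGroup.mk' (pPrimeCore 2 G))
  rw [comap_map_eq, QuotientGroup.ker_mk'] at h2
  rw [eq_top_iff]
  intro g _
  obtain ⟨c, hc, n, hn, rfl⟩ := exists_mul_normalizer_thompson S _ (le_sup_left :
    _ ≤ thompsonSubgroupOf 2 (S : Subgroup G) ⊔ pPrimeCore 2 G) g
  exact mul_mem (sup_le_sup_right le_normalizer _ hc) (mem_sup_left hn)

end Cfsg.Agent.S1932
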