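import Cfsg.Statements.S2035
import Mathlib
import Cfsg.Agent.KSG.SchurVolt
import Cfsg.Agent.KSG.MathieuMdl

set_option autoImplicit false
open Cfsg

namespace Cfsg.Agent.S2035

open CL CL.K CL.SchurC CL.Golay CL.MathMdl
open scoped Pointwise

noncomputable def c2 : Cert :=
  { p := 2, s := 1, r := 1, n := 6, B := 11, d := 2, T := 10, b := 1, bu := 2, dn := 8
    ctb := 0x25b2070c10032460810000440810000010c1000000041000000000
    cms := 0x58c002000
    cft := 0xb26757948b82281fb9d08084142041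
    fix := 0x1010101010000000000
    rels := [.c 0x4 0x4 0x4, .c 0x20 0x20 0x20, .c 0x2 0x2 0x2, .c 0x10 0x10 0x10,
      .c 0x8 0x8 0x8, .c 0x8 0x8 0x20, .c 0x2 0x2 0x10, .c 0x4 0x8 0x20,
      .c 0x2 0x4 0x4, .c 0x8 0x10 0x10, .c 0x4 0x10 0x10, .c 0x4 0x20 0x20,
      .c 0x10 0x20 0x20, .f 0 [2, 2] [0], .f 0 [1, 2] [2, 1, 0], .f 0 [1, 3] [3, 1],
      .f 0 [3, 3] [0], .f 0 [4, 4] [], .f 1 [5, 5] [], .f 1 [7, 7] [5],
      .f 1 [7, 8] [8, 7, 5], .f 1 [9, 9] [7, 6, 5], .f 1 [8, 9] [9, 8, 7, 6, 5]]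
    cV := [0x2000000000c000,
      0x30000000000000,
      0x100000100000000000000,
      0x300030000000004000,
      0x1040000000000000000000,
      0x44100000000000000000000]
    cC := [0x10000000000]
    Wu := 48
    utb := 0x7fd10743ef2d0000000000000000000030100003008df5e0000203029a6f0000000010202f8f42ceccd00840078478fb00000000000000000000c10000000000420008c20a018e82000000000003000000010400000000000c000a1b234c7aca0000004cc10000000000000c0000000000000000000000c0000000848244002002a75839 }

def lv2 : List (ℕ × ℕ × List ℕ) :=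
  [(0, 4, [0x2, 0x4]), (1, 2, [0x17]), (10, 4, [0x8, 0x3d]), (2, 2, [0x1])]

def a2 : List ℕ :=
  [0x3aea59c23273c88b292cb8a8d19820,
   0x752ab9922db9e462a8027a2d00b069,
   0xb1eae98a26a1584ba86d5c9e84c001,
   0x7d22b536a43de062cd22722d21b020,
   0x5ba2798aa6a15127a870b12ec03521,
   0x2dd4fab268b2cc43c40da49c21c029,
   0x2ae77532a873db0b4412a18e448861,
   0x515ebb85c38d52ca1c8899ac090a0d]

noncomputable def c3 : Cert :=
  { p := 3, s := 0, r := 0, n := 3, B := 9, d := 0, T := 3, b := 2, bu := 2, dn := 5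
    ctb := 0x141000040000
    cms := 0x80
    cft := 0x890204041
    fix := 0x0
    rels := [.c 0x8 0x4 0x10, .f 0 [0, 1] [1, 0], .f 0 [1, 1, 1] [], .f 0 [0, 2] [2, 0],
      .f 0 [2, 2, 2] []]
    cV := [0x8000,
      0x0,
      0x0]
    cC := []
    Wu := 10
    utb := 0x804002002002001 }

def lv3 : List (ℕ × ℕ × List ℕ) :=
  [(6, 3, [0x10]), (5, 3, [0x1]), (0, 3, [0x4])]

def a3 : List ℕ :=
  [0xb56f47ca2374d0c51440399702052d,
   0xb56f1748e99bc6c5a804a18a113510,
   0x74df451a302ad12bd8203b2a41a44d,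
   0x7ba71a9a89bd9ac5aa083c8a110c80]

def wA : List ℕ :=
  [0x56aad55b, 0x5b56bdaab6ab, 0x1d6b6a, 0x1dab5b5b, 0x55b, 0xedaa, 0x3, 0x156, 0x2, 0x3]

def wlv : List (ℕ × ℕ × List ℕ) :=
  [(0, 12, [256, 512]), (1, 11, [64, 128]), (2, 10, [16, 32]), (3, 9, [4, 8]), (4, 8, [1, 2])]

def gens : List ℕ := [0x2d6cb3a5c4544c8a3e4c9b6f010c01, 0xbd1f19cac6514615d5a8710f04b040]

noncomputable def v2 : VCert :=
  { N := 24, w := 5, lw := 2, k := 2, wp := 5, o := 0, no := 22, NN := 48, b := 6
    pts := 0xbdab49ca307b9ac5a928398a418820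
    tau := [0x2d6cb3a5c4544c8a3e4c9b6f010c01,
      0xbd1f19cac6514615d5a8710f04b040]
    lam := [0x445500511044,
      0x140100100]
    nets := [[(24, 0x50f2b5),
      (12, 0x1fc0001fc),
      (6, 0x3e01003e010),
      (3, 0x100144100144),
      (1, 0x201000201000),
      (1, 0x402000402000),
      (1, 0x249009249009),
      (3, 0x100000100000),
      (6, 0x1e01001e010),
      (12, 0x16c00016c)],
      [(24, 0x210440),
      (12, 0x256000256),
      (6, 0x19024019024),
      (3, 0x84002084002),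
      (1, 0x40000040000),
      (1, 0x90080090080),
      (1, 0x1208001208),
      (3, 0x82102082102),
      (6, 0x402c00402c),
      (12, 0x4e00004e)]]
    seeds := [(0, 0xf28000084ca0), (5, 0x43148010217)]
    ord := 0x4170b82c04427020220d01300c0b0d82d054060a42a0c01203c04
    cn := 0x6186180176176005d70005ef02f02f5d75c0
    rk := 0x111112121122112212122220
    wit := [([0, 1, 0, 1, 0, 1, 1, 0, 1, 1, 0, 1, 0, 1, 0, 1, 1, 0, 1, 1, 0], [1, 1, 0, 1, 1, 0, 1, 0, 1, 0, 1, 1, 0, 1, 1, 0, 1, 0, 1], 1)] }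

/-- The Schur multiplier of the Mathieu group M₁₂ (the stabiliser of a dodecad in the automorphism group of the length-24 binary code) is cyclic of order 2; here the Schur multiplier is described through stem extensions, as in the definitions: surjective homomorphisms onto the group from a finite group, whose kernel is central in that finite group and contained in that finite group's commutator subgroup. -/
theorem result : Cfsg.HasCyclicSchurMultiplier ↥Cfsg.Spor.M12 2 := by
  have hc := card_M12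
  have h2 := c2.pbound_perm E Nat.prime_two Cfsg.Spor.M12 (A := a2) (lv := lv2)
    (all12 (by decide +kernel)) (by rw [hc]; decide +kernel) (by decide +kernel)
    (by decide +kernel)
  have h3 := c3.pbound_perm E Nat.prime_three Cfsg.Spor.M12 (A := a3) (lv := lv3)
    (all12 (by decide +kernel)) (by rw [hc]; decide +kernel) (by decide +kernel)
    (by decide +kernel)
  obtain ⟨g, hg⟩ := exists_fun_perm E (all12 (L := gens) (by decide +kernel))
  have M := actMdl_perm (w := 5) (M := 31) E Cfsg.Spor.M12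
  have hb := isBase_range E Cfsg.Spor.M12
  have ht := M.closure_eq_top (blt_spec (N := 24)) (b := 1) (bm := 1) hg (f := 47)
    (h := fun c => c) (A := wA) (lv := wlv) (by decide +kernel) (by rw [hc]; decide +kernel)
  have d2 := dvd_mult_of_cov (v2.cov 2 M (blt_spec (N := 24)) hg ht (by decide +kernel)
    (by decide +kernel)) (w := [0, 1, 0, 1, 0, 1, 1, 0, 1, 1, 0, 1, 0, 1, 0, 1, 1, 0, 1, 1, 0]) (w' := [1, 1, 0, 1, 1, 0, 1, 0, 1, 0, 1, 1, 0, 1, 1, 0, 1, 0, 1]) (by decide +kernel)
    (M.commute hg hb (by decide +kernel))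
  exact cyclic_of_upper (upper_cyclic' h2 h3 (pbound_rest hc 23 1 [] (by decide +kernel)
    (by decide +kernel) (by simp)) le_rfl zero_le_one (by decide) rfl) d2

end Cfsg.Agent.S2035
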