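import Cfsg.Statements.S2059
import Cfsg.Agent.SPOR.MP.Asm2
import Cfsg.Agent.SPOR.MP.RowBase
import Cfsg.Agent.SPOR.MP.Mult
import Cfsg.Agent.KSG.SchurAsm
import Cfsg.Agent.FGS.SchurHopf

set_option autoImplicit false
open Cfsg

namespace Cfsg.Agent.S2059

open CL CL.MP CL.MO Subgroup in
theorem upper : SchurC.Upper (GG P0) (Multiplicative (ZMod 1)) := fun Γ _ _ σ hσ => by
  have := finite_GG P0
  obtain ⟨d, -, N, -⟩ := exists_rho (ax_GG P0)
  have k := ker_eq_bot553 hσ N.pres N.f3 (ND.gtop N) fun x h e c hc hk =>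
    ND.ker N h (σ.comp ((MonoidHom.fst _ _).comp (Subgroup.subtype _))) (fun i _ hi => e i hi) c hc hk
  exact ⟨1, fun a => ⟨1, Subtype.ext ((k.le a.2).symm ▸ rfl)⟩⟩

theorem result : Cfsg.HasCyclicSchurMultiplier Cfsg.Spor.Monster 1 := by
  have := CL.MO.finite_GG CL.MO.P0
  exact CL.Schur.hasSchurMultiplier_congr_left
    (CL.SchurC.hasSchurMultiplier_of (CL.SchurC.lower_trivial _) upper) CL.MP.isoM.symm

end Cfsg.Agent.S2059
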