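import Cfsg.Statements.S2193
import Cfsg.Agent.CLAS.T2.L2
import Cfsg.Agent.CLAS.T2.SL
import Cfsg.Agent.CLAS.T2.SU
import Cfsg.Agent.CLAS.T2.Sp
import Cfsg.Agent.CLAS.T2.Orth
import Cfsg.Agent.CLAS.T2.MD
import Cfsg.Agent.CLAS.T2.G2
import Cfsg.Agent.CLAS.T2.F4
import Cfsg.Agent.CLAS.T2.TF4
import Cfsg.Agent.CLAS.T2.Sz
import Cfsg.Agent.CLAS.T2.Ree

set_option autoImplicit false
open Cfsg

namespace Cfsg.Agent.S2193

/-- The faithful 2-transitive permutation representations of the finite simple groups of Lie type. Let G be a finite simple group of Lie type (isomorphic to a member of one of the sixteen families over a finite field, the Tits group excepted) acting faithfully and 2-transitively on a finite set Ω. Then one of the following holds: G ≅ PSL_l(F) with l ≥ 3 and Ω has (|F|^l − 1)/(|F| − 1) points; G ≅ PSL₂(F) with |F| ≥ 4 and Ω has |F| + 1 points; G ≅ PSU₃(q),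 q ≥ 3, and Ω has q³ + 1 points; G is a Suzuki group Sz(q), q = 2^(2m+1) ≥ 8, and Ω has q² + 1 points; G is a Ree group ²G₂(q), q = 3^(2m+1) ≥ 27, and Ω has q³ + 1 points; G ≅ PSL₂(9) and Ω has 6 points; G ≅ PSL₂(11) and Ω has 11 points; G ≅ PSL₄(2) and Ω has 8 points; or G ≅ PSp_{2n}(2) with n ≥ 3 and Ω has 2^(n−1)(2^n + 1) or 2^(n−1)(2^n − 1) points. -/
theorem result {G Ω : Type*} [Group G] [Finite G] [MulAction G Ω] [FaithfulSMul G Ω] [Fintype Ω] (r : ℕ) [Fact r.Prime] (hG : Cfsg.IsLieTypeChar r G) (h2 : MulAction.IsMultiplyPretransitive G Ω 2) :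
    (∃ (F : Type) (_ : Field F) (_ : Fintype F) (l : ℕ), 3 ≤ l ∧ Nonempty (G ≃* Matrix.ProjectiveSpecialLinearGroup (Fin l) F) ∧ Fintype.card Ω * (Fintype.card F - 1) = Fintype.card F ^ l - 1) ∨
    (∃ (F : Type) (_ : Field F) (_ : Fintype F), 4 ≤ Fintype.card F ∧ Nonempty (G ≃* Matrix.ProjectiveSpecialLinearGroup (Fin 2) F) ∧ Fintype.card Ω = Fintype.card F + 1) ∨
    (∃ (F : Type) (_ : Field F) (_ : Fintype F) (q : ℕ), 3 ≤ q ∧ Fintype.card F = q ^ 2 ∧ Nonempty (G ≃* Cfsg.PSU 3 F q) ∧ Fintype.card Ω = q ^ 3 + 1) ∨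
    (∃ (F : Type) (_ : Field F) (_ : Fintype F) (m : ℕ), 1 ≤ m ∧ Fintype.card F = 2 ^ (2 * m + 1) ∧ Nonempty (G ≃* ↥(Cfsg.Lie.Sz F (2 ^ (m + 1)))) ∧ Fintype.card Ω = Fintype.card F ^ 2 + 1) ∨
    (∃ (K : Type) (_ : Field K) (_ : Fintype K) (m : ℕ), 1 ≤ m ∧ Fintype.card K = 3 ^ (2 * m + 1) ∧ Nonempty (G ≃* ↥(Cfsg.Lie.twistedG2 K (3 ^ m))) ∧ Fintype.card Ω = Fintype.card K ^ 3 + 1) ∨
    (∃ (F : Type) (_ : Field F) (_ : Fintype F), Fintype.card F = 9 ∧ Nonempty (G ≃* Matrix.ProjectiveSpecialLinearGroup (Fin 2) F) ∧ Fintype.card Ω = 6) ∨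
    (∃ (F : Type) (_ : Field F) (_ : Fintype F), Fintype.card F = 11 ∧ Nonempty (G ≃* Matrix.ProjectiveSpecialLinearGroup (Fin 2) F) ∧ Fintype.card Ω = 11) ∨
    (∃ (F : Type) (_ : Field F) (_ : Fintype F), Fintype.card F = 2 ∧ Nonempty (G ≃* Matrix.ProjectiveSpecialLinearGroup (Fin 4) F) ∧ Fintype.card Ω = 8) ∨
    (∃ (F : Type) (_ : Field F) (_ : Fintype F) (n : ℕ), 3 ≤ n ∧ Fintype.card F = 2 ∧ Nonempty (G ≃* Cfsg.PSp n F) ∧ (Fintype.card Ω = 2 ^ (n - 1) * (2 ^ n + 1) ∨ Fintype.card Ω = 2 ^ (n - 1) * (2 ^ n - 1))) := by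
  have hnt : Nontrivial G := CL.Chev.lieType_elim hG fun T j h _ => h.isTw.nontrivial
  have tw : CL.T2.Tw G Ω := by
    refine ⟨?_, fun a b c d h1 h2' => ?_⟩
    · by_contra hc
      have := not_nontrivial_iff_subsingleton.1 hc
      obtain ⟨g, hg⟩ := exists_ne (1 : G)
      exact hg (FaithfulSMul.eq_of_smul_eq_smul (α := Ω) fun a => Subsingleton.elim _ _)
    · exact MulAction.is_two_pretransitive_iff.1 h2 h1 h2'
  rw [← Nat.card_eq_fintype_card]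
  change CL.T2.Concl G (Nat.card Ω)
  have key : ∀ {H : Type} [Group H] (e : G ≃* H),
      (∀ [MulAction H Ω], CL.T2.Tw H Ω → CL.T2.Concl H (Nat.card Ω)) → CL.T2.Concl G (Nat.card Ω) :=
    fun {H} _ e h =>
      letI := MulAction.compHom Ω e.symm.toMonoidHom
      (h (tw.comp e.symm.toMonoidHom e.symm.surjective)).of_equiv e
  rcases hG with ⟨F, _, _, _, n, hn, h, ⟨e⟩⟩ | ⟨F, _, _, _, n, hn, h, ⟨e⟩⟩ | ⟨F, _, _, _, n, q, hF, hn, h, ⟨e⟩⟩ |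
    ⟨F, _, _, _, n, hn, hF, ⟨e⟩⟩ | ⟨F, _, _, _, n, hn, ⟨e⟩⟩ | ⟨F, _, _, _, n, a, b, hn, hab, ⟨e⟩⟩ |
    ⟨F, _, _, _, ⟨h, ⟨e⟩⟩ | ⟨⟨e⟩⟩ | ⟨⟨e⟩⟩ | ⟨⟨e⟩⟩ | ⟨⟨e⟩⟩⟩ | ⟨F, _, _, _, q, hq, ⟨hF, ⟨e⟩⟩ | ⟨hF, ⟨e⟩⟩⟩ |
    ⟨-, F, _, _, m, hm, hF, ⟨e⟩⟩ | ⟨-, F, _, _, m, hm, hF, ⟨e⟩⟩ | ⟨-, F, _, _, m, hm, hF, ⟨e⟩⟩
  · rcases hn.eq_or_lt with rfl | hn
    · exact key e fun t => CL.T2.psl2 (h rfl) t
    · exact key e fun t => CL.T2.psl hn t
  · exact key e fun t => CL.T2.psp hn h t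
  · rcases hn.eq_or_lt with rfl | hn
    · exact key e fun t => CL.T2.psu3 hF (fun h' => h ⟨rfl, h'⟩) t
    · exact key e fun t => (CL.T2.psu_false hF hn t).elim
  · exact key e fun t => (CL.T2.odd_false hn hF t).elim
  · exact key e fun t => (CL.T2.plus_false hn t).elim
  · exact key e fun t => (CL.T2.minus_false hn hab t).elim
  · exact key e fun t => (CL.T2.G2_false h t).elim
  · exact key e fun t => (CL.T2.F4_false t).elim
  · exact key e fun t => (CL.T2.E6_false t).elim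
  · exact key e fun t => (CL.T2.E7_false t).elim
  · exact key e fun t => (CL.T2.E8_false t).elim
  · exact key e fun t => (CL.T2.tE6_false hq hF t).elim
  · exact key e fun t => (CL.T2.tD4_false hq hF t).elim
  · exact key e fun t => .inr (.inr (.inr (.inl ⟨F, _, _, m, hm, hF, ⟨MulEquiv.refl _⟩, CL.T2.sz hm hF t⟩)))
  · exact key e fun t => (CL.T2.tF4_false hm hF t).elim
  · exact key e fun t =>
      .inr (.inr (.inr (.inr (.inl ⟨F, _, _, m, hm, hF, ⟨MulEquiv.refl _⟩, CL.T2.ree hm hF t⟩))))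

end Cfsg.Agent.S2193
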