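import Cfsg.Statements.S2207
import Cfsg.Agent.PERM.R3F4
import Cfsg.Agent.CLAS.Polyhedral
import Cfsg.Agent.S0547
import Cfsg.Agent.S0144

set_option autoImplicit false
open Cfsg

namespace Cfsg.Agent.S2207

open MulAction in
theorem prim_rel {G X : Type*} [Group G] [MulAction G X] (hprim : IsPreprimitive G X)
    (r : X → X → Prop) (hr : ∀ x, r x x) (hs : ∀ {x y}, r x y → r y x)
    (ht : ∀ {x y z}, r x y → r y z → r x z) (hi : ∀ (g : G) {x y}, r x y → r (g • x) (g • y))
    {a b c : X} (hab : r a b) (hne : b ≠ a) : r a c := by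
  have : Nontrivial X := ⟨⟨b, a, hne⟩⟩
  let H : Subgroup G :=
    { carrier := {g | r a (g • a)}
      one_mem' := by simpa using hr a
      mul_mem' := fun {g k} hg hk => ht hg (by rw [mul_smul]; exact hi g hk)
      inv_mem' := fun {g} hg => hs (by simpa using hi g⁻¹ hg) }
  have h1 := (IsPreprimitive.isCoatom_stabilizer_of_isPreprimitive G a).2 H (by
    refine lt_of_le_of_ne (fun g hg => ?_) fun e => ?_
    · change r a (g • a)
      rw [hg]; exact hr a
    · obtain ⟨g, rfl⟩ := hprim.exists_smul_eq a b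
      exact hne (e.symm ▸ hab : g ∈ stabilizer G a))
  obtain ⟨g, rfl⟩ := hprim.exists_smul_eq a c
  exact (h1.symm ▸ Subgroup.mem_top g : g ∈ H)

open MulAction CL.R3F in
theorem exists_R3 {G X : Type*} [Group G] [Finite G] [Fintype X] [MulAction G X] [FaithfulSMul G X] (heven : Even (Nat.card G)) (hprim : MulAction.IsPreprimitive G X) (A : X)
    (h3 : Nat.card (MulAction.orbitRel.Quotient ↥(MulAction.stabilizer G A) X) = 3) (B : X) (hBA : B ≠ A)
    (hfix : ∃ g ∈ MulAction.stabilizer G A, g ≠ 1 ∧ g • B = B)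
    (hfrob : ∀ g ∈ MulAction.stabilizer G A, ∀ h ∈ MulAction.stabilizer G A, g • B = B → g • (h • B) = h • B → h • B ≠ B → g = 1) :
    ∃ K : X → Subgroup G, R3 (fun x y => ∃ g : G, g • A = x ∧ g • B = y) K := by
  classical
  set adj : X → X → Prop := fun x y => ∃ g : G, g • A = x ∧ g • B = y with hadj
  have htr : ∀ a b : X, ∃ g : G, g • a = b := hprim.exists_smul_eq
  have hinv : ∀ (g : G) {x y}, adj x y → adj (g • x) (g • y) := by
    rintro g _ _ ⟨k, rfl, rfl⟩
    exact ⟨g * k, mul_smul _ _ _, mul_smul _ _ _⟩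
  have hinv' : ∀ (g : G) {x y}, adj (g • x) (g • y) → adj x y := fun g x y e => by
    simpa using hinv g⁻¹ e
  have hirr : ∀ x, ¬ adj x x := by
    rintro _ ⟨g, rfl, e⟩
    exact hBA (MulAction.injective g e)
  have htrE : ∀ {a b a' b'}, adj a b → adj a' b' → ∃ g : G, g • a = a' ∧ g • b = b' := by
    rintro _ _ _ _ ⟨g, rfl, rfl⟩ ⟨k, rfl, rfl⟩
    exact ⟨k * g⁻¹, by simp [mul_smul], by simp [mul_smul]⟩
  obtain ⟨P, hP1, hP2, hP3⟩ : ∃ P, P ≠ A ∧ ¬ adj A P ∧
      ∀ y, y ≠ A → ¬ adj A y → ∃ g : G, g • A = A ∧ g • P = y := by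
    have hq : ∀ x y : X, (Quotient.mk'' x : orbitRel.Quotient (stabilizer G A) X) =
        Quotient.mk'' y ↔ ∃ g : G, g • A = A ∧ g • y = x := fun x y => by
      rw [Quotient.eq'', orbitRel_apply]
      exact ⟨fun ⟨g, hg⟩ => ⟨g, g.2, hg⟩, fun ⟨g, h1, h2⟩ => ⟨⟨g, h1⟩, h2⟩⟩
    have hA : ∀ y : X, (Quotient.mk'' y : orbitRel.Quotient (stabilizer G A) X) =
        Quotient.mk'' A ↔ y = A := fun y => by
      rw [hq]
      exact ⟨fun ⟨g, h1, h2⟩ => h2.symm.trans h1, fun e => ⟨1, one_smul _ _, by rw [e, one_smul]⟩⟩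
    have := Fintype.ofFinite (orbitRel.Quotient (stabilizer G A) X)
    have h4 : ((Finset.univ : Finset (orbitRel.Quotient (stabilizer G A) X)) \
        {(Quotient.mk'' B : orbitRel.Quotient (stabilizer G A) X), Quotient.mk'' A}).card = 1 := by
      rw [Finset.card_univ_sdiff, Finset.card_pair (fun e => hBA ((hA B).mp e)),
        ← Nat.card_eq_fintype_card, h3]
    obtain ⟨c, hc⟩ := Finset.card_eq_one.mp h4
    obtain ⟨P, rfl⟩ := Quotient.exists_rep c
    have h5 : ∀ y : X, (y ≠ A ∧ ¬ adj A y) ↔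
        (Quotient.mk'' y : orbitRel.Quotient (stabilizer G A) X) = Quotient.mk'' P := fun y => by
      rw [← Finset.mem_singleton, ← show _ = ({Quotient.mk'' P} : Finset _) from hc]
      simp only [Finset.mem_sdiff, Finset.mem_univ, true_and, Finset.mem_insert,
        Finset.mem_singleton, not_or, hA, hq y B, hadj]
      exact and_comm
    exact ⟨P, ((h5 P).mpr rfl).1, ((h5 P).mpr rfl).2, fun y h1 h2 => (hq _ _).mp ((h5 y).mp ⟨h1, h2⟩)⟩
  have htrN : ∀ {a b a' b'}, b ≠ a → ¬ adj a b → b' ≠ a' → ¬ adj a' b' →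
      ∃ g : G, g • a = a' ∧ g • b = b' := by
    have key : ∀ {a b}, b ≠ a → ¬ adj a b → ∃ g : G, g • A = a ∧ g • P = b := by
      intro a b h1 h2
      obtain ⟨g, rfl⟩ := htr A a
      obtain ⟨k, e1, e2⟩ := hP3 (g⁻¹ • b) (fun e => h1 (inv_smul_eq_iff.mp e))
        (fun e => h2 (by simpa using hinv g e))
      exact ⟨g * k, by rw [mul_smul, e1], by rw [mul_smul, e2, smul_inv_smul]⟩
    intro a b a' b' h1 h2 h3 h4
    obtain ⟨g, rfl, rfl⟩ := key h1 h2
    obtain ⟨k, rfl, rfl⟩ := key h3 h4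
    exact ⟨k * g⁻¹, by simp [mul_smul], by simp [mul_smul]⟩
  have hsymm : ∀ {x y}, adj x y → adj y x := by
    obtain ⟨t, -, ht⟩ := exists_invo_of_even (H := (⊤ : Subgroup G)) (by simpa using heven)
    obtain ⟨x, hx⟩ : ∃ x : X, t • x ≠ x := by
      by_contra h
      push Not at h
      exact ht.1 (FaithfulSMul.eq_of_smul_eq_smul (α := X) fun x => by rw [h x, one_smul])
    have e : adj x (t • x) ↔ adj (t • x) x :=
      ⟨fun e => by simpa [ht.smul_smul] using hinv t e,
        fun e => by simpa [ht.smul_smul] using hinv t e⟩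
    intro u v huv
    by_cases h1 : adj x (t • x)
    · obtain ⟨g, rfl, rfl⟩ := htrE h1 huv
      exact hinv g (e.mp h1)
    · by_contra h2
      obtain ⟨g, rfl, rfl⟩ := htrN hx h1 (fun e : u = v => hirr u (e ▸ huv)) h2
      exact h1 (e.mpr (hinv' g huv))
  have hfr : ∀ {a b b'} {g : G}, adj a b → adj a b' → b ≠ b' → g • a = a → g • b = b →
      g • b' = b' → g = 1 := by
    rintro _ _ _ g ⟨k, rfl, rfl⟩ ⟨k', e, rfl⟩ h1 h2 h3 h4
    have := hfrob (k⁻¹ * g * k) (by rw [mem_stabilizer_iff, mul_smul, mul_smul, h2, inv_smul_smul])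
      (k⁻¹ * k') (by rw [mem_stabilizer_iff, mul_smul, e, inv_smul_smul])
      (by rw [mul_smul, mul_smul, h3, inv_smul_smul])
      (by simp only [mul_smul, smul_inv_smul, h4])
      (fun e1 => h1 (by rw [mul_smul, inv_smul_eq_iff] at e1; exact e1.symm))
    rw [show g = k * (k⁻¹ * g * k) * k⁻¹ by group, this]; group
  have hE : ∀ a, ∃ b, adj a b := fun a => by
    obtain ⟨g, rfl⟩ := htr A a
    exact ⟨_, g, rfl, rfl⟩
  have hK : ∀ a : X, ∃ N : Subgroup G,
      (∀ g, g ∈ N ↔ g ∈ stabilizer G a ∧ (g = 1 ∨ ∀ y ∈ {b | adj a b}, g • y ≠ y)) ∧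
      ∀ y ∈ {b | adj a b}, ∀ z ∈ {b | adj a b}, ∃ g ∈ N, g • y = z := fun a => by
    obtain ⟨b, hb⟩ := hE a
    exact CL.Zass.exists_frobenius_kernel (stabilizer G a) {b | adj a b} hb
      (fun g hg x hx => by have := hinv g hx; rwa [hg] at this) (fun y hy => htrE hb hy)
      fun g hg y hy z hz hyz => hfr hy hz hyz hg
  choose K hK1 hK2 using hK
  have hAB : adj A B := ⟨1, one_smul _ _, one_smul _ _⟩
  refine ⟨K, hsymm, hirr, hinv, htr, htrE, htrN, hfr, ?_, hK1 _ _, fun h1 h2 => hK2 _ _ h1 _ h2,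
    hE, ?_, ?_, ?_, heven⟩
  · rintro _ _ ⟨k, rfl, rfl⟩
    obtain ⟨g, h1, h2, h3⟩ := hfix
    exact ⟨k * g * k⁻¹, by simpa using h2, conj_smul_iff.mpr h1, conj_smul_iff.mpr h3⟩
  · intro a
    obtain ⟨g, rfl⟩ := htr A a
    exact ⟨g • P, fun e => hP1 (MulAction.injective g e), fun e => hP2 (hinv' g e)⟩
  · intro a b h1 h2
    by_contra hno
    have := prim_rel hprim (fun x y => y = x ∨ adj x y) (fun x => Or.inl rfl)
      (fun h => h.imp Eq.symm hsymm) (by
        rintro x y z (rfl | e1) (rfl | e2)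
        · exact Or.inl rfl
        · exact Or.inr e2
        · exact Or.inr e1
        · by_contra h3
          push Not at h3
          obtain ⟨g, rfl, rfl⟩ := htrN h3.1 h3.2 h1 h2
          exact hno ⟨g • y, hinv g e1, hinv g (hsymm e2)⟩)
      (fun g x y h => h.imp (fun e => by rw [e]) (hinv g)) (Or.inr hAB) hBA (c := P)
    exact this.elim hP1 hP2
  · intro a b h1
    by_contra hno
    refine prim_rel hprim (fun x y => ¬ adj x y) hirr (fun h e => h (hsymm e)) ?_
      (fun g x y h e => h (hinv' g e)) hP2 hP1 hAB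
    intro x y z e1 e2 e3
    obtain ⟨g, rfl, rfl⟩ := htrE e3 h1
    refine hno ⟨g • y, fun e => ?_, fun e => ?_, fun e => e1 (hinv' g e),
      fun e => e2 (hsymm (hinv' g e))⟩
    · rw [MulAction.injective g e] at e2
      exact e2 e3
    · rw [MulAction.injective g e] at e1
      exact e1 e3

/-- Primitive rank 3 groups whose point stabilizer acts as a Frobenius group on one of its two non-trivial orbits. Let a finite group G of even order act faithfully and primitively on a finite set X so that the stabilizer of a point A has exactly three orbits, and suppose that on one of its non-trivial orbits I the stabilizer of A acts faithfully as a Frobenius group: transitively, some non-identity element fixing a point of I, and no non-identity element fixing two points of I. Then either G ≅ A₅ and X has 10 points (the action on unordered pairs), or G is solvable and has a normal subgroup of order 16 acting regularly on X. -/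
theorem result {G X : Type*} [Group G] [Finite G] [Fintype X] [MulAction G X] [FaithfulSMul G X] (heven : Even (Nat.card G)) (hprim : MulAction.IsPreprimitive G X) (A : X)
    (h3 : Nat.card (MulAction.orbitRel.Quotient ↥(MulAction.stabilizer G A) X) = 3) (B : X) (hBA : B ≠ A)
    (hfaith : ∀ g ∈ MulAction.stabilizer G A, (∀ h ∈ MulAction.stabilizer G A, g • (h • B) = h • B) → g = 1)
    (hfix : ∃ g ∈ MulAction.stabilizer G A, g ≠ 1 ∧ g • B = B)
    (hfrob : ∀ g ∈ MulAction.stabilizer G A, ∀ h ∈ MulAction.stabilizer G A, g • B = B → g • (h • B) = h • B → h • B ≠ B → g = 1) :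
    (Nonempty (G ≃* ↥(alternatingGroup (Fin 5))) ∧ Fintype.card X = 10) ∨
    (IsSolvable G ∧ ∃ N : Subgroup G, N.Normal ∧ Nat.card N = 16 ∧ ∀ x y : X, ∃! n : ↥N, (n : G) • x = y) := by
  obtain ⟨K, h⟩ := exists_R3 heven hprim A h3 B hBA hfix hfrob
  rcases h.classify (a := A) (b := B) ⟨1, one_smul _ _, one_smul _ _⟩ with ⟨h1, h2⟩ | ⟨h1, p, i, j, hp, h2⟩
  · refine Or.inl ⟨CL.Dk.NoCycNormal.alt_five (fun g hg => ?_) h2, by rw [← h1, Nat.card_eq_fintype_card]⟩
    by_contra hg1
    obtain ⟨p, k, hp, -, hk⟩ := CL.TIInv.exists_prime_pow hg1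
    have hn : (Subgroup.zpowers (g ^ k)).Normal := ⟨by
      rintro _ ⟨i, rfl⟩ x
      obtain ⟨j, hj⟩ := hg.conj_mem g (Subgroup.mem_zpowers g) x
      refine ⟨j * i, ?_⟩
      simp only at hj ⊢
      rw [← conj_zpow, ← conj_pow, ← hj, ← zpow_natCast, ← zpow_natCast, ← zpow_mul, ← zpow_mul,
        ← zpow_mul]
      congr 1
      ring⟩
    have ht := MulAction.IsQuasiPreprimitive.isPretransitive_of_normal (G := G) (X := X)
      (N := Subgroup.zpowers (g ^ k)) (fun e => by
        have : g ^ k = 1 := FaithfulSMul.eq_of_smul_eq_smul (α := X) fun x => by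
          rw [one_smul]
          exact (e ▸ Set.mem_univ x : x ∈ MulAction.fixedPoints (Subgroup.zpowers (g ^ k)) X)
            ⟨_, Subgroup.mem_zpowers _⟩
        rw [this, orderOf_one] at hk
        exact hp.one_lt.ne hk)
    have h4 := (MulAction.stabilizer (Subgroup.zpowers (g ^ k)) A).index_dvd_card
    rw [MulAction.index_stabilizer_of_transitive, h1, Nat.card_zpowers, hk] at h4
    rcases (Nat.dvd_prime hp).mp h4 with e | e
    · omega
    · rw [← e] at hp
      exact absurd hp (by norm_num)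
  · have hs := Cfsg.Agent.S0144.result 2 p i j Nat.prime_two hp h2
    obtain ⟨g, -, hg, -⟩ := hfix
    have : Nontrivial G := ⟨⟨g, 1, hg⟩⟩
    have : Nonempty X := ⟨A⟩
    obtain ⟨N, hN1, hN2, hN3⟩ := CL.exists_isMinNormal G
    obtain ⟨ht, hst, q, d, -, -, e1, e2⟩ := Cfsg.Agent.S0547.result hprim N hN2 hN3
    refine Or.inr ⟨hs, N, hN1, by rw [e2, ← e1, h1], fun x y => ?_⟩
    obtain ⟨n, hn⟩ := ht.exists_smul_eq x y
    refine ⟨n, hn, fun n' hn' => ?_⟩
    have : n⁻¹ * n' ∈ MulAction.stabilizer N x := by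
      rw [MulAction.mem_stabilizer_iff, mul_smul, inv_smul_eq_iff]
      exact hn'.trans hn.symm
    rw [hst, Subgroup.mem_bot] at this
    exact (inv_mul_eq_one.mp this).symm

end Cfsg.Agent.S2207
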