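import Cfsg.Statements.S2215
import Cfsg.Agent.CHEV.XS4
import Cfsg.Agent.CHEV.Tits
import Cfsg.Agent.SIG.KGroup
import Cfsg.Agent.SOLV.MaxClass
import Cfsg.Agent.SPOR.GraphIso
import Cfsg.Agent.KSG.MathieuMdl
import Cfsg.Agent.SPOR.LeechRep
import Cfsg.Agent.PERM.J1
import Cfsg.Agent.PERM.J2
import Cfsg.Agent.SPOR.RuGrp
import Cfsg.Agent.S0201
import Cfsg.Agent.S0364
import Cfsg.Agent.S0483
import Cfsg.Agent.S1625
import Cfsg.Agent.S1694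
import Cfsg.Agent.S1695
import Cfsg.Agent.S1696
import Cfsg.Agent.S1697
import Cfsg.Agent.S1698
import Cfsg.Agent.S1699
import Cfsg.Agent.S1700
import Cfsg.Agent.S1701
import Cfsg.Agent.S1702
import Cfsg.Agent.S1703
import Cfsg.Agent.S1704
import Cfsg.Agent.S1705

set_option autoImplicit false
open Cfsg

namespace Cfsg.Agent.S2215

open CL.XS in
theorem sp {G H : Type*} [Group G] [Group H] {p N : ℕ} [hp : Fact p.Prime] (h2 : p ≠ 2) (h3 : p ^ 3 ∣ Nat.card G)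
    (h4 : ¬ p ^ 4 ∣ Nat.card G) (e : Nonempty (G ≃* H)) (h : Nat.card H = N) (L : List ℕ)
    (hN : N ∣ Nat.factorial 71 ^ 46 ∧ ∀ p ∈ List.range 72, Pr p → p ≠ 2 → p ^ 3 ∣ N → ¬ p ^ 4 ∣ N → p ∈ L := by
      decide +kernel) : p ∈ L := by
  rw [Nat.card_congr e.some.toEquiv, h] at h3 h4
  exact hN.2 p (List.mem_range.2 (Nat.lt_succ_of_le (hp.out.dvd_factorial.1
    (hp.out.dvd_of_dvd_pow (((dvd_pow_self p three_ne_zero).trans h3).trans hN.1))))) pr h2 h3 h4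

theorem card_sub {G X : Type*} [Group G] [Group X] {H : Subgroup X} (e : Nonempty (G ≃* H)) : Nat.card G = Nat.card H :=
  Nat.card_congr e.some.toEquiv

theorem mod16 {q N : ℕ} (hq : Odd q) (h : Nat.gcd 2 (q - 1) * ((q - 1) * N) = ∏ i : Fin 2, (q ^ 2 - q ^ (i : ℕ)))
    (h1 : 1 < q) (h3 : 2 ^ 3 ∣ N) (h4 : ¬ 2 ^ 4 ∣ N) : q % 16 = 7 ∨ q % 16 = 9 := by
  obtain ⟨k, rfl⟩ := hq
  obtain ⟨M, rfl⟩ := h3
  have h5 : 4 * M = k * (k + 1) * (2 * k + 1) := by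
    rw [Fin.prod_univ_two, Nat.add_sub_cancel, Nat.gcd_eq_left (Dvd.intro k rfl),
      show (2 * k + 1) ^ 2 - (2 * k + 1) ^ ((0 : Fin 2) : ℕ) = 4 * k * (k + 1) from Nat.sub_eq_of_eq_add (by simp; ring),
      show (2 * k + 1) ^ 2 - (2 * k + 1) ^ ((1 : Fin 2) : ℕ) = 2 * k * (2 * k + 1) from
        Nat.sub_eq_of_eq_add (by simp; ring)] at h
    exact Nat.eq_of_mul_eq_mul_left (show 0 < 8 * k by omega) (by linarith)
  have h6 : k * (k + 1) * (2 * k + 1) % 8 = 4 := by omega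
  have h7 : ∀ x < 8, x * (x + 1) * (2 * x + 1) % 8 = 4 → x = 3 ∨ x = 4 := by decide
  have := h7 (k % 8) (Nat.mod_lt _ (by decide)) (by rw [← h6]; simp [Nat.mul_mod, Nat.add_mod])
  omega

/-- Let G be a finite non-abelian simple group all of whose composition factors are known simple groups, p a prime and S a Sylow p-subgroup of G that is extraspecial of order p³. Then one of the following holds: G ≅ PSL₃(p), or p is odd and G ≅ PSU₃(p); p = 2 and G is isomorphic to the alternating group of degree 7 or to PSL₂(q) with q ≡ ±7 (mod 16); p = 3 and G ≅ PSU₃(3), or G ≅ G₂(rᵃ) for a prime r ≡ ±2, ±4 (mod 9) and a ≥ 1 not divisible by 3, with a > 1 if r = 2; p = 3 and G is the Tits group or G ≅ ²F₄(2ᵃ) with a ≥ 3 odd and not divisible by 3; or G is sporadic, namely p = 3 and G is one of M₁₂, M₂₄, J₂, J₄, He, Ru; p = 5 and G is one of HS, Co₃, Co₂, McL, Ru, Th; p = 7 and G is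 one of He, O'N, Fi₂₄′; p = 11 and G ≅ J₄; or p = 13 and G is the Monster. -/
theorem result {G : Type*} [Group G] [Finite G] [IsSimpleGroup G] (hG : ¬ IsMulCommutative G) (hK : Cfsg.IsCompositionKGroup G)
    {p : ℕ} [Fact p.Prime] (S : Sylow p G) (hS : Cfsg.IsExtraspecial p ↥(S : Subgroup G)) (hS3 : Nat.card (S : Subgroup G) = p ^ 3) :
    (Nonempty (G ≃* Matrix.ProjectiveSpecialLinearGroup (Fin 3) (ZMod p)) ∨
       (p ≠ 2 ∧ ∃ (F : Type) (_ : Field F) (_ : Fintype F), Fintype.card F = p ^ 2 ∧ Nonempty (G ≃* Cfsg.PSU 3 F p))) ∨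
    (p = 2 ∧ (Nonempty (G ≃* ↥(alternatingGroup (Fin 7))) ∨
       ∃ (F : Type) (_ : Field F) (_ : Fintype F), (Fintype.card F % 16 = 7 ∨ Fintype.card F % 16 = 9) ∧
         Nonempty (G ≃* Matrix.ProjectiveSpecialLinearGroup (Fin 2) F))) ∨
    (p = 3 ∧ ((∃ (F : Type) (_ : Field F) (_ : Fintype F), Fintype.card F = 9 ∧ Nonempty (G ≃* Cfsg.PSU 3 F 3)) ∨
       ∃ (F : Type) (_ : Field F) (_ : Fintype F) (r a : ℕ), r.Prime ∧ (r % 9 = 2 ∨ r % 9 = 4 ∨ r % 9 = 5 ∨ r % 9 = 7) ∧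
         1 ≤ a ∧ ¬ 3 ∣ a ∧ (r = 2 → 1 < a) ∧ Fintype.card F = r ^ a ∧ Nonempty (G ≃* ↥(Cfsg.Lie.chevG2.group F)))) ∨
    (p = 3 ∧ (Cfsg.Lie.IsoTits G ∨
       ∃ (K : Type) (_ : Field K) (_ : Fintype K) (m : ℕ), 1 ≤ m ∧ ¬ 3 ∣ (2 * m + 1) ∧ Fintype.card K = 2 ^ (2 * m + 1) ∧
         Nonempty (G ≃* ↥(Cfsg.Lie.twistedF4 K (2 ^ m))))) ∨
    (p = 3 ∧ (Cfsg.Spor.IsoM12 G ∨ Cfsg.Spor.IsoM24 G ∨ Cfsg.Spor.IsoJ2 G ∨ Cfsg.Spor.IsoJ4 G ∨ Cfsg.Spor.IsoHe G ∨ Cfsg.Spor.IsoRu G)) ∨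
    (p = 5 ∧ (Cfsg.Spor.IsoHS G ∨ Cfsg.Spor.IsoCo3 G ∨ Cfsg.Spor.IsoCo2 G ∨ Cfsg.Spor.IsoMcL G ∨ Cfsg.Spor.IsoRu G ∨ Cfsg.Spor.IsoTh G)) ∨
    (p = 7 ∧ (Cfsg.Spor.IsoHe G ∨ Cfsg.Spor.IsoON G ∨ Cfsg.Spor.IsoFi24' G)) ∨
    (p = 11 ∧ Cfsg.Spor.IsoJ4 G) ∨
    (p = 13 ∧ Cfsg.Spor.IsoM G) := by
  open CL CL.XS in
  have h3 : p ^ 3 ∣ Nat.card G := hS3 ▸ (S : Subgroup G).card_subgroup_dvd_card
  have h4 : ¬ p ^ 4 ∣ Nat.card G := fun h => by
    have := S.pow_dvd_card_of_pow_dvd_card h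
    rw [hS3, Nat.pow_dvd_pow_iff_le_right (Nat.Prime.one_lt Fact.out)] at this
    omega
  by_cases h2 : p = 2
  · subst h2
    have hO : ∀ N : Subgroup G, N.Normal → Odd (Nat.card N) → N = ⊥ := fun N h h1 =>
      (h.eq_bot_or_eq_top).resolve_right fun e => by
        rw [e, Subgroup.card_top] at h1
        exact Nat.not_even_iff_odd.2 h1 (even_iff_two_dvd.2 (Dvd.dvd.trans (by decide) h3))
    obtain ⟨u, v, hd⟩ := PCyc.exists_isDQS_of_index_commutator (G := S) (n := 0) hS3 (by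
      have := (commutator S).card_mul_index
      rw [hS.1.2.2, hS.2, hS3] at this
      rw [hS.1.2.2]
      omega)
    rcases hd.trichotomy with h | ⟨⟨e⟩⟩ | h
    · have : Group.IsPerfect G := ⟨(Subgroup.Normal.eq_bot_or_eq_top inferInstance).resolve_left fun e =>
        hG ((commutator_eq_bot_iff G).1 e)⟩
      have h0 : oddCore G = ⊥ := sSup_eq_bot.2 fun N h => hO N h.1 (Nat.coprime_two_right.1 h.2)
      have e : G ≃* G ⧸ oddCore G := ((QuotientGroup.quotientMulEquivOfEq h0).trans QuotientGroup.quotientBot).symm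
      refine .inr (.inl ⟨rfl, ?_⟩)
      rcases S0483.result S _ (by decide) h.2 with ⟨F, _, _, h5, h6, ⟨e'⟩⟩ | ⟨⟨e'⟩⟩
      · rw [Nat.card_congr (e.trans e').toEquiv] at h3 h4
        exact .inr ⟨F, _, _, mod16 h5 (S0243.result rfl 2 le_rfl) (by omega) h3 h4, ⟨e.trans e'⟩⟩
      · exact .inl ⟨e.trans e'⟩
    · have := S0201.result S 0 e hO
      rw [((inferInstance : (Subgroup.center G).Normal).eq_bot_or_eq_top).resolve_right fun e =>
        hG ⟨⟨fun a b => Subgroup.mem_center_iff.1 (e ▸ Subgroup.mem_top b) a⟩⟩] at this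
      simp at this
    · omega
  have hna : NA p G := ⟨S, S.isPGroup', by
    by_contra! h
    have h5 : Subgroup.center S = ⊤ := eq_top_iff.2 fun a _ => Subgroup.mem_center_iff.2 fun b => Subtype.ext (h _ b.2 _ a.2)
    have := hS.2
    rw [h5, Subgroup.card_top, hS3] at this
    exact absurd (Nat.pow_right_injective (Nat.Prime.two_le Fact.out) (this.trans (pow_one p).symm)) (by decide)⟩
  have c : ∀ {H : Type} [Group H] (e : G ≃* H) {k : ℕ}, p ^ k ∣ Nat.card H ↔ p ^ k ∣ Nat.card G := fun e k => by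
    rw [Nat.card_congr e.toEquiv]
  rcases KG.known_of_surjective_of_subnormal hK (H := ⊤) .top (Subgroup.subtype ⊤) (fun g => ⟨⟨g, trivial⟩, rfl⟩)
      inferInstance hG with
    h | ⟨n, -, ⟨e⟩⟩ | ⟨F, _, _, n, hn, -, ⟨e⟩⟩ | ⟨F, _, _, n, hn, -, ⟨e⟩⟩ | ⟨F, _, _, n, q, hF, hn, -, ⟨e⟩⟩ |
    ⟨F, _, _, n, hn, h, ⟨e⟩⟩ | ⟨F, _, _, n, hn, ⟨e⟩⟩ | ⟨F, _, _, n, a, b, hn, h, ⟨e⟩⟩ |
    (⟨F, _, _, h, ⟨e⟩⟩ | ⟨F, _, _, ⟨e⟩⟩ | ⟨F, _, _, ⟨e⟩⟩ | ⟨F, _, _, ⟨e⟩⟩ | ⟨F, _, _, ⟨e⟩⟩ |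
      ⟨F, _, _, q, hq, h, ⟨e⟩⟩ | ⟨F, _, _, q, hq, h, ⟨e⟩⟩ | ⟨F, _, _, m, hm, h, ⟨e⟩⟩ | ⟨F, _, _, m, hm, h, ⟨e⟩⟩ |
      ⟨F, _, _, m, hm, h, ⟨e⟩⟩ | h) | h
  · have : Fact (Nat.card G).Prime := ⟨h⟩
    have := isCyclic_of_prime_card (α := G) rfl
    exact absurd IsCyclic.isMulCommutative hG
  · exact absurd ((c e).1 (alt h2 (hna.of_equiv e))) h4
  · obtain ⟨rfl, h⟩ := psl h2 hn (hna.of_equiv e) ((c e).2 h3) (mt (c e).1 h4)
    exact .inl (.inl ⟨e.trans (Graph.pslCongr (ZMod.ringEquivOfPrime F Fact.out h).symm)⟩)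
  · exact absurd ((c e).1 (psp h2 hn (hna.of_equiv e))) h4
  · obtain ⟨rfl, rfl⟩ := psu h2 hF hn (hna.of_equiv e) ((c e).2 h3) (mt (c e).1 h4)
    exact .inl (.inr ⟨h2, F, _, _, hF, ⟨e⟩⟩)
  · exact absurd ((c e).1 (pomOdd h2 hn h (hna.of_equiv e))) h4
  · exact absurd ((c e).1 (pomPlus h2 hn (hna.of_equiv e))) h4
  · exact absurd ((c e).1 (pomMinus h2 hn h (hna.of_equiv e))) h4
  · obtain ⟨rfl, r, a, h5⟩ := g2 h2 h (hna.of_equiv e) (mt (c e).1 h4)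
    exact .inr (.inr (.inl ⟨rfl, .inr ⟨F, _, _, r, a, h5.1, h5.2.1, h5.2.2.1, h5.2.2.2.1, h5.2.2.2.2.1, h5.2.2.2.2.2, ⟨e⟩⟩⟩))
  · exact absurd ((c e).1 (f4 h2 (hna.of_equiv e))) h4
  · exact absurd ((c e).1 (e6 h2 (hna.of_equiv e))) h4
  · exact absurd ((c e).1 (e7 h2 (hna.of_equiv e))) h4
  · exact absurd ((c e).1 (e8 h2 (hna.of_equiv e))) h4
  · exact absurd ((c e).1 (e62 h2 hq h (hna.of_equiv e))) h4
  · exact absurd ((c e).1 (d43 h2 hq h (hna.of_equiv e))) h4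
  · exact absurd (hna.of_equiv e) (not_na_Sz h2 h)
  · exact absurd ((c e).1 (g22 h2 hm h (hna.of_equiv e))) h4
  · obtain ⟨rfl, h5⟩ := f42 h2 h (hna.of_equiv e) (mt (c e).1 h4)
    exact .inr (.inr (.inr (.inl ⟨rfl, .inr ⟨F, _, _, m, hm, h5, h, ⟨e⟩⟩⟩)))
  · refine .inr (.inr (.inr (.inl ⟨?_, .inl h⟩)))
    unfold Lie.IsoTits at h
    simpa using sp h2 h3 h4 ⟨.refl G⟩ ((card_sub h).trans Chev.Tits.card_tits) [3]
  refine .inr (.inr (.inr (.inr ?_)))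
  rcases h with h | h | h | h | h | h | h | ⟨F, _, _, ω, h5, h6, h⟩ | h | h | h | h | h | h | h | h | h | h | h | h | h |
    h | h | h | h | h
  · simpa using sp h2 h3 h4 h MathMdl.card_M11 []
  · simp [h, show p = 3 by simpa using sp h2 h3 h4 h MathMdl.card_M12 [3]]
  · simpa using sp h2 h3 h4 h MathMdl.card_M22 []
  · simpa using sp h2 h3 h4 h MathMdl.card_M23 []
  · simp [h, show p = 3 by simpa using sp h2 h3 h4 h S0364.result [3]]
  · simpa using sp h2 h3 h4 h J1.card_J1 []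
  · simp [h, show p = 3 by simpa using sp h2 h3 h4 h J2.card_J2 [3]]
  · simpa using sp h2 h3 h4 h (S1625.result F h5 ω h6).2.2.1 []
  · obtain rfl | rfl : p = 3 ∨ p = 11 := by simpa using sp h2 h3 h4 h S1703.result.2 [3, 11]
    all_goals simp [h]
  · simpa using sp h2 h3 h4 h Leech.card_Co1 []
  · simp [h, show p = 5 by simpa using sp h2 h3 h4 h Leech.card_Co2 [5]]
  · simp [h, show p = 5 by simpa using sp h2 h3 h4 h Leech.card_Co3 [5]]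
  · simp [h, show p = 5 by simpa using sp h2 h3 h4 h Leech.card_McL [5]]
  · simp [h, show p = 5 by simpa using sp h2 h3 h4 h Leech.card_HS [5]]
  · simpa using sp h2 h3 h4 h S1694.result.2 []
  · obtain rfl | rfl : p = 3 ∨ p = 7 := by simpa using sp h2 h3 h4 h S1695.result.2 [3, 7]
    all_goals simp [h]
  · obtain rfl | rfl : p = 3 ∨ p = 5 := by simpa using sp h2 h3 h4 h Ru.card_Ru [3, 5]
    all_goals simp [h]
  · simp [h, show p = 7 by simpa using sp h2 h3 h4 h S1699.result.2 [7]]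
  · simpa using sp h2 h3 h4 h S1702.result.2 []
  · simpa using sp h2 h3 h4 h S1696.result.2 []
  · simpa using sp h2 h3 h4 h S1697.result.2 []
  · simp [h, show p = 7 by simpa using sp h2 h3 h4 h S1698.result.2 [7]]
  · simpa using sp h2 h3 h4 h S1701.result.2 []
  · simp [h, show p = 5 by simpa using sp h2 h3 h4 h S1700.result.2 [5]]
  · simpa using sp h2 h3 h4 h S1704.result.2 []
  · simp [h, show p = 13 by simpa using sp h2 h3 h4 h S1705.result.2 [13]]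

end Cfsg.Agent.S2215
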