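import Cfsg.Statements.S2222
import Cfsg.Agent.KSG.AltSylow2
import Cfsg.Agent.FGS.Pronormal

set_option autoImplicit false
open Cfsg

namespace Cfsg.Agent.S2222

open Equiv CL.MSS

/-- The Klein four-group on the first four of five points. -/
def V5 : List (Perm (Fin 5)) := [1, swap 0 1 * swap 2 3, swap 0 2 * swap 1 3, swap 0 3 * swap 1 2]

theorem V5_mul : ∀ a ∈ V5, ∀ b ∈ V5, a * b ∈ V5 := by decide +kernel
theorem V5_sq : ∀ a ∈ V5, a * a = 1 := by decide +kernel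
theorem V5_sign : ∀ a ∈ V5, Perm.sign a = 1 := by decide +kernel
theorem V5_word : ∀ h : Perm (Fin 5), Perm.sign h = 1 → h ∉ V5 → h 4 ≠ 4 →
    ∃ s ∈ V5, ∃ t ∈ V5, (h * s * h * t * h) 4 = 4 ∧ (h * s * h * t * h) ∉ V5 := by
  decide +kernel
theorem V5_three : ∀ c : Perm (Fin 5), c 4 = 4 → Perm.sign c = 1 → c ∉ V5 →
    c * c * c = 1 ∧ ∀ n : Perm (Fin 5), n 4 = 4 → Perm.sign n = 1 →
      n ∈ V5 ∨ n * c ∈ V5 ∨ n * c * c ∈ V5 := by
  decide +kernel
theorem V5_norm : ∀ n : Perm (Fin 5), n * (swap 0 1 * swap 2 3) * n⁻¹ ∈ V5 → n 4 = 4 := by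
  decide +kernel

/-- The Klein four-group as a subgroup of the alternating group. -/
def S5 : Subgroup (alternatingGroup (Fin 5)) where
  carrier := {g | g.1 ∈ V5}
  one_mem' := by simp [V5]
  mul_mem' := fun ha hb => V5_mul _ ha _ hb
  inv_mem' := fun {a} ha => by
    show a.1⁻¹ ∈ V5
    rw [inv_eq_of_mul_eq_one_right (V5_sq _ ha)]
    exact ha

theorem exists_three {H : Subgroup (alternatingGroup (Fin 5))} (hH : S5 ≤ H)
    {h : alternatingGroup (Fin 5)} (hh : h ∈ H) (hS : h ∉ S5) :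
    ∃ c ∈ H, c.1 4 = 4 ∧ c ∉ S5 := by
  by_cases h4 : h.1 4 = 4
  · exact ⟨h, hh, h4, hS⟩
  · obtain ⟨s, hs, t, ht, h1, h2⟩ := V5_word h.1 h.2 hS h4
    refine ⟨h * ⟨s, V5_sign s hs⟩ * h * ⟨t, V5_sign t ht⟩ * h, ?_, h1, h2⟩
    exact mul_mem (mul_mem (mul_mem (mul_mem hh (hH hs)) hh) (hH ht)) hh

theorem S5_pgroup : IsPGroup 2 S5 := fun g =>
  ⟨1, Subtype.ext (Subtype.ext (by simpa [pow_two] using V5_sq _ g.2))⟩

theorem S5_sylIn : SylIn 2 S5 ⊤ := by
  refine ⟨le_top, S5_pgroup, fun Q hQ h1 _ => le_antisymm (fun h hh => ?_) h1⟩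
  by_contra hS
  obtain ⟨c, hc, h4, hc'⟩ := exists_three h1 hh hS
  have h3 : c ^ 3 = 1 := Subtype.ext (by simpa [pow_succ] using (V5_three c.1 h4 c.2 hc').1)
  obtain ⟨k, hk⟩ := hQ ⟨c, hc⟩
  have hk' : c ^ 2 ^ k = 1 := congrArg Subtype.val hk
  have : c = 1 := by
    have := pow_gcd_eq_one.2 ⟨h3, hk'⟩
    rwa [(Nat.Coprime.pow_right k (by norm_num : Nat.Coprime 3 2)).gcd_eq_one, pow_one] at this
  exact hc' (this ▸ one_mem _)

theorem five_case (H : Subgroup (alternatingGroup (Fin 5))) (hH : S5 ≤ H) : Cfsg.IsPronormal H := by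
  have hS : Cfsg.IsPronormal S5 := CL.Pron.isPronormal_sylow S5_sylIn.toSylowTop
  by_cases he : H ≤ S5
  · rwa [le_antisymm he hH]
  obtain ⟨h, hh, hS'⟩ := SetLike.not_le_iff_exists.1 he
  obtain ⟨c, hc, h4, hc'⟩ := exists_three hH hh hS'
  refine CL.Pron.isPronormal_of_normalizer_le hS (fun n hn => ?_)
  have h1 : n.1 4 = 4 := V5_norm n.1
    ((Subgroup.mem_normalizer_iff.1 hn ⟨swap 0 1 * swap 2 3, V5_sign _ (by simp [V5])⟩).1
      (by show _ ∈ V5; simp [V5]))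
  rcases (V5_three c.1 h4 c.2 hc').2 n.1 h1 n.2 with h2 | h2 | h2
  · exact hH h2
  · exact (mul_mem_cancel_right hc).1 (hH (show n * c ∈ S5 from h2))
  · exact (mul_mem_cancel_right hc).1 ((mul_mem_cancel_right hc).1 (hH (show n * c * c ∈ S5 from h2)))

theorem exists_sylIn_le {G : Type*} [Group G] [Finite G] (H : Subgroup G) (hH : Odd H.index) :
    ∃ P, SylIn 2 P ⊤ ∧ P ≤ H := by
  obtain ⟨P, hP⟩ := exists_sylIn 2 H
  refine ⟨P, sylIn_of_not_dvd_relIndex hP.pgroup le_top ?_, hP.le⟩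
  rw [Subgroup.relIndex_top_right, ← Subgroup.relIndex_mul_index hP.le]
  intro h
  rcases (Nat.Prime.dvd_mul Nat.prime_two).1 h with h | h
  · exact hP.not_dvd_relIndex h
  · exact (Nat.not_even_iff_odd.2 hH) (even_iff_two_dvd.2 h)

/-- In the alternating group of degree n ≥ 5 every subgroup H of odd index is pronormal: for every element g, the subgroups H and gHg⁻¹ are conjugate by an element of the subgroup they generate. -/
theorem result (n : ℕ) (hn : 5 ≤ n)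
    (H : Subgroup (alternatingGroup (Fin n))) (hH : Odd H.index) : Cfsg.IsPronormal H := by
  obtain ⟨P, hP, hPH⟩ := exists_sylIn_le H hH
  rcases hn.eq_or_lt with rfl | h6
  · obtain ⟨x, -, hx⟩ := hP.exists_conj S5_sylIn
    exact CL.Pron.IsPronormal.of_cj (five_case (x •ᶜ H) (hx ▸ cj_mono x hPH))
  · refine CL.Pron.isPronormal_of_normalizer_le (CL.Pron.isPronormal_sylow hP.toSylowTop) ?_
    rw [CL.KSG.normalizer_sylow_two_alt (by rw [Fintype.card_fin]; omega)]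
    exact hPH

end Cfsg.Agent.S2222
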