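import Cfsg.Statements.S2245
import Cfsg.Agent.KSG.AltSylow2b
import Cfsg.Agent.S2222

set_option autoImplicit false
open Cfsg

namespace Cfsg.Agent.S2245

open Equiv Equiv.Perm MulAction CL.KSG CL.MSS
open scoped Pointwise

theorem V5_isThreeCycle : ∀ c : Perm (Fin 5), c 4 = 4 → Perm.sign c = 1 → c ∉ S2222.V5 →
    c.support.card = 3 := by
  decide +kernel

theorem five (T : Sylow 2 (Perm (Fin 5))) {f : Fin 5} (hf : ∀ t ∈ (T : Subgroup (Perm (Fin 5))), t f = f)
    {K : Subgroup (Perm (Fin 5))} (hK : (T : Subgroup (Perm (Fin 5))) ⊓ alternatingGroup (Fin 5) ≤ K)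
    {g : Perm (Fin 5)} (hg : g ∈ K) (hgA : g ∈ alternatingGroup (Fin 5)) (hgf : g f ≠ f) :
    ∃ c ∈ K, IsThreeCycle c := by
  have hP : SylIn 2 ((T : Subgroup (Perm (Fin 5))).subgroupOf (alternatingGroup (Fin 5))) ⊤ := by
    have h2 := sylIn_top (CL.MSS.sylIn_inf_normal T (alternatingGroup (Fin 5))).toSylow
    rwa [SylIn.coe_toSylow, Subgroup.inf_subgroupOf_right] at h2
  obtain ⟨x, -, hx⟩ := hP.exists_conj S2222.S5_sylIn
  have hle : S2222.S5 ≤ x •ᶜ (K.subgroupOf (alternatingGroup (Fin 5))) := by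
    rw [← hx]
    exact cj_mono x (fun t ht => hK ⟨ht, t.2⟩)
  have h1 : x * ⟨g, hgA⟩ * x⁻¹ ∈ x •ᶜ (K.subgroupOf (alternatingGroup (Fin 5))) :=
    mem_cj'.2 ⟨⟨g, hgA⟩, hg, rfl⟩
  have h2 : x * ⟨g, hgA⟩ * x⁻¹ ∉ S2222.S5 := by
    rw [← hx, mem_cj]
    intro h
    have : x⁻¹ * (x * ⟨g, hgA⟩ * x⁻¹) * x = ⟨g, hgA⟩ := by group
    rw [this] at h
    exact hgf (hf g h)
  obtain ⟨c, hc, h4, hc'⟩ := S2222.exists_three hle h1 h2
  have h3 : IsThreeCycle c.1 := card_support_eq_three_iff.1 (V5_isThreeCycle c.1 h4 c.2 hc')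
  have hc2 := mem_cj.1 hc
  refine ⟨(x⁻¹ * c * x : alternatingGroup (Fin 5)), hc2, ?_⟩
  have : ((x⁻¹ * c * x : alternatingGroup (Fin 5)) : Perm (Fin 5)) = x.1⁻¹ * c.1 * x.1⁻¹⁻¹ := by simp
  rw [this, IsThreeCycle, cycleType_conj]
  exact h3

theorem core1 {n k : ℕ} (hk : 2 ≤ k) (hn : n = 2 ^ k + 1) (T : Sylow 2 (Perm (Fin n))) :
    ∃ f : Fin n, (∀ t ∈ (T : Subgroup (Perm (Fin n))), t f = f) ∧
      ∀ K : Subgroup (Perm (Fin n)), (T : Subgroup (Perm (Fin n))) ⊓ alternatingGroup (Fin n) ≤ K →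
        ∀ g ∈ K, g ∈ alternatingGroup (Fin n) → g f ≠ f → alternatingGroup (Fin n) ≤ K := by
  obtain ⟨ι, h⟩ := exists_isPartner T
  have hodd : Odd (Fintype.card (Fin n)) := by
    rw [Fintype.card_fin, hn]
    exact ((even_two.pow_of_ne_zero (by omega))).add_one
  obtain ⟨f, hf⟩ := h.exists_fixed_of_odd hodd
  have hTf : ∀ t ∈ (T : Subgroup (Perm (Fin n))), t f = f := fun t ht => h.apply_fixed hf ht
  have h4 : 2 ^ 2 ≤ 2 ^ k := Nat.pow_le_pow_right two_pos hk
  refine ⟨f, hTf, fun K hK g hg hgA hgf => ?_⟩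
  have hprim : IsPreprimitive K (Fin n) := by
    refine isPreprimitive_of_stabilizer_trans K f (fun y z hy hz => ?_) ⟨g, hg, hgf⟩
    obtain ⟨t, ht, hty⟩ := sylow_trans_of_card_eq_pow_add_one T (k := k) (by omega)
      (by rw [Fintype.card_fin, hn]) hTf hy hz
    obtain ⟨r, hr, hrA, hry⟩ := h.exists_even_apply_eq (by rw [Fintype.card_fin]; omega) ht y
    exact ⟨r, hK ⟨hr, hrA⟩, hTf r hr, hry.trans hty⟩
  have h3 : ∃ c ∈ K, IsThreeCycle c := by
    rcases hk.eq_or_lt with rfl | hk3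
    · subst hn
      exact five T hTf hK hg hgA hgf
    · have : 2 ^ 3 ≤ 2 ^ k := Nat.pow_le_pow_right two_pos hk3
      exact h.exists_isThreeCycle (by rw [Fintype.card_fin]; omega) hf hK hg hgf
  obtain ⟨c, hc, hc3⟩ := h3
  exact alternatingGroup_le_of_isPreprimitive_of_isThreeCycle_mem hprim hc3 hc

variable {α : Type} [Fintype α] [DecidableEq α]

theorem le_of_stabilizer {s : Set α} (h0 : s.Nonempty) (h1 : sᶜ.Nonempty)
    (hs : Nat.card α ≠ 2 * s.ncard) {K : Subgroup (Perm α)}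
    (hK : stabilizer (Perm α) s ⊓ alternatingGroup α ≤ K) {g : Perm α} (hg : g ∈ K)
    (hgA : g ∈ alternatingGroup α) {y : α} (hy : y ∈ s) (hgy : g y ∉ s) :
    alternatingGroup α ≤ K := by
  have hc := alternatingGroup.isCoatom_stabilizer h0 h1 hs
  have hlt : stabilizer (alternatingGroup α) s < K.subgroupOf (alternatingGroup α) := by
    refine lt_of_le_of_ne (fun t ht => hK ⟨ht, t.2⟩) (fun he => hgy ?_)
    have : (⟨g, hgA⟩ : alternatingGroup α) ∈ stabilizer (alternatingGroup α) s := he ▸ hg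
    rw [← mem_stabilizer_iff.1 this]
    exact Set.smul_mem_smul_set (a := (⟨g, hgA⟩ : alternatingGroup α)) hy
  exact Subgroup.subgroupOf_eq_top.1 (hc.2 _ hlt)

theorem not_le_stabilizer {s : Set α} (h0 : s.Nonempty) (h1 : sᶜ.Nonempty)
    (hs : Nat.card α ≠ 2 * s.ncard) : ¬ alternatingGroup α ≤ stabilizer (Perm α) s := by
  intro h
  exact (alternatingGroup.isCoatom_stabilizer h0 h1 hs).1 (eq_top_iff.2 fun t _ => h t.2)

theorem three_mem (a b c : α) (hab : a ≠ b) (hac : a ≠ c) :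
    swap a b * swap a c ∈ alternatingGroup α :=
  mul_mem_alternatingGroup_of_isSwap ⟨_, _, hab, rfl⟩ ⟨_, _, hac, rfl⟩

omit [Fintype α] in
theorem dbl_mem_centralizer {T : Subgroup (Perm α)} {ι : Perm α} (h : IsPartner T ι) {y z : α}
    (h1 : y ≠ ι y) (h2 : y ≠ ι z) (h3 : z ≠ ι y) (h4 : z ≠ ι z) :
    swap y z * swap (ι y) (ι z) ∈ Subgroup.centralizer {ι} := by
  rw [Subgroup.mem_centralizer_singleton_iff]
  have e1 : ι * swap y z = swap (ι y) (ι z) * ι := mul_swap_eq_swap_mul _ _ _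
  have e2 : ι * swap (ι y) (ι z) = swap y z * ι := by
    rw [mul_swap_eq_swap_mul, h.invol, h.invol]
  rw [← mul_assoc ι, e1, mul_assoc (swap (ι y) (ι z)), e2, ← mul_assoc,
    (commute_swap_swap h1 h2 h3 h4).eq]

theorem not_le_centralizer {T : Subgroup (Perm α)} {ι : Perm α} (h : IsPartner T ι)
    (h4 : 4 ≤ Fintype.card α) : ¬ alternatingGroup α ≤ Subgroup.centralizer {ι} := by
  intro hle
  obtain ⟨y, -, hy⟩ := h.exists_moved_notMem ∅ (by simp; omega)
  obtain ⟨z, hz⟩ := exists_notMem_of_card_lt {y, ι y} (lt_of_le_of_lt Finset.card_le_two (by omega))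
  simp only [Finset.mem_insert, Finset.mem_singleton, not_or] at hz
  have h1 := Subgroup.mem_centralizer_singleton_iff.1 (hle (three_mem y (ι y) z hy.symm (Ne.symm hz.1)))
  have h2 := congrArg (fun σ : Perm α => σ y) h1
  simp only [mul_apply, swap_apply_left] at h2
  rw [swap_apply_of_ne_of_ne hy (Ne.symm hz.2), swap_apply_right,
    swap_apply_of_ne_of_ne hz.1 hz.2] at h2
  exact hz.2 (by rw [h2, h.invol])

theorem exists_third {s : Set α} (hs : 3 ≤ s.ncard) (a b : α) : ∃ c ∈ s, c ≠ a ∧ c ≠ b := by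
  by_contra hc
  push Not at hc
  have : s ⊆ {a, b} := fun c hcs => by
    by_cases hca : c = a
    · exact Or.inl hca
    · exact Or.inr (hc c hcs hca)
  have h1 := Set.ncard_le_ncard this (Set.toFinite _)
  have h2 := Set.ncard_insert_le a ({b} : Set α)
  rw [Set.ncard_singleton] at h2
  omega

theorem core2 (h7 : 7 ≤ Fintype.card α) (hn : ∀ k, Fintype.card α ≠ 2 ^ k + 1)
    (T : Sylow 2 (Perm α)) : ∃ W₁ W₂ : Subgroup (Perm α), (T : Subgroup (Perm α)) ≤ W₁ ∧
      (T : Subgroup (Perm α)) ≤ W₂ ∧ ¬ alternatingGroup α ≤ W₁ ∧ ¬ alternatingGroup α ≤ W₂ ∧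
      ∀ K : Subgroup (Perm α), W₁ ⊓ alternatingGroup α ≤ K → W₂ ⊓ alternatingGroup α ≤ K →
        alternatingGroup α ≤ K := by
  obtain ⟨ι, h⟩ := exists_isPartner T
  have hcompl : ∀ s : Set α, s.ncard + sᶜ.ncard = Fintype.card α := fun s => by
    rw [Set.ncard_add_ncard_compl, Nat.card_eq_fintype_card]
  have horb : ∀ y, ι y ∈ orbit (T : Subgroup (Perm α)) y := fun y =>
    mem_orbit_perm_iff.2 ⟨_, h.swap_self_mem y, swap_apply_left _ _⟩
  rcases Nat.even_or_odd (Fintype.card α) with he | ho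
  · have hι := h.ne_self_of_even he
    by_cases htr : ∀ y z, ∃ t ∈ (T : Subgroup (Perm α)), t y = z
    · obtain ⟨H, hH, hTH⟩ := exists_halves T.isPGroup' (by omega) htr
      have hH4 : 4 ≤ H.ncard := by have := hcompl H; omega
      have hιH : ∀ x, ι x ∈ H ↔ x ∈ H := by
        intro x
        rcases hTH _ (h.swap_self_mem x) with h1 | h1
        · simpa using h1 x
        · obtain ⟨w, hw⟩ := exists_notMem_of_card_lt {x, ι x}
            (lt_of_le_of_lt Finset.card_le_two (by omega))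
          simp only [Finset.mem_insert, Finset.mem_singleton, not_or] at hw
          have := h1 w
          rw [swap_apply_of_ne_of_ne hw.1 hw.2] at this
          tauto
      have hthree : ∀ a b c, (a ∈ H ↔ b ∈ H) → (a ∈ H ↔ c ∈ H) →
          swap a b * swap a c ∈ halvesStab H := by
        intro a b c h1 h2
        have key : ∀ a b, (a ∈ H ↔ b ∈ H) → swap a b ∈ halvesStab H := by
          intro a b hab
          refine Or.inl fun z => ?_
          rw [swap_apply_def]
          split_ifs with e1 e2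
          · rw [e1, hab]
          · rw [e2, hab]
          · rfl
        exact mul_mem (key a b h1) (key a c h2)
      obtain ⟨y, hy, -⟩ := exists_third (s := H) (by omega) (Classical.choice
        (Fintype.card_pos_iff.1 (by omega : 0 < Fintype.card α))) (Classical.choice
        (Fintype.card_pos_iff.1 (by omega : 0 < Fintype.card α)))
      obtain ⟨u, hu, huy, huy'⟩ := exists_third (s := H) (by omega) y (ι y)
      obtain ⟨z, hz, -⟩ := exists_third (s := Hᶜ) (by omega) y y
      have hz' : z ∉ H := hz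
      have ne1 : ∀ {a b}, a ∈ H → b ∉ H → a ≠ b := fun ha hb he => hb (he ▸ ha)
      refine ⟨Subgroup.centralizer {ι}, halvesStab H, h.le_centralizer, hTH,
        not_le_centralizer h (by omega), fun hle => ?_, fun K h1 h2 => ?_⟩
      · rcases hle (three_mem y u z (Ne.symm huy) (ne1 hy hz')) with h1 | h1
        · have := h1 y
          rw [mul_apply, swap_apply_left,
            swap_apply_of_ne_of_ne (ne1 hy hz').symm (ne1 hu hz').symm] at this
          exact hz' (this.2 hy)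
        · have := h1 u
          rw [mul_apply, swap_apply_of_ne_of_ne huy (ne1 hu hz'), swap_apply_right] at this
          exact this.1 hy hu
      · -- `K` is primitive and contains a 3-cycle
        have same : ∀ a b, a ≠ y → b ≠ y → (a ∈ H ↔ b ∈ H) → ∃ r ∈ K, r y = y ∧ r a = b := by
          intro a b ha hb hab
          by_cases he : a = b
          · exact ⟨1, one_mem _, rfl, he⟩
          obtain ⟨c, hc1, hc2, hc3, hc4⟩ : ∃ c, (a ∈ H ↔ c ∈ H) ∧ c ≠ a ∧ c ≠ b ∧ c ≠ y := by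
            by_cases haH : a ∈ H
            · have h5 : 3 ≤ (H \ {y}).ncard := by
                rw [Set.ncard_sdiff_singleton_of_mem hy]; omega
              obtain ⟨c, hc, hc1, hc2⟩ := exists_third h5 a b
              exact ⟨c, iff_of_true haH hc.1, hc1, hc2, hc.2⟩
            · obtain ⟨c, hc, hc1, hc2⟩ := exists_third (s := Hᶜ) (by omega) a b
              exact ⟨c, iff_of_false haH hc, hc1, hc2, (ne1 hy hc).symm⟩
          refine ⟨swap a c * swap a b, h2 ⟨hthree a c b hc1 hab, three_mem _ _ _ hc2.symm he⟩, ?_, ?_⟩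
          · rw [mul_apply, swap_apply_of_ne_of_ne ha.symm hb.symm,
              swap_apply_of_ne_of_ne ha.symm hc4.symm]
          · rw [mul_apply, swap_apply_left, swap_apply_of_ne_of_ne (Ne.symm he) hc3.symm]
        have hιz : ι z ∉ H := fun hh => hz' ((hιH z).1 hh)
        have hιu : ι u ∈ H := (hιH u).2 hu
        have hρ : swap u z * swap (ι u) (ι z) ∈ K :=
          h1 ⟨dbl_mem_centralizer h (hι u).symm (ne1 hu hιz) (ne1 hιu hz').symm (hι z).symm,
            mul_mem_alternatingGroup_of_isSwap ⟨_, _, ne1 hu hz', rfl⟩ ⟨_, _, ne1 hιu hιz, rfl⟩⟩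
        have hρy : (swap u z * swap (ι u) (ι z)) y = y := by
          rw [mul_apply, swap_apply_of_ne_of_ne (a := ι u) (fun he => huy' (by rw [he, h.invol]))
            (ne1 hy hιz), swap_apply_of_ne_of_ne huy.symm (ne1 hy hz')]
        have hρu : (swap u z * swap (ι u) (ι z)) u = z := by
          rw [mul_apply, swap_apply_of_ne_of_ne (hι u).symm (ne1 hu hιz), swap_apply_left]
        have tou : ∀ a, a ≠ y → ∃ r ∈ K, r y = y ∧ r u = a := by
          intro a ha
          by_cases haH : a ∈ H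
          · exact same u a huy ha (iff_of_true hu haH)
          · obtain ⟨r, hr, hr1, hr2⟩ := same z a (ne1 hy hz').symm ha (iff_of_false hz' haH)
            exact ⟨r * _, mul_mem hr hρ, by rw [mul_apply, hρy, hr1], by rw [mul_apply, hρu, hr2]⟩
        have h3K : swap y u * swap y (ι y) ∈ K :=
          h2 ⟨hthree _ _ _ (iff_of_true hy hu) (hιH y).symm, three_mem _ _ _ huy.symm (hι y).symm⟩
        have hprim : IsPreprimitive K α := by
          refine isPreprimitive_of_stabilizer_trans K y (fun a b ha hb => ?_) ⟨_, h3K, ?_⟩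
          · obtain ⟨r, hr, hr1, hr2⟩ := tou a ha
            obtain ⟨r', hr', hr1', hr2'⟩ := tou b hb
            refine ⟨r' * r⁻¹, mul_mem hr' (inv_mem hr), ?_, ?_⟩
            · rw [mul_apply, Perm.inv_eq_iff_eq.2 hr1.symm, hr1']
            · rw [mul_apply, Perm.inv_eq_iff_eq.2 hr2.symm, hr2']
          · rw [mul_apply, swap_apply_left, swap_apply_of_ne_of_ne (hι y) huy'.symm]
            exact hι y
        exact alternatingGroup_le_of_isPreprimitive_of_isThreeCycle_mem hprim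
          (isThreeCycle_swap_mul_swap_same huy.symm (hι y).symm huy') h3K
    · push Not at htr
      obtain ⟨y, z, hyz⟩ := htr
      have hz : z ∉ orbit (T : Subgroup (Perm α)) y := fun hh => by
        obtain ⟨t, ht, he⟩ := mem_orbit_perm_iff.1 hh
        exact hyz t ht he
      have hy : y ∈ orbit (T : Subgroup (Perm α)) y := mem_orbit_self y
      have hs : Nat.card α ≠ 2 * (orbit (T : Subgroup (Perm α)) y).ncard := by
        intro hh
        obtain ⟨k, hk⟩ := exists_ncard_orbit_eq_pow T.isPGroup' y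
        rw [hk, Nat.card_eq_fintype_card, ← pow_succ'] at hh
        obtain ⟨t, ht, he⟩ := sylow_trans_of_card_eq_pow T (by omega) hh y z
        exact hyz t ht he
      have hιz : ι z ∉ orbit (T : Subgroup (Perm α)) y := fun hh => by
        obtain ⟨t, ht, he⟩ := mem_orbit_perm_iff.1 hh
        exact hyz _ (mul_mem (h.swap_self_mem z) ht) (by rw [mul_apply, he, swap_apply_right])
      have ne1 : ∀ {a b}, a ∈ orbit (T : Subgroup (Perm α)) y →
        b ∉ orbit (T : Subgroup (Perm α)) y → a ≠ b := fun ha hb he => hb (he ▸ ha)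
      refine ⟨Subgroup.centralizer {ι}, stabilizer (Perm α) (orbit (T : Subgroup (Perm α)) y),
        h.le_centralizer, le_stabilizer_orbit _ y, not_le_centralizer h (by omega),
        not_le_stabilizer ⟨y, hy⟩ ⟨z, hz⟩ hs, fun K h1 h2 => ?_⟩
      have hA := mul_mem_alternatingGroup_of_isSwap ⟨_, _, ne1 hy hz, rfl⟩
        ⟨_, _, ne1 (horb y) hιz, rfl⟩
      refine le_of_stabilizer ⟨y, hy⟩ ⟨z, hz⟩ hs h2
        (h1 ⟨dbl_mem_centralizer h (hι y).symm (ne1 hy hιz) (ne1 (horb y) hz).symm (hι z).symm, hA⟩)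
        hA hy ?_
      rwa [mul_apply, swap_apply_of_ne_of_ne (hι y).symm (ne1 hy hιz), swap_apply_left]
  · obtain ⟨f, hf⟩ := h.exists_fixed_of_odd ho
    obtain ⟨y, hy⟩ := exists_notMem_of_card_lt {f} (by simp; omega)
    rw [Finset.mem_singleton] at hy
    have hιy : ι y ≠ y := fun he => hy (h.fix _ _ he hf)
    have hfO : f ∉ orbit (T : Subgroup (Perm α)) y := fun hh => by
      obtain ⟨t, ht, he⟩ := mem_orbit_perm_iff.1 hh
      exact hy (t.injective (he.trans (h.apply_fixed hf ht).symm))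
    have hyO : y ∈ orbit (T : Subgroup (Perm α)) y := mem_orbit_self y
    obtain ⟨z, hz, hzf⟩ : ∃ z, z ∉ orbit (T : Subgroup (Perm α)) y ∧ z ≠ f := by
      by_contra hc
      push Not at hc
      obtain ⟨k, hk⟩ := exists_ncard_orbit_eq_pow T.isPGroup' y
      have h1 : (orbit (T : Subgroup (Perm α)) y)ᶜ = {f} := by
        ext w
        exact ⟨fun hw => hc w hw, fun hw => hw ▸ hfO⟩
      have h2 := hcompl (orbit (T : Subgroup (Perm α)) y)
      rw [h1, Set.ncard_singleton, hk] at h2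
      exact hn k h2.symm
    have hodd : ∀ m, Nat.card α ≠ 2 * m := fun m hm => by
      rw [Nat.card_eq_fintype_card] at hm
      exact (Nat.not_even_iff_odd.2 ho) ⟨m, by omega⟩
    have ne1 : ∀ {a b}, a ∈ orbit (T : Subgroup (Perm α)) y →
      b ∉ orbit (T : Subgroup (Perm α)) y → a ≠ b := fun ha hb he => hb (he ▸ ha)
    refine ⟨stabilizer (Perm α) ({f} : Set α), stabilizer (Perm α) (orbit (T : Subgroup (Perm α)) y),
      fun t ht => ?_, le_stabilizer_orbit _ y, not_le_stabilizer ⟨f, rfl⟩ ⟨y, hy⟩ (hodd _),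
      not_le_stabilizer ⟨y, hyO⟩ ⟨z, hz⟩ (hodd _), fun K h1 h2 => ?_⟩
    · rw [stabilizer_singleton]
      exact h.apply_fixed hf ht
    · have hA := three_mem y (ι y) z hιy.symm (ne1 hyO hz)
      refine le_of_stabilizer ⟨y, hyO⟩ ⟨z, hz⟩ (hodd _) h2 (h1 ⟨?_, hA⟩) hA hyO ?_
      · rw [stabilizer_singleton]
        show (swap y (ι y) * swap y z) f = f
        rw [mul_apply, swap_apply_of_ne_of_ne (Ne.symm hy) hzf.symm,
          swap_apply_of_ne_of_ne (Ne.symm hy) (ne1 (horb y) hfO).symm]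
      · rwa [mul_apply, swap_apply_left,
          swap_apply_of_ne_of_ne (ne1 hyO hz).symm (ne1 (horb y) hz).symm]

theorem eq_top_of_le {T : Sylow 2 (Perm α)} (h4 : 4 ≤ Fintype.card α) {M : Subgroup (Perm α)}
    (hT : (T : Subgroup (Perm α)) ≤ M) (hA : alternatingGroup α ≤ M) : M = ⊤ := by
  obtain ⟨ι, h⟩ := exists_isPartner T
  obtain ⟨y, -, hy⟩ := h.exists_moved_notMem ∅ (by simp; omega)
  refine eq_top_iff.2 fun g _ => ?_
  by_cases hg : g ∈ alternatingGroup α
  · exact hA hg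
  · exact (mul_mem_cancel_right (hT (h.swap_self_mem y))).1
      (hA (mul_swap_mem_alternatingGroup hg hy.symm))

/-- For n ≥ 5 with n ≠ 6, a Sylow 2-subgroup of the alternating group A_n lies in exactly one maximal subgroup of A_n if and only if n = 2^k + 1 for some k ≥ 2; the same holds for the symmetric group S_n. -/
theorem result (n : ℕ) (hn : 5 ≤ n) (h6 : n ≠ 6) :
    ((∀ R : Sylow 2 ↥(alternatingGroup (Fin n)), (∃! M : Subgroup ↥(alternatingGroup (Fin n)), IsCoatom M ∧ (R : Subgroup ↥(alternatingGroup (Fin n))) ≤ M) ↔ ∃ k : ℕ, 2 ≤ k ∧ n = 2 ^ k + 1) ∧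
    (∀ R : Sylow 2 (Equiv.Perm (Fin n)), (∃! M : Subgroup (Equiv.Perm (Fin n)), IsCoatom M ∧ (R : Subgroup (Equiv.Perm (Fin n))) ≤ M) ↔ ∃ k : ℕ, 2 ≤ k ∧ n = 2 ^ k + 1)) := by
  have hcard : Fintype.card (Fin n) = n := Fintype.card_fin n
  have hne : (¬ ∃ k : ℕ, 2 ≤ k ∧ n = 2 ^ k + 1) → 7 ≤ Fintype.card (Fin n) ∧
      ∀ k, Fintype.card (Fin n) ≠ 2 ^ k + 1 := by
    intro h
    rw [hcard]
    refine ⟨?_, fun k hk => h ⟨k, ?_, hk⟩⟩
    · by_contra hlt
      exact h ⟨2, le_rfl, by omega⟩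
    · by_contra hlt
      have : k = 0 ∨ k = 1 := by omega
      rcases this with rfl | rfl <;> omega
  have hodd : ∀ k, 2 ≤ k → n = 2 ^ k + 1 → ∀ m, Nat.card (Fin n) ≠ 2 * m := by
    intro k hk hn m hm
    rw [Nat.card_eq_fintype_card, hcard] at hm
    have : 2 ∣ 2 ^ k := dvd_pow_self 2 (by omega)
    omega
  have hcompl : ∀ f : Fin n, (({f} : Set (Fin n))ᶜ).Nonempty := by
    intro f
    obtain ⟨y, hy⟩ := exists_notMem_of_card_lt {f} (by simp; omega)
    exact ⟨y, by simpa using hy⟩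
  refine ⟨fun R => ?_, fun T => ?_⟩
  · obtain ⟨T, hT⟩ := exists_sylow_two_perm_of_alt R
    constructor
    · rintro ⟨M, ⟨hM, hRM⟩, huniq⟩
      by_contra hcon
      obtain ⟨W₁, W₂, h1, h2, h3, h4, h5⟩ := core2 (hne hcon).1 (hne hcon).2 T
      have key : ∀ W : Subgroup (Perm (Fin n)), (T : Subgroup (Perm (Fin n))) ≤ W →
          ¬ alternatingGroup (Fin n) ≤ W →
          W ⊓ alternatingGroup (Fin n) ≤ M.map (alternatingGroup (Fin n)).subtype := by
        intro W hTW hW
        obtain ⟨M', hM', hle⟩ := (eq_top_or_exists_le_coatom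
          (W.subgroupOf (alternatingGroup (Fin n)))).resolve_left
          (fun he => hW (Subgroup.subgroupOf_eq_top.1 he))
        have := huniq M' ⟨hM', fun r hr => hle (hTW ((hT r).1 hr))⟩
        subst this
        rintro g ⟨hg, hgA⟩
        exact ⟨⟨g, hgA⟩, hle hg, rfl⟩
      have := h5 _ (key W₁ h1 h3) (key W₂ h2 h4)
      refine hM.1 (eq_top_iff.2 fun g _ => ?_)
      obtain ⟨g', hg', he⟩ := this g.2
      rwa [← Subtype.ext he]
    · rintro ⟨k, hk, hnk⟩
      obtain ⟨f, hf, hK⟩ := core1 hk hnk T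
      have hc := alternatingGroup.isCoatom_stabilizer (s := ({f} : Set (Fin n))) ⟨f, rfl⟩
        (hcompl f) (hodd k hk hnk _)
      rw [stabilizer_singleton] at hc
      refine ⟨stabilizer (alternatingGroup (Fin n)) f, ⟨hc, fun r hr => hf _ ((hT r).1 hr)⟩, ?_⟩
      rintro M ⟨hM, hRM⟩
      refine (hM.le_iff_eq hc.1).1 (fun g hg => ?_) |>.symm
      by_contra hgf
      have := hK (M.map (alternatingGroup (Fin n)).subtype)
        (fun t ht => ⟨⟨t, ht.2⟩, hRM ((hT _).2 ht.1), rfl⟩) g ⟨g, hg, rfl⟩ g.2 hgf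
      refine hM.1 (eq_top_iff.2 fun g _ => ?_)
      obtain ⟨g', hg', he⟩ := this g.2
      rwa [← Subtype.ext he]
  · constructor
    · rintro ⟨M, ⟨hM, hRM⟩, huniq⟩
      by_contra hcon
      obtain ⟨W₁, W₂, h1, h2, h3, h4, h5⟩ := core2 (hne hcon).1 (hne hcon).2 T
      have key : ∀ W : Subgroup (Perm (Fin n)), (T : Subgroup (Perm (Fin n))) ≤ W →
          ¬ alternatingGroup (Fin n) ≤ W → W ⊓ alternatingGroup (Fin n) ≤ M := by
        intro W hTW hW
        obtain ⟨M', hM', hle⟩ := (eq_top_or_exists_le_coatom W).resolve_left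
          (fun he => hW (he ▸ le_top))
        have := huniq M' ⟨hM', hTW.trans hle⟩
        subst this
        exact inf_le_left.trans hle
      exact hM.1 (eq_top_of_le (by omega) hRM (h5 _ (key W₁ h1 h3) (key W₂ h2 h4)))
    · rintro ⟨k, hk, hnk⟩
      obtain ⟨f, hf, hK⟩ := core1 hk hnk T
      have hc := Equiv.Perm.isCoatom_stabilizer (s := ({f} : Set (Fin n))) ⟨f, rfl⟩
        (hcompl f) (hodd k hk hnk _)
      rw [stabilizer_singleton] at hc
      refine ⟨stabilizer (Perm (Fin n)) f, ⟨hc, fun r hr => hf _ hr⟩, ?_⟩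
      rintro M ⟨hM, hRM⟩
      refine (hM.le_iff_eq hc.1).1 (fun g hg => ?_) |>.symm
      by_contra hgf
      apply hM.1
      obtain ⟨ι, h⟩ := exists_isPartner T
      obtain ⟨y, -, hy⟩ := h.exists_moved_notMem ∅ (by simp; omega)
      refine eq_top_of_le (by omega) hRM ?_
      by_cases hgA : g ∈ alternatingGroup (Fin n)
      · exact hK M (inf_le_left.trans hRM) g hg hgA hgf
      · refine hK M (inf_le_left.trans hRM) _ (mul_mem hg (hRM (h.swap_self_mem y)))
          (mul_swap_mem_alternatingGroup hgA hy.symm) ?_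
        rw [mul_apply, hf _ (h.swap_self_mem y)]
        exact hgf

end Cfsg.Agent.S2245
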