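import Cfsg.Statements.S2247
import Mathlib
import Cfsg.Agent.CHEV.SzAction

set_option autoImplicit false
open Cfsg

namespace Cfsg.Agent.S2247

/-- In the Suzuki group with q = 2^(2m+1), m ≥ 1 (realised as the stabiliser in SL₄ of the Suzuki–Tits ovoid), the normalizer of a Sylow 2-subgroup P is a maximal subgroup and is the only maximal subgroup containing P. -/
theorem result {F : Type*} [Field F] [Fintype F] {m : ℕ} (hm : 1 ≤ m) (hF : Fintype.card F = 2 ^ (2 * m + 1)) (P : Sylow 2 ↥(Cfsg.Sz F m)) :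
    IsCoatom (Subgroup.normalizer ((P : Subgroup ↥(Cfsg.Sz F m)) : Set ↥(Cfsg.Sz F m))) ∧
    ∀ M : Subgroup ↥(Cfsg.Sz F m), IsCoatom M → (P : Subgroup ↥(Cfsg.Sz F m)) ≤ M → M = Subgroup.normalizer ((P : Subgroup ↥(Cfsg.Sz F m)) : Set ↥(Cfsg.Sz F m)) := by
  have := CL.Sz.charP_two hF
  obtain ⟨M, hM⟩ := (CL.Sz.ovModel hm hF).exists_model_U_eq P
  rw [← hM, M.normalizer_U]
  refine ⟨M.isCoatom_B, fun K hK hU => ?_⟩
  by_cases h : K ≤ M.B
  · exact (hK.le_iff.mp h).resolve_left M.B_ne_top |>.symm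
  · exact absurd (M.eq_top_of_U_le hU h) hK.1

end Cfsg.Agent.S2247
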