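import Cfsg.Statements.S2271
import Cfsg.Agent.KSG.AltBasic

set_option autoImplicit false
open Cfsg

namespace Cfsg.Agent.S2271

open Equiv Equiv.Perm CL.KSG

variable {α : Type*} [Fintype α] [DecidableEq α]

/-- The set of points where two permutations agree. -/
def agree (A B : Perm α) : Finset α := Finset.univ.filter fun x => A x = B x

theorem mem_agree {A B : Perm α} {x : α} : x ∈ agree A B ↔ A x = B x := by simp [agree]

theorem card_fixed (u v : Perm α) :
    Nat.card (Function.fixedPoints ⇑(u * v)) = (agree u⁻¹ v).card := by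
  rw [← Nat.card_eq_finsetCard]
  refine Nat.card_congr (Equiv.subtypeEquivRight fun x => ?_)
  rw [mem_agree, Function.mem_fixedPoints, Function.IsFixedPt, mul_apply, Perm.inv_eq_iff_eq,
    eq_comm]

theorem card_agree_conj (g A B : Perm α) :
    (agree (g * A * g⁻¹) (g * B * g⁻¹)).card = (agree A B).card := by
  symm
  refine Finset.card_bij (fun x _ => g x) (fun x hx => ?_) (fun x _ y _ h => g.injective h)
    (fun y hy => ⟨g⁻¹ y, ?_, by simp⟩)
  · rw [mem_agree] at hx ⊢
    simp [hx]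
  · rw [mem_agree] at hy ⊢
    simpa using hy

theorem lemT (h5 : 5 ≤ Fintype.card α) (A B : Perm α) {p q : α} (hpq : p ≠ q) (hA : A p = q)
    (hB : B p = q) : ∃ z, q ≠ z ∧ (agree A (swap q z * B * (swap q z)⁻¹)).card < (agree A B).card := by
  obtain ⟨z, hz⟩ := exists_notMem_of_card_lt {p, q, B⁻¹ (A q), A⁻¹ (B q)}
    (lt_of_le_of_lt Finset.card_le_four (by omega))
  simp only [Finset.mem_insert, Finset.mem_singleton, not_or] at hz
  obtain ⟨h1, h2, h3, h4⟩ := hz
  have h3' : B z ≠ A q := fun h => h3 (by rw [← h]; simp)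
  have h4' : A z ≠ B q := fun h => h4 (by rw [← h]; simp)
  refine ⟨z, Ne.symm h2, Finset.card_lt_card ⟨fun x hx => ?_, fun hsub => ?_⟩⟩
  · rw [mem_agree] at hx ⊢
    rw [swap_inv, mul_apply, mul_apply] at hx
    have hAi := A.injective
    have hBi := B.injective
    simp only [swap_apply_def] at hx
    grind
  · have := hsub (mem_agree.2 (hA.trans hB.symm))
    rw [mem_agree, swap_inv, mul_apply, mul_apply, swap_apply_of_ne_of_ne hpq (Ne.symm h1), hB,
      swap_apply_left, hA] at this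
    exact h2 this.symm

theorem lemC (A B : Perm α) {p q r w z : α} (hpq : p ≠ q) (hpr : p ≠ r) (hpw : p ≠ w)
    (hpz : p ≠ z) (hqr : q ≠ r) (hqw : q ≠ w) (hqz : q ≠ z) (hrw : r ≠ w) (hrz : r ≠ z)
    (hwz : w ≠ z) (hA1 : A p = q) (hA2 : A q = r) (hB1 : B p = q) (hB2 : B q = r) (hB3 : B r = w)
    (hB4 : B w = z) :
    (agree A ((swap q w * swap q z) * B * (swap q w * swap q z)⁻¹)).card < (agree A B).card := by
  have hsub : agree A ((swap q w * swap q z) * B * (swap q w * swap q z)⁻¹) ⊆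
      insert w (((agree A B).erase p).erase q) := by
    intro x hx
    rw [mem_agree, mul_inv_rev, swap_inv, swap_inv] at hx
    simp only [mul_apply, swap_apply_def] at hx
    simp only [Finset.mem_insert, Finset.mem_erase, mem_agree]
    have hAi := A.injective
    have hBi := B.injective
    grind
  have h1 := Finset.card_le_card hsub
  have h2 := Finset.card_insert_le w (((agree A B).erase p).erase q)
  have hp : p ∈ agree A B := mem_agree.2 (hA1.trans hB1.symm)
  have hq : q ∈ (agree A B).erase p := Finset.mem_erase.2 ⟨hpq.symm, mem_agree.2 (hA2.trans hB2.symm)⟩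
  have h3 := Finset.card_erase_add_one hp
  have h4 := Finset.card_erase_add_one hq
  omega

theorem exists_moved {a : Perm α} (ha : a ≠ 1) : ∃ x, a x ≠ x := by
  by_contra hc
  push Not at hc
  exact ha (Equiv.ext hc)

theorem main (h5 : 5 ≤ Fintype.card α) (A b : Perm α) (ha : A ≠ 1) (hb : b ≠ 1) :
    ∃ g₁ h₁ g₂ h₂ : Perm α, g₁ ∈ alternatingGroup α ∧ h₁ ∈ alternatingGroup α ∧
      g₂ ∈ alternatingGroup α ∧ h₂ ∈ alternatingGroup α ∧
      (agree (g₁ * A * g₁⁻¹) (h₁ * b * h₁⁻¹)).card ≠ (agree (g₂ * A * g₂⁻¹) (h₂ * b * h₂⁻¹)).card := by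
  have odd_mul : ∀ {s t : Perm α}, s ∉ alternatingGroup α → t ∉ alternatingGroup α →
      s * t ∈ alternatingGroup α := by
    intro s t hs ht
    rw [mem_alternatingGroup] at *
    rw [map_mul, Int.units_ne_iff_eq_neg.1 hs, Int.units_ne_iff_eq_neg.1 ht]
    simp
  have swap_odd : ∀ {x y : α}, x ≠ y → swap x y ∉ alternatingGroup α := by
    intro x y hxy
    rw [mem_alternatingGroup, sign_swap hxy]
    decide
  by_cases hc : Subgroup.centralizer {A} ≤ alternatingGroup α ∧
      Subgroup.centralizer {b} ≤ alternatingGroup α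
  · obtain ⟨m, hm, hm5⟩ := exists_five_le_of_centralizer_le h5 hc.1
    obtain ⟨m', hm', hm5'⟩ := exists_five_le_of_centralizer_le h5 hc.2
    obtain ⟨p, hp⟩ := exists_point_of_mem_cycleType hm
    obtain ⟨x, hx⟩ := exists_point_of_mem_cycleType hm'
    have np : ∀ k, 0 < k → k < 5 → (A ^ k) p ≠ p := fun k h1 h2 h =>
      absurd (Nat.le_of_dvd h1 ((hp k).1 h)) (by omega)
    have nx : ∀ k, 0 < k → k < 5 → (b ^ k) x ≠ x := fun k h1 h2 h =>
      absurd (Nat.le_of_dvd h1 ((hx k).1 h)) (by omega)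
    have p1 : A p ≠ p := np 1 (by omega) (by omega)
    have p2 : A (A p) ≠ p := np 2 (by omega) (by omega)
    have x1 : b x ≠ x := nx 1 (by omega) (by omega)
    have x2 : b (b x) ≠ x := nx 2 (by omega) (by omega)
    have x3 : b (b (b x)) ≠ x := nx 3 (by omega) (by omega)
    have x4 : b (b (b (b x))) ≠ x := nx 4 (by omega) (by omega)
    have bi : ∀ {u v}, u ≠ v → b u ≠ b v := fun h => b.injective.ne h
    obtain ⟨h, hh, e1, e2, e3⟩ := exists_even_three h5 x1.symm x2.symm (bi x1.symm) p1.symm p2.symm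
      (A.injective.ne p1.symm)
    have hi : ∀ {u v}, u ≠ v → h u ≠ h v := fun hh => h.injective.ne hh
    have key := lemC A (h * b * h⁻¹) (p := h x) (q := h (b x)) (r := h (b (b x)))
      (w := h (b (b (b x)))) (z := h (b (b (b (b x))))) (hi x1.symm) (hi x2.symm) (hi x3.symm)
      (hi x4.symm) (hi (bi x1.symm)) (hi (bi x2.symm)) (hi (bi x3.symm)) (hi (bi (bi x1.symm)))
      (hi (bi (bi x2.symm))) (hi (bi (bi (bi x1.symm)))) (by rw [e1, e2]) (by rw [e2, e3])
      (by simp) (by simp) (by simp) (by simp)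
    refine ⟨1, h, 1, (swap (h (b x)) (h (b (b (b x)))) * swap (h (b x)) (h (b (b (b (b x)))))) * h,
      one_mem _, hh, one_mem _, mul_mem (mul_mem_alternatingGroup_of_isSwap
        ⟨_, _, hi (bi x2.symm), rfl⟩ ⟨_, _, hi (bi x3.symm), rfl⟩) hh, ?_⟩
    simpa only [one_mul, inv_one, mul_one, mul_assoc, mul_inv_rev] using key.ne'
  · obtain ⟨p, hp⟩ := exists_moved ha
    obtain ⟨x, hx⟩ := exists_moved hb
    obtain ⟨h, hh, e1, e2⟩ := exists_even_two (by omega) hx.symm hp.symm
    obtain ⟨z, hz, key⟩ := lemT h5 A (h * b * h⁻¹) hp.symm rfl (by rw [← e2, ← e1]; simp)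
    rcases not_and_or.1 hc with hc | hc
    · obtain ⟨t, ht, ht'⟩ := SetLike.not_le_iff_exists.1 hc
      have htA : t * A = A * t := Subgroup.mem_centralizer_singleton_iff.1 ht
      refine ⟨1, h, swap (A p) z * t, h, one_mem _, hh, odd_mul (swap_odd hz) ht', hh, ?_⟩
      simp only [one_mul, inv_one, mul_one]
      refine (ne_of_lt (lt_of_eq_of_lt ?_ key)).symm
      rw [← card_agree_conj (swap (A p) z)]
      congr 2
      rw [mul_assoc _ t A, htA, ← mul_assoc, ← mul_assoc, ← mul_assoc, swap_mul_self, mul_inv_rev,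
        swap_inv]
      simp [mul_assoc]
    · obtain ⟨t, ht, ht'⟩ := SetLike.not_le_iff_exists.1 hc
      have htb : t * b = b * t := Subgroup.mem_centralizer_singleton_iff.1 ht
      have hodd : h * t ∉ alternatingGroup α := fun hm => ht' ((mul_mem_cancel_left hh).1 hm)
      refine ⟨1, h, 1, swap (A p) z * (h * t), one_mem _, hh, one_mem _,
        odd_mul (swap_odd hz) hodd, ?_⟩
      simp only [one_mul, inv_one, mul_one]
      refine (ne_of_lt (lt_of_eq_of_lt ?_ key)).symm
      congr 2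
      rw [mul_assoc _ (h * t) b, mul_assoc h t b, htb]
      group

/-- Let n ≥ 5 and let a, b be non-identity permutations in the symmetric group S_n. Then the number of fixed points is not constant on the set of products a′b′ with a′ conjugate to a and b′ conjugate to b under the alternating group: there are even permutations g₁, h₁, g₂, h₂ such that (g₁ a g₁⁻¹)(h₁ b h₁⁻¹) and (g₂ a g₂⁻¹)(h₂ b h₂⁻¹) have different numbers of fixed points. -/
theorem result (n : ℕ) (hn : 5 ≤ n) (a b : Equiv.Perm (Fin n)) (ha : a ≠ 1) (hb : b ≠ 1) :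
    ∃ g₁ h₁ g₂ h₂ : Equiv.Perm (Fin n), g₁ ∈ alternatingGroup (Fin n) ∧ h₁ ∈ alternatingGroup (Fin n) ∧ g₂ ∈ alternatingGroup (Fin n) ∧ h₂ ∈ alternatingGroup (Fin n) ∧
      Nat.card (Function.fixedPoints ⇑(g₁ * a * g₁⁻¹ * (h₁ * b * h₁⁻¹))) ≠
        Nat.card (Function.fixedPoints ⇑(g₂ * a * g₂⁻¹ * (h₂ * b * h₂⁻¹))) := by
  obtain ⟨g₁, h₁, g₂, h₂, a1, a2, a3, a4, h⟩ :=
    main (by simpa using hn) a⁻¹ b (inv_ne_one.2 ha) hb
  refine ⟨g₁, h₁, g₂, h₂, a1, a2, a3, a4, ?_⟩
  rw [card_fixed, card_fixed]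
  simpa [mul_assoc] using h

end Cfsg.Agent.S2271
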