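import Cfsg.Statements.S2272
import Mathlib

set_option autoImplicit false
open Cfsg

namespace Cfsg.Agent.S2272

section

open Matrix

variable {F ι : Type*} [Field F] [Fintype ι] [DecidableEq ι]

/-- Conjugation of a matrix by an element of `SL`. -/
def cj (g : SpecialLinearGroup ι F) (X : Matrix ι ι F) : Matrix ι ι F := g.1 * X * (g⁻¹).1

theorem cj_mul (g h : SpecialLinearGroup ι F) (X : Matrix ι ι F) :
    cj (g * h) X = cj g (cj h X) := by
  simp only [cj, _root_.mul_inv_rev, Matrix.SpecialLinearGroup.coe_mul, mul_assoc]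

theorem cj_tv {i j : ι} (h : i ≠ j) (t : F) (X : Matrix ι ι F) :
    cj (SpecialLinearGroup.transvection h t) X =
      X + single i j t * X - X * single i j t - single i j (t * X j i * t) := by
  have : (SpecialLinearGroup.transvection h t)⁻¹ = SpecialLinearGroup.transvection h (-t) :=
    inv_eq_of_mul_eq_one_right (Subtype.ext ((transvection_mul_transvection_same i j h _ _).trans
      (by simp)))
  rw [cj, this, SpecialLinearGroup.transvection_coe, SpecialLinearGroup.transvection_coe,
    ← single_mul_mul_single, ← single_neg]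
  noncomm_ring

theorem exists_third (h3 : 3 ≤ Fintype.card ι) (i j : ι) : ∃ k, k ≠ i ∧ k ≠ j := by
  obtain ⟨k, -, hk⟩ := Finset.exists_mem_notMem_of_card_lt_card (s := {i, j}) (t := Finset.univ)
    (Finset.card_le_two.trans_lt h3)
  exact ⟨k, by simpa using hk⟩

theorem exists_off {X : Matrix ι ι F} (h : ∀ r, scalar ι r ≠ X) :
    ∃ g k i, k ≠ i ∧ cj g X k i ≠ 0 := by
  by_contra! h0
  have h1 : ∀ k i, k ≠ i → X k i = 0 := fun k i hk => by simpa [cj] using h0 1 k i hk
  cases isEmpty_or_nonempty ι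
  · exact h 0 (Subsingleton.elim _ _)
  refine h (X (Classical.arbitrary ι) (Classical.arbitrary ι)) (Matrix.ext fun k i => ?_)
  by_cases e : k = i
  · subst e
    by_cases e : k = Classical.arbitrary ι
    · simp [← e]
    have := h0 (SpecialLinearGroup.transvection e 1) _ _ e
    simp [cj_tv, h1 _ _ e, h1 _ _ (Ne.symm e), sub_eq_zero] at this
    simpa
  · simp [e, h1 k i e]

theorem key (h3 : 3 ≤ Fintype.card ι) {N X : Matrix ι ι F} (h : ∀ r, scalar ι r ≠ X)
    (hX : ∀ g, trace (N * cj g X) = 0) {j k : ι} (hjk : j ≠ k) : N k j = 0 := by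
  let P : Matrix ι ι F → Prop := fun Y => ∀ g, trace (N * cj g Y) = 0
  have hD : ∀ Y Z, P Y → ∀ {i j} (e : i ≠ j), Z = single i j 1 * Y - Y * single i j 1 -
      single i j (Y j i) → P Z := fun Y Z hY i j e hZ g => by
    have h1 := hY (g * SpecialLinearGroup.transvection e 1)
    have h2 : cj (SpecialLinearGroup.transvection e 1) Y = Y + Z := by
      rw [cj_tv, hZ, one_mul, mul_one]; abel
    have h3 := hY g
    rw [cj_mul, h2] at h1
    simp only [cj, mul_add, add_mul, trace_add] at h1 h3 ⊢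
    rwa [h3, zero_add] at h1
  have s1 : ∀ {p q r c}, P (single p q c) → r ≠ p → r ≠ q → P (single r q c) :=
    fun h h1 h2 => hD _ _ h h1 (by simp [h2.symm])
  have s2 : ∀ {p q r c}, P (single p q c) → r ≠ p → r ≠ q → P (single p r (-c)) :=
    fun h h1 h2 => hD _ _ h h2.symm (by simp [h1.symm, h1, single_neg])
  obtain ⟨g, q, p, hqp, hc⟩ := exists_off h
  obtain ⟨r, h1, h2⟩ := exists_third h3 p q
  have hY : P (cj g X) := fun g' => by rw [← cj_mul]; exact hX _
  generalize cj g X = Y at hc hY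
  have h4 : P (single p q (-Y q p)) := by
    refine hD _ _ (hD _ (-(single r q (Y q p) + single p q (Y q r))) (hD _ _ hY hqp.symm rfl)
      h2 ?_) h1.symm ?_
    · have : Y * single p q 1 * single r q 1 = 0 := by simp [mul_assoc, h2.symm]
      simp [mul_sub, sub_mul, ← mul_assoc, hqp, h2.symm, h2, this]
      abel
    · simp [mul_add, add_mul, hqp, h1, h1.symm, single_neg]
  have h5 : ∀ {p q r c}, P (single p q c) → c ≠ 0 → r ≠ q → ∃ c, c ≠ 0 ∧ P (single r q c) := by
    intro p q r c h hc hr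
    by_cases e : r = p
    exacts [⟨c, hc, e ▸ h⟩, ⟨c, hc, s1 h e hr⟩]
  have h6 : ∀ {p q r c}, P (single p q c) → c ≠ 0 → r ≠ p → ∃ c, c ≠ 0 ∧ P (single p r c) := by
    intro p q r c h hc hr
    by_cases e : r = q
    exacts [⟨c, hc, e ▸ h⟩, ⟨-c, neg_ne_zero.2 hc, s2 h hr e⟩]
  obtain ⟨c, hc, h7⟩ : ∃ c, c ≠ 0 ∧ P (single j k c) := by
    by_cases e : j = q
    · obtain ⟨c, hc, h⟩ := h6 h4 (neg_ne_zero.2 hc) h1
      obtain ⟨c, hc, h⟩ := h5 h hc (e ▸ h2.symm : j ≠ r)
      exact h6 h hc hjk.symm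
    · obtain ⟨c, hc, h⟩ := h5 h4 (neg_ne_zero.2 hc) e
      exact h6 h hc hjk.symm
  simpa [cj, trace_mul_single, hc] using h7 1

theorem main (h3 : 3 ≤ Fintype.card ι) {A B : Matrix ι ι F} (hA : ∀ r, scalar ι r ≠ A)
    (hB : ∀ r, scalar ι r ≠ B) : (∃ g h, trace (cj g A * cj h B) = 0) ∧
      ∃ g h, trace (cj g A * cj h B) ≠ 0 := by
  obtain ⟨g, k, i, hki, hc⟩ := exists_off hA
  refine ⟨?_, ?_⟩ <;> by_contra! h
  · obtain ⟨j, h1, h2⟩ := exists_third h3 i k
    set A' := cj (SpecialLinearGroup.transvection h2 (-(cj g A j i) / cj g A k i)) (cj g A) with hA'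
    have h4 : A' j i = 0 := by
      simp [hA', cj_tv, hki.symm, hki, hc]
    have h5 : A' k i ≠ 0 := by simpa [hA', cj_tv, hki.symm, h2.symm, hki] using hc
    have h6 : ∀ g', trace (A' * cj g' B) ≠ 0 := fun g' => by
      rw [hA', ← cj_mul]; exact h _ _
    refine h5 ?_
    have := key h3 (N := A' * single i j 1 - single i j 1 * A') hB (fun g' => ?_) h2
    · simpa [hki] using this
    by_contra h7
    refine h6 (SpecialLinearGroup.transvection h1.symm (-trace (A' * cj g' B) /
      trace ((A' * single i j 1 - single i j 1 * A') * cj g' B)) * g') ?_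
    rw [cj_mul, cj_tv]
    generalize cj g' B = Y at h7
    have h8 : ∀ t : F, trace (A' * (Y + single i j t * Y - Y * single i j t -
        single i j (t * Y j i * t))) = trace (A' * Y) +
        t * trace ((A' * single i j 1 - single i j 1 * A') * Y) := fun t => by
      rw [show single i j t = t • single i j (1 : F) by simp]
      simp only [mul_sub, mul_add, sub_mul, trace_sub, trace_add, trace_mul_single A', h4,
        smul_zero, sub_zero, Matrix.smul_mul, Matrix.mul_smul, trace_smul, smul_eq_mul, mul_assoc]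
      rw [trace_mul_comm (single i j 1), mul_assoc]
      ring
    rw [h8, div_mul_cancel₀ _ h7, add_neg_cancel]
  · exact hc (key h3 hB (h g) hki.symm)

end

/-- Let F be a finite field and d ≥ 3, and let a, b be non-identity elements of PSL_d(F). Then the product of the conjugacy classes of a and b is not a single conjugacy class: there are conjugates a′ of a and b′ of b such that a′b′ is not conjugate to ab. -/
theorem result {F : Type*} [Field F] [Fintype F] (d : ℕ) (hd : 3 ≤ d)
    (a b : Matrix.ProjectiveSpecialLinearGroup (Fin d) F) (ha : a ≠ 1) (hb : b ≠ 1) :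
    ∃ g h : Matrix.ProjectiveSpecialLinearGroup (Fin d) F, ¬ IsConj (a * b) (g * a * g⁻¹ * (h * b * h⁻¹)) := by
  obtain ⟨A, rfl⟩ := QuotientGroup.mk_surjective a
  obtain ⟨B, rfl⟩ := QuotientGroup.mk_surjective b
  have h0 : ∀ A : Matrix.SpecialLinearGroup (Fin d) F,
      (A : Matrix.ProjectiveSpecialLinearGroup (Fin d) F) ≠ 1 → ∀ r, Matrix.scalar (Fin d) r ≠ A.1 :=
    fun A h r e => h ((QuotientGroup.eq_one_iff A).2 (Subgroup.mem_center_iff.2 fun B =>
      Subtype.ext (by simpa [← e] using (Matrix.scalar_commute r (Commute.all r) B.1).eq.symm)))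
  by_contra! h
  have h1 : ∀ g g', Matrix.trace (cj g A.1 * cj g' B.1) = 0 ↔ Matrix.trace (A.1 * B.1) = 0 := by
    intro g g'
    obtain ⟨c, hc⟩ := isConj_iff.1 (h g g')
    obtain ⟨C, rfl⟩ := QuotientGroup.mk_surjective c
    simp only [← QuotientGroup.mk_mul, ← QuotientGroup.mk_inv] at hc
    obtain ⟨r, h1, h2⟩ := Matrix.SpecialLinearGroup.mem_center_iff.1 (QuotientGroup.eq.1 hc)
    have h3 : cj g A.1 * cj g' B.1 = cj C (A.1 * B.1) * Matrix.scalar (Fin d) r := by
      rw [h2]
      exact congrArg Subtype.val (mul_inv_cancel_left (C * (A * B) * C⁻¹)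
        (g * A * g⁻¹ * (g' * B * g'⁻¹))).symm
    have h4 : r ≠ 0 := by
      rintro rfl
      rw [zero_pow (by simp; omega)] at h1
      exact zero_ne_one h1
    rw [h3, Matrix.scalar_apply, ← Matrix.smul_eq_mul_diagonal, Matrix.trace_smul, cj,
      Matrix.trace_mul_cycle, ← Matrix.SpecialLinearGroup.coe_mul, inv_mul_cancel]
    simp [h4]
  obtain ⟨⟨g, g', h2⟩, g₁, g₁', h3⟩ := main (by simpa) (h0 A ha) (h0 B hb)
  exact h3 ((h1 _ _).2 ((h1 _ _).1 h2))

end Cfsg.Agent.S2272
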