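import Mathlib
import Cfsg.Statements.S2276
import Cfsg.Agent.FGS.AltPair

set_option autoImplicit false
open Cfsg

namespace Cfsg.Agent.S2276

/-- Let n ≥ 5, p ≥ 3 a prime, and u, w non-identity elements of p-power order in the alternating group A_n. Then there is g ∈ A_n such that u·(g w g⁻¹) does not have p-power order and ⟨u, g w g⁻¹⟩ is not solvable. -/
theorem result (n : ℕ) (hn : 5 ≤ n) (p : ℕ) (hp : p.Prime) (hp3 : 3 ≤ p) (u w : alternatingGroup (Fin n)) (hu : u ≠ 1) (hw : w ≠ 1)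
    (hu' : ∃ k : ℕ, orderOf u = p ^ k) (hw' : ∃ k : ℕ, orderOf w = p ^ k) :
    ∃ g : alternatingGroup (Fin n), (¬ ∃ k : ℕ, orderOf (u * (g * w * g⁻¹)) = p ^ k) ∧
      ¬ Group.IsSolvable ↥(Subgroup.closure ({u, g * w * g⁻¹} : Set (alternatingGroup (Fin n)))) := by
  haveI := Fact.mk hp
  obtain ⟨a, ha⟩ := hu'
  obtain ⟨b, hb⟩ := hw'
  obtain ⟨σ, hσ, h1, h2⟩ := CL.AltPair.core (Ω := Fin n) (by simpa using hn) hp3
    (u := (u : Equiv.Perm (Fin n))) (w := (w : Equiv.Perm (Fin n)))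
    (fun h => hu (Subtype.ext h)) (fun h => hw (Subtype.ext h))
    ((Subgroup.orderOf_coe u).trans ha) ((Subgroup.orderOf_coe w).trans hb) 1
  refine ⟨⟨σ, Equiv.Perm.mem_alternatingGroup.mpr hσ⟩, ?_, fun hs => h2 ?_⟩
  · rintro ⟨k, hk⟩
    apply h1 k
    have := congrArg Subtype.val (orderOf_dvd_iff_pow_eq_one.mp hk.dvd)
    simpa using this
  · have := CL.isSolvable_map (Subgroup.closure ({u, ⟨σ, Equiv.Perm.mem_alternatingGroup.mpr hσ⟩ *
      w * ⟨σ, Equiv.Perm.mem_alternatingGroup.mpr hσ⟩⁻¹} : Set (alternatingGroup (Fin n))))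
      (alternatingGroup (Fin n)).subtype
    rw [MonoidHom.map_closure, Set.image_pair] at this
    exact this

end Cfsg.Agent.S2276
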