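import Mathlib
import Cfsg.Statements.S2277
import Cfsg.Agent.SOLV.CoprimeGen
import Cfsg.Agent.SOLV.Basic

set_option autoImplicit false
open Cfsg

namespace Cfsg.Agent.S2277

open Subgroup CL
open scoped commutatorElement Pointwise

structure Hyp (p : ℕ) {G : Type*} [Group G] (P N : Subgroup G) (C D : Set G) : Prop where
  pP : IsPGroup p P
  nN : N.Normal
  cop : (Nat.card N).Coprime p
  sup : N ⊔ P = ⊤
  hC : closure C = P
  hD : closure D = P
  h : ∀ x ∈ N, ∀ c ∈ C, ∀ d ∈ D, IsPGroup p ↥(closure ({x * c * x⁻¹, d} : Set G))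

section
variable {p : ℕ} [Fact p.Prime] {G : Type*} [Group G] [Finite G] {P N : Subgroup G} {C D : Set G}

theorem Hyp.map (h : Hyp p P N C D) {H : Type*} [Group H] (f : G →* H) (hf : Function.Surjective f) :
    Hyp p (P.map f) (N.map f) (f '' C) (f '' D) where
  pP := h.pP.map f
  nN := h.nN.map f hf
  cop := Nat.Coprime.coprime_dvd_left (card_map_dvd _ _) h.cop
  sup := by rw [← Subgroup.map_sup, h.sup, ← MonoidHom.range_eq_map, MonoidHom.range_eq_top.2 hf]
  hC := by rw [← MonoidHom.map_closure, h.hC]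
  hD := by rw [← MonoidHom.map_closure, h.hD]
  h := by
    rintro _ ⟨x, hx, rfl⟩ _ ⟨c, hc, rfl⟩ _ ⟨d, hd, rfl⟩
    have := (h.h x hx c hc d hd).map f
    rwa [MonoidHom.map_closure, Set.image_pair, map_mul, map_mul, map_inv] at this

theorem Hyp.sub (h : Hyp p P N C D) {M : Subgroup G} (hM : M ≤ N) (hP : P ≤ normalizer (M : Set G)) :
    Hyp p (P.subgroupOf (M ⊔ P)) (M.subgroupOf (M ⊔ P)) ((M ⊔ P).subtype ⁻¹' C) ((M ⊔ P).subtype ⁻¹' D) := by
  have hj := (M ⊔ P).subtype_injective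
  have key : ∀ E : Set G, closure E = P → closure ((M ⊔ P).subtype ⁻¹' E) = P.subgroupOf (M ⊔ P) := fun E hE => by
    apply map_injective hj
    rw [MonoidHom.map_closure, Set.image_preimage_eq_of_subset, hE, subgroupOf_map_subtype, inf_of_le_left le_sup_right]
    intro e he
    exact ⟨⟨e, mem_sup_right (hE ▸ subset_closure he)⟩, rfl⟩
  refine ⟨h.pP.of_equiv (subgroupOfEquivOfLe le_sup_right).symm,
    (normal_subgroupOf_iff_le_normalizer le_sup_left).2 (sup_le le_normalizer hP), ?_, ?_, key C h.hC, key D h.hD, ?_⟩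
  · rw [Nat.card_congr (subgroupOfEquivOfLe le_sup_left).toEquiv]
    exact Nat.Coprime.coprime_dvd_left (card_dvd_of_le hM) h.cop
  · rw [← subgroupOf_sup le_sup_left le_sup_right, subgroupOf_self]
  · intro x hx c hc d hd
    have := h.h x (hM hx) c hc d hd
    refine IsPGroup.of_equiv ?_ (equivMapOfInjective _ _ hj).symm
    rwa [MonoidHom.map_closure, Set.image_pair]

theorem Hyp.cop' (h : Hyp p P N C D) {A M : Subgroup G} (hA : IsPGroup p A) (hM : M ≤ N) :
    (Nat.card A).Coprime (Nat.card M) :=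
  (coprime_card_of_isPGroup hA (Nat.Coprime.coprime_dvd_left (card_dvd_of_le hM) h.cop)).symm

theorem Hyp.eq_one (h : Hyp p P N C D) {x : G} (hx : x ∈ P) (hx' : x ∈ N) : x = 1 := by
  have := (inf_eq_bot_of_coprime (h.cop' h.pP le_rfl)).le (⟨hx, hx'⟩ : x ∈ P ⊓ N)
  exact mem_bot.1 this

theorem Hyp.card_le (h : Hyp p P N C D) {c d : G} (hc : c ∈ C) (hd : d ∈ D) :
    Nat.card N ≤ Nat.card (N ⊓ centralizer {d} : Subgroup G) * Nat.card (N ⊓ centralizer {c} : Subgroup G) := by
  have := h.nN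
  rw [← Nat.card_prod]
  refine Nat.card_le_card_of_surjective (fun x => ⟨x.1.1 * x.2.1, mul_mem x.1.2.1 x.2.2.1⟩) fun ⟨x, hx⟩ => ?_
  have hp := h.h x hx c hc d hd
  obtain ⟨k, hk, hle⟩ := coprime_le_conj_of_le_sup _ N P le_normalizer_of_normal (h.sup ▸ le_top)
    (h.cop' hp le_rfl) (Or.inl (isSolvable_of_isPGroup hp))
  have key : ∀ y ∈ N, ∀ e ∈ P, y * e * y⁻¹ ∈ P → y ∈ centralizer {e} := fun y hy e he h1 => by
    rw [mem_centralizer_singleton_iff, ← mul_inv_eq_iff_eq_mul, ← mul_inv_eq_one]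
    refine h.eq_one (mul_mem h1 (inv_mem he)) ?_
    rw [mul_assoc, mul_assoc, ← mul_assoc e]
    exact mul_mem hy (this.conj_mem _ (inv_mem hy) e)
  have h1 := hle (subset_closure (Set.mem_insert _ _))
  have h2 := hle (subset_closure (Set.mem_insert_of_mem _ rfl))
  rw [mem_pointwise_smul_iff_inv_smul_mem, ← map_inv, MulAut.smul_def, MulAut.conj_apply] at h1 h2
  have hk' := N.inv_mem hk
  have a1 : k ∈ centralizer {d} := (Subgroup.inv_mem_iff _).1 (key _ hk' d (h.hD ▸ subset_closure hd) h2)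
  have a2 := key _ (N.mul_mem hk' hx) c (h.hC ▸ subset_closure hc) (by convert h1 using 1; group)
  exact ⟨(⟨k, hk, a1⟩, ⟨k⁻¹ * x, N.mul_mem hk' hx, a2⟩), by simp⟩

theorem cube_le {N : Subgroup G} [hN : N.Normal] (hab : ∀ a ∈ N, ∀ b ∈ N, a * b = b * a) {c w z : G}
    (hz : w * c * w⁻¹ = c * z) (hzc : z * c = c * z) (hzw : z * w = w * z)
    (h1 : ∀ x ∈ N, x * z = z * x → x = 1) (h2 : ∀ x ∈ N, x * z ^ 2 = z ^ 2 * x → x = 1) :
    Nat.card (N ⊓ centralizer {c} : Subgroup G) ^ 3 ≤ Nat.card N := by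
  have hz2 : w ^ 2 * c * (w ^ 2)⁻¹ = c * z ^ 2 := by
    calc w ^ 2 * c * (w ^ 2)⁻¹ = w * (w * c * w⁻¹) * w⁻¹ := by rw [sq]; group
      _ = w * (c * z) * w⁻¹ := by rw [hz]
      _ = (w * c * w⁻¹) * (w * z * w⁻¹) := by group
      _ = _ := by rw [hz, ← hzw, sq]; group
  have hcj : ∀ g : G, Nat.card (N ⊓ centralizer {g * c * g⁻¹} : Subgroup G) =
      Nat.card (N ⊓ centralizer {c} : Subgroup G) := fun g => by
    refine Nat.card_congr ⟨fun x => ⟨g⁻¹ * x * g, by simpa using hN.conj_mem _ x.2.1 g⁻¹, ?_⟩,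
      fun x => ⟨g * x * g⁻¹, hN.conj_mem _ x.2.1 g, ?_⟩, fun x => by ext; simp [mul_assoc], fun x => by ext; simp [mul_assoc]⟩
    · have := mem_centralizer_singleton_iff.1 x.2.2
      refine mem_centralizer_singleton_iff.2 ?_
      calc g⁻¹ * x * g * c = g⁻¹ * (x * (g * c * g⁻¹)) * g := by group
        _ = _ := by rw [this]; group
    · have := mem_centralizer_singleton_iff.1 x.2.2
      refine mem_centralizer_singleton_iff.2 ?_
      calc g * x * g⁻¹ * (g * c * g⁻¹) = g * (x * c) * g⁻¹ := by group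
        _ = _ := by rw [this]; group
  have e1 := hcj w
  have e2 := hcj (w ^ 2)
  rw [hz] at e1
  rw [hz2] at e2
  have c1 : Commute c z := hzc.symm
  rw [pow_three]
  nth_rewrite 2 [← e1]
  nth_rewrite 2 [← e2]
  rw [← Nat.card_prod, ← Nat.card_prod]
  let f : (N ⊓ centralizer {c} : Subgroup G) × (N ⊓ centralizer {c * z} : Subgroup G) ×
      (N ⊓ centralizer {c * z ^ 2} : Subgroup G) →* N :=
    { toFun := fun x => ⟨x.1.1 * x.2.1.1 * x.2.2.1, mul_mem (mul_mem x.1.2.1 x.2.1.2.1) x.2.2.2.1⟩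
      map_one' := by ext; simp
      map_mul' := fun x y => by
        ext
        simp only [Prod.fst_mul, Prod.snd_mul, Subgroup.coe_mul]
        have a1 : Commute (y.1 : G) x.2.1 := hab _ y.1.2.1 _ x.2.1.2.1
        have a2 : Commute (y.1 : G) x.2.2 := hab _ y.1.2.1 _ x.2.2.2.1
        have a3 : Commute (y.2.1 : G) x.2.2 := hab _ y.2.1.2.1 _ x.2.2.2.1
        simp only [mul_assoc, a1.left_comm, a2.left_comm, a3.left_comm] }
  refine Nat.card_le_card_of_injective f ((injective_iff_map_eq_one f).2 ?_)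
  rintro ⟨⟨a, ha, ha'⟩, ⟨b, hb, hb'⟩, ⟨d, hd, hd'⟩⟩ he
  have he' : a * b * d = 1 := congrArg Subtype.val he
  have ha1 : Commute a c := mem_centralizer_singleton_iff.1 ha'
  have hb1 : Commute b (c * z) := mem_centralizer_singleton_iff.1 hb'
  have hd1 : Commute d (c * z ^ 2) := mem_centralizer_singleton_iff.1 hd'
  have hm : ∀ x ∈ N, c * x * c⁻¹ * x⁻¹ ∈ N := fun x hx => mul_mem (hN.conj_mem _ hx c) (inv_mem hx)
  have k1 : c * d⁻¹ * c⁻¹ * d⁻¹⁻¹ = c * b * c⁻¹ * b⁻¹ := by
    have : d⁻¹ = a * b := (eq_inv_of_mul_eq_one_left he').symm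
    rw [this, mul_inv_rev, ← mul_assoc c, ← ha1.eq]
    have := hab _ ha _ (hm b hb)
    calc a * c * b * c⁻¹ * (b⁻¹ * a⁻¹) = a * (c * b * c⁻¹ * b⁻¹) * a⁻¹ := by group
      _ = _ := by rw [this]; group
  have k2 : Commute (c * b * c⁻¹ * b⁻¹) (c * z) :=
    (((Commute.refl c).mul_right c1).mul_left hb1).mul_left ((Commute.refl c).mul_right c1).inv_left
      |>.mul_left hb1.inv_left
  have k3 : Commute (c * b * c⁻¹ * b⁻¹) (c * z ^ 2) := by
    rw [← k1]
    exact (((Commute.refl c).mul_right (c1.pow_right 2)).mul_left hd1.inv_left).mul_left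
      ((Commute.refl c).mul_right (c1.pow_right 2)).inv_left |>.mul_left hd1.inv_left.inv_left
  have k4 : c * b * c⁻¹ * b⁻¹ = 1 := h1 _ (hm b hb) (by
    have := k2.inv_right.mul_right k3
    rwa [show (c * z)⁻¹ * (c * z ^ 2) = z by group] at this)
  have k5 : Commute b c := (commutatorElement_eq_one_iff_commute.1 k4).symm
  have hb0 : b = 1 := h1 _ hb (by simpa using (k5.inv_right.mul_right hb1).eq)
  have k6 : Commute d c := by
    have : d = a⁻¹ := by rw [hb0, mul_one] at he'; exact eq_inv_of_mul_eq_one_right he'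
    rw [this]; exact ha1.inv_left
  have hd0 : d = 1 := h2 _ hd (by simpa using (k6.inv_right.mul_right hd1).eq)
  have ha0 : a = 1 := by simpa [hb0, hd0] using he'
  ext <;> simp [ha0, hb0, hd0]

end

universe u in
theorem main {p : ℕ} [Fact p.Prime] (hp3 : 3 ≤ p) (n : ℕ) : ∀ (G : Type u) [Group G] [Finite G], Nat.card G = n →
    ∀ (P N : Subgroup G) (C D : Set G), Hyp p P N C D → N ≤ centralizer (P : Set G) := by
  induction n using Nat.strong_induction_on with
  | _ n ih =>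
  intro G _ _ hn P N C D h
  have := h.nN
  have hsub : ∀ M : Subgroup G, M < N → P ≤ normalizer (M : Set G) → M ≤ centralizer (P : Set G) := by
    intro M hM hP m hm g hg
    have hne : M ⊔ P ≠ ⊤ := fun e => by
      obtain ⟨x, hx, hx'⟩ := SetLike.exists_of_lt hM
      have : x ∈ ((M ⊔ P : Subgroup G) : Set G) := by rw [e]; trivial
      rw [coe_mul_of_right_le_normalizer_left _ _ hP] at this
      obtain ⟨a, ha, b, hb, rfl⟩ := this
      have hb1 := h.eq_one hb ((Subgroup.mul_mem_cancel_left _ (hM.le ha)).1 hx)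
      exact hx' (by simpa [hb1] using ha)
    have := ih _ (hn ▸ (card_le_card_group _).lt_of_ne (mt (card_eq_iff_eq_top _).1 hne)) _ rfl _ _ _ _
      (h.sub hM.le hP) (show (⟨m, mem_sup_left hm⟩ : (M ⊔ P : Subgroup G)) ∈ _ from hm) ⟨g, mem_sup_right hg⟩ hg
    exact congrArg Subtype.val this
  have hquo : ∀ (M : Subgroup G) [M.Normal], M ≠ ⊥ → ⁅N, P⁆ ≤ M := by
    intro M _ hM
    have hlt : Nat.card (G ⧸ M) < n := by
      rw [← hn, card_eq_card_quotient_mul_card_subgroup M]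
      exact (Nat.lt_mul_iff_one_lt_right Nat.card_pos).2 (one_lt_card_iff_ne_bot M |>.2 hM)
    have := ih _ hlt _ rfl _ _ _ _ (h.map (QuotientGroup.mk' M) (QuotientGroup.mk'_surjective M))
    rw [commutator_le]
    intro x hx g hg
    rw [← QuotientGroup.eq_one_iff, ← QuotientGroup.mk'_apply, map_commutatorElement,
      commutatorElement_eq_one_iff_mul_comm]
    exact (this ⟨x, hx, rfl⟩ _ ⟨g, hg, rfl⟩).symm
  by_contra hne
  have hmin : ∀ (M : Subgroup G) [M.Normal], M ≤ N → M = ⊥ ∨ M = N := by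
    intro M _ hM
    by_contra hc
    push Not at hc
    exact hne (coprime_le_centralizer_of_trivial_on_factors P N M le_normalizer_of_normal (h.cop' h.pP hM)
      (hsub M (hM.lt_of_ne hc.2) le_normalizer_of_normal) (hquo M hc.1))
  have hNb : N ≠ ⊥ := by rintro rfl; exact hne bot_le
  have hab : ∀ a ∈ N, ∀ b ∈ N, a * b = b * a := by
    obtain ⟨r, _, hr⟩ : ∃ (r : ℕ) (_ : Fact r.Prime), IsPGroup r N := by
      by_contra hc
      refine hne (le_of_exists_sylow_le fun r _ => ?_)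
      obtain ⟨R, hR⟩ := coprime_exists_invariant_sylow P N le_normalizer_of_normal (h.cop' h.pP le_rfl)
        (Or.inl (isSolvable_of_isPGroup h.pP)) r
      refine ⟨R, hsub _ ((map_subtype_le _).lt_of_ne fun e => hc ⟨r, inferInstance, ?_⟩) hR⟩
      exact e ▸ R.2.map N.subtype
    have : Nontrivial N := (nontrivial_iff_ne_bot N).2 hNb
    have := hr.center_nontrivial
    rcases hmin ((center N).map N.subtype) (map_subtype_le _) with e | e
    · rw [map_eq_bot_iff_of_injective _ N.subtype_injective] at e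
      exact absurd e ((nontrivial_iff_ne_bot _).1 this)
    · intro a ha b hb
      rw [← e] at hb
      obtain ⟨b, hb, rfl⟩ := hb
      exact congrArg Subtype.val (mem_center_iff.1 hb ⟨a, ha⟩)
  have hnorm : ∀ K : Subgroup G, N ≤ normalizer (K : Set G) → P ≤ normalizer (K : Set G) → K.Normal := fun K a b => by
    rw [← normalizer_eq_top_iff, eq_top_iff, ← h.sup]; exact sup_le a b
  have hfaith : ∀ z ∈ P, (∀ x ∈ N, x * z = z * x) → z = 1 := by
    have : (P ⊓ centralizer (N : Set G)).Normal := hnorm _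
      (le_trans (b := centralizer _) (fun x hx y hy => (hy.2 x hx).symm) (centralizer_le_normalizer _))
      fun g hg => mem_normalizer_fintype fun y hy => ⟨P.mul_mem (P.mul_mem hg hy.1) (P.inv_mem hg),
        (inferInstance : (centralizer (N : Set G)).Normal).conj_mem _ hy.2 g⟩
    intro z hz hz'
    by_contra h1
    have h2 := hquo (P ⊓ centralizer (N : Set G)) fun e => h1 (mem_bot.1 (e.le ⟨hz, hz'⟩))
    refine hne fun x hx g hg => ?_
    have h3 := commutator_mem_commutator hx hg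
    exact (commutatorElement_eq_one_iff_mul_comm.1 (h.eq_one (h2 h3).1 (commutator_le_left _ _ h3))).symm
  have hfpf : ∀ z ∈ P, z ≠ 1 → (∀ g ∈ P, g * z = z * g) → ∀ x ∈ N, x * z = z * x → x = 1 := by
    intro z hz h1 hz' x hx hxz
    have : (N ⊓ centralizer {z}).Normal := hnorm _
      (le_trans (b := centralizer _) (fun x hx y hy => hab _ hy.1 _ hx) (centralizer_le_normalizer _))
      fun g hg => mem_normalizer_fintype fun y hy => ⟨this.conj_mem _ hy.1 g, by
        have a : Commute y z := mem_centralizer_singleton_iff.1 hy.2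
        have b : Commute g z := hz' g hg
        exact mem_centralizer_singleton_iff.2 ((b.mul_left a).mul_left b.inv_left)⟩
    rcases hmin (N ⊓ centralizer {z}) inf_le_left with e | e
    · exact mem_bot.1 (e.le ⟨hx, mem_centralizer_singleton_iff.2 hxz⟩)
    · exact absurd (hfaith z hz fun y hy => mem_centralizer_singleton_iff.1 (e.ge hy).2) h1
  have key : ∀ E : Set G, closure E = P → ∃ c ∈ E, Nat.card (N ⊓ centralizer {c} : Subgroup G) ^ 3 ≤ Nat.card N := by
    intro E hE
    have hEP : ∀ c ∈ E, c ∈ P := fun c hc => hE ▸ subset_closure hc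
    by_cases hP : center P = ⊤
    · obtain ⟨c, hc, hc1⟩ : ∃ c ∈ E, c ≠ 1 := by
        by_contra hc
        push Not at hc
        have : P = ⊥ := by rw [← hE, closure_eq_bot_iff]; exact hc
        exact hne fun x _ g hg => by rw [this] at hg; simp [mem_bot.1 hg]
      refine ⟨c, hc, ?_⟩
      have : N ⊓ centralizer {c} = ⊥ := eq_bot_iff.2 fun x hx => hfpf c (hEP c hc) hc1 (fun g hg =>
        congrArg Subtype.val (mem_center_iff.1 (hP.ge (mem_top (⟨c, hEP c hc⟩ : P))) ⟨g, hg⟩)) x hx.1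
        (mem_centralizer_singleton_iff.1 hx.2)
      rw [this, card_bot, one_pow]
      exact Nat.card_pos
    · have : Nontrivial (P ⧸ center P) := QuotientGroup.nontrivial_iff.2 hP
      have := (h.pP.to_quotient (center P)).center_nontrivial
      obtain ⟨⟨w, hw⟩, hw1⟩ := exists_ne (1 : center (P ⧸ center P))
      obtain ⟨w, rfl⟩ := QuotientGroup.mk_surjective w
      have hw2 : w ∉ center P := fun e => hw1 (Subtype.ext ((QuotientGroup.eq_one_iff _).2 e))
      obtain ⟨c, hc, hcw⟩ : ∃ c ∈ E, c * w ≠ w * c := by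
        by_contra hc
        push Not at hc
        have : P ≤ centralizer {(w : G)} :=
          hE.ge.trans ((closure_le _).2 fun c h => mem_centralizer_singleton_iff.2 (hc c h))
        exact hw2 (mem_center_iff.2 fun g => Subtype.ext (mem_centralizer_singleton_iff.1 (this g.2)))
      have hz : (⟨c, hEP c hc⟩ : P)⁻¹ * (w * ⟨c, hEP c hc⟩ * w⁻¹) ∈ center P := by
        rw [← QuotientGroup.eq_one_iff]
        simp only [QuotientGroup.mk_mul, QuotientGroup.mk_inv]
        rw [← mem_center_iff.1 hw]; group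
      obtain ⟨w, hwP⟩ := w
      have hz' : ∀ g ∈ P, g * (c⁻¹ * (w * c * w⁻¹)) = (c⁻¹ * (w * c * w⁻¹)) * g := fun g hg =>
        congrArg Subtype.val (mem_center_iff.1 hz ⟨g, hg⟩)
      have hzP : c⁻¹ * (w * c * w⁻¹) ∈ P := ((⟨c, hEP c hc⟩ : P)⁻¹ * (⟨w, hwP⟩ * ⟨c, hEP c hc⟩ * ⟨w, hwP⟩⁻¹)).2
      have hz1 : c⁻¹ * (w * c * w⁻¹) ≠ 1 := fun e => hcw (by
        rw [inv_mul_eq_one, eq_mul_inv_iff_mul_eq] at e; exact e)
      refine ⟨c, hc, cube_le hab (w := w) (z := c⁻¹ * (w * c * w⁻¹)) (by group) (hz' c (hEP c hc)).symm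
        (hz' _ hwP).symm (hfpf _ hzP hz1 hz') (hfpf _ (pow_mem hzP 2) (fun e => hz1 ?_)
          fun g hg => (Commute.pow_right (hz' g hg) 2).eq)⟩
      obtain ⟨k, hk⟩ := h.pP ⟨_, hzP⟩
      have h1 : (c⁻¹ * (w * c * w⁻¹)) ^ p ^ k = 1 := congrArg Subtype.val hk
      have h2 := pow_gcd_eq_one.2 ⟨e, h1⟩
      rwa [(Nat.Coprime.pow_right k ((Nat.coprime_primes Nat.prime_two Fact.out).2 (by omega))).gcd_eq_one,
        pow_one] at h2
  obtain ⟨c, hc, hc'⟩ := key C h.hC
  obtain ⟨d, hd, hd'⟩ := key D h.hD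
  have h1 := Nat.pow_le_pow_left (h.card_le hc hd) 3
  have h2 : 1 < Nat.card N := (one_lt_card_iff_ne_bot N).2 hNb
  rw [mul_pow] at h1
  have h3 := h1.trans (Nat.mul_le_mul hd' hc')
  rw [← sq] at h3
  exact absurd ((Nat.pow_le_pow_iff_right h2).1 h3) (by norm_num)


/-- Let p ≥ 3 be prime and G a finite group with a Sylow p-subgroup P and a normal p-complement N (N normal, of order prime to p, with NP = G). Suppose P is generated by a subset C and also by a subset D, and that ⟨x c x⁻¹, d⟩ is a p-group for all x ∈ N, c ∈ C, d ∈ D. Then P centralizes N, so that G = N × P. -/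
theorem result {G : Type*} [Group G] [Finite G] (p : ℕ) [Fact p.Prime] (hp3 : 3 ≤ p) (P : Sylow p G)
    (N : Subgroup G) [N.Normal] (hN : (Nat.card N).Coprime p) (hNP : N ⊔ (P : Subgroup G) = ⊤)
    (C D : Set G) (hC : Subgroup.closure C = (P : Subgroup G)) (hD : Subgroup.closure D = (P : Subgroup G))
    (h : ∀ x ∈ N, ∀ c ∈ C, ∀ d ∈ D, IsPGroup p ↥(Subgroup.closure ({x * c * x⁻¹, d} : Set G))) :
    ⁅(P : Subgroup G), N⁆ = ⊥ := by
  rw [commutator_comm, commutator_eq_bot_iff_le_centralizer]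
  exact main hp3 _ G rfl P N C D ⟨P.2, inferInstance, hN, hNP, hC, hD, h⟩

end Cfsg.Agent.S2277
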