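import Cfsg.Statements.S2343
import Mathlib
import Cfsg.Agent.CHEV.ReeConcrete
import Cfsg.Agent.CHEV.ReeTori
import Cfsg.Agent.KSG.LSWeight
import Cfsg.Agent.S1073

set_option autoImplicit false
open Cfsg

namespace Cfsg.Agent.S2343

open Module CL.LS

theorem repr_of_eigen {M ι : Type*} [AddCommGroup M] [Module ℂ M] (b : Basis ι ℂ M) {X : Module.End ℂ M}
    {c : ι → ℂ} (h : ∀ i, X (b i) = c i • b i) (w : M) (i : ι) : b.repr (X w) i = c i * b.repr w i := by
  classical
  have : (b.coord i).comp X = c i • b.coord i := b.ext fun j => by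
    simp only [LinearMap.comp_apply, h, map_smul, LinearMap.smul_apply, Basis.coord_apply, Basis.repr_self,
      smul_eq_mul, Finsupp.single_apply]
    split_ifs with hj
    · rw [hj]
    · simp
  exact LinearMap.congr_fun this w

theorem four_dvd {M : Type*} [AddCommGroup M] [Module ℂ M] [FiniteDimensional ℂ M] {a b : Module.End ℂ M}
    (ha : a * a = 1) (hb : b * b = 1) (hab : a * b = b * a) (ta : LinearMap.trace ℂ M a = 0)
    (tb : LinearMap.trace ℂ M b = 0) (tab : LinearMap.trace ℂ M (a * b) = 0) : 4 ∣ finrank ℂ M := by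
  have he : ((4 : ℂ)⁻¹ • (1 + a + b + a * b)) * ((4 : ℂ)⁻¹ • (1 + a + b + a * b)) =
      (4 : ℂ)⁻¹ • (1 + a + b + a * b) := by
    have h1 : a * (a * b) = b := by rw [← mul_assoc, ha, one_mul]
    have h2 : b * (a * b) = a := by rw [hab, ← mul_assoc, hb, one_mul]
    have h3 : a * b * a = b := by rw [hab, mul_assoc, ha, mul_one]
    have h4 : a * b * b = a := by rw [mul_assoc, hb, mul_one]
    have h5 : a * b * (a * b) = 1 := by rw [mul_assoc, h2, ha]
    rw [smul_mul_smul_comm]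
    simp only [add_mul, mul_add, one_mul, mul_one, ha, hb, h1, h2, h3, h4, h5, ← hab]
    module
  have := (LinearMap.IsIdempotentElem.isProj_range _ he).trace
  rw [map_smul, map_add, map_add, map_add, ta, tb, tab, LinearMap.trace_one] at this
  refine ⟨finrank ℂ (LinearMap.range ((4 : ℂ)⁻¹ • (1 + a + b + a * b))), ?_⟩
  have h : (finrank ℂ M : ℂ) = 4 * finrank ℂ (LinearMap.range ((4 : ℂ)⁻¹ • (1 + a + b + a * b))) := by
    rw [← this]; simp
  exact_mod_cast h

theorem main {F : Type*} [Field F] [CharP F 3] [Finite F] {σ : F →+* F} {G : Type*} [Group G] [IsSimpleGroup G]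
    (M : CL.Ree.Model σ G) {W : Type*} [AddCommGroup W] [Module ℂ W] [FiniteDimensional ℂ W]
    (ρ : Representation ℂ G W) (hρ : ρ.IsIrreducible) (h2 : 2 ≤ finrank ℂ W) :
    Nat.card F ^ 2 - Nat.card F + 1 ≤ finrank ℂ W := by
  classical
  have hker : ∀ g, ρ g = 1 → g = 1 := by
    obtain ⟨g, hg⟩ := exists_ne_one_of_irreducible ρ hρ h2
    rcases IsSimpleGroup.eq_bot_or_eq_top_of_normal (MonoidHom.ker ρ.asGroupHom) inferInstance with h | h
    · intro k hk
      have : k ∈ MonoidHom.ker ρ.asGroupHom := Units.ext hk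
      rwa [h, Subgroup.mem_bot] at this
    · have : g ∈ MonoidHom.ker ρ.asGroupHom := h ▸ Subgroup.mem_top g
      exact absurd (congrArg Units.val this) hg
  let X : F × F → Module.End ℂ W := fun p => ρ (M.u 0 p.1 p.2)
  have hmul : ∀ p p', X p * X p' = X (p + p') := fun p p' => by
    simp only [X, ← map_mul, M.u_zero_mul, Prod.fst_add, Prod.snd_add]
  have hX : ∀ i j, Commute (X i) (X j) := fun i j => by
    rw [Commute, SemiconjBy, hmul, hmul, add_comm]
  obtain ⟨ψ, hψ⟩ := exists_addChar_ne_one (F := F) (K := ℂ) (by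
    rw [ringChar.eq F 3, ringChar.eq ℂ 0]; norm_num)
  let lam : F × Fˣ → F × F → ℂ := fun c p => ψ (p.1 * c.1 + p.2 * c.2)
  have hinj : Function.Injective lam := fun c c' h => by
    refine Prod.ext (eq_of_addChar hψ fun t => ?_) (Units.ext (eq_of_addChar hψ fun t => ?_))
    · simpa [lam] using congrFun h (t, 0)
    · simpa [lam] using congrFun h (0, t)
  have htr : ∀ (c : F × Fˣ) (a : F) (l : Fˣ) (c' : F × Fˣ), c'.1 = l * σ l * (c.1 + a * c.2) →
      (c'.2 : F) = l ^ 2 * σ l * c.2 → ∀ v ∈ wsp X (lam c), ρ (M.u a 0 0 * M.h l)⁻¹ v ∈ wsp X (lam c') := by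
    intro c a l c' e1 e2 v hv
    refine mem_wsp.mpr fun p => ?_
    have : M.u 0 p.1 p.2 * (M.u a 0 0 * M.h l)⁻¹ = (M.u a 0 0 * M.h l)⁻¹ *
        M.u 0 (l * σ l * p.1) (l ^ 2 * σ l * p.2 + a * (l * σ l * p.1)) := by
      rw [← M.B_conj_u_zero a 0 0]; group
    have h3 := mem_wsp.mp hv (l * σ l * p.1, l ^ 2 * σ l * p.2 + a * (l * σ l * p.1))
    simp only [X] at h3 ⊢
    rw [← Module.End.mul_apply, ← map_mul, this, map_mul, Module.End.mul_apply, h3, map_smul]
    congr 1
    simp only [lam, e1, e2]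
    congr 1
    ring
  have hex : ∀ c, ∃ v ∈ wsp X (lam c), v ≠ 0 := by
    obtain ⟨μ, hμ, hμ1⟩ := exists_wsp_ne_one hX (i₀ := (0, 1)) (p := 3)
      (fun h => one_ne_zero (M.u_eq_one_iff.mp (hker _ h)).2.2) (by norm_num)
      (by simp only [X]; rw [← map_pow, M.u_zero_cube, map_one])
    have h0 : μ 0 = 1 := wt_one hμ (by simp [X, M.u_zero])
    obtain ⟨α, hα⟩ := exists_mul hψ (fun y => μ (y, 0)) h0 fun x y => wt_mul hμ (by rw [hmul]; simp)
    obtain ⟨β, hβ⟩ := exists_mul hψ (fun z => μ (0, z)) h0 fun x y => wt_mul hμ (by rw [hmul]; simp)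
    have hβ0 : β ≠ 0 := by
      rintro rfl
      exact hμ1 (by simpa using hβ 1)
    have hμe : μ = lam (α, Units.mk0 β hβ0) := funext fun p => by
      rw [wt_mul hμ (i := (p.1, 0)) (j := (0, p.2)) (k := p) (by rw [hmul]; simp), hα, hβ]
      simp [lam, AddChar.map_add_eq_mul]
    obtain ⟨v, hv, hv0⟩ := (Submodule.ne_bot_iff _).mp hμ
    rw [hμe] at hv
    intro c
    have ht : (c.2 : F) / β ≠ 0 := div_ne_zero c.2.ne_zero hβ0
    have hs := CL.Ree.Model.σ_ne_zero (σ := σ) ht
    set t := (c.2 : F) / β with htdef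
    let l : Fˣ := Units.mk0 (t ^ 2 / σ t) (div_ne_zero (pow_ne_zero 2 ht) hs)
    have hl := mul_ne_zero l.ne_zero (CL.Ree.Model.σ_ne_zero (σ := σ) l.ne_zero)
    refine ⟨_, htr _ ((c.1 / (l * σ l) - α) / β) l c ?_ ?_ v hv, fun h => hv0 (injective_rep ρ _ (by rw [h, map_zero]))⟩
    · simp only [Units.val_mk0]
      field_simp
      ring
    · simp only [l, Units.val_mk0, map_div₀, map_pow, M.tits]
      rw [← div_mul_cancel₀ (c.2 : F) hβ0, ← htdef]
      field_simp
  choose v hv hv0 using hex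
  have hli : LinearIndependent ℂ v := ((iSupIndep_wsp hX).comp hinj).linearIndependent _ hv hv0
  let _ := Fintype.ofFinite F
  have hcard : Fintype.card (F × Fˣ) = Nat.card F * (Nat.card F - 1) := by
    rw [Fintype.card_prod, Fintype.card_units, Nat.card_eq_fintype_card]
  have hle := hli.fintype_card_le_finrank
  obtain ⟨k, hk⟩ := M.exists_card_eq_mul
  have hsq : Nat.card F ^ 2 - Nat.card F = Nat.card F * (Nat.card F - 1) := by rw [Nat.mul_sub_one, sq]
  rw [hsq]
  refine Nat.succ_le_of_lt (lt_of_le_of_ne (hcard ▸ hle) fun heq => ?_)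
  let b := basisOfLinearIndependentOfCardEqFinrank hli (hcard.trans heq)
  have hb : ∀ c, b c = v c := fun c => by simp [b]
  have tε : LinearMap.trace ℂ W (ρ M.ε) = 0 := by
    rw [LinearMap.trace_eq_matrix_trace ℂ b, Matrix.trace]
    refine Finset.sum_eq_zero fun c _ => ?_
    rw [Matrix.diag_apply, LinearMap.toMatrix_apply]
    have h1 := htr c 0 (-1) (c.1, -c.2) (by simp) (by simp) _ (hv c)
    rw [M.u_zero, one_mul, ← hb] at h1
    replace h1 : ρ M.ε (b c) ∈ wsp X (lam (c.1, -c.2)) := by rw [← M.ε_inv]; exact h1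
    obtain ⟨p, hp⟩ := Function.ne_iff.mp (hinj.ne (a₁ := c) (a₂ := (c.1, -c.2)) fun h =>
      CL.Ree.units_neg_one_ne_one (F := F) (mul_right_cancel (b := c.2) (by simpa using (congrArg Prod.snd h).symm)))
    have h3 := repr_of_eigen b (X := X p) (c := fun c => lam c p) (fun i => by rw [hb]; exact mem_wsp.mp (hv i) p)
      (ρ M.ε (b c)) c
    rw [mem_wsp.mp h1 p, map_smul, Finsupp.smul_apply, smul_eq_mul] at h3
    exact (mul_eq_zero.mp (by linear_combination -h3)).resolve_left (sub_ne_zero.mpr hp)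
  have tinv : ∀ g, g ≠ 1 → g * g = 1 → LinearMap.trace ℂ W (ρ g) = 0 := fun g h1 h2 => by
    obtain ⟨c, rfl⟩ := isConj_iff.mp (M.isConj_ε h1 h2)
    rw [map_mul, LinearMap.trace_mul_comm, ← map_mul, inv_mul_cancel_left, tε]
  have h4 := four_dvd (a := ρ M.ε) (b := ρ M.w) (by rw [← map_mul, M.ε_mul_ε, map_one])
    (by rw [← map_mul, M.w_mul_w, map_one]) (by rw [← map_mul, ← map_mul, M.ε_mul_w]) tε
    (tinv _ M.w_ne_one M.w_mul_w) (by rw [← map_mul]; exact tinv _ M.ε_w_ne_one M.ε_w_mul_self)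
  rw [← heq, hk] at h4
  have : (24 * k + 3) * (24 * k + 3 - 1) = 4 * (144 * k ^ 2 + 30 * k + 1) + 2 := by
    rw [show 24 * k + 3 - 1 = 24 * k + 2 by omega]; ring
  omega

/-- For the Ree group ²G₂(q), q = 3^(2m+1) with m ≥ 1 (realised over the field with q elements), every irreducible complex representation of degree at least 2 has degree at least q² − q + 1. -/
theorem result {K : Type*} [Field K] [Fintype K] (m : ℕ) (hm : 1 ≤ m) (hK : Fintype.card K = 3 ^ (2 * m + 1)) :
    (∀ (k : ℕ) (ρ : Representation ℂ (Cfsg.Lie.twistedG2 K (3 ^ m)) (Fin k → ℂ)), ρ.IsIrreducible → 2 ≤ k → (3 ^ (2 * m + 1)) ^ 2 - 3 ^ (2 * m + 1) + 1 ≤ k) := by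
  intro k ρ hρ hk
  have := CL.Ree.charP_three hK
  have hK' := Nat.card_eq_fintype_card.trans hK
  have := (Cfsg.Agent.S1073.result hm hK).1
  have h := main (CL.Ree.model hK') ρ hρ (by simpa using hk)
  rw [hK'] at h
  simpa using h

end Cfsg.Agent.S2343
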