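import Cfsg.Statements.S2470
import Cfsg.Agent.S2476

set_option autoImplicit false
open Cfsg

namespace Cfsg.Agent.S2470

open CL.GLn Polynomial Module

/-- An element of order `r * p` in `PSL_n` has an elementary divisor of exponent at least two. -/
theorem exists_two_le {F : Type*} [Field F] [Finite F] (p : ℕ) [Fact p.Prime] [CharP F p] {n : ℕ}
    {A : Matrix.SpecialLinearGroup (Fin n) F} {s : Multiset (F[X] × ℕ)}
    (hs : HasED (Matrix.toLin' (A : Matrix (Fin n) (Fin n) F)) s) {r : ℕ} (hr : r ≠ 0)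
    (hA : orderOf (QuotientGroup.mk A : Matrix.ProjectiveSpecialLinearGroup (Fin n) F) = r * p) :
    ∃ x ∈ s, 2 ≤ x.2 := by
  have hp : p.Prime := Fact.out
  obtain ⟨c, hc⟩ := (psl_pow_eq_one_iff A (p * r)).1 (by rw [mul_comm, ← hA, pow_orderOf_eq_one])
  refine hs.exists_two_le_exp p (sl_det_ne_zero A) hc fun c' hc' => ?_
  refine pow_ne_one_of_lt_orderOf hr ?_ ((psl_pow_eq_one_iff A r).2 ⟨c', hc'⟩)
  rw [hA]
  exact lt_mul_of_one_lt_right (by omega) hp.one_lt

theorem result {F : Type*} [Field F] [Fintype F] (p : ℕ) [Fact p.Prime] [CharP F p] (n : ℕ) (hn : 2 ≤ n) (hsmall : n = 2 → 4 ≤ Fintype.card F)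
    (r : ℕ) (hr : r.Prime) (hr2 : r ≠ 2) (hrp : r ≠ p) (hrG : r ∣ Nat.card (Matrix.ProjectiveSpecialLinearGroup (Fin n) F))
    (k : ℕ) (hk : k = orderOf ((Fintype.card F : ℕ) : ZMod r)) :
    (r * p ∉ Set.range (orderOf : Matrix.ProjectiveSpecialLinearGroup (Fin n) F → ℕ)) ↔
      (n - 2 < k ∨ (n = 3 ∧ r = 3 ∧ 3 ∣ Fintype.card F - 1 ∧ ¬ 9 ∣ Fintype.card F - 1)) := by
  have hp : p.Prime := Fact.out
  have := Fact.mk hr
  have hq : 2 ≤ Fintype.card F := Fintype.one_lt_card
  have hrp' : r.Coprime p := (Nat.coprime_primes hr hp).2 hrp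
  have hp1 := char_coprime_card_sub_one (F := F) p
  have hrk : r ∣ Fintype.card F ^ k - 1 :=
    (orderOf_dvd_iff_dvd_pow_sub_one (by omega)).1 (hk ▸ dvd_rfl)
  have hk0 : k ≠ 0 := by
    have h1 : ((Fintype.card F : ℕ) : ZMod r) ≠ 0 := by
      obtain ⟨f, -, hf⟩ := FiniteField.card F p
      rw [hf, Ne, ZMod.natCast_eq_zero_iff]
      exact fun h => hrp ((Nat.prime_dvd_prime_iff_eq hr hp).1 (hr.dvd_of_dvd_pow h))
    rw [hk]
    exact (isOfFinOrder_iff_pow_eq_one.2 ⟨r - 1, by have := hr.two_le; omega,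
      ZMod.pow_card_sub_one_eq_one h1⟩).orderOf_pos.ne'
  have := finiteDimensional_adjoinRoot ((monic_X_sub_C (1 : F)).pow 2).ne_zero
  have hroot : ∀ (j : ℕ) (c : F), AdjoinRoot.root ((X - C (1 : F)) ^ 2) ^ j = algebraMap F _ c ↔
      1 = c ∧ p ∣ j := fun j c => by
    rw [root_X_sub_C_pow_pow_eq_iff p one_ne_zero two_pos, clog_two hp, pow_one, one_pow]
  have hnorm : Algebra.norm F (AdjoinRoot.root ((X - C (1 : F)) ^ 2)) = 1 := by
    rw [norm_root_X_sub_C_pow 1 two_pos, one_pow]
  rw [Set.mem_range]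
  rcases eq_or_ne k 1 with rfl | hk1
  · rw [pow_one] at hrk
    obtain rfl | rfl | hn4 : n = 2 ∨ n = 3 ∨ 4 ≤ n := by omega
    · refine iff_of_true ?_ (Or.inl (by omega))
      rintro ⟨y, hy⟩
      induction y using QuotientGroup.induction_on with
      | H A =>
      obtain ⟨s, hs⟩ := exists_hasED (Matrix.toLin' (A : Matrix (Fin 2) (Fin 2) F))
      obtain ⟨x, hx, h2⟩ := exists_two_le p hs hr.ne_zero hy
      have h3 : (QuotientGroup.mk A : Matrix.ProjectiveSpecialLinearGroup (Fin 2) F) ^ p = 1 := by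
        rw [psl_pow_eq_one_iff]
        simp only [hs.matrix_pow_eq_algebraMap_iff' p (sl_det_ne_zero A)]
        rcases hs.1.cases_two (by simpa using hs.sum_eq_card) with
          ⟨P, hP, rfl⟩ | ⟨a, rfl⟩ | ⟨a, b, rfl⟩
        · obtain rfl := Multiset.mem_singleton.1 hx
          omega
        · simp [X_sub_C_dvd_X_pow_sub_C_iff, clog_two hp]
        · simp only [Multiset.insert_eq_cons, Multiset.mem_cons, Multiset.mem_singleton] at hx
          rcases hx with rfl | rfl <;> omega
      refine pow_ne_one_of_lt_orderOf hp.ne_zero ?_ h3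
      rw [hy]
      exact lt_mul_of_one_lt_left hp.pos hr.one_lt
    · rw [← Set.mem_range, Cfsg.Agent.S2476.result p]
      have hd : Nat.gcd 3 (Fintype.card F - 1) ∣ Fintype.card F - 1 := Nat.gcd_dvd_right _ _
      have h1 : ¬ r * p ∣ (Fintype.card F ^ 2 + Fintype.card F + 1) /
          Nat.gcd 3 (Fintype.card F - 1) := by
        intro h
        have h2 : Fintype.card F ^ 3 - 1 =
            (Fintype.card F - 1) * (Fintype.card F ^ 2 + Fintype.card F + 1) := by
          rw [← Cfsg.Agent.S2476.div_a hq, Nat.mul_div_cancel' (Nat.sub_one_dvd_pow_sub_one _ _)]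
        have h3 : Nat.gcd 3 (Fintype.card F - 1) ∣ Fintype.card F ^ 2 + Fintype.card F + 1 :=
          Cfsg.Agent.S2476.gcd_a hq ▸ Nat.gcd_dvd_left _ _
        have h4 := ((dvd_mul_left p r).trans h).trans (Nat.div_dvd_of_dvd h3)
        exact (hp.coprime_iff_not_dvd.1 (char_coprime_card_pow_sub_one (F := F) p three_ne_zero))
          (h2 ▸ h4.mul_left _)
      have h2 : ¬ r * p ∣ (Fintype.card F ^ 2 - 1) / Nat.gcd 3 (Fintype.card F - 1) := by
        intro h
        have h4 := ((dvd_mul_left p r).trans h).trans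
          (Nat.div_dvd_of_dvd (hd.trans (Nat.sub_one_dvd_pow_sub_one _ _)))
        exact (hp.coprime_iff_not_dvd.1 (char_coprime_card_pow_sub_one (F := F) p two_ne_zero)) h4
      have h3 : ¬ r * p ∣ Fintype.card F - 1 := fun h =>
        (hp.coprime_iff_not_dvd.1 hp1) ((dvd_mul_left p r).trans h)
      have h4 : ¬ (p = 2 ∧ r * p ∣ 4) := fun h =>
        hr2 ((Nat.prime_dvd_prime_iff_eq hr Nat.prime_two).1
          (hr.dvd_of_dvd_pow (n := 2) ((dvd_mul_right r p).trans h.2)))
      simp only [Set.mem_ofPred_eq, h1, h2, h3, h4, false_or, or_false, lt_self_iff_false,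
        Nat.reduceSub, true_and]
      rw [Nat.mul_div_assoc _ hd, mul_comm r p, Nat.mul_dvd_mul_iff_left hp.pos]
      by_cases h5 : r = 3
      · subst h5
        rw [Nat.gcd_eq_left hrk, Nat.dvd_div_iff_mul_dvd hrk]
        simp [hrk]
      · simp only [h5, false_and, iff_false, not_not]
        rw [Nat.dvd_div_iff_mul_dvd hd]
        exact (((Nat.coprime_primes Nat.prime_three hr).2 (Ne.symm h5)).coprime_dvd_left
          (Nat.gcd_dvd_left _ _)).mul_dvd_of_dvd_of_dvd hd hrk
    · refine iff_of_false (not_not.2 ?_) (by omega)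
      obtain ⟨a, ha0, ha⟩ := exists_orderOf_eq_of_dvd_card_sub_one hrk
      obtain ⟨y, hy⟩ := exists_psl_of_algebra (F := F) (n := Fin n)
        (R := _ × F × F × (Fin (n - 4) → F))
        (by simp only [finrank_prod, finrank_adjoinRoot_X_sub_C_pow, Fintype.card_fin, finrank_self,
          finrank_fintype_fun_eq_card]; omega)
        (AdjoinRoot.root ((X - C (1 : F)) ^ 2), a, a⁻¹, 1)
        (by rw [norm_prod_mk, norm_prod_mk, norm_prod_one, hnorm, Algebra.norm_self]; simp [ha0])
      refine ⟨y, orderOf_eq_of_forall_iff fun j => ?_⟩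
      simp only [hy, Prod.pow_mk, Prod.algebraMap_apply, Prod.mk.injEq, hroot, and_assoc,
        exists_eq_left', map_one, one_pow, inv_pow, inv_eq_one, and_true, and_self,
        ← orderOf_dvd_iff_pow_eq_one, ha]
      exact ⟨fun h => hrp'.mul_dvd_of_dvd_of_dvd h.2 h.1,
        fun h => ⟨(dvd_mul_left _ _).trans h, (dvd_mul_right _ _).trans h⟩⟩
  · have hr1 : r.Coprime (Fintype.card F - 1) :=
      coprime_sub_one_of_orderOf_ne_one (by omega) hr (hk ▸ hk1)
    have h1 : ¬ (n = 3 ∧ r = 3 ∧ 3 ∣ Fintype.card F - 1 ∧ ¬ 9 ∣ Fintype.card F - 1) := by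
      rintro ⟨-, rfl, h, -⟩
      exact hr.coprime_iff_not_dvd.1 hr1 h
    rw [or_iff_left h1]
    constructor
    · intro h
      by_contra h2
      apply h
      have : NeZero k := ⟨hk0⟩
      obtain ⟨a, ha⟩ := exists_extension_orderOf p k hrk
      obtain ⟨A, hA⟩ := exists_sl_orderOf_of_le (F := F) (n := Fin n) (R := _ × _)
        (by simp only [finrank_prod, FiniteField.finrank_extension, Fintype.card_fin,
          finrank_adjoinRoot_X_sub_C_pow]; omega) (a, AdjoinRoot.root ((X - C (1 : F)) ^ 2))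
        (by rw [norm_prod_mk, norm_eq_one_of_coprime hr1 hr.ne_zero (ha ▸ pow_orderOf_eq_one a),
          hnorm, one_mul])
      have h3 : orderOf (AdjoinRoot.root ((X - C (1 : F)) ^ 2)) = p :=
        orderOf_eq_of_forall_iff fun j => by simpa using hroot j 1
      exact (psl_orderOf_iff_sl (Nat.Coprime.mul_left hr1 hp1)).2
        ⟨A, by rw [hA, Prod.orderOf_mk, ha, h3, hrp'.lcm_eq_mul]⟩
    · rintro h2 ⟨y, hy⟩
      induction y using QuotientGroup.induction_on with
      | H A =>
      obtain ⟨s, hs⟩ := exists_hasED (Matrix.toLin' (A : Matrix (Fin n) (Fin n) F))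
      obtain ⟨x, hx, h3⟩ := exists_two_le p hs hr.ne_zero hy
      obtain ⟨z, hz, h4⟩ := hs.exists_orderOf_dvd_natDegree_sl p hr hrp
        (((dvd_mul_right r p).trans hy.symm.dvd).trans (orderOf_map_dvd (QuotientGroup.mk' _) A))
      rw [← hk] at h4
      have h5 := Nat.le_of_dvd (hs.1.natDegree_pos hz) h4
      rcases eq_or_ne x z with rfl | hxz
      · have h6 := hs.le_card hx
        rw [Fintype.card_fin] at h6
        have : 2 * x.1.natDegree ≤ x.2 * x.1.natDegree := Nat.mul_le_mul_right _ h3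
        omega
      · have h6 := hs.add_le_card hx hz hxz
        rw [Fintype.card_fin] at h6
        have := hs.1.exp_le hx
        have := hs.1.natDegree_le hz
        omega

end Cfsg.Agent.S2470
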