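import Cfsg.Statements.S2364
import Cfsg.Agent.S2470

set_option autoImplicit false
open Cfsg

namespace Cfsg.Agent.S2364

open CL.GLn Polynomial Module

theorem result {F : Type*} [Field F] [Fintype F] (p : ℕ) [Fact p.Prime] [CharP F p] (n : ℕ) (hn : 4 ≤ n)
    (a b : Matrix.ProjectiveSpecialLinearGroup (Fin n) F) (ha : orderOf a = p) (hab : Commute a b) :
    (orderOf b).primeFactors ⊆ (Nat.card (Matrix.SpecialLinearGroup (Fin (n - 2)) F)).primeFactors := by
  have hp : p.Prime := Fact.out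
  have hq : 2 ≤ Fintype.card F := Fintype.one_lt_card
  intro r hr
  obtain ⟨hr, hrb, -⟩ := Nat.mem_primeFactors.1 hr
  have := Fact.mk hr
  suffices h : ∃ A : Matrix.SpecialLinearGroup (Fin (n - 2)) F, orderOf A = r by
    obtain ⟨A, rfl⟩ := h
    exact Nat.mem_primeFactors.2 ⟨hr, orderOf_dvd_natCard A, Nat.card_pos.ne'⟩
  rcases eq_or_ne r p with rfl | hrp
  · have := finiteDimensional_adjoinRoot ((monic_X_sub_C (1 : F)).pow 2).ne_zero
    obtain ⟨A, hA⟩ := exists_sl_orderOf_of_le (F := F) (n := Fin (n - 2))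
      (by rw [finrank_adjoinRoot_X_sub_C_pow, Fintype.card_fin]; omega)
      (AdjoinRoot.root ((X - C (1 : F)) ^ 2)) (by rw [norm_root_X_sub_C_pow 1 two_pos, one_pow])
    refine ⟨A, hA.trans (orderOf_eq_of_forall_iff fun j => ?_)⟩
    simpa [clog_two hp] using root_X_sub_C_pow_pow_eq_iff r (one_ne_zero (α := F)) two_pos j 1
  by_cases hr1 : r ∣ Fintype.card F - 1
  · obtain ⟨x, hx0, hx⟩ := exists_orderOf_eq_of_dvd_card_sub_one hr1
    obtain ⟨A, hA⟩ := exists_sl_orderOf_of_le (F := F) (n := Fin (n - 2)) (R := F × F)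
      (by simp; omega) (x, x⁻¹) (by rw [norm_prod_mk, Algebra.norm_self]; simp [hx0])
    exact ⟨A, by rw [hA, Prod.orderOf_mk, orderOf_inv_field, Nat.lcm_self, hx]⟩
  have hr2 : r ≠ 2 := by
    rintro rfl
    obtain ⟨f, -, hf⟩ := FiniteField.card F p
    have h1 : Odd (Fintype.card F) := hf ▸ (hp.odd_of_ne_two hrp.symm).pow
    exact hr1 (even_iff_two_dvd.1 (Nat.Odd.sub_odd h1 odd_one))
  have h1 : r * p ∈ Set.range (orderOf : Matrix.ProjectiveSpecialLinearGroup (Fin n) F → ℕ) := by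
    obtain ⟨c, hc⟩ := hrb
    have hpos := orderOf_pos b
    have hc0 : c ≠ 0 := by rintro rfl; omega
    have h2 : orderOf (b ^ c) = r := by
      rw [orderOf_pow' _ hc0, hc, Nat.gcd_mul_left_left, Nat.mul_div_cancel _ (by omega)]
    refine ⟨b ^ c * a, ?_⟩
    rw [(hab.symm.pow_left c).orderOf_mul_eq_mul_orderOf_of_coprime
      (by rw [h2, ha]; exact (Nat.coprime_primes hr hp).2 hrp), h2, ha]
  have h2 := (Cfsg.Agent.S2470.result p n (by omega) (by omega) r hr hr2 hrp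
    (hrb.trans (orderOf_dvd_natCard b)) _ rfl).not.1 (not_not.2 h1)
  set k := orderOf ((Fintype.card F : ℕ) : ZMod r) with hk
  have hrk : r ∣ Fintype.card F ^ k - 1 :=
    (orderOf_dvd_iff_dvd_pow_sub_one (by omega)).1 dvd_rfl
  have hk0 : k ≠ 0 := by
    have h1 : ((Fintype.card F : ℕ) : ZMod r) ≠ 0 := by
      obtain ⟨f, -, hf⟩ := FiniteField.card F p
      rw [hf, Ne, ZMod.natCast_eq_zero_iff]
      exact fun h => hrp ((Nat.prime_dvd_prime_iff_eq hr hp).1 (hr.dvd_of_dvd_pow h))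
    exact (isOfFinOrder_iff_pow_eq_one.2 ⟨r - 1, by have := hr.two_le; omega,
      ZMod.pow_card_sub_one_eq_one h1⟩).orderOf_pos.ne'
  have : NeZero k := ⟨hk0⟩
  obtain ⟨x, hx⟩ := exists_extension_orderOf p k hrk
  obtain ⟨A, hA⟩ := exists_sl_orderOf_of_le (F := F) (n := Fin (n - 2))
    (by simp only [FiniteField.finrank_extension, Fintype.card_fin]; omega) x
    (norm_eq_one_of_coprime (hr.coprime_iff_not_dvd.2 hr1) hr.ne_zero (hx ▸ pow_orderOf_eq_one x))
  exact ⟨A, hA.trans hx⟩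

end Cfsg.Agent.S2364
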