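import Cfsg.Statements.S2418
import Cfsg.Agent.CHEV.CoxCent

set_option autoImplicit false
open Cfsg

namespace Cfsg.Agent.S2418

/-- For the Coxeter groups of types B₂, G₂, D₄, F₄, E₇, E₈ the centre has order 2 (the element acting as −1 on the root system) and is generated by a power of the Coxeter element `s₁ s₂ ⋯ s_l`; the Coxeter group of type E₆ has trivial centre. -/
theorem result (c : (Σ n : ℕ, CoxeterMatrix (Fin n)) × ℕ)
    (hc : c ∈ [(⟨2, CoxeterMatrix.B 2⟩, 2), (⟨2, CoxeterMatrix.G₂⟩, 2), (⟨4, Cfsg.Lie.coxeterD4⟩, 2), (⟨4, CoxeterMatrix.F₄⟩, 2),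
      (⟨6, CoxeterMatrix.E₆⟩, 1), (⟨7, CoxeterMatrix.E₇⟩, 2), (⟨8, CoxeterMatrix.E₈⟩, 2)]) :
    Nat.card (Subgroup.center c.1.2.Group) = c.2 ∧
      Subgroup.center c.1.2.Group ≤ Subgroup.zpowers ((List.finRange c.1.1).map c.1.2.simple).prod := by
  simp only [List.mem_cons, List.not_mem_nil, or_false] at hc
  rcases hc with rfl | rfl | rfl | rfl | rfl | rfl | rfl
  · exact CL.Cox.center_of_check (CL.Cox.exists_geom_B2 (CoxeterMatrix.toCoxeterSystem _)).choose_spec
      (CL.Cox.Calc.rootOK_of_check CL.Cox.Calc.rootCheck_B2).diag 0 ![0, 1] (by decide +kernel)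
      (List.finRange 2) (m := 2) (by decide +kernel)
  · exact CL.Cox.center_of_check (CL.Cox.exists_geom_G2 (CoxeterMatrix.toCoxeterSystem _)).choose_spec
      (CL.Cox.Calc.rootOK_of_check CL.Cox.Calc.rootCheck_G2).diag 0 ![0, 1] (by decide +kernel)
      (List.finRange 2) (m := 3) (by decide +kernel)
  · exact CL.Cox.center_of_check (CL.Cox.exists_geom_D4 (CoxeterMatrix.toCoxeterSystem _)).choose_spec
      (CL.Cox.Calc.rootOK_of_check CL.Cox.Calc.rootCheck_D4).diag 0 ![0, 1, 2, 2] (by decide +kernel)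
      (List.finRange 4) (m := 3) (by decide +kernel)
  · exact CL.Cox.center_of_check (CL.Cox.exists_geom_F4 (CoxeterMatrix.toCoxeterSystem _)).choose_spec
      (CL.Cox.Calc.rootOK_of_check CL.Cox.Calc.rootCheck_F4).diag 0 ![0, 1, 2, 3] (by decide +kernel)
      (List.finRange 4) (m := 6) (by decide +kernel)
  · have h := CL.Cox.center_eq_bot_of_check (CL.Cox.exists_geom_E6 (CoxeterMatrix.toCoxeterSystem _)).choose_spec
      (CL.Cox.Calc.rootOK_of_check CL.Cox.Calc.rootCheck_E6) 0 ![0, 3, 1, 2, 3, 4] (by decide +kernel)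
      [0, 1, 2, 0, 3, 1, 2, 0, 3, 2, 4, 3, 1, 2, 0, 3, 2, 4, 3, 1, 5, 4, 3, 1, 2, 0, 3, 2, 4, 3, 1,
        5, 4, 3, 2, 0] (σ := ![5, 1, 4, 3, 2, 0]) (by decide +kernel) (by decide +kernel)
    change Nat.card (Subgroup.center CoxeterMatrix.E₆.Group) = 1 ∧
      Subgroup.center CoxeterMatrix.E₆.Group ≤ _
    rw [h]
    exact ⟨Subgroup.card_bot, bot_le⟩
  · exact CL.Cox.center_of_check (CL.Cox.exists_geom_E7 (CoxeterMatrix.toCoxeterSystem _)).choose_spec
      (CL.Cox.Calc.rootOK_of_check CL.Cox.Calc.rootCheck_E7).diag 0 ![0, 3, 1, 2, 3, 4, 5] (by decide +kernel)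
      (List.finRange 7) (m := 9) (by decide +kernel)
  · exact CL.Cox.center_of_check (CL.Cox.exists_geom_E8 (CoxeterMatrix.toCoxeterSystem _)).choose_spec
      (CL.Cox.Calc.rootOK_of_check CL.Cox.Calc.rootCheck_E8).diag 0 ![0, 3, 1, 2, 3, 4, 5, 6] (by decide +kernel)
      (List.finRange 8) (m := 15) (by decide +kernel)

end Cfsg.Agent.S2418
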