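import Cfsg.Statements.S2419
import Cfsg.Agent.CHEV.CoxCent

set_option autoImplicit false
open Cfsg

namespace Cfsg.Agent.S2419

/-- The Coxeter groups of types B₂, G₂, E₆, E₇, E₈ are generated by the Coxeter element `s₁ s₂ ⋯ s_l` together with one suitable reflection (a conjugate of a simple reflection); for types D₄ and F₄ the Coxeter element together with two suitable reflections suffices. -/
theorem result (c : (Σ n : ℕ, CoxeterMatrix (Fin n)) × ℕ)
    (hc : c ∈ [(⟨2, CoxeterMatrix.B 2⟩, 1), (⟨2, CoxeterMatrix.G₂⟩, 1), (⟨4, Cfsg.Lie.coxeterD4⟩, 2), (⟨4, CoxeterMatrix.F₄⟩, 2),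
      (⟨6, CoxeterMatrix.E₆⟩, 1), (⟨7, CoxeterMatrix.E₇⟩, 1), (⟨8, CoxeterMatrix.E₈⟩, 1)]) :
    ∃ T : Finset c.1.2.Group, T.card = c.2 ∧ (∀ t ∈ T, ∃ (g : c.1.2.Group) (i : Fin c.1.1), t = g * c.1.2.simple i * g⁻¹) ∧
      Subgroup.closure (({((List.finRange c.1.1).map c.1.2.simple).prod} : Set c.1.2.Group) ∪ ↑T) = ⊤ := by
  classical
  simp only [List.mem_cons, List.not_mem_nil, or_false] at hc
  rcases hc with rfl | rfl | rfl | rfl | rfl | rfl | rfl
  · exact CL.Cox.exists_gen_of_check (CL.Cox.exists_geom_B2 (CoxeterMatrix.toCoxeterSystem _)).choose_spec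
      (CL.Cox.Calc.rootOK_of_check CL.Cox.Calc.rootCheck_B2) (K := [0]) (by decide)
      (ws := ![[.inl 0],
        [.inl 0, .inr true]])
      (by decide +kernel)
  · exact CL.Cox.exists_gen_of_check (CL.Cox.exists_geom_G2 (CoxeterMatrix.toCoxeterSystem _)).choose_spec
      (CL.Cox.Calc.rootOK_of_check CL.Cox.Calc.rootCheck_G2) (K := [0]) (by decide)
      (ws := ![[.inl 0],
        [.inl 0, .inr true]])
      (by decide +kernel)
  · exact CL.Cox.exists_gen_of_check (CL.Cox.exists_geom_D4 (CoxeterMatrix.toCoxeterSystem _)).choose_spec
      (CL.Cox.Calc.rootOK_of_check CL.Cox.Calc.rootCheck_D4) (K := [0, 2]) (by decide)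
      (ws := ![[.inl 0],
        [.inr true, .inl 0, .inr false],
        [.inl 2],
        [.inr true, .inl 2, .inr true, .inl 0, .inr false, .inl 2, .inr false]])
      (by decide +kernel)
  · exact CL.Cox.exists_gen_of_check (CL.Cox.exists_geom_F4 (CoxeterMatrix.toCoxeterSystem _)).choose_spec
      (CL.Cox.Calc.rootOK_of_check CL.Cox.Calc.rootCheck_F4) (K := [0, 2]) (by decide)
      (ws := ![[.inl 0],
        [.inr true, .inl 0, .inr false],
        [.inl 2],
        [.inr true, .inl 2, .inr false]])
      (by decide +kernel)
  · exact CL.Cox.exists_gen_of_check (CL.Cox.exists_geom_E6 (CoxeterMatrix.toCoxeterSystem _)).choose_spec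
      (CL.Cox.Calc.rootOK_of_check CL.Cox.Calc.rootCheck_E6) (K := [3]) (by decide)
      (ws := ![[.inr true, .inr true, .inr true, .inr true, .inr true, .inr true, .inr true, .inl 3, .inr false, .inr false, .inr false, .inr false, .inr false, .inr false, .inr false],
        [.inr true, .inr true, .inr true, .inl 3, .inr true, .inr true, .inr true, .inl 3, .inr false, .inr false, .inr false, .inl 3, .inr false, .inr false, .inr false],
        [.inl 3, .inr true, .inr true, .inr true, .inr true, .inl 3, .inr false, .inr false, .inr false, .inr false, .inl 3],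
        [.inl 3],
        [.inr true, .inl 3, .inr false],
        [.inr true, .inr true, .inl 3, .inr false, .inr false]])
      (by decide +kernel)
  · exact CL.Cox.exists_gen_of_check (CL.Cox.exists_geom_E7 (CoxeterMatrix.toCoxeterSystem _)).choose_spec
      (CL.Cox.Calc.rootOK_of_check CL.Cox.Calc.rootCheck_E7) (K := [3]) (by decide)
      (ws := ![[.inr true, .inr true, .inr true, .inr true, .inl 3, .inr true, .inr true, .inr true, .inr true, .inl 3, .inr false, .inr false, .inr false, .inr false, .inl 3, .inr false, .inr false, .inr false, .inr false],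
        [.inl 3, .inr true, .inl 3, .inr true, .inr true, .inr true, .inr true, .inr true, .inl 3, .inr false, .inr false, .inr false, .inr false, .inr false, .inl 3, .inr false, .inl 3],
        [.inl 3, .inr true, .inr true, .inr true, .inr true, .inr true, .inl 3, .inr false, .inr false, .inr false, .inr false, .inr false, .inl 3],
        [.inl 3],
        [.inr true, .inl 3, .inr false],
        [.inr true, .inr true, .inl 3, .inr false, .inr false],
        [.inr true, .inr true, .inr true, .inl 3, .inr false, .inr false, .inr false]])
      (by decide +kernel)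
  · exact CL.Cox.exists_gen_of_check (CL.Cox.exists_geom_E8 (CoxeterMatrix.toCoxeterSystem _)).choose_spec
      (CL.Cox.Calc.rootOK_of_check CL.Cox.Calc.rootCheck_E8) (K := [3]) (by decide)
      (ws := ![[.inr true, .inr true, .inr true, .inr true, .inr true, .inl 3, .inr true, .inr true, .inr true, .inr true, .inr true, .inr true, .inr true, .inr true, .inr true, .inl 3, .inr false, .inr false, .inr false, .inr false, .inr false, .inr false, .inr false, .inr false, .inr false, .inl 3, .inr false, .inr false, .inr false, .inr false, .inr false],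
        [.inl 3, .inr true, .inl 3, .inr true, .inr true, .inr true, .inr true, .inr true, .inr true, .inl 3, .inr false, .inr false, .inr false, .inr false, .inr false, .inr false, .inl 3, .inr false, .inl 3],
        [.inl 3, .inr true, .inr true, .inr true, .inr true, .inr true, .inr true, .inl 3, .inr false, .inr false, .inr false, .inr false, .inr false, .inr false, .inl 3],
        [.inl 3],
        [.inr true, .inl 3, .inr false],
        [.inr true, .inr true, .inl 3, .inr false, .inr false],
        [.inr true, .inr true, .inr true, .inl 3, .inr false, .inr false, .inr false],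
        [.inr true, .inr true, .inr true, .inr true, .inl 3, .inr false, .inr false, .inr false, .inr false]])
      (by decide +kernel)

end Cfsg.Agent.S2419
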