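import Cfsg.Statements.S2458
import Mathlib
import Cfsg.Agent.CHEV.ReeConcrete
import Cfsg.Agent.CHEV.ReeGow
import Cfsg.Agent.S2343

set_option autoImplicit false
open Cfsg

namespace Cfsg.Agent.S2458

open CL.Ree CL.Char CL.HT Subgroup
open scoped ComplexConjugate

section general

variable {G : Type*} [Group G] [Finite G]

/-- The character sum. -/
noncomputable def s (x g : G) : ℂ := ∑ χ : IrrCharacter G, χ.1 x * χ.1 x * conj (χ.1 g) / χ.1 1

/-- `g` moves some conjugate of `x` to a conjugate of `x`. -/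
def P (x g : G) : Prop := ∃ b, IsConj x b ∧ IsConj x (g * b)

omit [Finite G] in
theorem P.conj {x g g' : G} (h : P x g) (h' : IsConj g g') : P x g' := by
  obtain ⟨b, h1, h2⟩ := h
  obtain ⟨c, rfl⟩ := isConj_iff.mp h'
  exact ⟨c * b * c⁻¹, h1.trans (isConj_iff.mpr ⟨c, rfl⟩), h2.trans (isConj_iff.mpr ⟨c, by group⟩)⟩

omit [Finite G] in
theorem P.inv {x g : G} (h : P x g) : P x g⁻¹ := by
  obtain ⟨b, h1, h2⟩ := h
  exact ⟨g * b, h2, by simpa using h1⟩

omit [Finite G] in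
theorem isConj_inv' {x b : G} (hx : IsConj x x⁻¹) (h : IsConj x b) : IsConj x b⁻¹ := by
  obtain ⟨c, rfl⟩ := isConj_iff.mp h
  exact hx.trans (isConj_iff.mpr ⟨c, by group⟩)

theorem P_of_ne_zero {x g : G} (hx : IsConj x x⁻¹) (h : s x g ≠ 0) : P x g := by
  have h1 : (Nat.card {y // IsConj x y} : ℂ) ≠ 0 := by
    have : Nonempty {y // IsConj x y} := ⟨⟨x, IsConj.refl x⟩⟩
    exact_mod_cast Nat.card_pos.ne'
  have h2 := mul_ne_zero (div_ne_zero (mul_ne_zero h1 h1) (card_ne_zero G)) h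
  rw [s, ← card_class_mul_eq] at h2
  obtain ⟨⟨⟨a, b⟩, ha, hb, rfl⟩⟩ := (Nat.card_pos_iff.mp (Nat.pos_of_ne_zero (by exact_mod_cast h2))).1
  exact ⟨b⁻¹, isConj_inv' hx hb, by simpa using ha⟩

theorem norm_sq_le (χ : IrrCharacter G) (g : G) : ‖χ.1 g‖ ^ 2 ≤ Nat.card (centralizer {g}) := by
  rw [← sum_norm_sq_eq_card_centralizer]
  exact Finset.single_le_sum (f := fun χ : IrrCharacter G => ‖χ.1 g‖ ^ 2) (fun _ _ => by positivity) (Finset.mem_univ χ)

theorem norm_s_sub_one_le {x g : G} {δ : ℝ} (h0 : 0 ≤ δ) (h : ∀ χ, χ ≠ irrOne G → ‖χ.1 g‖ ≤ δ * ‖χ.1 1‖) :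
    ‖s x g - 1‖ ≤ δ * Nat.card (centralizer {x}) := by
  classical
  rw [s, ← Finset.add_sum_erase _ _ (Finset.mem_univ (irrOne G)), ← sum_norm_sq_eq_card_centralizer, Finset.mul_sum]
  simp only [irrOne_apply, map_one, mul_one, div_one, add_sub_cancel_left]
  refine (norm_sum_le _ _).trans ((Finset.sum_le_sum fun χ hχ => ?_).trans
    (Finset.sum_le_sum_of_subset_of_nonneg (Finset.erase_subset _ _) fun _ _ _ => by positivity))
  rw [norm_div, norm_mul, norm_mul, Complex.norm_conj, div_le_iff₀ (norm_pos_iff.mpr χ.2.one_ne_zero)]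
  have := mul_le_mul_of_nonneg_left (h χ (Finset.ne_of_mem_erase hχ)) (sq_nonneg ‖χ.1 x‖)
  nlinarith

theorem card_le_norm_sum {x : G} (hx : IsConj x x⁻¹) (Y : Subgroup G) [Fintype Y] :
    (Nat.card Y : ℝ) ≤ ‖∑ y : Y, s x y‖ := by
  have h1 : ∀ χ : IrrCharacter G, ∃ n : ℕ, ∑ y : Y, conj (χ.1 y) = Nat.card Y * n := fun χ => by
    obtain ⟨n, hn⟩ := isCharacter_one.exists_nat_inner (χ.2.isCharacter.res Y)
    exact ⟨n, by rw [← hn, card_mul_classInner]; simp⟩
  choose n hn using h1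
  have h2 : ∑ y : Y, s x y = (∑ χ : IrrCharacter G, ‖χ.1 x‖ ^ 2 * (Nat.card Y * n χ) / charDegree χ.1 : ℝ) := by
    simp only [s]
    rw [Finset.sum_comm]
    push_cast
    refine Finset.sum_congr rfl fun χ _ => ?_
    rw [← Finset.sum_div, ← Finset.mul_sum, hn, ← Complex.mul_conj', ← χ.2.apply_inv,
      ← χ.2.isClassFunction.eq_of_isConj hx, χ.2.apply_one_eq_charDegree]
  have h3 : n (irrOne G) = 1 := by
    have := hn (irrOne G)
    simp only [irrOne_apply, map_one, Finset.sum_const, Finset.card_univ, nsmul_eq_mul,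
      ← Nat.card_eq_fintype_card] at this
    exact_mod_cast (mul_left_cancel₀ (card_ne_zero Y) this).symm
  rw [h2, Complex.norm_real]
  refine le_trans ?_ (le_abs_self _)
  refine le_trans (le_of_eq ?_) (Finset.single_le_sum (fun _ _ => by positivity) (Finset.mem_univ (irrOne G)))
  simp [h3, irrOne_coe, charDegree_const_one]

end general

section ree

variable {F : Type*} [Field F] [CharP F 3] [Finite F] {σ : F →+* F} {G : Type*} [Group G] (M : Model σ G)

theorem card_nine {g : G} (hg : g ∈ M.U) (h : g ∉ M.Y) : Nat.card (centralizer {g}) ≤ 3 * Nat.card F := by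
  obtain ⟨a, y, z, rfl⟩ := hg
  rw [M.u_mem_Y_iff] at h
  have h1 : M.u a y z ≠ 1 := fun e => h (M.u_eq_one_iff.mp e).1
  have key : ∀ k, k * M.u a y z = M.u a y z * k → k ∈ M.Y → k ∈ M.Z := by
    rintro _ hk ⟨v, w, rfl⟩
    rw [M.u_mul, M.u_mul, M.u_eq_iff] at hk
    refine M.u_mem_Z_iff.mpr ⟨rfl, (mul_eq_zero.mp ?_).resolve_left h⟩
    have := hk.2.2
    simp only [map_zero] at this
    linear_combination -this
  rw [← Nat.card_fin 3, ← Nat.card_prod]
  refine Nat.card_le_card_of_surjective (fun p : Fin 3 × F => ⟨M.u 0 0 p.2 * M.u a y z ^ (p.1 : ℕ),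
    mul_mem (mem_centralizer_singleton_iff.mpr (M.u_z_comm _ _ _ _)) (pow_mem (mem_centralizer_singleton_iff.mpr rfl) _)⟩) ?_
  rintro ⟨k, hk⟩
  have hk' := mem_centralizer_singleton_iff.mp hk
  obtain ⟨b, v, w, l, rfl⟩ := M.mem_B_of_commute (M.u_mem_U _ _ _) h1 hk'
  obtain rfl : l = 1 := (M.eq_of_commute h1 hk').resolve_right fun e => h e.2.1
  have fin : ∀ i : Fin 3, M.u b v w * M.h 1 * (M.u a y z ^ (i : ℕ))⁻¹ ∈ M.Y → ∃ p : Fin 3 × F,
      M.u 0 0 p.2 * M.u a y z ^ (p.1 : ℕ) = M.u b v w * M.h 1 := fun i hi => by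
    obtain ⟨t, ht⟩ := key _ (Commute.mul_left hk' ((Commute.refl _).pow_left i).inv_left) hi
    exact ⟨(i, t), by rw [← ht]; simp⟩
  simp only [Subtype.ext_iff]
  rw [map_one, mul_one, M.u_mul, M.u_mul, M.u_eq_iff] at hk'
  have h2 : σ (b / a) = b / a := by
    rw [map_div₀, div_eq_div_iff (Model.σ_ne_zero h) h]
    linear_combination hk'.2.1
  rcases M.eq_of_σ_eq h2 with h3 | h3 | h3 <;> rw [div_eq_iff h] at h3
  · exact fin 0 (by simp [M.u_mem_Y_iff, h3])
  · exact fin 1 (by simp [M.u_mem_Y_iff, h3, M.u_inv, M.u_mul])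
  · refine fin 2 ?_
    simp only [Fin.coe_ofNat_eq_mod, Nat.reduceMod, sq, map_one, mul_one, M.u_inv, M.u_mul, M.u_mem_Y_iff, h3]
    linear_combination -a * three_eq_zero (F := F)

theorem card_six {y : F} (hy : y ≠ 0) : Nat.card (centralizer {M.u 0 y 0 * M.ε}) ≤ 3 * Nat.card F := by
  have h1 : M.u 0 (-y) 0 ≠ 1 := fun e => hy (neg_eq_zero.mp (M.u_eq_one_iff.mp e).2.1)
  refine le_trans ?_ (Nat.mul_le_mul_right _ (by norm_num : 2 ≤ 3))
  rw [← Nat.card_fin 2, ← Nat.card_prod]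
  refine Nat.card_le_card_of_surjective (fun p : Fin 2 × F => ⟨M.u 0 p.2 0 * M.ε ^ (p.1 : ℕ),
    mul_mem (mem_centralizer_singleton_iff.mpr ?_) (pow_mem (mem_centralizer_singleton_iff.mpr ?_) _)⟩) ?_
  · rw [← mul_assoc, M.Y_comm (M.u_mem_Y _ 0) (M.u_mem_Y y 0), mul_assoc, ← M.ε_mul_u_y, mul_assoc]
  · rw [← mul_assoc, M.ε_mul_u_y]
  rintro ⟨k, hk⟩
  have hk' : Commute k _ := mem_centralizer_singleton_iff.mp hk
  have h2 := (hk'.mul_right hk').eq
  have h3 := (hk'.pow_right 3).eq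
  rw [M.u_ε_sq] at h2
  rw [M.u_ε_cube] at h3
  obtain ⟨v, l, rfl⟩ := M.eq_of_mem_B_of_comm_ε (M.mem_B_of_commute (M.u_mem_U _ _ _) h1 h2) h3
  rcases M.eq_of_commute h1 h2 with rfl | ⟨rfl, -⟩
  · exact ⟨(0, v), by simp⟩
  · exact ⟨(1, v), by simp [Model.ε]⟩

theorem card_Z {z : F} (hz : z ≠ 0) : Nat.card (centralizer {M.u 0 0 z}) ≤ Nat.card F ^ 3 := by
  have := M.finite_G
  have h1 : M.u 0 0 z ≠ 1 := fun e => hz (M.u_eq_one_iff.mp e).2.2
  rw [← M.card_U]
  refine card_le_of_le fun k hk => ?_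
  have hk' := mem_centralizer_singleton_iff.mp hk
  obtain ⟨b, v, w, l, rfl⟩ := M.mem_B_of_commute (M.u_mem_U _ _ _) h1 hk'
  exact M.u_mul_h_mem_U.mpr ((M.eq_of_commute h1 hk').resolve_right fun e => e.2.2 rfl)

theorem isConj_Y {y v : F} (hy : y ≠ 0) (hv : v ≠ 0) (z w : F) :
    IsConj (M.u 0 y z) (M.u 0 v w) ∨ IsConj (M.u 0 y z) (M.u 0 v w)⁻¹ := by
  have key : ∀ (t : Fˣ) w, IsConj (M.u 0 y z) (M.u 0 (t ^ 2 * y) w) := fun t w => by
    have hs := Model.σ_ne_zero (σ := σ) t.ne_zero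
    let l := Units.mk0 (σ t / t) (div_ne_zero hs t.ne_zero)
    have e : (l * σ l : F) = t ^ 2 := by
      simp only [l, Units.val_mk0]
      rw [map_div₀, M.tits]; field_simp
    refine isConj_iff.mpr ⟨M.u ((w - l ^ 2 * σ l * z) / (t ^ 2 * y)) 0 0 * M.h l, ?_⟩
    rw [M.B_conj_u_zero, e, div_mul_cancel₀ _ (mul_ne_zero (pow_ne_zero 2 t.ne_zero) hy), add_sub_cancel]
  obtain ⟨t, ht⟩ := exists_sq_or M.tits (Units.mk0 (v / y) (div_ne_zero hv hy))
  rcases ht with ht | ht <;> have ht' := congrArg Units.val ht <;>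
    simp only [Units.val_mk0, Units.val_neg, Units.val_pow_eq_pow_val, div_eq_iff hy] at ht'
  · exact Or.inl (ht' ▸ key t w)
  · exact Or.inr (by rw [M.u_zero_inv, ht', neg_mul, neg_neg]; exact key t _)

variable (hq : 3 < Nat.card F) {x : G} (hx : x ^ 18 ≠ 1)
include hq hx

theorem P_Z {z : F} (hz : z ≠ 0) : P x (M.u 0 0 z) := by
  obtain ⟨-, -, -, h, -⟩ := M.exists_isConj_u_h_w hq hx
  have h1 : (M.tr x + 1) / z ^ 2 ≠ 0 := div_ne_zero (fun e => h (eq_neg_of_add_eq_zero_left e)) (pow_ne_zero 2 hz)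
  have h2 := Model.σ_ne_zero (σ := σ) h1
  obtain ⟨l, hl⟩ : ∃ l : Fˣ, ((l : F) ^ 2 * σ l)⁻¹ = (M.tr x + 1) / z ^ 2 := by
    generalize (M.tr x + 1) / z ^ 2 = c at h1 h2
    refine ⟨Units.mk0 (σ c / c ^ 2) (div_ne_zero h2 (pow_ne_zero 2 h1)), ?_⟩
    rw [Units.val_mk0, map_div₀, map_pow, M.tits]
    field_simp
  refine ⟨M.u 0 0 z * M.h l * M.w, M.isConj_of_tr_eq hq hx ?_, M.isConj_of_tr_eq hq hx ?_⟩
  · rw [M.tr_u_h_w, hl]; field_simp; ring
  · rw [← mul_assoc, ← mul_assoc, M.u_zero_mul, add_zero, M.tr_u_h_w, hl]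
    field_simp
    linear_combination (M.tr x + 1) * three_eq_zero (F := F)

variable [IsSimpleGroup G]

omit hq hx in
include M in
theorem deg_le [Finite G] {χ : IrrCharacter G} (h : χ ≠ irrOne G) :
    (Nat.card F : ℝ) ^ 2 - Nat.card F + 1 ≤ ‖χ.1 1‖ := by
  obtain ⟨_, n, ρ, hρ, rfl⟩ := χ
  have hχ : IsIrrCharacter G ρ.character := ⟨n, ρ, hρ, rfl⟩
  have h1 : 0 < n := by simpa [charDegree_character] using hχ.charDegree_pos
  have h2 : n ≠ 1 := by
    rintro rfl
    refine h (Subtype.ext (hχ.charKer_eq_top_iff.mp ?_))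
    refine (IsSimpleGroup.eq_bot_or_eq_top_of_normal _ hχ.charKer_normal).resolve_left fun e => ?_
    have h3 := hχ.commutator_le_charKer_iff.mpr (by simp)
    rw [e, le_bot_iff, commutator_eq_bot_iff_center_eq_top] at h3
    exact M.w_not_mem_B (M.mem_B_of_commute (M.u_mem_U 1 0 0) (fun e => one_ne_zero (M.u_eq_one_iff.mp e).1)
      (mem_center_iff.mp (h3 ▸ mem_top _) _))
  have := Cfsg.Agent.S2343.main M ρ hρ (by simp; omega)
  change _ ≤ ‖ρ.character 1‖
  rw [character_one_fin, Complex.norm_natCast, ← cast_sq_sub]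
  exact_mod_cast this.trans_eq (Module.finrank_fin_fun ℂ)

include M in
theorem P_small {g : G} (h : Nat.card (centralizer {g}) ≤ 3 * Nat.card F) : P x g := by
  have := M.finite_G
  obtain ⟨k, hk⟩ := M.exists_card_eq_mul
  have hq' : (27 : ℝ) ≤ Nat.card F := by exact_mod_cast (by omega : 27 ≤ Nat.card F)
  refine P_of_ne_zero (M.isConj_inv hq hx) fun e => ?_
  have h1 := norm_s_sub_one_le (x := x) (g := g) (δ := 1 / (2 * Nat.card F + 1)) (by positivity) fun χ hχ => by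
    have h1 : ‖χ.1 g‖ ^ 2 ≤ 3 * Nat.card F := (norm_sq_le χ g).trans (by exact_mod_cast h)
    have h2 := deg_le M hχ
    rw [one_div, inv_mul_eq_div, le_div_iff₀ (by positivity)]
    refine le_trans (abs_le_of_sq_le_sq' ?_ (by nlinarith)).2 h2
    generalize (Nat.card F : ℝ) = q at *
    obtain ⟨t, ht, rfl⟩ : ∃ t, 0 ≤ t ∧ q = t + 27 := ⟨q - 27, by linarith, by ring⟩
    rw [mul_pow]
    refine (mul_le_mul_of_nonneg_right h1 (by positivity)).trans ?_
    nlinarith [pow_nonneg ht 2, pow_nonneg ht 3, pow_nonneg ht 4]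
  have h2 : (Nat.card (centralizer {x}) : ℝ) ≤ 2 * Nat.card F := by exact_mod_cast M.card_centralizer_le_of_reg hq hx
  rw [e, zero_sub, norm_neg, norm_one, one_div, inv_mul_eq_div, le_div_iff₀ (by positivity)] at h1
  linarith

theorem P_Y {y : F} (hy : y ≠ 0) (z : F) : P x (M.u 0 y z) := by
  classical
  have := M.finite_G
  let _ := Fintype.ofFinite F
  let _ := Fintype.ofFinite M.Y
  obtain ⟨k, hk⟩ := M.exists_card_eq_mul
  have hq' : (27 : ℝ) ≤ Nat.card F := by exact_mod_cast (by omega : 27 ≤ Nat.card F)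
  have hC : (Nat.card (centralizer {x}) : ℝ) ≤ 2 * Nat.card F := by exact_mod_cast M.card_centralizer_le_of_reg hq hx
  by_contra H
  have h0 : ∀ v ≠ 0, ∀ w, s x (M.u 0 v w) = 0 := fun v hv w => by
    by_contra e
    have := P_of_ne_zero (M.isConj_inv hq hx) e
    exact H ((isConj_Y M hy hv z w).elim (fun h => this.conj h.symm) fun h => this.inv.conj h.symm)
  have h1 := card_le_norm_sum (M.isConj_inv hq hx) M.Y
  rw [← Fintype.sum_bijective (fun p : F × F => (⟨M.u 0 p.1 p.2, M.u_mem_Y _ _⟩ : M.Y))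
    ⟨fun p p' h => Prod.ext (M.u_inj (Subtype.ext_iff.mp h :)).2.1 (M.u_inj (Subtype.ext_iff.mp h :)).2.2,
      by rintro ⟨_, v, w, rfl⟩; exact ⟨(v, w), rfl⟩⟩ (fun p => s x (M.u 0 p.1 p.2)) _ fun _ => rfl,
    Fintype.sum_prod_type, Finset.sum_eq_single 0 (fun v _ hv => Finset.sum_eq_zero fun w _ => h0 v hv w) (by simp),
    M.card_Y] at h1
  have h2 : ∀ w, ‖s x (M.u 0 0 w)‖ ≤ 1 + 2 / 5 * Nat.card F + if w = 0 then 2 * (Nat.card F : ℝ) else 0 := fun w => by
    have h3 := norm_sub_norm_le (s x (M.u 0 0 w)) 1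
    rw [norm_one] at h3
    split_ifs with hw
    · have := norm_s_sub_one_le (x := x) (g := M.u 0 0 w) zero_le_one fun χ _ => by
        simpa using χ.2.isCharacter.norm_le_norm_one _
      linarith
    · have := norm_s_sub_one_le (x := x) (g := M.u 0 0 w) (δ := 1 / 5) (by norm_num) fun χ hχ => by
        have h1 : ‖χ.1 (M.u 0 0 w)‖ ^ 2 ≤ Nat.card F ^ 3 := (norm_sq_le χ _).trans (by exact_mod_cast card_Z M hw)
        have h2 := deg_le M hχ
        refine le_trans (abs_le_of_sq_le_sq' (h1.trans ?_) (by nlinarith)).2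
          (mul_le_mul_of_nonneg_left h2 (by norm_num))
        generalize (Nat.card F : ℝ) = q at *
        obtain ⟨t, ht, rfl⟩ : ∃ t, 0 ≤ t ∧ q = t + 27 := ⟨q - 27, by linarith, by ring⟩
        nlinarith [pow_nonneg ht 2, pow_nonneg ht 3, pow_nonneg ht 4]
      linarith
  replace h1 := h1.trans ((norm_sum_le _ _).trans (Finset.sum_le_sum fun w _ => h2 w))
  simp only [Finset.sum_add_distrib, Finset.sum_const, Finset.card_univ, ← Nat.card_eq_fintype_card, nsmul_eq_mul,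
    Finset.sum_ite_eq', Finset.mem_univ, if_true] at h1
  push_cast at h1
  nlinarith

include M in
theorem P_all {g : G} (hg : g ≠ 1) : P x g := by
  by_cases h : g ^ 18 = 1
  · obtain ⟨M, h1 | ⟨y, rfl⟩⟩ := M.exists_model_of_pow h
    · by_cases h2 : g ∈ M.Y
      · obtain ⟨y, z, rfl⟩ := h2
        by_cases hy : y = 0
        · subst hy
          exact P_Z M hq hx fun e => hg (by rw [e, M.u_zero])
        · exact P_Y M hq hx hy z
      · exact P_small M hq hx (card_nine M h1 h2)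
    · by_cases hy : y = 0
      · rw [hy, M.u_zero, one_mul]
        exact M.exists_involution hq hx
      · exact P_small M hq hx (card_six M hy)
  · exact P_small M hq hx ((M.card_centralizer_le_of_reg hq h).trans (by omega))

end ree

/-- A strong covering result in the direction of Thompson's conjecture (non-identity elements) for the small Ree groups: let q = 3^(2m+1) ≥ 27, K the field with q elements and ²G₂(q) the Ree group over K. For every element x of ²G₂(q) of order greater than 2 and not divisible by 3, every non-identity element of ²G₂(q) is a product of two conjugates of x. -/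
theorem result {K : Type*} [Field K] [Fintype K] (m : ℕ) (hm : 1 ≤ m) (hK : Fintype.card K = 3 ^ (2 * m + 1))
    (x : Cfsg.Lie.twistedG2 K (3 ^ m)) (hx2 : 2 < orderOf x) (hx3 : ¬ 3 ∣ orderOf x) : ∀ g : Cfsg.Lie.twistedG2 K (3 ^ m), g ≠ 1 → ∃ u v : Cfsg.Lie.twistedG2 K (3 ^ m), g = (u * x * u⁻¹) * (v * x * v⁻¹) := by
  intro g hg
  have := CL.Ree.charP_three hK
  have hK' := Nat.card_eq_fintype_card.trans hK
  set M := CL.Ree.model hK'
  have hq := CL.Ree.three_lt_card hm hK'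
  have := (Cfsg.Agent.S1073.result hm hK).1
  have hx : x ^ 18 ≠ 1 := fun e => absurd (Nat.le_of_dvd two_pos
    (((Nat.prime_three.coprime_iff_not_dvd.mpr hx3).symm.pow_right 2).dvd_of_dvd_mul_right
      (orderOf_dvd_of_pow_eq_one e))) (by omega)
  obtain ⟨b, h1, h2⟩ := P_all M hq hx hg
  obtain ⟨u, hu⟩ := isConj_iff.mp h2
  obtain ⟨v, hv⟩ := isConj_iff.mp (isConj_inv' (M.isConj_inv hq hx) h1)
  exact ⟨u, v, by rw [hu, hv, mul_inv_cancel_right]⟩

end Cfsg.Agent.S2458
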