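import Cfsg.Statements.S2468
import Cfsg.Agent.KSG.GLnOrders2

set_option autoImplicit false
open Cfsg

namespace Cfsg.Agent.S2468

open CL.GLn Polynomial Module

theorem result {F : Type*} [Field F] [Fintype F] (p : ℕ) [Fact p.Prime] [CharP F p] (n : ℕ) (hn : 2 ≤ n) (hsmall : n = 2 → 4 ≤ Fintype.card F)
    (r s : ℕ) (hr : r.Prime) (hs : s.Prime) (hr2 : r ≠ 2) (hs2 : s ≠ 2) (hrp : r ≠ p) (hsp : s ≠ p) (hrs : r ≠ s)
    (hrG : r ∣ Nat.card (Matrix.ProjectiveSpecialLinearGroup (Fin n) F)) (hsG : s ∣ Nat.card (Matrix.ProjectiveSpecialLinearGroup (Fin n) F))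
    (k l : ℕ) (hk : k = orderOf ((Fintype.card F : ℕ) : ZMod r)) (hl : l = orderOf ((Fintype.card F : ℕ) : ZMod s))
    (h2k : 2 ≤ k) (hkl : k ≤ l) :
    (r * s ∉ Set.range (orderOf : Matrix.ProjectiveSpecialLinearGroup (Fin n) F → ℕ)) ↔ (n < k + l ∧ ¬ k ∣ l) := by
  have hq : 1 ≤ Fintype.card F := Fintype.card_pos
  have hr1 : r.Coprime (Fintype.card F - 1) := coprime_sub_one_of_orderOf_ne_one hq hr (by omega)
  have hs1 : s.Coprime (Fintype.card F - 1) := coprime_sub_one_of_orderOf_ne_one hq hs (by omega)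
  have hrs' : r.Coprime s := (Nat.coprime_primes hr hs).2 hrs
  have hln : l ≤ n := by simpa [← hl] using orderOf_card_le_of_dvd_card_psl p hs hsp hsG
  have hrk : r ∣ Fintype.card F ^ k - 1 := (orderOf_dvd_iff_dvd_pow_sub_one hq).1 (hk ▸ dvd_rfl)
  have hsl : s ∣ Fintype.card F ^ l - 1 := (orderOf_dvd_iff_dvd_pow_sub_one hq).1 (hl ▸ dvd_rfl)
  have : NeZero k := ⟨by omega⟩
  have : NeZero l := ⟨by omega⟩
  rw [Set.mem_range, psl_orderOf_iff_sl (Nat.Coprime.mul_left hr1 hs1)]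
  constructor
  · intro h
    by_contra h1
    apply h
    rcases not_and_or.1 h1 with h2 | h2
    · obtain ⟨a, ha⟩ := exists_extension_orderOf p k hrk
      obtain ⟨b, hb⟩ := exists_extension_orderOf p l hsl
      obtain ⟨A, hA⟩ := exists_sl_orderOf_of_le (F := F) (n := Fin n) (R := _ × _)
        (by simp only [finrank_prod, FiniteField.finrank_extension, Fintype.card_fin]; omega) (a, b)
        (by rw [norm_prod_mk, norm_eq_one_of_coprime hr1 hr.ne_zero (ha ▸ pow_orderOf_eq_one a),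
          norm_eq_one_of_coprime hs1 hs.ne_zero (hb ▸ pow_orderOf_eq_one b), one_mul])
      exact ⟨A, by rw [hA, Prod.orderOf_mk, ha, hb, hrs'.lcm_eq_mul]⟩
    · have hrl : r ∣ Fintype.card F ^ l - 1 :=
        (orderOf_dvd_iff_dvd_pow_sub_one hq).1 (hk ▸ not_not.1 h2)
      obtain ⟨a, ha⟩ := exists_extension_orderOf p l (hrs'.mul_dvd_of_dvd_of_dvd hrl hsl)
      obtain ⟨A, hA⟩ := exists_sl_orderOf_of_le (F := F) (n := Fin n)
        (by simp only [FiniteField.finrank_extension, Fintype.card_fin]; omega) a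
        (norm_eq_one_of_coprime (Nat.Coprime.mul_left hr1 hs1) (mul_ne_zero hr.ne_zero hs.ne_zero)
          (ha ▸ pow_orderOf_eq_one a))
      exact ⟨A, hA.trans ha⟩
  · rintro ⟨h1, h2⟩ ⟨A, hA⟩
    obtain ⟨t, ht⟩ := exists_hasED (Matrix.toLin' (A : Matrix (Fin n) (Fin n) F))
    obtain ⟨x, hx, h3⟩ := ht.exists_orderOf_dvd_natDegree_sl p hr hrp (hA ▸ dvd_mul_right r s)
    obtain ⟨y, hy, h4⟩ := ht.exists_orderOf_dvd_natDegree_sl p hs hsp (hA ▸ dvd_mul_left s r)
    rw [← hk] at h3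
    rw [← hl] at h4
    have hx1 := ht.1.natDegree_le hx
    have hy1 := ht.1.natDegree_le hy
    have hx2 := Nat.le_of_dvd (ht.1.natDegree_pos hx) h3
    have hy2 := Nat.le_of_dvd (ht.1.natDegree_pos hy) h4
    rcases eq_or_ne x y with rfl | hxy
    · have h5 := ht.le_card hx
      rw [Fintype.card_fin] at h5
      obtain ⟨c, hc⟩ := h4
      have h6 : c ≠ 1 := by
        rintro rfl
        exact h2 (by simpa [hc] using h3)
      have h7 : c ≠ 0 := by
        rintro rfl
        omega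
      have : l * 2 ≤ l * c := Nat.mul_le_mul_left _ (by omega)
      omega
    · have h5 := ht.add_le_card hx hy hxy
      rw [Fintype.card_fin] at h5
      omega

end Cfsg.Agent.S2468
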