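import Mathlib
import Cfsg.Statements.S2469
import Cfsg.Agent.KSG.SpecSp

set_option autoImplicit false
open Cfsg

namespace Cfsg.Agent.S2469

open CL.SpecK CL.Orth

/-- Adjacency of two odd primes in the prime graph of PSp(2n,q): let F be a finite field of characteristic p with q elements, n ≥ 2 with PSp(2n,F) simple, and let r ≠ s be odd primes different from p dividing the order of PSp(2n,F). Let k, l be the multiplicative orders of q modulo r and s, put η(m) = m for odd m and η(m) = m/2 for even m, and suppose η(k) ≤ η(l). Then PSp(2n,F) has NO element of order r·s if and only if η(k) + η(l) > n and l/k is not an odd integer. -/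
theorem result {F : Type*} [Field F] [Fintype F] (p : ℕ) [Fact p.Prime] [CharP F p] (n : ℕ) (hn : 2 ≤ n) (hsmall : n = 2 → 3 ≤ Fintype.card F)
    (r s : ℕ) (hr : r.Prime) (hs : s.Prime) (hr2 : r ≠ 2) (hs2 : s ≠ 2) (hrp : r ≠ p) (hsp : s ≠ p) (hrs : r ≠ s)
    (hrG : r ∣ Nat.card (Cfsg.PSp n F)) (hsG : s ∣ Nat.card (Cfsg.PSp n F))
    (k l ηk ηl : ℕ) (hk : k = orderOf ((Fintype.card F : ℕ) : ZMod r)) (hl : l = orderOf ((Fintype.card F : ℕ) : ZMod s))
    (hηk : (Odd k ∧ ηk = k) ∨ (Even k ∧ 2 * ηk = k)) (hηl : (Odd l ∧ ηl = l) ∨ (Even l ∧ 2 * ηl = l)) (hkl : ηk ≤ ηl) :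
    (r * s ∉ Set.range (orderOf : Cfsg.PSp n F → ℕ)) ↔ (n < ηk + ηl ∧ ¬ ∃ t : ℕ, Odd t ∧ l = k * t) := by
  have hp : p.Prime := Fact.out
  have hq : 1 ≤ Fintype.card F := Fintype.card_pos
  have h0 := eta_pos p hr hrp hk hηk
  have h0' := eta_pos p hs hsp hl hηl
  have ho : Odd (r * s) := (hr.odd_of_ne_two hr2).mul (hs.odd_of_ne_two hs2)
  have hc := (Nat.coprime_primes hr hs).2 hrs
  rw [mem_range_PSp_iff]
  constructor
  · intro h
    refine ⟨by_contra fun h1 => ?_, ?_⟩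
    · obtain ⟨ε, h2⟩ := exists_dvd_tq hq hr hr2 hk h0 hηk
      obtain ⟨ε', h2'⟩ := exists_dvd_tq hq hs hs2 hl h0' hηl
      have h3 := ((spO_tq (F := F) (t := (ηk, ε)) h0).of_dvd h2).lcm
        ((spO_tq (F := F) (t := (ηl, ε')) h0').of_dvd h2')
      rw [hc.lcm_eq_mul] at h3
      exact h ((h3.mono (by omega)).spSpec (.inl ho))
    · rintro ⟨t, ht, h1⟩
      have := Fact.mk hs
      obtain ⟨T, j, h2, h3, h4⟩ := struct_of_spSpec p (mem_range_PSp_iff.1
        (exists_prime_orderOf_dvd_card' s hsG)) (.inl (hs.odd_of_ne_two hs2))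
      obtain ⟨u, hu, h5⟩ := exists_mem_of_prime_dvd hp hs hsp h4
      have h6 := Nat.le_of_dvd (h2 u hu) (eta_dvd hq hs hs2 hl hηl h5)
      have h7 := Finset.single_le_sum (f := fun t : ℕ × Bool => t.1) (fun _ _ => Nat.zero_le _) hu
      obtain ⟨ε, h8⟩ : ∃ ε, r * s ∣ tq (Fintype.card F) (ηl, ε) := by
        rcases hηl with ⟨-, h8⟩ | ⟨-, h8⟩
        · exact ⟨false, hc.mul_dvd_of_dvd_of_dvd
            ((prime_dvd_tq_false hq hk _).2 ⟨t, h8.trans h1⟩)
            ((prime_dvd_tq_false hq hl _).2 h8.symm.dvd)⟩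
        · refine ⟨true, hc.mul_dvd_of_dvd_of_dvd
            ((prime_dvd_tq_true hq hr hr2 hk _).2 ⟨⟨t, h8.trans h1⟩, ?_⟩)
            ((prime_dvd_tq_true hq hs hs2 hl _).2 ⟨h8.symm.dvd, fun h' => ?_⟩)⟩
          · rintro ⟨c, hc⟩
            rw [hc, h1, mul_left_comm, Nat.mul_right_inj (by omega)] at h8
            exact Nat.not_even_iff_odd.2 ht (h8 ▸ even_two_mul c)
          · have := Nat.le_of_dvd h0' h'
            omega
      exact h ((((spO_tq (F := F) (t := (ηl, ε)) h0').of_dvd h8).mono (by omega)).spSpec (.inl ho))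
  · rintro ⟨h, h'⟩ h1
    obtain ⟨T, j, h2, h3, h4⟩ := struct_of_spSpec p h1 (.inl ho)
    obtain ⟨t, ht, h5⟩ := exists_mem_of_prime_dvd hp hr hrp ((dvd_mul_right r s).trans h4)
    obtain ⟨u, hu, h5'⟩ := exists_mem_of_prime_dvd hp hs hsp ((dvd_mul_left s r).trans h4)
    have h6 := eta_dvd hq hr hr2 hk hηk h5
    have h6' := eta_dvd hq hs hs2 hl hηl h5'
    have h7 := Nat.le_of_dvd (h2 t ht) h6
    have h7' := Nat.le_of_dvd (h2 u hu) h6'
    by_cases e : t = u
    · subst e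
      have h8 := Finset.single_le_sum (f := fun t : ℕ × Bool => t.1) (fun _ _ => Nat.zero_le _) ht
      obtain ⟨c, hc⟩ := h6'
      have h9 : t.1 = ηl := by
        rcases c with _ | _ | c
        · have := h2 t ht
          omega
        · omega
        · nlinarith
      obtain ⟨d, _ | _⟩ := t
      · obtain rfl : d = ηl := h9
        obtain ⟨c, h10⟩ := (prime_dvd_tq_false hq hk _).1 h5
        have h11 := Nat.le_of_dvd h0' ((prime_dvd_tq_false hq hl _).1 h5')
        rcases hηl with ⟨h12, h13⟩ | ⟨-, h12⟩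
        · exact h' ⟨c, (Nat.odd_mul.1 (h10 ▸ h13 ▸ h12)).2, h13.symm.trans h10⟩
        · omega
      · obtain rfl : d = ηl := h9
        obtain ⟨⟨c, h10⟩, h11⟩ := (prime_dvd_tq_true hq hr hr2 hk _).1 h5
        rcases hηl with ⟨-, h13⟩ | ⟨-, h12⟩
        · exact ((prime_dvd_tq_true hq hs hs2 hl _).1 h5').2 h13.symm.dvd
        · refine h' ⟨c, Nat.not_even_iff_odd.1 ?_, h12.symm.trans h10⟩
          rintro ⟨c, rfl⟩
          exact h11 ⟨c, by rw [← two_mul, mul_left_comm] at h10; omega⟩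
    · have h8 := Finset.sum_le_sum_of_subset (f := fun t : ℕ × Bool => t.1)
        (show {t, u} ⊆ T by simp [Finset.insert_subset_iff, ht, hu])
      rw [Finset.sum_pair e] at h8
      omega

end Cfsg.Agent.S2469
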