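import Mathlib
import Cfsg.Statements.S2472
import Cfsg.Agent.KSG.SpecSp

set_option autoImplicit false
open Cfsg

namespace Cfsg.Agent.S2472

open CL.SpecK CL.Orth

/-- Adjacency of a prime and the characteristic in the prime graph of PSp(2n,q): let F be a finite field of characteristic p with q elements, n ≥ 2 with PSp(2n,F) simple, and let r ≠ p be an odd prime dividing the order of PSp(2n,F), with k the multiplicative order of q modulo r and η(k) = k for odd k, k/2 for even k. Then PSp(2n,F) has NO element of order r·p if and only if η(k) > n − 1. -/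
theorem result {F : Type*} [Field F] [Fintype F] (p : ℕ) [Fact p.Prime] [CharP F p] (n : ℕ) (hn : 2 ≤ n) (hsmall : n = 2 → 3 ≤ Fintype.card F)
    (r : ℕ) (hr : r.Prime) (hr2 : r ≠ 2) (hrp : r ≠ p) (hrG : r ∣ Nat.card (Cfsg.PSp n F))
    (k ηk : ℕ) (hk : k = orderOf ((Fintype.card F : ℕ) : ZMod r)) (hηk : (Odd k ∧ ηk = k) ∨ (Even k ∧ 2 * ηk = k)) :
    (r * p ∉ Set.range (orderOf : Cfsg.PSp n F → ℕ)) ↔ n - 1 < ηk := by
  have hp : p.Prime := Fact.out
  have hq : 1 ≤ Fintype.card F := Fintype.card_pos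
  have h0 := eta_pos p hr hrp hk hηk
  have ho : Odd (r * p) ∨ p = 2 :=
    or_iff_not_imp_right.2 fun h => (hr.odd_of_ne_two hr2).mul (hp.odd_of_ne_two h)
  rw [mem_range_PSp_iff]
  constructor
  · intro h
    by_contra h1
    obtain ⟨ε, h2⟩ := exists_dvd_tq hq hr hr2 hk h0 hηk
    have h3 := ((spO_tq (F := F) (t := (ηk, ε)) h0).of_dvd h2).lcm
      (spO_room p (k := 1) (n := 1) (by simp [room]))
    rw [pow_one, ((Nat.coprime_primes hr hp).2 hrp).lcm_eq_mul] at h3
    exact h ((h3.mono (by omega)).spSpec (ho.imp_right fun e => by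
      subst e; exact CharP.cast_eq_zero F 2))
  · intro h h1
    obtain ⟨T, j, h2, h3, h4⟩ := struct_of_spSpec p h1 ho
    obtain ⟨t, ht, h5⟩ := exists_mem_of_prime_dvd hp hr hrp ((dvd_mul_right r p).trans h4)
    have h6 := Nat.le_of_dvd (h2 t ht) (eta_dvd hq hr hr2 hk hηk h5)
    have h7 := Finset.single_le_sum (f := fun t : ℕ × Bool => t.1) (fun _ _ => Nat.zero_le _) ht
    have h8 : j ≠ 0 := by
      rintro rfl
      rw [pow_zero, one_mul] at h4
      obtain ⟨u, hu, h9⟩ := (hp.prime.dvd_finsetProd_iff _).1 (((dvd_mul_left p r).trans h4).trans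
        (Finset.lcm_dvd fun _ ht => Finset.dvd_prod_of_mem _ ht))
      exact not_dvd_tq hp (char_dvd_card p) hq (h2 u hu) h9
    rw [room, if_neg h8] at h3
    have := Nat.one_le_pow (j - 1) p hp.pos
    omega

end Cfsg.Agent.S2472
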