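import Cfsg.Statements.S2477
import Cfsg.Agent.KSG.AltOrder

set_option autoImplicit false
open Cfsg

namespace Cfsg.Agent.S2477

/-- The reachable (sum, parity, lcm) triples of cycle types on ten points. -/
def states : List (ℕ × ℕ × ℕ) :=
  [(0, 0, 1), (2, 1, 2), (3, 0, 3), (4, 0, 2), (4, 1, 4), (5, 0, 5), (5, 1, 6), (6, 0, 3), (6, 0, 4),
   (6, 1, 2), (6, 1, 6), (7, 0, 6), (7, 0, 7), (7, 1, 10), (7, 1, 12), (8, 0, 2), (8, 0, 4),
   (8, 0, 6), (8, 0, 15), (8, 1, 4), (8, 1, 6), (8, 1, 8), (9, 0, 3), (9, 0, 9), (9, 0, 10),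
   (9, 0, 12), (9, 1, 6), (9, 1, 14), (9, 1, 20), (10, 0, 4), (10, 0, 5), (10, 0, 6), (10, 0, 8),
   (10, 0, 12), (10, 0, 21), (10, 1, 2), (10, 1, 4), (10, 1, 6), (10, 1, 10), (10, 1, 12),
   (10, 1, 30)]

theorem states_closed : ∀ t ∈ states, ∀ a ∈ List.range 11, 2 ≤ a → a + t.1 ≤ 10 →
    (a + t.1, (a + 1 + t.2.1) % 2, Nat.lcm a t.2.2) ∈ states := by
  decide +kernel

theorem states_even : ∀ t ∈ states, t.2.1 = 0 →
    t.2.2 ∈ [1, 2, 3, 4, 5, 6, 7, 8, 9, 10, 12, 15, 21] := by
  decide +kernel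

theorem mem_states (m : Multiset ℕ) (h2 : ∀ a ∈ m, 2 ≤ a) (h1 : m.sum ≤ 10) :
    (m.sum, (m.sum + m.card) % 2, m.lcm) ∈ states := by
  induction m using Multiset.induction_on with
  | empty => simp [states]
  | cons a s ih =>
    rw [Multiset.sum_cons] at h1
    have ih' := ih (fun b hb => h2 b (Multiset.mem_cons_of_mem hb)) (by omega)
    have ha := h2 a (Multiset.mem_cons_self _ _)
    have := states_closed _ ih' a (List.mem_range.2 (by omega)) ha h1
    rw [Multiset.sum_cons, Multiset.card_cons, Multiset.lcm_cons]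
    have e : (a + s.sum + (s.card + 1)) % 2 = (a + 1 + (s.sum + s.card) % 2) % 2 := by omega
    rw [e]
    exact this

/-- The set of element orders of the alternating group of degree 10 is {1, 2, 3, 4, 5, 6, 7, 8, 9, 10, 12, 15, 21}. -/
theorem result : Set.range (orderOf : alternatingGroup (Fin 10) → ℕ) = {1, 2, 3, 4, 5, 6, 7, 8, 9, 10, 12, 15, 21} := by
  ext k
  rw [CL.KSG.mem_range_orderOf_alt_iff]
  constructor
  · rintro ⟨m, h1, h2, h3, rfl⟩
    have := states_even _ (mem_states m h2 h1) (Nat.even_iff.1 h3)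
    simpa using this
  · intro h
    simp only [Set.mem_insert_iff, Set.mem_singleton_iff] at h
    rcases h with rfl | rfl | rfl | rfl | rfl | rfl | rfl | rfl | rfl | rfl | rfl | rfl | rfl
    · exact ⟨0, by decide, by decide, by decide, by decide⟩
    · exact ⟨{2, 2}, by decide, by decide, by decide, by simp⟩
    · exact ⟨{3}, by decide, by decide, by decide, by simp⟩
    · exact ⟨{4, 2}, by decide, by decide, by decide, by simp only [Multiset.insert_eq_cons, Multiset.lcm_cons, Multiset.lcm_singleton, normalize_eq, lcm_eq_nat_lcm]; decide⟩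
    · exact ⟨{5}, by decide, by decide, by decide, by simp⟩
    · exact ⟨{6, 2}, by decide, by decide, by decide, by simp only [Multiset.insert_eq_cons, Multiset.lcm_cons, Multiset.lcm_singleton, normalize_eq, lcm_eq_nat_lcm]; decide⟩
    · exact ⟨{7}, by decide, by decide, by decide, by simp⟩
    · exact ⟨{8, 2}, by decide, by decide, by decide, by simp only [Multiset.insert_eq_cons, Multiset.lcm_cons, Multiset.lcm_singleton, normalize_eq, lcm_eq_nat_lcm]; decide⟩
    · exact ⟨{9}, by decide, by decide, by decide, by simp⟩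
    · exact ⟨{5, 2, 2}, by decide, by decide, by decide, by simp only [Multiset.insert_eq_cons, Multiset.lcm_cons, Multiset.lcm_singleton, normalize_eq, lcm_eq_nat_lcm]; decide⟩
    · exact ⟨{4, 3, 2}, by decide, by decide, by decide, by simp only [Multiset.insert_eq_cons, Multiset.lcm_cons, Multiset.lcm_singleton, normalize_eq, lcm_eq_nat_lcm]; decide⟩
    · exact ⟨{5, 3}, by decide, by decide, by decide, by simp only [Multiset.insert_eq_cons, Multiset.lcm_cons, Multiset.lcm_singleton, normalize_eq, lcm_eq_nat_lcm]; decide⟩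
    · exact ⟨{7, 3}, by decide, by decide, by decide, by simp only [Multiset.insert_eq_cons, Multiset.lcm_cons, Multiset.lcm_singleton, normalize_eq, lcm_eq_nat_lcm]; decide⟩

end Cfsg.Agent.S2477
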