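import Cfsg.Statements.S2493
import Cfsg.Agent.KSG.AltCover3
set_option autoImplicit false
open Cfsg

namespace Cfsg.Agent.S2493

/-- Let n ≥ 5 and let G be a finite perfect group whose centre has order 2 with G/Z(G) isomorphic to the alternating group of degree n (the double cover of the alternating group). Then every element of G is a commutator. -/
theorem result {G : Type*} [Group G] [Finite G] (hperf : commutator G = ⊤) {n : ℕ} (hn : 5 ≤ n)
    (hZ : Nat.card (Subgroup.center G) = 2) (e : G ⧸ Subgroup.center G ≃* alternatingGroup (Fin n))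
    (g : G) :
    ∃ a b : G, a * b * a⁻¹ * b⁻¹ = g := by
  have hσ : CL.Schur.IsCentralExt (e.toMonoidHom.comp (QuotientGroup.mk' (Subgroup.center G))) :=
    ⟨e.surjective.comp (QuotientGroup.mk'_surjective _), fun k hk => by simpa using hk⟩
  obtain ⟨z, hz, hz1, hz2⟩ := CL.AltCover.exists_pair_of_card hZ
  have hz3 : (e.toMonoidHom.comp (QuotientGroup.mk' (Subgroup.center G))) z = 1 := by simpa using hz
  exact CL.AltCover.exists_commutator_eq hn hσ hz3 (fun k hk => hz2 k (hσ.central hk))
    (CL.AltCover.no_section_of_commutator hσ hz3 hz1 (hperf ▸ Subgroup.mem_top z)) g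

end Cfsg.Agent.S2493
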