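import Cfsg.Statements.S2497
import Cfsg.Agent.FGS.CITSpec
set_option autoImplicit false
open Cfsg

namespace Cfsg.Agent.S2497

open CL CL.CITC Subgroup

/-- Let G be a finite non-abelian simple group in which every non-identity element has prime-power order. Then G is isomorphic to one of: the alternating group of degree 6, PSL(2,q) for q ∈ {4, 7, 8, 17}, PSL(3,4), or the Suzuki group over the field with 8 or with 32 elements. -/
theorem result {G : Type*} [Group G] [Finite G] [IsSimpleGroup G] (hG : ¬ IsMulCommutative G)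
    (h : ∀ g : G, g ≠ 1 → IsPrimePow (orderOf g)) :
    Nonempty (G ≃* alternatingGroup (Fin 6)) ∨
    (∃ (F : Type) (_ : Field F) (_ : Fintype F), Fintype.card F ∈ ({4, 7, 8, 17} : Finset ℕ) ∧
      Nonempty (G ≃* Matrix.ProjectiveSpecialLinearGroup (Fin 2) F)) ∨
    (∃ (F : Type) (_ : Field F) (_ : Fintype F), Fintype.card F = 4 ∧
      Nonempty (G ≃* Matrix.ProjectiveSpecialLinearGroup (Fin 3) F)) ∨
    (∃ (F : Type) (_ : Field F) (_ : Fintype F),
      (Fintype.card F = 8 ∧ Nonempty (G ≃* ↥(Cfsg.Lie.Sz F 4))) ∨ (Fintype.card F = 32 ∧ Nonempty (G ≃* ↥(Cfsg.Lie.Sz F 8)))) := by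
  have hs : ¬ Group.IsSolvable G := fun h => hG ⟨⟨IsSimpleGroup.comm_iff_isSolvable.2 h⟩⟩
  have h0 : pCore 2 G = ⊥ := (inferInstance : (pCore 2 G).Normal).eq_bot_or_eq_top.resolve_right
    fun h1 => by
      have := (pCore_eq_top_iff.1 h1).isNilpotent
      exact hs inferInstance
  have f : G ≃* G ⧸ pCore 2 G :=
    ((QuotientGroup.quotientMulEquivOfEq h0).trans QuotientGroup.quotientBot).symm
  rcases Eppo.struct h hs with ⟨F, _, _, h1, ⟨e⟩⟩ | ⟨F, _, _, h1⟩ | ⟨-, ⟨F, _, _, h1, e⟩ | h1 |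
    ⟨N, hN, -, ⟨e⟩⟩⟩
  · exact .inr (.inl ⟨F, _, inferInstance, by rcases h1 with h | h <;> simp [h], ⟨f.trans e⟩⟩)
  · exact .inr (.inr (.inr ⟨F, _, _, h1.imp (And.imp_right fun ⟨e⟩ => ⟨f.trans e⟩)
      (And.imp_right fun ⟨e⟩ => ⟨f.trans e⟩)⟩))
  · exact .inr (.inl ⟨F, _, inferInstance, by rcases h1 with h | h <;> simp [h], e⟩)
  · exact .inr (.inr (.inl h1))
  · rcases hN.eq_bot_or_eq_top with rfl | rfl
    · have := Nat.card_congr e.toEquiv
      rw [nat_card_alternatingGroup] at this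
      simp [Nat.factorial] at this
    · exact .inl ⟨topEquiv.symm.trans e⟩

end Cfsg.Agent.S2497
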