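import Cfsg.Statements.S2530
import Cfsg.Agent.SPOR.SymmCoxeter
import Cfsg.Agent.KSG.AltSylow2

set_option autoImplicit false
open Cfsg

namespace Cfsg.Agent.S2530

open Equiv Equiv.Perm

theorem liftable (n : ℕ) : (CoxeterMatrix.A n).IsLiftable
    (fun i : Fin n => (swap i.castSucc i.succ : Perm (Fin (n + 1)))) := by
  have adj : ∀ i j : Fin n, (i : ℕ) + 1 = j →
      (swap i.castSucc i.succ * swap j.castSucc j.succ : Perm (Fin (n + 1))) ^ 3 = 1 := by
    intro i j h
    have e : j.castSucc = i.succ := Fin.ext (by simp [h])
    rw [e, swap_comm]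
    have := (isThreeCycle_swap_mul_swap_same (a := i.succ) (b := i.castSucc) (c := j.succ)
      (by intro h'; have := congrArg Fin.val h'; simp at this)
      (by intro h'; have := congrArg Fin.val h'; simp at this; omega)
      (by intro h'; have := congrArg Fin.val h'; simp at this; omega)).orderOf
    rw [← this, pow_orderOf_eq_one]
  intro i j
  show _ ^ (if i = j then 1 else (if (j : ℕ) + 1 = i ∨ (i : ℕ) + 1 = j then 3 else 2)) = 1
  split_ifs with h1 h2
  · rw [h1, pow_one, swap_mul_self]
  · rcases h2 with h2 | h2
    · have := adj j i h2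
      rw [← inv_eq_one, ← inv_pow, mul_inv_rev, swap_inv, swap_inv] at this
      exact this
    · exact adj i j h2
  · have h1' : (i : ℕ) ≠ j := fun h => h1 (Fin.ext h)
    push Not at h2
    rw [(CL.KSG.commute_swap_swap (a := i.castSucc) (b := i.succ) (c := j.castSucc) (d := j.succ)
      (by intro h'; have := congrArg Fin.val h'; simp at this; omega)
      (by intro h'; have := congrArg Fin.val h'; simp at this; omega)
      (by intro h'; have := congrArg Fin.val h'; simp at this; omega)
      (by intro h'; have := congrArg Fin.val h'; simp at this; omega)).mul_pow]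
    simp [pow_two]

/-- The Coxeter presentation of the symmetric group: for every n, the symmetric group on n+1 letters is the Coxeter group of type A_n with the adjacent transpositions (i, i+1) as simple reflections; that is, it is presented by generators r_1, …, r_n subject to r_i² = 1, (r_i r_j)² = 1 for |i − j| > 1 and (r_i r_{i+1})³ = 1, with r_i mapping to (i, i+1). -/
theorem result (n : ℕ) :
    ∃ cs : CoxeterSystem (CoxeterMatrix.A n) (Equiv.Perm (Fin (n + 1))), ∀ i : Fin n, cs.simple i = Equiv.swap i.castSucc i.succ := by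
  let cs := (CoxeterMatrix.A n).toCoxeterSystem
  have hM : ∀ i j : Fin n, CoxeterMatrix.A n i j =
      if i = j then 1 else (if (j : ℕ) + 1 = i ∨ (i : ℕ) + 1 = j then 3 else 2) := fun _ _ => rfl
  obtain ⟨φ, hφ⟩ := CL.exists_perm_hom_of_braid n cs.simple cs.simple_mul_simple_self
    (fun i j h => by
      have h1 := cs.simple_mul_simple_pow i j
      rw [hM, if_neg (by intro h'; rw [h'] at h; omega), if_neg (by omega), pow_two] at h1
      have h2 : cs.simple i * cs.simple j = (cs.simple i * cs.simple j)⁻¹ :=
        eq_inv_of_mul_eq_one_left h1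
      rw [mul_inv_rev, cs.inv_simple, cs.inv_simple] at h2
      exact h2)
    (fun i j h => by
      have h1 := cs.simple_mul_simple_pow i j
      rw [hM, if_neg (by intro h'; rw [h'] at h; omega), if_pos (by omega)] at h1
      have h2 : (cs.simple i * cs.simple j * cs.simple i) * (cs.simple j * cs.simple i * cs.simple j)
          = 1 := by rw [← h1]; simp only [pow_succ, pow_zero, one_mul, mul_assoc]
      rw [eq_inv_of_mul_eq_one_left h2]
      simp only [mul_inv_rev, cs.inv_simple, mul_assoc])
  let ψ := cs.lift ⟨_, liftable n⟩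
  have hψ : ∀ i, ψ (cs.simple i) = swap i.castSucc i.succ := cs.lift_apply_simple (liftable n)
  have h1 : φ.comp ψ = MonoidHom.id _ := cs.ext_simple fun i => by
    rw [MonoidHom.comp_apply, hψ, hφ]; rfl
  have h2 : ψ.comp φ = MonoidHom.id _ := by
    apply MonoidHom.eq_of_eqOn_denseM (mclosure_swap_castSucc_succ n)
    rintro _ ⟨i, rfl⟩
    show ψ (φ _) = _
    rw [hφ, hψ]; rfl
  exact ⟨⟨MonoidHom.toMulEquiv φ ψ h2 h1⟩, hψ⟩

end Cfsg.Agent.S2530
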