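import Cfsg.Statements.S2652
import Cfsg.Agent.SPOR.FiP6
import Cfsg.Agent.SPOR.FiEx23
import Cfsg.Agent.SPOR.FiC4
import Cfsg.Agent.SPOR.FiP1

set_option autoImplicit false
open Cfsg

namespace Cfsg.Agent.S2652

/-- Let T be a Sylow 2-subgroup of the Fischer group Fi₂₃ (the finitely presented group `Spor.Fi23`; T has order 2¹⁸). Then every elementary abelian subgroup of Fi₂₃ contained in T and normal in T has order at most 2¹¹, and there is exactly one such subgroup of order 2¹¹. -/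
theorem result
    (T : Sylow 2 Cfsg.Spor.Fi23) :
    (∀ A : Subgroup Cfsg.Spor.Fi23, A ≤ T → (A.subgroupOf T).Normal → Cfsg.IsElementaryAbelian 2 A →
        Nat.card A ≤ 2 ^ 11) ∧
    ∃! A : Subgroup Cfsg.Spor.Fi23, A ≤ T ∧ (A.subgroupOf T).Normal ∧ Cfsg.IsElementaryAbelian 2 A ∧
        Nat.card A = 2 ^ 11 := by
  have := CL.Fi23.isSimpleGroup
  obtain ⟨x, y, hxy⟩ := CL.FiC.not_comm_of_simple (X := Cfsg.Spor.Fi23)
    (by rw [CL.Fi23.card]; exact Nat.not_prime_of_dvd_of_lt (m := 2) (by norm_num) le_rfl (by norm_num))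
  exact CL.FiP.sylow23 CL.Fi.D23.is23 ⟨CL.FiA.lv23 CL.Fi.D23.is23,
    CL.Fi23.isThreeTranspositionClass.2.2, CL.FiP.center_eq_bot_of_simple hxy⟩
    (CL.Fi23.letter_mem (a := 0) (by norm_num)) T

end Cfsg.Agent.S2652
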