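import Cfsg.Statements.S2806
import Cfsg.Agent.TECH.WielJoin
import Cfsg.Agent.TECH.PRed2

set_option autoImplicit false
open Cfsg

namespace Cfsg.Agent.S2806

open CL.MSS Subgroup

theorem kieler_loc {H : Type*} [Group H] [Finite H] {p : ℕ} [Fact p.Prime]
    (hH : Cfsg.IsOfLocalCharacteristic p H) {T : Subgroup H} (hT : SylIn p T ⊤) {L : Subgroup H}
    (hL : L.IsSubnormal) (h : T ⊓ L ≠ ⊥) :
    L ⊓ centralizer (omegaZ p T : Set H) = L ⊓ centralizer (omegaZ p (T ⊓ L) : Set H) := by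
  refine subnormal_induction (L := ⊤) (motive := fun L => T ⊓ L ≠ ⊥ →
    L ⊓ centralizer (omegaZ p T : Set H) = L ⊓ centralizer (omegaZ p (T ⊓ L) : Set H))
    (fun _ => by rw [inf_top_eq]) ?_ le_top (isSubnormal_subgroupOf_top_iff.2 hL) h
  intro A K hAK _ hn hK h1 hA
  rw [isSubnormal_subgroupOf_top_iff] at hK
  have h2 := h1 fun e => hA (le_bot_iff.1 ((inf_le_inf_left T hAK).trans e.le))
  have hS : SylIn p (T ⊓ K) K := sylIn_inf_subnormal hT hK
  set Z := omegaZ p (T ⊓ K) ⊓ A with hZ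
  have hZp : IsPGroup p Z := (elemAb_isPGroup (elemAb_omegaZ _)).to_le inf_le_left
  have hZ0 : Z ≤ omegaZ p (T ⊓ A) :=
    elemAb_le_omegaZ (elemAb_of_le (elemAb_omegaZ _) inf_le_left)
      (inf_le_inf_right _ ((omegaZ_le _).trans inf_le_left))
      (inf_le_left.trans ((omegaZ_le_centralizer _).trans (centralizer_anti (inf_le_inf_left _ hAK))))
  have hZ1 : Z ≠ ⊥ := by
    have h3 := inf_centralizer_ne_bot hS.pgroup (hT.pgroup.to_le (inf_le_left : T ⊓ A ≤ T))
      (le_normalizer_inf (inf_le_left.trans le_normalizer) (inf_le_right.trans hn)) hA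
    obtain ⟨x, hx⟩ := exists_prime_orderOf_dvd_card' p
      (dvd_card_of_isPGroup_le (hT.pgroup.to_le (inf_le_left.trans inf_le_left)) h3 le_rfl)
    intro e
    have h4 : (x : H) ∈ Z := by
      refine mem_inf.2 ⟨mem_omegaZ_iff.2 ⟨mem_inf.2 ⟨x.2.1.1, hAK x.2.1.2⟩, x.2.2, ?_⟩, x.2.1.2⟩
      rw [← hx, ← Subgroup.coe_pow, pow_orderOf_eq_one, Subgroup.coe_one]
    rw [e, mem_bot] at h4
    rw [show x = 1 from Subtype.ext h4, orderOf_one] at hx
    exact (Fact.out : p.Prime).one_lt.ne hx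
  have hN : CharPIn p (normalizer (Z : Set H)) := charP_iff.1 (hH.2 Z hZp hZ1)
  have hM : CharPIn p (K ⊓ normalizer (Z : Set H)) := hN.of_subnormal inf_le_right
    (isSubnormal_subgroupOf_inf (isSubnormal_subgroupOf_top_iff.2 hK) le_top)
  have hTN : T ⊓ K ≤ normalizer (Z : Set H) :=
    ((le_centralizer_omegaZ _).trans (centralizer_anti inf_le_left)).trans
      (centralizer_le_normalizer _)
  have h3 := kieler_normal hM (hS.inf_of_le hTN) (inf_le_inf_right _ hAK)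
    (le_normalizer_inf (inf_le_left.trans hn) (inf_le_right.trans le_normalizer))
  have h4 : T ⊓ K ⊓ (A ⊓ normalizer (Z : Set H)) = T ⊓ A :=
    le_antisymm (inf_le_inf inf_le_left inf_le_left)
      (le_inf (inf_le_inf_left _ hAK) (le_inf inf_le_right ((inf_le_inf_left _ hAK).trans hTN)))
  rw [h4] at h3
  have h5 : ∀ W : Subgroup H, Z ≤ W → A ⊓ normalizer (Z : Set H) ⊓ centralizer (W : Set H) =
      A ⊓ centralizer (W : Set H) := fun W hW => by
    rw [inf_assoc, inf_of_le_right ((centralizer_anti hW).trans (centralizer_le_normalizer _))]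
  rw [h5 _ inf_le_left, h5 _ hZ0] at h3
  rw [← h3, ← inf_of_le_left hAK, inf_assoc, inf_assoc, h2]

theorem ps_eq {H : Type*} [Group H] [Finite H] {p : ℕ} [Fact p.Prime]
    (hH : Cfsg.IsOfLocalCharacteristic p H) {T : Subgroup H} (hT : SylIn p T ⊤) {L : Subgroup H}
    (hL : L.IsSubnormal) : Cfsg.pointStabilizer p L (T ⊓ L) =
      Cfsg.pElementClosure p (L ⊓ centralizer (omegaZ p T : Set H)) := by
  by_cases h : T ⊓ L = ⊥
  · have key : ∀ C : Subgroup H, Cfsg.pElementClosure p (L ⊓ C) = ⊥ := by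
      intro C
      rw [eq_bot_iff, Cfsg.pElementClosure, closure_le]
      rintro x ⟨hx, k, hk⟩
      have := (sylIn_inf_subnormal hT hL).max (zpowers x)
        (isPGroup_zpowers (k := k) (hk ▸ pow_orderOf_eq_one x)) (h ▸ bot_le) (zpowers_le.2 hx.1)
      rw [h] at this
      exact this ▸ mem_zpowers x
    exact (key _).trans (key _).symm
  · rw [kieler_loc hH hT hL h]; rfl

/-- Let H be a finite group of local characteristic p, T a Sylow p-subgroup, and L₁, L₂ subnormal subgroups of H generating the subgroup L. Then the point stabilizer of L with respect to T ∩ L is generated by the point stabilizers of L₁ and L₂ with respect to T ∩ L₁ and T ∩ L₂ (point stabilizer of X w.r.t. R: the subgroup generated by the p-elements of X centralizing Ω₁(Z(R))). -/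
theorem result {H : Type*} [Group H] [Finite H] {p : ℕ} [Fact p.Prime] (hH : Cfsg.IsOfLocalCharacteristic p H) (T : Sylow p H) (L₁ L₂ : Subgroup H) (h₁ : L₁.IsSubnormal) (h₂ : L₂.IsSubnormal) : Cfsg.pointStabilizer p (L₁ ⊔ L₂) ((T : Subgroup H) ⊓ (L₁ ⊔ L₂)) = Cfsg.pointStabilizer p L₁ ((T : Subgroup H) ⊓ L₁) ⊔ Cfsg.pointStabilizer p L₂ ((T : Subgroup H) ⊓ L₂) := by
  have hT := sylIn_top T
  rw [ps_eq hH hT h₁, ps_eq hH hT h₂, ps_eq hH hT (CL.isSubnormal_sup h₁ h₂)]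
  refine le_antisymm ?_ (sup_le (Subgroup.closure_mono fun x hx => ⟨mem_inf.2 ⟨mem_sup_left hx.1.1, hx.1.2⟩, hx.2⟩)
    (Subgroup.closure_mono fun x hx => ⟨mem_inf.2 ⟨mem_sup_right hx.1.1, hx.1.2⟩, hx.2⟩))
  rw [Cfsg.pElementClosure, closure_le]
  rintro x ⟨hx, k, hk⟩
  obtain ⟨P, hP, hxP⟩ := exists_sylIn_ge (isPGroup_zpowers (k := k) (hk ▸ pow_orderOf_eq_one x))
    (zpowers_le.2 hx.2)
  have hP' := hP.trans_of_sylIn le_top hT (le_centralizer_omegaZ _)
  have h := wielandt_join hP' (CL.SnIn.top_iff.2 h₁) (CL.SnIn.top_iff.2 h₂)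
  have key : ∀ L : Subgroup H, P ⊓ L ≤
      Cfsg.pElementClosure p (L ⊓ centralizer (omegaZ p (T : Subgroup H) : Set H)) := by
    intro L y hy
    refine subset_closure ⟨mem_inf.2 ⟨hy.2, hP.le hy.1⟩, ?_⟩
    obtain ⟨j, hj⟩ := isPGroup_iff_mem.1 hP.pgroup y hy.1
    obtain ⟨i, -, hi⟩ := (Nat.dvd_prime_pow Fact.out).1 (orderOf_dvd_of_pow_eq_one hj)
    exact ⟨i, hi⟩
  exact sup_le_sup (key L₁) (key L₂) (h ▸ mem_inf.2 ⟨hxP (mem_zpowers x), hx.1⟩)

end Cfsg.Agent.S2806
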