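import Cfsg.Statements.S2810
import Cfsg.Agent.TECH.CharP

set_option autoImplicit false
open Cfsg

namespace Cfsg.Agent.S2810

open CL.MSS Subgroup
open scoped commutatorElement

/-- Let H be a finite group of characteristic p and L a subgroup of H centralizing every factor of some H-invariant chain 1 = A₀ ≤ A₁ ≤ … ≤ Aₙ = O_p(H) of normal subgroups (that is, [A_{i+1}, L] ≤ Aᵢ for each i). Then L ≤ O_p(H). -/
theorem result {H : Type*} [Group H] [Finite H] {p : ℕ} [Fact p.Prime] (hchar : Subgroup.centralizer (Cfsg.pCore p H : Set H) ≤ Cfsg.pCore p H) (L : Subgroup H) (n : ℕ) (A : Fin (n + 1) → Subgroup H) (h0 : A 0 = ⊥) (hn : A (Fin.last n) = Cfsg.pCore p H) (hmono : Monotone A) (hnorm : ∀ i, (A i).Normal) (hcent : ∀ i : Fin n, ⁅A i.succ, L⁆ ≤ A i.castSucc) : L ≤ Cfsg.pCore p H := by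
  refine le_trans le_normalClosure (le_pcore normalClosure_normal ?_)
  have hc : ∀ i : Fin n, ⁅A i.succ, normalClosure (L : Set H)⁆ ≤ A i.castSucc := fun i => by
    have := hnorm i.succ
    have := hnorm i.castSucc
    exact commutator_normalClosure_le (hcent i)
  refine isPGroup_of_forall_coprime fun x hxL hx => ?_
  refine eq_one_of_coprime_of_mem pcore_isPGroup hx (hchar ?_)
  have h := mem_centralizer_of_chain hx n (fun i => A ⟨n - i, by omega⟩)
    (fun i _ => pcore_isPGroup.to_le ((hmono (Fin.le_last _)).trans hn.le))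
    (fun i hi r hr => by
      have h1 : (⟨n - i, by omega⟩ : Fin (n + 1)) = (⟨n - (i + 1), by omega⟩ : Fin n).succ := by
        ext; simp; omega
      rw [h1] at hr
      exact hc ⟨n - (i + 1), by omega⟩ (commutator_mem_commutator hr hxL))
    (by simpa using h0)
  rw [← hn]
  exact h

end Cfsg.Agent.S2810
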