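import Cfsg.Statements.S2813
import Cfsg.Agent.TECH.CharP

set_option autoImplicit false
open Cfsg

namespace Cfsg.Agent.S2813

open CL.MSS Subgroup
open scoped commutatorElement

/-- Let K be a subgroup of the finite group H with O_p(K) = 1 and Y a p-subgroup of N_H(K) with [K, Y, Y] = 1. Then [K, Y] = 1. -/
theorem result {H : Type*} [Group H] [Finite H] {p : ℕ} [Fact p.Prime] (K : Subgroup H) (hO : Cfsg.pCore p ↥K = ⊥) (Y : Subgroup H) (hY : IsPGroup p ↥Y) (hYK : Y ≤ Subgroup.normalizer (K : Set H)) (hq : ⁅⁅K, Y⁆, Y⁆ = ⊥) : ⁅K, Y⁆ = ⊥ := by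
  have hKY : ⁅K, Y⁆ ≤ K := le_normalizer_iff_commutator_le_left.1 hYK
  have hc : ⁅K, Y⁆ ≤ centralizer (Y : Set H) := commutator_eq_bot_iff_le_centralizer.1 hq
  have hn : K ≤ normalizer (⁅K, Y⁆ : Subgroup H) := normalizer_commutator_ge_left K Y
  -- `⁅K, Y⁆` is abelian
  have hab : ⁅K, Y⁆ ≤ centralizer ((⁅K, Y⁆ : Subgroup H) : Set H) := by
    rw [commutator_le]
    intro k hk y hy z hz
    have h1 : y * z = z * y := hc hz y hy
    have h2 : y * (k⁻¹ * z * k) = (k⁻¹ * z * k) * y :=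
      hc (conj_mem_of_mem_normalizer' (hn hk) hz) y hy
    have h3 : z * y⁻¹ = y⁻¹ * z := by
      rw [eq_inv_mul_iff_mul_eq, ← mul_assoc, h1, mul_inv_cancel_right]
    rw [commutatorElement_def]
    calc z * (k * y * k⁻¹ * y⁻¹) = k * ((k⁻¹ * z * k) * y) * k⁻¹ * y⁻¹ := by group
      _ = k * y * k⁻¹ * (z * y⁻¹) := by rw [← h2]; group
      _ = k * y * k⁻¹ * y⁻¹ * z := by rw [h3]; group
  have hp : IsPGroup p (⁅K, Y⁆ : Subgroup H) := by
    rw [isPGroup_iff_mem]
    intro g hg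
    rw [Subgroup.commutator_def] at hg
    induction hg using closure_induction with
    | mem x hx =>
      obtain ⟨k, hk, y, hy, rfl⟩ := hx
      obtain ⟨m, hm⟩ := isPGroup_iff_mem.1 hY y hy
      exact ⟨m, commutatorElement_pow_eq_one_of_commute
        (hc (commutator_mem_commutator hk hy) y hy).symm hm⟩
    | one => exact ⟨0, by simp⟩
    | mul x y hx hy ihx ihy =>
      obtain ⟨a, ha⟩ := ihx
      obtain ⟨b, hb⟩ := ihy
      have hxy : Commute x y := hab hy x hx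
      refine ⟨a + b, ?_⟩
      rw [hxy.mul_pow, pow_add, pow_mul, ha, mul_comm (p ^ a), pow_mul, hb]
      simp
    | inv x hx ih =>
      obtain ⟨a, ha⟩ := ih
      exact ⟨a, by rw [inv_pow, ha, inv_one]⟩
  have := le_pcoreOf hKY hn hp
  rwa [pcoreOf_eq_bot_iff.2 hO, le_bot_iff] at this

end Cfsg.Agent.S2813
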