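import Cfsg.Statements.S2815
import Cfsg.Agent.TECH.FStarPP
import Cfsg.Agent.TECH.PIrr

set_option autoImplicit false
open Cfsg

namespace Cfsg.Agent.S2815

open CL.MSS Subgroup

/-- Let H be a finite group and p a prime dividing its order with O_p(H) = 1, and suppose K = O^p(H) (generated by the elements of order prime to p) is quasisimple. Then K = F*(H); for every nontrivial p-subgroup Y of H, K = [K, Y] and K lies in the subgroup generated by the K-conjugates of Y; every normal subgroup of H not containing K has order prime to p; and H is p-irreducible. -/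
theorem result {H : Type*} [Group H] [Finite H] {p : ℕ} [Fact p.Prime] (hp : p ∣ Nat.card H) (hO : Cfsg.pCore p H = ⊥) (hq : Cfsg.IsQuasisimple ↥(Cfsg.pResidual p H)) : Cfsg.pResidual p H = Cfsg.generalizedFittingSubgroup H ∧ (∀ Y : Subgroup H, IsPGroup p ↥Y → Y ≠ ⊥ → ⁅Cfsg.pResidual p H, Y⁆ = Cfsg.pResidual p H ∧ Cfsg.pResidual p H ≤ ⨆ k : ↥(Cfsg.pResidual p H), Y.map (MulAut.conj (k : H)).toMonoidHom) ∧ (∀ C : Subgroup H, C.Normal → ¬ Cfsg.pResidual p H ≤ C → (Nat.card ↥C).Coprime p) ∧ Cfsg.IsPIrreducible p H := by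
  have hn : (Cfsg.pResidual p H).Normal := pres_normal
  have hK : Cfsg.IsComponent (Cfsg.pResidual p H) := CL.Comp.isComponent_of_normal hq
  have hF : (Nat.card (Cfsg.fittingSubgroup H)).Coprime p :=
    coprime_card_of_forall_isPGroup fun _ h hP => eq_bot_of_le_fitting hO hP h
  have h1 : Cfsg.pResidual p H = Cfsg.generalizedFittingSubgroup H := by
    refine le_antisymm hK.le_fstar ?_
    rw [CL.Comp.fstar_def]
    refine sup_le (CL.Comp.layer_le_iff.2 fun L hL => ?_) fun x hx => mem_pres ?_
    · exact (perfect_le_presOf (p := p) hL.commutator_self).trans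
        ((presOf_mono le_top).trans presOf_top.le)
    · exact Nat.Coprime.coprime_dvd_left (orderOf_dvd_natCard _ hx) hF
  have h3 : ∀ C : Subgroup H, C.Normal → ¬ Cfsg.pResidual p H ≤ C → (Nat.card ↥C).Coprime p := by
    intro C hC h
    have := (hK.le_or_commutator_eq_bot hC.isSubnormal).resolve_left h
    rw [h1, commutator_eq_bot_iff_le_centralizer, le_centralizer_iff] at this
    exact Nat.Coprime.coprime_dvd_left
      (card_dvd_of_le (this.trans CL.Comp.centralizer_fstar_le_fitting)) hF
  refine ⟨h1, fun Y hY hY1 => ?_, h3, ?_⟩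
  · have h2 : ⁅Cfsg.pResidual p H, Y⁆ = Cfsg.pResidual p H := by
      refine (hK.commutator_eq_bot_or_eq le_normalizer_of_normal).resolve_left fun h => hY1 ?_
      rw [h1, commutator_eq_bot_iff_le_centralizer, le_centralizer_iff] at h
      exact eq_bot_of_centralizes_fstar hO hY h
    refine ⟨h2, h2.ge.trans ?_⟩
    rw [Subgroup.commutator_comm]
    exact commutator_le_ncl _ _
  · rw [← isPIrreducible_top_iff, isPIrreducible_iff]
    refine ⟨fun h => ?_, fun N _ hN h => ?_⟩
    · have := coprime_card_of_forall_isPGroup (p := p) (C := (⊤ : Subgroup H)) fun P _ hP =>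
        le_bot_iff.1 (hO ▸ isPClosed_iff_top.1 (isPClosed_top_iff.1 h) P hP)
      rw [card_top, Nat.coprime_comm, Nat.Prime.coprime_iff_not_dvd Fact.out] at this
      exact this hp
    · rw [presOf_top]
      by_contra hc
      have := h3 N (normalizer_eq_top_iff.1 (top_le_iff.1 hN)) hc
      refine h (isPClosed_iff.2 fun Q hQ hQp => ?_)
      obtain ⟨k, hk⟩ := IsPGroup.iff_card.1 hQp
      have h4 : (Nat.card Q).Coprime (p ^ k) :=
        (Nat.Coprime.coprime_dvd_left (card_dvd_of_le hQ) this).pow_right k
      rw [← hk, Nat.coprime_self, card_eq_one] at h4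
      rw [h4]; exact bot_le

end Cfsg.Agent.S2815
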