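import Cfsg.Statements.S2816
import Cfsg.Agent.TECH.FStarPP

set_option autoImplicit false
open Cfsg

namespace Cfsg.Agent.S2816

open CL.MSS Subgroup

/-- Let H be a finite group and p a prime with O_p(H) = 1, and Y a p-subgroup of H. Then for every subnormal subgroup K of H containing Y, [F*(H), Y] = [F*(K), Y] = [F*(K), Y, Y]; and if Y₀ ≤ Y with [F*(H), Y, Y₀] = 1 then Y₀ = 1 (in particular [F*(H), Y] = 1 forces Y = 1). -/
theorem result {H : Type*} [Group H] [Finite H] {p : ℕ} [Fact p.Prime] (hO : Cfsg.pCore p H = ⊥) (Y : Subgroup H) (hY : IsPGroup p ↥Y) : (∀ K : Subgroup H, K.IsSubnormal → Y ≤ K → ⁅Cfsg.generalizedFittingSubgroup H, Y⁆ = ⁅(Cfsg.generalizedFittingSubgroup ↥K).map K.subtype, Y⁆ ∧ ⁅(Cfsg.generalizedFittingSubgroup ↥K).map K.subtype, Y⁆ = ⁅⁅(Cfsg.generalizedFittingSubgroup ↥K).map K.subtype, Y⁆, Y⁆) ∧ (∀ Y₀ : Subgroup H, Y₀ ≤ Y → ⁅⁅Cfsg.generalizedFittingSubgroup H, Y⁆, Y₀⁆ = ⊥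 → Y₀ = ⊥) := by
  obtain ⟨h1, h2⟩ := fstarOf_eq_self_and hO (Normal.isSubnormal inferInstance)
    (le_refl (Cfsg.generalizedFittingSubgroup H))
  have hn : Y ≤ normalizer (Cfsg.generalizedFittingSubgroup H : Set H) := le_normalizer_of_normal
  have h3 := fstar_pp_commutator h1 h2 hY hn
  refine ⟨fun K hK hYK => ?_, fun Y₀ hY₀ h => ?_⟩
  · have h4 : ⁅Cfsg.generalizedFittingSubgroup H, Y⁆ ≤ CL.Comp.fstarOf K := by
      rw [CL.Comp.fstarOf_of_subnormal hK]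
      exact le_inf (commutator_le_left_of_normalizes hn) (le_of_commutator_eq_of_subnormal h3 hK hYK)
    have h5 : ⁅Cfsg.generalizedFittingSubgroup H, Y⁆ = ⁅CL.Comp.fstarOf K, Y⁆ :=
      le_antisymm (h3.ge.trans (commutator_mono h4 le_rfl))
        (commutator_mono (CL.Comp.fstarOf_le_fstar hK) le_rfl)
    refine ⟨h5, ?_⟩
    change ⁅CL.Comp.fstarOf K, Y⁆ = ⁅⁅CL.Comp.fstarOf K, Y⁆, Y⁆
    rw [← h5, h3]
  · refine eq_bot_of_centralizes_fstar hO (hY.to_le hY₀) (le_centralizer_iff.1 ?_)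
    rw [← fstar_pp_sup h1 h2 hY hn]
    exact sup_le (commutator_eq_bot_iff_le_centralizer.1 h)
      (inf_le_right.trans (centralizer_le hY₀))

end Cfsg.Agent.S2816
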