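import Cfsg.Statements.S2817
import Cfsg.Agent.TECH.FStarPP
import Cfsg.Agent.TECH.PRed

set_option autoImplicit false
open Cfsg

namespace Cfsg.Agent.S2817

open CL.MSS Subgroup

/-- Let H be a finite group and p a prime with O_p(H) = 1, Q a p-subgroup of H, L = [F*(H), Q], and F the largest normal subgroup of F*(H) centralized by Q (a normal subgroup of F*(H) centralized by Q and containing every such). Then F = C_{F*(H)}(LQ); L = [L, Q]; L ∩ F ≤ Φ(L); every p-subgroup B of N_H(Q) with [L, B] ≤ F satisfies [L, B] = 1; and C_H(FL) has order prime to p. -/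
theorem result {H : Type*} [Group H] [Finite H] {p : ℕ} [Fact p.Prime] (hO : Cfsg.pCore p H = ⊥) (Q : Subgroup H) (hQ : IsPGroup p ↥Q) (L : Subgroup H) (hL : L = ⁅Cfsg.generalizedFittingSubgroup H, Q⁆) (F : Subgroup H) (hF : F ≤ Cfsg.generalizedFittingSubgroup H ∧ Cfsg.generalizedFittingSubgroup H ≤ Subgroup.normalizer (F : Set H) ∧ Q ≤ Subgroup.centralizer (F : Set H) ∧ ∀ N : Subgroup H, N ≤ Cfsg.generalizedFittingSubgroup H → Cfsg.generalizedFittingSubgroup H ≤ Subgroup.normalizer (N : Set H) → Q ≤ Subgroup.centralizer (N : Set H) → N ≤ F) : F = Cfsg.generalizedFittingSubgroup H ⊓ Subgroup.centralizer ((L ⊔ Q : Subgroup H) : Set H) ∧ ⁅L, Q⁆ = L ∧ L ⊓ F ≤ (frattini ↥L).map L.subtype ∧ (∀ B : Subgroup H, IsPGroup p ↥B → B ≤ Subgroup.normalizer (Q : Set H) → ⁅L, B⁆ ≤ F → ⁅L, B⁆ = ⊥) ∧ (Nat.card ↥(Subgroup.centralizer ((F ⊔ L : Subgroup H) : Set H))).Coprime p := by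
  obtain ⟨hF1, hF2, hF3, hF4⟩ := hF
  set E := Cfsg.generalizedFittingSubgroup H with hE
  have hEn : E.Normal := inferInstance
  obtain ⟨h1, h2⟩ := fstarOf_eq_self_and hO hEn.isSubnormal (le_refl E)
  have hn : ∀ Y : Subgroup H, Y ≤ normalizer (E : Set H) := fun Y => le_normalizer_of_normal
  have hLE : L ≤ E := hL ▸ commutator_le_left_of_normalizes (hn Q)
  have hEL : E ≤ normalizer (L : Set H) := hL ▸ le_normalizer_commutator_left
  have hQL : Q ≤ normalizer (L : Set H) := hL ▸ CL.Comp.le_normalizer_commutator_of_le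
  have sn : ∀ N : Subgroup H, N ≤ E → E ≤ normalizer (N : Set H) → N.IsSubnormal := fun N h h' =>
    (CL.SnIn.of_le_normalizer h h').isSubnormal hEn.isSubnormal
  obtain ⟨h3, h4⟩ := fstarOf_eq_self_and hO (sn L hLE hEL) hLE
  have hFL : F ≤ centralizer (L : Set H) := by
    rw [← commutator_eq_bot_iff_le_centralizer, Subgroup.commutator_comm, hL]
    refine commutator_commutator_eq_bot_of_rotate ?_ ?_
    · rw [commutator_eq_bot_iff_le_centralizer.2 hF3, commutator_bot_left]
    · exact commutator_eq_bot_iff_le_centralizer.2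
        ((commutator_le_left_of_normalizes hF2).trans (le_centralizer_iff.1 hF3))
  have ha : F = E ⊓ centralizer ((L ⊔ Q : Subgroup H) : Set H) := by
    refine le_antisymm (le_inf hF1 ?_) (hF4 _ inf_le_left ?_ ?_)
    · rw [centralizer_sup']; exact le_inf hFL (le_centralizer_iff.1 hF3)
    · refine le_normalizer_inf le_normalizer ?_
      rw [← fstar_pp_sup h1 h2 hQ (hn Q), ← hL]
      refine sup_le ?_ (le_normalizer_centralizer (le_normalizer_sup (inf_le_left.trans hEL)
        (inf_le_right.trans (centralizer_le_normalizer _))))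
      exact (le_centralizer_iff.1 (centralizer_anti le_sup_left)).trans (centralizer_le_normalizer _)
    · exact le_centralizer_iff.1 (inf_le_right.trans (centralizer_anti le_sup_right))
  have hb : ⁅L, Q⁆ = L := by rw [hL]; exact fstar_pp_commutator h1 h2 hQ (hn Q)
  have hc : L ⊓ F ≤ (frattini L).map L.subtype := by
    refine le_trans (le_inf ?_ (inf_le_right.trans hFL)) commutator_inf_center_le_frattini
    intro z hz
    obtain ⟨k, hk⟩ := IsPGroup.iff_card.1 hQ
    have h5 := pow_card_mem_commutator_self hQL (hb.ge hz.1) (le_centralizer_iff.1 hF3 hz.2)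
    rw [hk] at h5
    refine mem_of_pow_mem_of_coprime ?_ h5
    refine Nat.Coprime.coprime_dvd_left (orderOf_dvd_natCard _ ?_) (coprime_card_fittingOf h4)
    refine CL.le_fittingOf (N := L ⊓ centralizer (L : Set H)) inf_le_left
      (le_normalizer_inf le_normalizer (le_normalizer_centralizer le_normalizer))
      (CL.Comp.isNilpotent_of_le_centralizer (CL.Comp.inf_centralizer_le_centralizer L))
      (mem_inf.2 ⟨hz.1, hFL hz.2⟩)
  refine ⟨ha, hb, hc, fun B hB hBQ hBF => ?_, coprime_card_of_forall_isPGroup fun P hPC hP => ?_⟩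
  · have hBL : B ≤ normalizer (L : Set H) := hL ▸ le_normalizer_commutator (hn B) hBQ
    have h5 := fstar_pp_sup h3 h4 hB hBL
    have h6 : ⁅L, B⁆ ≤ (frattini L).map L.subtype :=
      (le_inf (commutator_le_left_of_normalizes hBL) hBF).trans hc
    have h7 : (centralizer (B : Set H)).subgroupOf L ⊔ frattini L = ⊤ := by
      apply map_injective L.subtype_injective
      rw [Subgroup.map_sup, subgroupOf_map_subtype, ← MonoidHom.range_eq_map, range_subtype]
      refine le_antisymm (sup_le inf_le_right (map_subtype_le _)) (h5.ge.trans ?_)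
      rw [sup_comm, inf_comm]
      exact sup_le_sup_left h6 _
    exact commutator_eq_bot_iff_le_centralizer.2 (subgroupOf_eq_top.1 (frattini_nongenerating h7))
  · set D := E ⊓ centralizer (L : Set H) with hD
    have hED : E ≤ normalizer (D : Set H) :=
      le_normalizer_inf le_normalizer (le_normalizer_centralizer hEL)
    obtain ⟨h5, h6⟩ := fstarOf_eq_self_and hO (sn D inf_le_left hED) inf_le_left
    have h7 : D ≤ F ⊔ L := by
      rw [← fstar_pp_sup h5 h6 hQ (le_normalizer_inf (hn Q) (le_normalizer_centralizer hQL))]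
      refine sup_le (le_sup_of_le_right (hL ▸ commutator_mono inf_le_left le_rfl))
        (le_sup_of_le_left ?_)
      rw [ha, centralizer_sup', hD, inf_assoc]
    have hEC : E ≤ normalizer ((centralizer ((F ⊔ L : Subgroup H) : Set H) : Subgroup H) : Set H) :=
      le_normalizer_centralizer (le_normalizer_sup hF2 hEL)
    have h8 : ⁅E, P⁆ ≤ F ⊔ L := by
      refine le_trans (le_inf (commutator_le_left_of_normalizes (hn P)) ?_) h7
      exact ((commutator_mono le_rfl hPC).trans (commutator_le_right_of_normalizes hEC)).trans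
        (centralizer_anti le_sup_right)
    refine eq_bot_of_centralizes_fstar hO hP (le_centralizer_iff.1 ?_)
    rw [← commutator_eq_bot_iff_le_centralizer, ← fstar_pp_commutator h1 h2 hP (hn P),
      commutator_eq_bot_iff_le_centralizer]
    exact h8.trans (le_centralizer_iff.1 hPC)

end Cfsg.Agent.S2817
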