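import Cfsg.Statements.S2818
import Cfsg.Agent.TECH.PRed
import Cfsg.Agent.PLOC.PFrattini

set_option autoImplicit false
open Cfsg

namespace Cfsg.Agent.S2818

open CL.MSS Subgroup
open scoped commutatorElement

/-- Let P be a finite p-subgroup of a group G and H a subgroup of N_G(P) with [P, H] ≤ Ω₁(Z(P)) (the elements of order dividing p in the centre of P). Then H centralizes the Frattini subgroup of P. -/
theorem result {G : Type*} [Group G] [Finite G] {p : ℕ} [Fact p.Prime] (P : Subgroup G) (hP : IsPGroup p ↥P) (H : Subgroup G) (hH : H ≤ Subgroup.normalizer (P : Set G)) (h : ⁅P, H⁆ ≤ Cfsg.omegaOne p (P ⊓ Subgroup.centralizer (P : Set G))) : ⁅(frattini ↥P).map P.subtype, H⁆ = ⊥ := by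
  rw [commutator_eq_bot_iff_le_centralizer, CL.PG.frattini_map_subtype_le_iff hP]
  have key : ∀ g ∈ H, ∀ x ∈ P, ∀ y ∈ P, ⁅x * y, g⁆ = ⁅y, g⁆ * ⁅x, g⁆ := by
    intro g hg x hx y hy
    rw [commutatorElement_mul_left_eq_conj_mul,
      omegaZ_le_centralizer P (h (commutator_mem_commutator hy hg)) x hx, mul_inv_cancel_right]
  constructor
  · rw [commutator_le]
    intro x hx y hy
    rw [mem_centralizer_iff_commutator_eq_one']
    intro g hg
    have h1 := key g hg _ (commutator_le_self P (commutator_mem_commutator hx hy)) _ (mul_mem hy hx)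
    have h2 : ⁅x, y⁆ * (y * x) = x * y := by rw [commutatorElement_def]; group
    rw [h2, key g hg x hx y hy, key g hg y hy x hx, omegaZ_le_centralizer P
      (h (commutator_mem_commutator hx hg)) _ (omegaZ_le P (h (commutator_mem_commutator hy hg)))]
      at h1
    exact (mul_eq_left.1 h1.symm)
  · intro x hx
    rw [mem_centralizer_iff_commutator_eq_one']
    intro g hg
    have h1 : ∀ n : ℕ, ⁅x ^ n, g⁆ = ⁅x, g⁆ ^ n := by
      intro n
      induction n with
      | zero => simp
      | succ n ih => rw [pow_succ, key g hg _ (pow_mem hx n) x hx, ih, pow_succ']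
    rw [h1]
    exact (elemAb_omegaZ P).2 _ (h (commutator_mem_commutator hx hg))

end Cfsg.Agent.S2818
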