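import Cfsg.Statements.S2819
import Cfsg.Agent.TECH.NClos
import Cfsg.Agent.TECH.PRed
import Cfsg.Agent.TECH.SubnP
import Cfsg.Agent.PLOC.PFrattini
import Cfsg.Agent.SIG.Quasisimple

set_option autoImplicit false
open Cfsg

namespace Cfsg.Agent.S2819

open CL.MSS Subgroup
open scoped commutatorElement

/-- Let P be a finite p-subgroup of a group G, H a subgroup of N_G(P), and Y a subgroup of H centralizing the derived subgroup P' such that [P, Y] is elementary abelian. Then O^p(⟨Y^H⟩), the subgroup of the normal closure of Y in H generated by its elements of order prime to p, centralizes the Frattini subgroup of P. -/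
theorem result {G : Type*} [Group G] [Finite G] {p : ℕ} [Fact p.Prime] (P : Subgroup G) (hP : IsPGroup p ↥P) (H : Subgroup G) (hH : H ≤ Subgroup.normalizer (P : Set G)) (Y : Subgroup G) (hYH : Y ≤ H) (hYc : Y ≤ Subgroup.centralizer ((⁅P, P⁆ : Subgroup G) : Set G)) (hel : Cfsg.IsElementaryAbelian p ⁅P, Y⁆) (NY : Subgroup G) (hNY : NY = (Subgroup.normalClosure ((Y.subgroupOf H : Subgroup ↥H) : Set ↥H)).map H.subtype) : (Cfsg.pResidual p ↥NY).map NY.subtype ≤ Subgroup.centralizer (((frattini ↥P).map P.subtype : Subgroup G) : Set G) := by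
  rw [map_normalClosure_subgroupOf hYH] at hNY
  subst hNY
  have hHP' : H ≤ normalizer ((⁅P, P⁆ : Subgroup G) : Set G) := le_normalizer_commutator hH hH
  have hPP' : P ≤ normalizer ((⁅P, P⁆ : Subgroup G) : Set G) :=
    le_normalizer_commutator le_normalizer le_normalizer
  have hP'P : ⁅P, P⁆ ≤ P := commutator_le_left_of_normalizes le_normalizer
  have hN : ncl Y H ≤ centralizer ((⁅P, P⁆ : Subgroup G) : Set G) :=
    ncl_le hYc (le_normalizer_centralizer hHP')
  have hΦ : (frattini P).map P.subtype ≤ CL.Comp.commStab Y ⁅P, P⁆ := by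
    rw [CL.PG.frattini_map_subtype_le_iff hP]
    refine ⟨CL.Comp.le_commStab_iff.2 ⟨le_normalizer, ?_⟩, fun g hg => ⟨hPP' (pow_mem hg _), ?_⟩⟩
    · rw [Subgroup.commutator_eq_bot_iff_le_centralizer.2 hYc]; exact bot_le
    · intro y hy
      have hc1 : ⁅y, g⁆ ∈ ⁅P, Y⁆ := by
        rw [Subgroup.commutator_comm]; exact commutator_mem_commutator hy hg
      have hc : ⁅y, g⁆ ∈ P := commutator_le_left_of_normalizes (hYH.trans hH) hc1
      have key : ∀ n : ℕ, ⁅y, g ^ n⁆ * (⁅y, g⁆ ^ n)⁻¹ ∈ ⁅P, P⁆ := by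
        intro n
        induction n with
        | zero => simp
        | succ n ih =>
          have : ⁅y, g ^ (n + 1)⁆ * (⁅y, g⁆ ^ (n + 1))⁻¹ = (⁅y, g ^ n⁆ * (⁅y, g⁆ ^ n)⁻¹) *
              (⁅y, g⁆ ^ n * ⁅g ^ n, ⁅y, g⁆⁆ * (⁅y, g⁆ ^ n)⁻¹) := by
            generalize hcc : ⁅y, g⁆ = c
            have e : ⁅y, g ^ (n + 1)⁆ = ⁅y, g ^ n⁆ * ⁅g ^ n, c⁆ * c := by
              rw [← hcc]; simp only [commutatorElement_def, pow_succ]; group
            rw [e, pow_succ']; group
          rw [this]
          exact Subgroup.mul_mem _ ih (conj_mem_of_normalizes hPP' (pow_mem hc n)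
            (commutator_mem_commutator (pow_mem hg n) hc))
      have := key p
      rwa [hel.2 _ hc1, inv_one, mul_one] at this
  have hHΦ : H ≤ normalizer (((frattini P).map P.subtype : Subgroup G) : Set G) :=
    hH.trans (CL.normalizer_le_normalizer_map_subtype P (frattini P))
  have h2 : ⁅(frattini P).map P.subtype, ncl Y H⁆ ≤ ⁅P, P⁆ := by
    rw [ncl_def]
    refine CL.Comp.commutator_iSup_le (fun k => (cj_le_of_mem hYH k.2).trans hHP') fun k => ?_
    have := (CL.Comp.le_commStab_iff.1 hΦ).2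
    rw [Subgroup.commutator_comm] at this
    have := cj_mono (k : G) this
    rwa [cj_commutator, cj_eq_of_mem_normalizer (hHΦ k.2), cj_eq_of_mem_normalizer (hHP' k.2)] at this
  change presOf p (ncl Y H) ≤ _
  rw [presOf_le_iff]
  intro x hx hx'
  exact mem_centralizer_of_two_step (hP.to_le hP'P) hx'
    (fun v hv => h2 (commutator_mem_commutator hv hx)) (hN hx)

end Cfsg.Agent.S2819
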