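import Cfsg.Statements.S2820
import Cfsg.Agent.TECH.SubnP

set_option autoImplicit false
open Cfsg

namespace Cfsg.Agent.S2820

open CL.MSS Subgroup

/-- Let A and B be subnormal subgroups of the finite group H with A a p-group and B = O^p(B) (B generated by its elements of order prime to p). Then A normalizes B and B = O^p(AB), the subgroup of ⟨A, B⟩ generated by its elements of order prime to p. -/
theorem result {H : Type*} [Group H] [Finite H] {p : ℕ} [Fact p.Prime] (A B : Subgroup H) (hA : A.IsSubnormal) (hB : B.IsSubnormal) (hAp : IsPGroup p ↥A) (hBres : (Cfsg.pResidual p ↥B).map B.subtype = B) : A ≤ Subgroup.normalizer (B : Set H) ∧ (Cfsg.pResidual p ↥(A ⊔ B)).map (A ⊔ B).subtype = B := by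
  have hAO : A ≤ pCore p H := le_pcore_of_subnormal hA hAp
  have h1 := presOf_sup_of_subnormal (L := ⊤) le_top hB.subgroupOf (pcore_isPGroup (p := p)) le_top
    le_normalizer_of_normal
  have h2 := le_normalizer_presOf_of_subnormal (L := ⊤) le_top hB.subgroupOf
    (pcore_isPGroup (p := p)) le_top le_normalizer_of_normal
  change presOf p B = B at hBres
  rw [hBres] at h1 h2
  refine ⟨hAO.trans h2, le_antisymm ?_ ?_⟩
  · exact (presOf_mono (sup_le (hAO.trans le_sup_right) le_sup_left)).trans h1.le
  · exact hBres.ge.trans (presOf_mono le_sup_right)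

end Cfsg.Agent.S2820
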