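import Cfsg.Statements.S2823
import Cfsg.Agent.TECH.PRed2

set_option autoImplicit false
open Cfsg

namespace Cfsg.Agent.S2823

open CL.MSS Subgroup

/-- Let H be a finite group, p a prime, T a Sylow p-subgroup and L a subgroup of characteristic p containing T; let Z_L be the subgroup generated by the Ω₁(Z(S)) over the Sylow p-subgroups S of L and O^p(L) the subgroup generated by the elements of L of order prime to p. Then Z_L = Ω₁(Z(L))·[Z_L, O^p(L)] and [Z_L, L] = [Z_L, O^p(L)]. -/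
theorem result {H : Type*} [Group H] [Finite H] {p : ℕ} [Fact p.Prime] (T : Sylow p H) (L : Subgroup H) (hTL : (T : Subgroup H) ≤ L) (hL : Subgroup.centralizer (Cfsg.pCore p ↥L : Set ↥L) ≤ Cfsg.pCore p ↥L) : Cfsg.sylowCenterClosure p L = (Cfsg.omegaOne p (L ⊓ Subgroup.centralizer ((L : Subgroup H) : Set H))) ⊔ ⁅Cfsg.sylowCenterClosure p L, (Cfsg.pResidual p ↥L).map L.subtype⁆ ∧ ⁅Cfsg.sylowCenterClosure p L, L⁆ = ⁅Cfsg.sylowCenterClosure p L, (Cfsg.pResidual p ↥L).map L.subtype⁆ := by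
  have hZ := pRedIn_zOf (charP_iff.1 hL)
  set Z := sylowCenterClosure p L
  have hW : ⁅Z, presOf p L⁆ ≤ Z := commutator_le_left_of_normalizes ((presOf_le L).trans hZ.norm)
  have h1 : Z = omegaZ p L ⊔ ⁅Z, presOf p L⁆ := by
    refine le_antisymm (zOf_le_iff.2 fun S hS z hz => ?_) (sup_le ?_ hW)
    · obtain ⟨c, hc, w, hw, rfl⟩ := averaging_sylow (W := ⁅Z, presOf p L⁆) hZ.elem.1
        (elemAb_isPGroup hZ.elem) hZ.norm hS hW (omegaZ_le_zOf hS hz) (omegaZ_le_centralizer S hz)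
        (fun l hl => by
          rw [commutator_comm]; exact commutator_mem_commutator hl (omegaZ_le_zOf hS hz))
      exact mul_mem_sup (mem_omegaZ_iff.2 ⟨hZ.le hc.1, hc.2, hZ.elem.2 c hc.1⟩) hw
    · refine le_trans (elemAb_le_omegaZ (elemAb_omegaZ L) ?_
        ((omegaZ_le_centralizer L).trans (centralizer_anti hTL))) (omegaZ_le_zOf (sylIn_sylow T hTL))
      exact (sylIn_sylow T hTL).le_of_normalized (elemAb_isPGroup (elemAb_omegaZ L)) (omegaZ_le L)
        (hTL.trans (le_normalizer.trans (normalizer_le_normalizer_omegaZ L)))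
  refine ⟨h1, le_antisymm ?_ (commutator_mono le_rfl (presOf_le L))⟩
  have hn : L ≤ normalizer ((⁅Z, presOf p L⁆ : Subgroup H) : Set H) :=
    le_normalizer_commutator hZ.norm (le_normalizer_presOf L)
  rw [commutator_le]
  intro z hz l hl
  rw [h1] at hz
  obtain ⟨c, hc, w, hw, rfl⟩ := (mem_sup_of_normalizes_right ((omegaZ_le L).trans hn)).1 hz
  have h2 : l * c = c * l := omegaZ_le_centralizer L hc l hl
  have h3 : c * w * l * (c * w)⁻¹ * l⁻¹ = c * (w * (l * w⁻¹ * l⁻¹)) * c⁻¹ := by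
    have : c⁻¹ * l⁻¹ = l⁻¹ * c⁻¹ := by rw [← mul_inv_rev, h2, mul_inv_rev]
    rw [mul_inv_rev, mul_assoc _ _ l⁻¹, mul_assoc w⁻¹, this]; group
  rw [commutatorElement_def, h3]
  exact conj_mem_of_normalizes hn (omegaZ_le L hc)
    (mul_mem hw (conj_mem_of_normalizes hn hl (inv_mem hw)))

end Cfsg.Agent.S2823
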