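import Cfsg.Statements.S2824
import Cfsg.Agent.TECH.PRed2

set_option autoImplicit false
open Cfsg

namespace Cfsg.Agent.S2824

open CL.MSS Subgroup

/-- Let H be a finite group, p a prime, T a Sylow p-subgroup, L and M subgroups of characteristic p containing T, Y_L the largest p-reduced normal subgroup of L and T₀ = C_T(Y_L). If M·C_H(Y_L) = L·C_H(Y_L), then L* := N_M(T₀) has Y_{L*} = Y_L and L·C_H(Y_L) = L*·C_H(Y_L). -/
theorem result {H : Type*} [Group H] [Finite H] {p : ℕ} [Fact p.Prime] (T : Sylow p H) (L M : Subgroup H) (hTL : (T : Subgroup H) ≤ L) (hTM : (T : Subgroup H) ≤ M) (hL : Subgroup.centralizer (Cfsg.pCore p ↥L : Set ↥L) ≤ Cfsg.pCore p ↥L) (hM : Subgroup.centralizer (Cfsg.pCore p ↥M : Set ↥M) ≤ Cfsg.pCore p ↥M) (T₀ : Subgroup H) (hT₀ : T₀ = (T : Subgroup H) ⊓ Subgroup.centralizer (((Cfsg.largestPReducedOf p L) : Subgroup H) : Set H)) (hfac : M ⊔ Subgroup.centralizer (((Cfsg.largestPReducedOf p L) : Subgroup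 H) : Set H) = L ⊔ Subgroup.centralizer (((Cfsg.largestPReducedOf p L) : Subgroup H) : Set H)) (Ls : Subgroup H) (hLs : Ls = M ⊓ Subgroup.normalizer ((T₀ : Subgroup H) : Set H)) : (Cfsg.largestPReducedOf p Ls) = (Cfsg.largestPReducedOf p L) ∧ L ⊔ Subgroup.centralizer (((Cfsg.largestPReducedOf p L) : Subgroup H) : Set H) = Ls ⊔ Subgroup.centralizer (((Cfsg.largestPReducedOf p L) : Subgroup H) : Set H) := by
  have hY := pRedIn_yOf (p := p) L
  have hT := sylIn_sylow T hTL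
  have hMY : M ≤ normalizer (largestPReducedOf p L : Set H) :=
    le_sup_left.trans (hfac.le.trans (sup_le hY.norm (centralizer_le_normalizer _)))
  have h1 := (sylIn_sylow T hTM).sup_centralizer_eq hMY
  rw [← hT₀, ← hLs, hfac] at h1
  have hTs : (T : Subgroup H) ≤ Ls := hLs ▸ le_inf hTM (hT₀ ▸ le_normalizer_inf le_normalizer
    (le_normalizer_centralizer (hTL.trans hY.norm)))
  have h2 : PRedIn p (largestPReducedOf p L) Ls :=
    ⟨hY.le_pcoreOf.trans (hT.pcoreOf_le.trans hTs), hLs ▸ inf_le_left.trans hMY, hY.elem,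
      hY.red.of_sup_centralizer_eq hY.norm h1⟩
  refine ⟨le_antisymm ?_ h2.le_yOf, h1.symm⟩
  rw [yOf_eq_omegaZ (charP_iff.1 hL) hT, ← hT₀]
  have h3 : T₀ ≤ pCoreOf p Ls := le_pcoreOf (hT₀ ▸ inf_le_left.trans hTs) (hLs ▸ inf_le_right)
    (hT₀ ▸ T.isPGroup'.to_inf_left)
  refine elemAb_le_omegaZ (elemAb_yOf Ls) ?_
    (le_centralizer_iff.1 (h3.trans (pcoreOf_le_centralizer_yOf Ls)))
  rw [hT₀]
  exact le_inf ((yOf_le_pcoreOf Ls).trans (sylIn_sylow T hTs).pcoreOf_le)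
    (le_centralizer_iff.1 (h2.le_pcoreOf.trans (pcoreOf_le_centralizer_yOf Ls)))

end Cfsg.Agent.S2824
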