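import Cfsg.Statements.S2825
import Cfsg.Agent.TECH.PRed2

set_option autoImplicit false
open Cfsg

namespace Cfsg.Agent.S2825

open CL.MSS Subgroup

/-- Let L be a subnormal subgroup of the finite group H, p a prime, Y_H and Y_L the largest p-reduced normal subgroups. Then Y_H ∩ L = Y_H ∩ Y_L and this subgroup is a p-reduced normal subgroup of L; C_L(Y_L) = C_L(Y_H) = C_L(Y_H ∩ L); and if O^p(H) ≤ L, then [Y_L, L] = 1 if and only if [Y_H, H] = 1. -/
theorem result {H : Type*} [Group H] [Finite H] {p : ℕ} [Fact p.Prime] (L : Subgroup H) (hL : L.IsSubnormal) : Cfsg.largestPReduced p H ⊓ L = Cfsg.largestPReduced p H ⊓ (Cfsg.largestPReducedOf p L) ∧ Cfsg.IsPReducedNormal p ((Cfsg.largestPReduced p H ⊓ L).subgroupOf L) ∧ L ⊓ Subgroup.centralizer ((Cfsg.largestPReducedOf p L : Subgroup H) : Set H) = L ⊓ Subgroup.centralizer (Cfsg.largestPReduced p H : Set H) ∧ L ⊓ Subgroup.centralizer (Cfsg.largestPReduced p H : Set H) = L ⊓ Subgroup.centralizer ((Cfsg.largestPReduced p H ⊓ L : Subgroup H) : Set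 H) ∧ (Cfsg.pResidual p H ≤ L → (⁅(Cfsg.largestPReducedOf p L), L⁆ = ⊥ ↔ ⁅Cfsg.largestPReduced p H, (⊤ : Subgroup H)⁆ = ⊥)) := by
  have hY := pRedIn_yOf (p := p) (⊤ : Subgroup H)
  have h0 := inf_centralizer_yOf_le_of_subnormal (p := p) le_top (hL.subgroupOf (K := ⊤))
  rw [yOf_top] at hY h0
  have h1 := hY.inf_subnormal le_top hL.subgroupOf
  have h2 : L ⊓ centralizer ((largestPReduced p H ⊓ L : Subgroup H) : Set H) ≤
      centralizer (largestPReduced p H : Set H) :=
    hY.le_centralizer_of_subnormal le_top hL.subgroupOf inf_le_left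
      (hY.commutator_presOf_le le_top hL.subgroupOf) inf_le_left
      (le_normalizer_inf le_normalizer (le_normalizer_centralizer h1.norm))
      fun g hg => ⟨0, by simpa using hg.2⟩
  have h3 : L ⊓ centralizer (largestPReducedOf p L : Set H) =
      L ⊓ centralizer (largestPReduced p H : Set H) :=
    le_antisymm (le_inf inf_le_left ((inf_le_inf_left _ (centralizer_anti h1.le_yOf)).trans h2))
      (le_inf inf_le_left h0)
  refine ⟨le_antisymm (le_inf inf_le_left h1.le_yOf) (inf_le_inf_left _ (yOf_le L)),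
    (isPReducedNormal_subgroupOf_iff h1.le).2 h1, h3,
    le_antisymm (inf_le_inf_left _ (centralizer_anti inf_le_left)) (le_inf inf_le_left h2),
    fun hR => ?_⟩
  rw [commutator_eq_bot_iff_le_centralizer, commutator_eq_bot_iff_le_centralizer,
    le_centralizer_iff, le_centralizer_iff (K := ⊤)]
  constructor
  · intro h
    refine hY.red ⊤ le_rfl le_normalizer fun g _ => (pow_mem_pres (p := p) g).imp fun k hk => ?_
    exact (h3.le ⟨hR hk, h (hR hk)⟩).2
  · intro h
    exact (le_inf le_rfl (le_top.trans h)).trans h0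

end Cfsg.Agent.S2825
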