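import Cfsg.Statements.S2826
import Cfsg.Agent.TECH.PRed2

set_option autoImplicit false
open Cfsg

namespace Cfsg.Agent.S2826

open CL.MSS Subgroup

/-- Let H be a finite group of characteristic p, T a Sylow p-subgroup, and V a normal elementary abelian p-subgroup of H containing Ω₁(Z(T)). Then C_H(Ω₁(Z(T))) = C_H([V, O^p(H)] ∩ Ω₁(Z(T))), O^p(H) being generated by the elements of order prime to p. -/
theorem result {H : Type*} [Group H] [Finite H] {p : ℕ} [Fact p.Prime] (hH : Subgroup.centralizer (Cfsg.pCore p H : Set H) ≤ Cfsg.pCore p H) (T : Sylow p H) (V : Subgroup H) [V.Normal] (hV : Cfsg.IsElementaryAbelian p V) (hZV : (Cfsg.omegaOne p ((T : Subgroup H) ⊓ Subgroup.centralizer (((T : Subgroup H) : Subgroup H) : Set H))) ≤ V) : Subgroup.centralizer ((Cfsg.omegaOne p ((T : Subgroup H) ⊓ Subgroup.centralizer (((T : Subgroup H) : Subgroup H) : Set H))) : Set H) = Subgroup.centralizer (((⁅V, Cfsg.pResidual p H⁆ ⊓ (Cfsg.omegaOne p ((T : Subgroup H) ⊓ Subgroup.centralizer (((T : Subgroup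 H) : Subgroup H) : Set H)))) : Subgroup H) : Set H) := by
  refine le_antisymm (centralizer_anti inf_le_right) (le_centralizer_iff.1 fun z hz => ?_)
  have hVT : V ≤ (T : Subgroup H) := (elemAb_isPGroup hV).le_sylow_of_normal T
  obtain ⟨c, hc, w, hw, rfl⟩ := averaging_sylow (W := ⁅V, pResidual p H⁆) hV.1
    (elemAb_isPGroup hV) le_normalizer_of_normal (sylIn_top T) (commutator_le_left _ _) (hZV hz)
    (omegaZ_le_centralizer _ hz) (fun l hl => by
      rw [commutator_comm]; exact commutator_mem_commutator (presOf_top (p := p) (G := H) ▸ hl) (hZV hz))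
  refine mul_mem (centralizer_anti le_top hc.2) (le_centralizer_iff.1 le_rfl ⟨hw, ?_⟩)
  have hcZ : c ∈ omegaZ p (T : Subgroup H) :=
    mem_omegaZ_iff.2 ⟨hVT hc.1, centralizer_anti le_top hc.2, hV.2 c hc.1⟩
  have := mul_mem (inv_mem hcZ) hz
  rwa [inv_mul_cancel_left] at this

end Cfsg.Agent.S2826
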