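import Cfsg.Statements.S2828
import Cfsg.Agent.TECH.PIrr

set_option autoImplicit false
open Cfsg

namespace Cfsg.Agent.S2828

open CL.MSS Subgroup

/-- Let H be a finite group, p a prime and D a normal p-subgroup of H. Then H is p-irreducible if and only if H/D is p-irreducible, and H is strongly p-irreducible if and only if H/D is strongly p-irreducible. -/
theorem result {H : Type*} [Group H] [Finite H] {p : ℕ} [Fact p.Prime] (D : Subgroup H) [D.Normal] (hD : IsPGroup p ↥D) : (Cfsg.IsPIrreducible p H ↔ Cfsg.IsPIrreducible p (H ⧸ D)) ∧ (Cfsg.IsStronglyPIrreducible p H ↔ Cfsg.IsStronglyPIrreducible p (H ⧸ D)) := by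
  have hs := QuotientGroup.mk'_surjective D
  have hk : ∀ N : Subgroup H, IsPGroup p (N ⊓ (QuotientGroup.mk' D).ker : Subgroup H) := fun N => by
    rw [QuotientGroup.ker_mk']; exact hD.to_inf_right
  have hcl : ∀ N : Subgroup H, IsPClosed p (N.map (QuotientGroup.mk' D)) ↔ IsPClosed p N :=
    fun N => ⟨isPClosed_of_map _ (hk N), fun h => isPClosed_map h _⟩
  have hcl' : IsPClosed p (H ⧸ D) ↔ IsPClosed p H := by
    rw [← isPClosed_top_iff, ← isPClosed_top_iff (G := H), ← hcl, map_top_of_surjective _ hs]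
  have hres : ∀ N : Subgroup H, N.Normal →
      (pResidual p (H ⧸ D) ≤ N.map (QuotientGroup.mk' D) ↔ pResidual p H ≤ N) := by
    intro N hN
    rw [← oU_pResidual_map hs]
    refine ⟨fun h => ?_, fun h => map_mono h⟩
    rw [map_le_iff_le_comap, comap_map_eq, QuotientGroup.ker_mk'] at h
    rw [← presOf_top] at h ⊢
    rw [← presOf_presOf]
    exact oU_le_of_le_sup hD le_normalizer_of_normal h
  have hcomm : ∀ N : Subgroup H, ⁅N.map (QuotientGroup.mk' D), ⊤⁆ ≤ pCore p (H ⧸ D) ↔
      ⁅N, ⊤⁆ ≤ pCore p H := by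
    intro N
    rw [← map_top_of_surjective _ hs, ← map_commutator, ← oP_pCore_map_mk D hD, map_le_iff_le_comap,
      comap_map_eq, QuotientGroup.ker_mk', sup_of_le_left (le_pcore inferInstance hD)]
  refine ⟨and_congr (by rw [hcl']) ⟨fun h N hN h1 => ?_, fun h N hN h1 => ?_⟩,
    and_congr (by rw [hcl']) ⟨fun h N hN h1 => ?_, fun h N hN h1 => ?_⟩⟩
  · rw [← map_comap_eq_self_of_surjective hs N] at h1 ⊢
    exact (hres _ inferInstance).2 (h _ inferInstance (by rwa [hcl] at h1))
  · exact (hres _ hN).1 (h _ (hN.map _ hs) (by rwa [hcl]))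
  · rw [← map_comap_eq_self_of_surjective hs N] at h1 ⊢
    exact (hres _ inferInstance).2 (h _ inferInstance (by rwa [hcomm] at h1))
  · exact (hres _ hN).1 (h _ (hN.map _ hs) (by rwa [hcomm]))

end Cfsg.Agent.S2828
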