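import Cfsg.Statements.S2829
import Cfsg.Agent.TECH.PIrr

set_option autoImplicit false
open Cfsg

namespace Cfsg.Agent.S2829

open CL.MSS Subgroup

/-- Every strongly p-irreducible finite group is p-irreducible. -/
theorem result {H : Type*} [Group H] [Finite H] {p : ℕ} [Fact p.Prime] (hH : Cfsg.IsStronglyPIrreducible p H) : Cfsg.IsPIrreducible p H := by
  refine ⟨hH.1, fun N hN h => hH.2 N hN fun hc => h (isPClosed_iff.2 fun Q h1 h2 => ?_)⟩
  have h3 : (Q ⊔ pCore p H).Normal := by
    rw [← commutator_top_right_le_iff, commutator_le]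
    intro x hx g _
    obtain ⟨q, hq, y, hy, rfl⟩ := (mem_sup_of_normalizes_right le_normalizer_of_normal).1 hx
    have h4 := hc (commutator_mem_commutator (h1 hq) (mem_top g))
    have h5 := commutator_le_left (pCore p H) ⊤ (commutator_mem_commutator hy (mem_top g))
    rw [commutatorElement_mul_left_eq_conj_mul]
    exact mem_sup_right (mul_mem ((pCore_normal p H).conj_mem _ h5 q) h4)
  have h4 := le_pcore h3 (h2.to_sup_of_normal_right pcore_isPGroup)
  refine (le_inf (le_sup_left.trans h4) h1).trans ?_
  rw [← pcoreOf_top]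
  exact pcoreOf_inf_le le_top

end Cfsg.Agent.S2829
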