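import Cfsg.Statements.S2831
import Cfsg.Agent.TECH.PIrr

set_option autoImplicit false
open Cfsg

namespace Cfsg.Agent.S2831

open CL.MSS Subgroup

/-- Let H be a finite group with Sylow p-subgroup T such that H is T-minimal (H is generated by the conjugates of T and T lies in exactly one maximal subgroup of H). Then H is p-irreducible: H is not p-closed and O^p(H) lies in every normal subgroup of H that is not p-closed. -/
theorem result {H : Type*} [Group H] [Finite H] {p : ℕ} [Fact p.Prime] (T : Sylow p H) (hmin : Cfsg.IsMinimalOver (T : Subgroup H)) : Cfsg.IsPIrreducible p H := by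
  obtain ⟨h1, M, ⟨hM, hTM⟩, hu⟩ := hmin
  have hle : ∀ K : Subgroup H, (T : Subgroup H) ≤ K → K ≠ ⊤ → K ≤ M := fun K h2 h3 => by
    obtain ⟨M', hM', h4⟩ := (eq_top_or_exists_le_coatom K).resolve_left h3
    exact hu M' ⟨hM', h2.trans h4⟩ ▸ h4
  refine ⟨fun hc => ?_, fun N hN hc => ?_⟩
  · have := hc T
    exact hM.1 (top_le_iff.1 (h1.ge.trans ((normalClosure_le_normal le_rfl).trans hTM)))
  · by_cases h2 : (T : Subgroup H) ⊔ N = ⊤
    · rw [← presOf_top, ← h2]
      exact presOf_sup_le le_normalizer_of_normal (pow_mem_of_isPGroup T.isPGroup' _)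
    · exfalso
      have h3 := sylIn_inf_normal T N
      have h4 := h3.frattini_sup (H := ⊤) le_top le_normalizer_of_normal
      rw [top_inf_eq] at h4
      by_cases h5 : normalizer (((T : Subgroup H) ⊓ N : Subgroup H) : Set H) = ⊤
      · exact hc (isPClosed_of_sylIn h3 (le_top.trans h5.ge))
      · refine hM.1 (top_le_iff.1 (h4.ge.trans (sup_le (le_sup_right.trans (hle _ le_sup_left h2))
          (hle _ (le_normalizer_inf le_normalizer le_normalizer_of_normal) h5))))

end Cfsg.Agent.S2831
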