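import Cfsg.Statements.S2832
import Cfsg.Agent.TECH.YMin

set_option autoImplicit false
open Cfsg

namespace Cfsg.Agent.S2832

open CL.MSS Subgroup

/-- Let H be a finite group with Sylow p-subgroup T such that H is T-minimal (generated by the conjugates of T, with T in exactly one maximal subgroup), and let N be a normal subgroup of H. Then either H/N is a p-group or H/N is minimal over the image of T in the same sense. -/
theorem result {H : Type*} [Group H] [Finite H] {p : ℕ} [Fact p.Prime] (T : Sylow p H) (hmin : Cfsg.IsMinimalOver (T : Subgroup H)) (N : Subgroup H) [N.Normal] : IsPGroup p (H ⧸ N) ∨ Cfsg.IsMinimalOver ((T : Subgroup H).map (QuotientGroup.mk' N)) := by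
  obtain ⟨M, h⟩ := isMinimalOver_iff.1 hmin
  rcases h.le_or_eq (X := (T : Subgroup H) ⊔ N) le_sup_left le_top with h1 | h1
  · right
    have := h.map (QuotientGroup.mk' N)
      (by rw [QuotientGroup.ker_mk']; exact inf_le_right.trans (le_sup_right.trans h1))
    rw [map_top_of_surjective _ (QuotientGroup.mk'_surjective N)] at this
    exact isMinimalOver_iff.2 ⟨_, this⟩
  · left
    have h2 : (T : Subgroup H).map (QuotientGroup.mk' N) = ⊤ := by
      rw [← map_top_of_surjective _ (QuotientGroup.mk'_surjective N), ← h1, Subgroup.map_sup,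
        (Subgroup.map_eq_bot_iff N).2 (by rw [QuotientGroup.ker_mk']), sup_bot_eq]
    have h3 := T.isPGroup'.map (QuotientGroup.mk' N)
    rw [h2] at h3
    exact h3.of_equiv topEquiv

end Cfsg.Agent.S2832
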