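import Cfsg.Statements.S2833
import Cfsg.Agent.TECH.SecC

set_option autoImplicit false
open Cfsg

namespace Cfsg.Agent.S2833

open CL.MSS Subgroup

/-- Let V be a subgroup of a finite group G normalized by the subgroup L, let X ≤ L and g ∈ L with [V, X, X] = 1 and L generated by X and gXg⁻¹. Put W = [V, L]. Then W = [V, X]·[V, gXg⁻¹], C_W(X) = [V, X], and C_W(L) = [V, X] ∩ [V, gXg⁻¹]. -/
theorem result {G : Type*} [Group G] [Finite G] (V L : Subgroup G) (hLV : L ≤ Subgroup.normalizer (V : Set G)) (X : Subgroup G) (hX : X ≤ L) (g : G) (hg : g ∈ L) (hq : ⁅⁅V, X⁆, X⁆ = ⊥) (hgen : X ⊔ X.map (MulAut.conj g).toMonoidHom = L) (W : Subgroup G) (hW : W = ⁅V, L⁆) : ⁅V, X⁆ ⊔ ⁅V, X.map (MulAut.conj g).toMonoidHom⁆ = W ∧ W ⊓ Subgroup.centralizer (X : Set G) = ⁅V, X⁆ ∧ W ⊓ Subgroup.centralizer (L : Set G) = ⁅V, X⁆ ⊓ ⁅V, X.map (MulAut.conj g).toMonoidHom⁆ := by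
  have hX' : g •ᶜ X ≤ L := cj_le_of_mem hX hg
  have he : g •ᶜ ⁅V, X⁆ = ⁅V, g •ᶜ X⁆ := by
    rw [cj_commutator, cj_eq_of_mem_normalizer (hLV hg)]
  have hc : ⁅V, X⁆ ≤ centralizer (X : Set G) := commutator_eq_bot_iff_le_centralizer.1 hq
  have hc' : ⁅V, g •ᶜ X⁆ ≤ centralizer ((g •ᶜ X : Subgroup G) : Set G) := by
    rw [← he, ← cj_centralizer]; exact cj_mono g hc
  have hV1 : ⁅V, X⁆ ≤ V := commutator_le_left_of_normalizes (hX.trans hLV)
  have hV2 : ⁅V, g •ᶜ X⁆ ≤ V := commutator_le_left_of_normalizes (hX'.trans hLV)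
  have h1 : ⁅V, X⁆ ⊔ ⁅V, g •ᶜ X⁆ = W := by
    rw [hW]
    refine le_antisymm (sup_le (commutator_mono le_rfl hX) (commutator_mono le_rfl hX')) ?_
    rw [← hgen]
    exact commutator_sup_le_of_normalizes (le_normalizer_of_between le_sup_left (sup_le hV1 hV2))
      (le_normalizer_of_between le_sup_right (sup_le hV1 hV2)) le_sup_left le_sup_right
  have hL : centralizer (L : Set G) =
      centralizer (X : Set G) ⊓ centralizer ((g •ᶜ X : Subgroup G) : Set G) := by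
    rw [← hgen, centralizer_sup_eq]
  have h2 : ⁅V, g •ᶜ X⁆ ⊓ centralizer (L : Set G) ≤ ⁅V, X⁆ := by
    rintro b ⟨hb1, hb2⟩
    rw [← he] at hb1
    have := mem_cj.1 hb1
    rwa [mul_assoc, ← hb2 g hg, inv_mul_cancel_left] at this
  have h3 : W ⊓ centralizer (X : Set G) = ⁅V, X⁆ := by
    rw [← h1, inf_comm, inf_sup_of_normalizes hc (hV1.trans (normalizer_commutator_ge_left _ _))]
    refine le_antisymm (sup_le le_rfl (le_trans ?_ h2)) le_sup_left
    rw [hL]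
    exact le_inf inf_le_right (le_inf inf_le_left (inf_le_right.trans hc'))
  refine ⟨h1, h3, le_antisymm (le_inf ?_ ?_) ?_⟩
  · rw [← h3]; exact inf_le_inf_left _ (centralizer_anti hX)
  · rintro b ⟨hb1, hb2⟩
    have h4 : b ∈ ⁅V, X⁆ := by rw [← h3]; exact ⟨hb1, centralizer_anti hX hb2⟩
    rw [← he]
    refine mem_cj.2 ?_
    rwa [mul_assoc, ← hb2 g hg, inv_mul_cancel_left]
  · rw [hL, ← h1]
    exact le_inf (inf_le_left.trans le_sup_left) (inf_le_inf hc hc')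

end Cfsg.Agent.S2833
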