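import Cfsg.Statements.S2836
import Cfsg.Agent.TECH.YMin
import Cfsg.Agent.TECH.PIrr
import Cfsg.Agent.SOLV.MinNormal
import Cfsg.Agent.PLOC.PFrattini

set_option autoImplicit false
open Cfsg

namespace Cfsg.Agent.S2836

open CL.MSS Subgroup

/-- Let L be a finite group, L₀ a maximal subgroup, T a Sylow p-subgroup of L₀, Y ≤ T, and suppose L is Y-minimal. Let D be the intersection of the conjugates of L₀ (the core of L₀). Then D contains O_p(L) and D/O_p(L) is the Frattini subgroup of L/O_p(L), so D is p-closed; and every normal subgroup N of L contained in L₀ is p-closed with N/O_p(N) a nilpotent group of order prime to p. -/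
theorem result {L : Type*} [Group L] [Finite L] {p : ℕ} [Fact p.Prime] (L₀ : Subgroup L) (hL₀ : IsCoatom L₀) (T : Sylow p ↥L₀) (Y : Subgroup L) (hYT : Y ≤ (T : Subgroup ↥L₀).map L₀.subtype) (hmin : Cfsg.IsMinimalOver Y) : (Cfsg.pCore p L ≤ L₀.normalCore ∧ (L₀.normalCore).map (QuotientGroup.mk' (Cfsg.pCore p L)) = frattini (L ⧸ Cfsg.pCore p L) ∧ Cfsg.IsPClosed p ↥(L₀.normalCore)) ∧ ∀ (N : Subgroup L) [N.Normal], N ≤ L₀ → Cfsg.IsPClosed p ↥N ∧ Group.IsNilpotent (↥N ⧸ Cfsg.pCore p ↥N) ∧ (Nat.card (↥N ⧸ Cfsg.pCore p ↥N)).Coprime p := by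
  have hT := sylIn_map_subtype T
  have h := minOver_of_isMinimalOver hmin hL₀ (hYT.trans hT.le)
  have hY : IsPGroup p Y := hT.pgroup.to_le hYT
  have hO : pCore p L ≤ L₀ := by simpa [oP_top] using h.oP_le hY
  have hfr : ∀ (N : Subgroup L) [N.Normal], N ≤ L₀ →
      N.map (QuotientGroup.mk' (pCore p L)) ≤ frattini (L ⧸ pCore p L) := by
    intro N _ hN
    refine CL.PG.le_frattini_iff.2 fun M hM => map_le_iff_le_comap.2 ?_
    refine h.le_of_isCoatom hY hN
      (isCoatom_comap_of_surjective (QuotientGroup.mk'_surjective _) hM) ?_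
    exact QuotientGroup.le_comap_mk' _ _
  have hcl : ∀ (N : Subgroup L) [N.Normal], N ≤ L₀ → IsPClosed p N := by
    intro N _ hN
    exact isPClosed_of_sylIn (h.sylIn_le_oP hY hN le_normalizer_of_normal)
      (le_normalizer_inf (le_top.trans (oP_normal ⊤)) le_normalizer)
  refine ⟨⟨normal_le_normalCore.2 hO, le_antisymm (hfr _ (normalCore_le L₀)) ?_,
    hcl _ (normalCore_le L₀)⟩, fun N _ hN => ⟨hcl N hN, ?_, ?_⟩⟩
  · have h1 := h.map (QuotientGroup.mk' (pCore p L))
      (by rw [QuotientGroup.ker_mk']; exact inf_le_right.trans hO)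
    rw [map_top_of_surjective _ (QuotientGroup.mk'_surjective _)] at h1
    have h2 : (frattini (L ⧸ pCore p L)).comap (QuotientGroup.mk' (pCore p L)) ≤ L₀ := by
      refine (comap_mono (frattini_le_coatom h1.isCoatom)).trans ?_
      rw [comap_map_eq, QuotientGroup.ker_mk']
      exact sup_le le_rfl hO
    rw [← map_comap_eq_self_of_surjective (QuotientGroup.mk'_surjective (pCore p L))
      (frattini _)]
    exact map_mono (normal_le_normalCore.2 h2)
  · let f : N →* L ⧸ pCore p L := (QuotientGroup.mk' (pCore p L)).comp N.subtype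
    have hk : f.ker = pCore p N := by
      ext x
      rw [← mem_oP_iff, oP_eq_inf_of_normal (H := ⊤) le_top le_normalizer_of_normal, oP_top]
      simp [f, MonoidHom.mem_ker, QuotientGroup.eq_one_iff]
    have h1 : Group.IsNilpotent f.range := CL.isNilpotent_of_le frattini_nilpotent (by
      rw [MonoidHom.range_comp, range_subtype]; exact hfr N hN)
    exact Group.nilpotent_of_mulEquiv ((QuotientGroup.quotientMulEquivOfEq hk.symm).trans
      (QuotientGroup.quotientKerEquivRange f)).symm
  · have h1 := (isPClosed_iff_sylIn.1 (hcl N hN)).not_dvd_relIndex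
    rw [relIndex, oP_subgroupOf] at h1
    exact ((Nat.Prime.coprime_iff_not_dvd Fact.out).2 h1).symm

end Cfsg.Agent.S2836
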