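import Cfsg.Statements.S2851
import Cfsg.Agent.TECH.FrakH
import Cfsg.Agent.TECH.FStarPP

set_option autoImplicit false
open Cfsg

namespace Cfsg.Agent.S2851

open CL.MSS Subgroup

/-- Standing hypotheses: G a finite group, S a Sylow p-subgroup, Q a nontrivial large p-subgroup of G contained in S, M a subgroup containing S with the basic property (M ∈ 𝔐_G(S)); Y_M the largest p-reduced normal subgroup of M and M† = M·C_G(Y_M). Let F be the preimage in M† of the generalized Fitting subgroup of M†/C_{M†}(Y_M). If Y_M is asymmetric in G and H is a subgroup of characteristic p containing F, then Y_M ≤ Y_H. -/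
theorem result {G : Type*} [Group G] [Finite G] {p : ℕ} [Fact p.Prime] (S : Sylow p G) (Q : Subgroup G) (hQp : IsPGroup p ↥Q) (hQ1 : Q ≠ ⊥) (hQS : Q ≤ (S : Subgroup G)) (hQ : Cfsg.IsLarge Q) (M : Subgroup G) (hSM : (S : Subgroup G) ≤ M) (hM : Cfsg.IsInFrakM p M) (hasym : ¬ Cfsg.IsSymmetricIn (Cfsg.largestPReducedOf p M)) [hn : ((Subgroup.centralizer (((Cfsg.largestPReducedOf p M) : Subgroup G) : Set G)).subgroupOf (M ⊔ Subgroup.centralizer (((Cfsg.largestPReducedOf p M) : Subgroup G) : Set G))).Normal] (F : Subgroup G) (hF : F = ((Cfsg.generalizedFittingSubgroup (↥(M ⊔ Subgroup.centralizer (((Cfsg.largestPReducedOf p M) : Subgroup G) : Set G)) ⧸ (Subgroup.centralizer (((Cfsg.largestPReducedOf p M) : Subgroup G) : Set G)).subgroupOf (M ⊔ Subgroup.centralizer (((Cfsg.largestPReducedOf p M) : Subgroup G) : Set G)))).comap (QuotientGroup.mk' ((Subgroup.centralizer (((Cfsg.largestPReducedOf p M) : Subgroup G) : Set G)).subgroupOf (M ⊔ Subgroup.centralizer (((Cfsg.largestPReducedOf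 p M) : Subgroup G) : Set G))))).map ((M ⊔ Subgroup.centralizer (((Cfsg.largestPReducedOf p M) : Subgroup G) : Set G))).subtype) (H : Subgroup G) (hFH : F ≤ H) (hH : Subgroup.centralizer (Cfsg.pCore p ↥H : Set ↥H) ≤ Cfsg.pCore p ↥H) : (Cfsg.largestPReducedOf p M) ≤ Cfsg.largestPReducedOf p H := by
  have h := fm_of_large S hQp hQ1 hQ hSM hM
  have hY := pRedIn_yOf (p := p) M
  have hred : PRedFor p (dag p M) (largestPReducedOf p M) :=
    hY.red.of_sup_centralizer_eq hY.norm (by rw [sup_assoc, sup_idem])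
  have hO := pRedFor_iff_pcore_quot.1 hred
  set π := QuotientGroup.mk' ((centralizer (largestPReducedOf p M : Set G)).subgroupOf (dag p M))
  have hπ : Function.Surjective π := QuotientGroup.mk'_surjective _
  have hCF : centralizer (largestPReducedOf p M : Set G) ≤ F := fun x hx => by
    rw [hF]
    exact ⟨⟨x, mem_sup_right hx⟩, QuotientGroup.le_comap_mk' _ _ hx, rfl⟩
  have hFD : F ≤ dag p M := hF ▸ map_subtype_le _
  have hQH : pCoreOf p M ≤ H := (h.sylIn_oP.le.trans hCF).trans hFH
  obtain ⟨P, h1, -, h3⟩ := (h.wc hasym).exists_sylIn hQH le_top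
  refine le_trans (PRedIn.le_yOf (L := H ⊓ dag p M) ⟨le_inf ((yOf_le_pcoreOf M).trans hQH)
    ((yOf_le M).trans le_sup_left), inf_le_right.trans (dag_le_normalizer M), hY.elem,
    fun N k1 k2 k3 => ?_⟩)
    (yOf_le_yOf (chP_iff.1 hH).le h1 (le_inf h1.le (h3.trans h.normalizer_oP_le)) inf_le_left)
  have hp : IsPGroup p ((N.subgroupOf (dag p M)).map π) := by
    rw [isPGroup_iff_forall_mem]
    rintro _ ⟨x, hx, rfl⟩
    obtain ⟨k, hk⟩ := k3 x hx
    exact ⟨k, by rw [← map_pow]; exact (QuotientGroup.eq_one_iff _).2 hk⟩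
  have hn' : generalizedFittingSubgroup _ ≤
      normalizer (SetLike.coe ((N.subgroupOf (dag p M)).map π)) := by
    intro y hy
    obtain ⟨x, rfl⟩ := hπ y
    have hx : (x : G) ∈ F := by rw [hF]; exact ⟨x, hy, rfl⟩
    refine le_normalizer_map π ⟨x, ?_, rfl⟩
    refine mem_normalizer_iff_cj.2 ?_
    rw [cj_subgroupOf, cj_eq_of_mem_normalizer (k2 (le_inf hFH hFD hx))]
  have h4 := commutator_le_inf_of_normalizes le_normalizer_of_normal hn'
  have h5 := h4.trans ((le_oP hp.to_inf_left inf_le_right (le_normalizer_inf hn' le_normalizer)).trans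
    (oP_le_oP_of_normal le_top le_normalizer_of_normal))
  rw [oP_top, hO, le_bot_iff, commutator_eq_bot_iff_le_centralizer] at h5
  have h6 := eq_bot_of_centralizes_fstar hO hp h5
  rw [Subgroup.map_eq_bot_iff, QuotientGroup.ker_mk'] at h6
  exact fun x hx => h6 (x := ⟨x, (k1 hx).2⟩) hx

end Cfsg.Agent.S2851
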