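import Cfsg.Statements.S2852
import Cfsg.Agent.TECH.FrakH

set_option autoImplicit false
open Cfsg

namespace Cfsg.Agent.S2852

open CL.MSS Subgroup

/-- Standing hypotheses: G a finite group, S a Sylow p-subgroup, Q a nontrivial large p-subgroup of G contained in S, M a subgroup containing S with the basic property (M ∈ 𝔐_G(S)); Y_M the largest p-reduced normal subgroup of M. If Y_M is char-p-tall and asymmetric in G, then some subgroup H of G lies in ℌ_G(O_p(M)): H has characteristic p, O_p(M) ≤ H, Y_M ≰ O_p(H), and Y_M ≤ O_p(P) for every proper subgroup P of H containing O_p(M). -/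
theorem result {G : Type*} [Group G] [Finite G] {p : ℕ} [Fact p.Prime] (S : Sylow p G) (Q : Subgroup G) (hQp : IsPGroup p ↥Q) (hQ1 : Q ≠ ⊥) (hQS : Q ≤ (S : Subgroup G)) (hQ : Cfsg.IsLarge Q) (M : Subgroup G) (hSM : (S : Subgroup G) ≤ M) (hM : Cfsg.IsInFrakM p M) (htall : Cfsg.IsCharPTall p (Cfsg.largestPReducedOf p M)) (hasym : ¬ Cfsg.IsSymmetricIn (Cfsg.largestPReducedOf p M)) : ∃ H : Subgroup G, Cfsg.IsInFrakH p M H := by
  have h := fm_of_large S hQp hQ1 hQ hSM hM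
  obtain ⟨T, L, h1, h2, h3⟩ := htall
  obtain ⟨c, hc, he⟩ := (sylIn_map_subtype T).exists_conj h.sylIn_oP
  have h4 : pCoreOf p M ≤ c •ᶜ L := he ▸ cj_mono c h1
  have h5 : ¬ largestPReducedOf p M ≤ pCoreOf p (c •ᶜ L) := by
    rw [← oP_cj, ← cj_eq_of_mem_centralizer hc, cj_le_cj_iff]
    exact h3
  obtain ⟨H, ⟨k1, k2, k3⟩, hmin⟩ := exists_minimal_of_wellFoundedLT
    (fun H : Subgroup G => pCoreOf p M ≤ H ∧ H ≤ c •ᶜ L ∧ ¬ largestPReducedOf p M ≤ pCoreOf p H)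
    ⟨_, h4, le_rfl, h5⟩
  refine ⟨H, chP_iff.2 ((h.wc hasym).chP_of_le h.centralizer_oP_le k1 k2 ((chP_iff.1 h2).cj c)),
    k1, k3, fun P k4 k5 => ?_⟩
  by_contra hc
  exact k5.not_ge (hmin ⟨k4, k5.le.trans k2, hc⟩ k5.le)

end Cfsg.Agent.S2852
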