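import Cfsg.Statements.S2854
import Cfsg.Agent.TECH.FrakH

set_option autoImplicit false
open Cfsg

namespace Cfsg.Agent.S2854

open CL.MSS Subgroup

/-- Standing hypotheses: G a finite group, S a Sylow p-subgroup, Q a nontrivial large p-subgroup of G contained in S, M a subgroup containing S with the basic property (M ∈ 𝔐_G(S)); Y_M the largest p-reduced normal subgroup of M and M† = M·C_G(Y_M). Suppose Y_M is asymmetric in G, H ∈ ℌ_G(O_p(M)), and H ≤ N_G(gQg⁻¹) for some g ∈ G. Then gQg⁻¹ ≤ O_p(H·gQg⁻¹) ≤ N_G(O_p(M)) ≤ N_G(Y_M) = M†; H is normal in H·gQg⁻¹ with O^p(H) = O^p(H·gQg⁻¹); and H·gQg⁻¹ is p-irreducible. -/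
theorem result {G : Type*} [Group G] [Finite G] {p : ℕ} [Fact p.Prime] (S : Sylow p G) (Q : Subgroup G) (hQp : IsPGroup p ↥Q) (hQ1 : Q ≠ ⊥) (hQS : Q ≤ (S : Subgroup G)) (hQ : Cfsg.IsLarge Q) (M : Subgroup G) (hSM : (S : Subgroup G) ≤ M) (hM : Cfsg.IsInFrakM p M) (hasym : ¬ Cfsg.IsSymmetricIn (Cfsg.largestPReducedOf p M)) (H : Subgroup G) (hH : Cfsg.IsInFrakH p M H) (g : G) (hHQ : H ≤ Subgroup.normalizer ((((Q : Subgroup G).map (MulAut.conj (g : G)).toMonoidHom) : Subgroup G) : Set G)) : ((Q : Subgroup G).map (MulAut.conj (g : G)).toMonoidHom) ≤ Cfsg.pCoreOf p (H ⊔ ((Q : Subgroup G).map (MulAut.conj (g : G)).toMonoidHom)) ∧ Cfsg.pCoreOf p (H ⊔ ((Q : Subgroup G).map (MulAut.conj (g : G)).toMonoidHom)) ≤ Subgroup.normalizer (((Cfsg.pCoreOf p M) : Subgroup G) : Set G) ∧ Subgroup.normalizer (((Cfsg.pCoreOf p M) : Subgroup G) : Set G) ≤ Subgroup.normalizer (((Cfsg.largestPReducedOf p M) : Subgroup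 G) : Set G) ∧ Subgroup.normalizer (((Cfsg.largestPReducedOf p M) : Subgroup G) : Set G) = (M ⊔ Subgroup.centralizer (((Cfsg.largestPReducedOf p M) : Subgroup G) : Set G)) ∧ (H.subgroupOf (H ⊔ ((Q : Subgroup G).map (MulAut.conj (g : G)).toMonoidHom))).Normal ∧ (Cfsg.pResidual p ↥H).map H.subtype = (Cfsg.pResidual p ↥(H ⊔ ((Q : Subgroup G).map (MulAut.conj (g : G)).toMonoidHom))).map (H ⊔ ((Q : Subgroup G).map (MulAut.conj (g : G)).toMonoidHom)).subtype ∧ Cfsg.IsPIrreducible p ↥(H ⊔ ((Q : Subgroup G).map (MulAut.conj (g : G)).toMonoidHom)) := by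
  have h0 := fm_of_large S hQp hQ1 hQ hSM hM
  have h := h0.hs hasym hH
  have hD := isPGroup_cj g hQp
  have h1 : g •ᶜ Q ≤ pCoreOf p (H ⊔ g •ᶜ Q) := le_oP hD le_sup_right (sup_le hHQ le_normalizer)
  have h2 : pCoreOf p (H ⊔ g •ᶜ Q) ≤ normalizer (pCoreOf p M : Set G) :=
    h.wc.oP_le_normalizer (h.le.trans le_sup_left) le_top
  have h3 : ncl (pCoreOf p M) (H ⊔ g •ᶜ Q) = H := by
    refine (ncl_eq_of_factor le_sup_left fun k hk => ?_).trans h.ncl_Q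
    obtain ⟨x, hx, y, hy, rfl⟩ := (mem_sup_of_normalizes_right hHQ).1 hk
    exact ⟨x, hx, y, h2 (h1 hy), rfl⟩
  have h4 : H ⊔ g •ᶜ Q ≤ normalizer (H : Set G) := by
    have := ncl_normal (pCoreOf p M) (H ⊔ g •ᶜ Q)
    rwa [h3] at this
  exact ⟨h1, h2, h.nrm, h0.normalizer_y, normal_subgroupOf_of_le_normalizer h4,
    (oU_sup_of_isPGroup hD (le_sup_right.trans h4)).symm,
    h.pirr_sup hD hHQ (le_sup_right.trans h4)⟩

end Cfsg.Agent.S2854
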