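import Cfsg.Statements.S2855
import Cfsg.Agent.TECH.PMin
import Cfsg.Agent.TECH.PIrr
import Cfsg.Agent.TECH.WielJoin
import Cfsg.Agent.PLOC.ClassTwo

set_option autoImplicit false
open Cfsg

namespace Cfsg.Agent.S2855

open Subgroup CL.MSS
open scoped commutatorElement

section
variable {G : Type*} [Group G] [Finite G] {p : ℕ} [Fact p.Prime]

theorem minOver_sup {S E M O : Subgroup G} (h : MinOver S E M) (hS : IsPGroup p S)
    (hO : IsPGroup p O) [O.Normal] : MinOver (S ⊔ O) (E ⊔ O) (M ⊔ O) := by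
  have hEO : E ⊓ O ≤ M := by
    refine le_trans (le_oP (hO.to_le inf_le_right) inf_le_left
      (le_normalizer_inf le_normalizer le_normalizer_of_normal)) (h.oP_le hS)
  refine ⟨⟨sup_le_sup_right h.le O, lt_of_le_of_ne (sup_le_sup_right h.lt.le O) fun he => ?_,
    fun X h1 h2 => ?_⟩, ?_⟩
  · have h1 := inf_sup_of_normalizes (A := M) (B := O) (C := E) h.lt.le le_normalizer_of_normal
    rw [he, inf_eq_left.2 le_sup_left, sup_eq_left.2 hEO] at h1
    exact h.lt.ne h1.symm
  · have h3 := inf_sup_of_normalizes' (A := O) (B := E) (C := X) (le_sup_right.trans h1)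
      le_normalizer_of_normal
    rw [sup_comm O E, inf_eq_left.2 h2.le] at h3
    rcases h.le_or_eq (X := X ⊓ E) (le_inf (le_sup_left.trans h1) h.le_top') inf_le_right with
      h4 | h4
    · rw [h3]
      exact sup_le le_sup_right (h4.trans le_sup_left)
    · rw [h4, sup_comm] at h3
      exact absurd h3 h2.ne
  · refine le_antisymm (ncl_le_self (sup_le_sup_right h.le_top' O)) (sup_le ?_ ?_)
    · conv_lhs => rw [← h.gen]
      exact ncl_mono le_sup_left le_sup_left
    · exact le_sup_right.trans (le_ncl _ _)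

theorem minOver_of_family {ι : Type*} [Nonempty ι] {T : Subgroup G} (hT : SylIn p T ⊤)
    (K : ι → Subgroup G) (hinv : ∀ g i, ∃ j, K j = g •ᶜ K i)
    (htr : ∀ i j, ∃ t ∈ T, K j = t •ᶜ K i) (hgen : T ⊔ ⨆ i, K i = ⊤)
    (hsn : ∀ i, (K i).IsSubnormal) (hmin : ∀ i, ∃ X, MinOver (T ⊓ K i) (K i) X) :
    ∃ M, MinOver T ⊤ M := by
  let P : Subgroup G → Subgroup G → Prop := fun L X => (∃ i, K i = L) ∧ UniqMax (T ⊓ L) L X
  let M : Subgroup G :=
    { carrier := {g | ∀ L X, P L X ↔ P (g •ᶜ L) (g •ᶜ X)}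
      one_mem' := fun L X => by rw [cj_one, cj_one]
      mul_mem' := fun {a b} ha hb L X => by rw [cj_mul, cj_mul, hb L X, ha]
      inv_mem' := fun {a} ha L X => by rw [ha (a⁻¹ •ᶜ L) (a⁻¹ •ᶜ X), cj_inv_cj, cj_inv_cj] }
  have hM : ∀ g, g ∈ M ↔ ∀ L X, P L X ↔ P (g •ᶜ L) (g •ᶜ X) := fun g => Iff.rfl
  have key : ∀ Y, T ≤ Y → Y < ⊤ → ∀ m ∈ Y, ∀ L X, P L X → P (m •ᶜ L) (m •ᶜ X) := by
    rintro Y hTY hY m hm _ X ⟨⟨i, rfl⟩, hX⟩
    obtain ⟨j, hj⟩ := hinv m i
    obtain ⟨X', hX'⟩ := hmin j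
    refine ⟨⟨j, hj⟩, ?_⟩
    have h1 : ¬ K j ≤ Y := by
      intro h
      refine hY.not_ge ?_
      rw [← hgen]
      refine sup_le hTY (iSup_le fun k => ?_)
      obtain ⟨t, ht, hk⟩ := htr j k
      rw [hk]
      exact cj_le_of_mem h (hTY ht)
    have h2 : Y ⊓ K j ≤ X' := by
      rcases hX'.le_or_eq (X := Y ⊓ K j) (inf_le_inf_right _ hTY) inf_le_right with h | h
      · exact h
      · exact absurd (inf_eq_right.1 h) h1
    have h3 : SylIn p (T ⊓ K j) (Y ⊓ K j) :=
      (sylIn_inf_subnormal hT (hsn j)).of_le (inf_le_inf_right _ hTY) inf_le_right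
    have h4 : SylIn p (m •ᶜ (T ⊓ K i)) (Y ⊓ K j) := by
      refine (hj ▸ (sylIn_inf_subnormal hT (hsn i)).cj m).of_le (le_inf ?_ ?_) inf_le_right
      · exact cj_le_of_mem (inf_le_left.trans hTY) hm
      · rw [hj]
        exact cj_mono m inf_le_right
    obtain ⟨x, hx, he⟩ := h3.exists_conj h4
    have h5 := hX'.toUniqMax.cj_of_mem hx.2
    rw [he, cj_eq_of_mem (h2 hx), hj] at h5
    rw [(hX.cj m).unique h5, ← hj]
    exact hX'.toUniqMax
  have hmax : ∀ Y, T ≤ Y → Y < ⊤ → Y ≤ M := by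
    intro Y hTY hY m hm L X
    refine ⟨key Y hTY hY m hm L X, fun h => ?_⟩
    have := key Y hTY hY m⁻¹ (Y.inv_mem hm) _ _ h
    rwa [inv_cj_cj, inv_cj_cj] at this
  obtain ⟨i⟩ := ‹Nonempty ι›
  obtain ⟨X, hX⟩ := hmin i
  have hMt : M < ⊤ := by
    refine lt_top_iff_ne_top.2 fun h => ?_
    refine hX.not_le_normal (N := X) le_rfl (fun g hg => ?_) hX.le
    have h1 := ((hM g).1 (h ▸ mem_top g) (K i) X).1 ⟨⟨i, rfl⟩, hX.toUniqMax⟩
    rw [cj_eq_of_mem hg] at h1
    exact mem_normalizer_iff_cj.2 (h1.2.unique hX.toUniqMax)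
  have hTt : T < ⊤ := by
    refine lt_top_iff_ne_top.2 fun h => ?_
    have h1 := hX.le
    rw [h, top_inf_eq] at h1
    exact hX.lt.not_ge h1
  refine ⟨M, ⟨hmax T le_rfl hTt, hMt, hmax⟩, ?_⟩
  rw [eq_top_iff]
  conv_lhs => rw [← hgen]
  refine sup_le (le_ncl _ _) (iSup_le fun j => ?_)
  obtain ⟨X, hX⟩ := hmin j
  conv_lhs => rw [← hX.gen]
  exact ncl_mono inf_le_left le_top

/-- Strong `p`-irreducibility for a subgroup with trivial `p`-core. -/
structure SPI (p : ℕ) (E : Subgroup G) : Prop where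
  core : pCoreOf p E = ⊥
  ncl : ¬ IsPClosed p E
  norm : ∀ N, N ≤ E → E ≤ normalizer (N : Set G) → presOf p E ≤ N ∨ N ≤ centralizer (E : Set G)

theorem SPI.not_der_le {E : Subgroup G} (h : SPI p E) : ¬ ⁅E, E⁆ ≤ centralizer (E : Set G) := by
  intro h1
  have h2 := CL.isNilpotent_of_commutator_commutator_eq_bot
    (commutator_eq_bot_iff_le_centralizer.2 h1)
  exact h.ncl fun P => CL.isNilpotent_iff_sylow_normal.1 h2 p inferInstance P

theorem SPI.presOf_le_der {E : Subgroup G} (h : SPI p E) : presOf p E ≤ ⁅E, E⁆ :=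
  (h.norm _ (commutator_le_left_of_normalizes le_normalizer)
    (le_normalizer_commutator le_normalizer le_normalizer)).resolve_right h.not_der_le

omit [Finite G] in
theorem der_le_centralizer {X E : Subgroup G} (h : ⁅X, E⁆ ≤ centralizer (E : Set G)) :
    ⁅E, E⁆ ≤ centralizer (X : Set G) := by
  have h1 := commutator_eq_bot_iff_le_centralizer.2 h
  rw [← commutator_eq_bot_iff_le_centralizer]
  exact commutator_commutator_eq_bot_of_rotate (by rwa [Subgroup.commutator_comm E X]) h1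

theorem SPI.le_centralizer {E X : Subgroup G} (h : SPI p E)
    (hX : ⁅X, E⁆ ≤ E ⊓ centralizer (E : Set G)) : X ≤ centralizer (E : Set G) := by
  have h1 := h.presOf_le_der.trans (der_le_centralizer (hX.trans inf_le_right))
  intro x hx e he
  have h2 := hX (commutator_mem_commutator hx he)
  obtain ⟨k, hk⟩ := pow_mem_presOf (p := p) he
  have h3 : ⁅x, e⁆ ^ p ^ k = 1 := by
    rw [← CL.PG.commutator_pow_right (h2.2 e he), commutatorElement_eq_one_iff_mul_comm]
    exact h1 hk x hx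
  have h4 : zpowers ⁅x, e⁆ ≤ pCoreOf p E := le_oP (isPGroup_zpowers h3) (zpowers_le.2 h2.1)
    (le_normalizer_of_le_centralizer (le_centralizer_symm (zpowers_le.2 h2.2)))
  rw [h.core, le_bot_iff, zpowers_eq_bot, commutatorElement_eq_one_iff_mul_comm] at h4
  exact h4.symm

theorem presOf_iSup_le {ι : Type*} (E : ι → Subgroup G)
    (hn : ∀ i, ⨆ j, E j ≤ normalizer (E i : Set G)) (B : Subgroup G) [B.Normal]
    (h : ∀ i, presOf p (E i) ≤ B) : presOf p (⨆ j, E j) ≤ B := by
  have h1 : (presOf p (⨆ j, E j)).map (QuotientGroup.mk' B) = ⊥ := by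
    rw [map_presOf, presOf_eq_bot_iff]
    refine (oP_isPGroup (p := p) ((⨆ j, E j).map (QuotientGroup.mk' B))).to_le ?_
    conv_lhs => rw [Subgroup.map_iSup]
    refine iSup_le fun i => le_oP ?_ (map_mono (le_iSup E i)) ?_
    · rw [← presOf_eq_bot_iff, ← map_presOf, Subgroup.map_eq_bot_iff, QuotientGroup.ker_mk']
      exact h i
    · exact (map_mono (hn i)).trans (le_normalizer_map _)
  rwa [Subgroup.map_eq_bot_iff, QuotientGroup.ker_mk'] at h1

theorem core_b {ι : Type*} (E : ι → Subgroup G)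
    (hinv : ∀ g i, ∃ j, E j = g •ᶜ E i) (htr : ∀ i j, ∃ g, E j = g •ᶜ E i)
    (hres : pResidual p G ≤ ⨆ j, E j) (hn : ∀ i, ⨆ j, E j ≤ normalizer (E i : Set G))
    (h : ∀ i, SPI p (E i)) :
    (∀ N : Subgroup G, N.Normal → ¬ IsPClosed p N → pResidual p G ≤ N) ∧
      ∀ i j, presOf p (E i) = presOf p (E j) ∨ ⁅E i, E j⁆ = ⊥ := by
  have hR : (⨆ j, E j).Normal := by
    refine normal_of_cj fun g => cj_eq_of_le ?_
    rw [cj_iSup]
    refine iSup_le fun i => ?_
    obtain ⟨j, hj⟩ := hinv g i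
    rw [← hj]
    exact le_iSup E j
  have hres' : ∀ B : Subgroup G, B.Normal → (∀ i, presOf p (E i) ≤ B) → pResidual p G ≤ B := by
    intro B _ hB
    refine le_trans ?_ (presOf_iSup_le E hn B hB)
    rw [← presOf_top, ← presOf_presOf, presOf_top]
    exact presOf_mono hres
  refine ⟨fun N hN hc => ?_, fun i j => ?_⟩
  · by_cases h1 : ∃ i, presOf p (E i) ≤ N
    · obtain ⟨i, hi⟩ := h1
      refine hres' N hN fun j => ?_
      obtain ⟨g, hg⟩ := htr i j
      rw [hg, ← oU_cj]
      exact cj_le_of_mem_normalizer hi (le_normalizer_of_normal (mem_top g))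
    push Not at h1
    exfalso
    have h2 : ∀ i, E i ⊓ N ≤ centralizer (E i : Set G) := fun i =>
      ((h i).norm _ inf_le_left (le_normalizer_inf le_normalizer le_normalizer_of_normal)).resolve_left
        fun h3 => h1 i (h3.trans inf_le_right)
    have h3 : N ⊓ ⨆ j, E j ≤ centralizer ((⨆ j, E j : Subgroup G) : Set G) := by
      refine le_centralizer_symm (iSup_le fun i => le_centralizer_symm ((h i).le_centralizer ?_))
      have h4 : ⁅N ⊓ ⨆ j, E j, E i⁆ ≤ E i ⊓ N :=
        le_inf (commutator_le_right_of_normalizes (inf_le_right.trans (hn i)))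
          ((commutator_mono inf_le_left le_rfl).trans (commutator_le_left _ _))
      exact le_inf (h4.trans inf_le_left) (h4.trans (h2 i))
    have h4 := der_le_centralizer ((commutator_le_inf N (⨆ j, E j)).trans h3)
    have h5 := hres' (centralizer (N : Set G)) inferInstance fun i =>
      (h i).presOf_le_der.trans ((commutator_mono (le_iSup E i) (le_iSup E i)).trans h4)
    obtain ⟨T⟩ := (inferInstance : Nonempty (Sylow p G))
    have h6 := sylIn_inf_normal T N
    refine hc (isPClosed_of_sylIn h6 (le_trans le_top ?_))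
    rw [← pResidual_sup_sylow T]
    exact sup_le (le_normalizer_of_le_centralizer (h5.trans (centralizer_anti inf_le_right)))
      (le_normalizer_inf le_normalizer le_normalizer_of_normal)
  · rcases (h i).norm (E i ⊓ E j) inf_le_left
      (le_normalizer_inf le_normalizer ((le_iSup E i).trans (hn j))) with h1 | h1
    · left
      refine eq_of_le_of_card_ge ?_ ?_
      · rw [← presOf_presOf]
        exact presOf_mono (h1.trans inf_le_right)
      · obtain ⟨g, hg⟩ := htr i j
        rw [hg, ← oU_cj, card_cj]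
    · right
      rw [Subgroup.commutator_comm, commutator_eq_bot_iff_le_centralizer]
      refine (h i).le_centralizer ?_
      have h2 : ⁅E j, E i⁆ ≤ E i ⊓ E j := by
        rw [inf_comm]
        exact commutator_le_inf_of_normalizes ((le_iSup E j).trans (hn i))
          ((le_iSup E i).trans (hn j))
      exact le_inf (h2.trans inf_le_left) (h2.trans h1)

end

/-- Let H be a finite group, p a prime, and 𝒦 a nonempty set of subgroups of H permuted transitively by conjugation, with R the subgroup generated by the members of 𝒦. Suppose O^p(H) ≤ R, each E ∈ 𝒦 has E·O_p(H) normal in R·O_p(H), and each E ∈ 𝒦 is p-minimal (generated by the conjugates of a Sylow p-subgroup T_E of E, with T_E in exactly one maximal subgroup of E). Then H is p-minimal in the same sense. If instead each E ∈ 𝒦 is strongly p-irreducible, then H is p-irreducible and, for E, K ∈ 𝒦, either O^p(E·O_p(H)) = O^p(K·O_p(H)) or [E, K] ≤ O_p(H). -/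
theorem result {H : Type*} [Group H] [Finite H] {p : ℕ} [Fact p.Prime] (𝒦 : Set (Subgroup H)) (hne : 𝒦.Nonempty) (hinv : ∀ h : H, ∀ E ∈ 𝒦, E.map (MulAut.conj h).toMonoidHom ∈ 𝒦) (htr : ∀ E ∈ 𝒦, ∀ K ∈ 𝒦, ∃ h : H, K = E.map (MulAut.conj h).toMonoidHom) (hres : Cfsg.pResidual p H ≤ sSup 𝒦) (hnorm : ∀ E ∈ 𝒦, sSup 𝒦 ⊔ Cfsg.pCore p H ≤ Subgroup.normalizer ((E ⊔ Cfsg.pCore p H : Subgroup H) : Set H)) : ((∀ E ∈ 𝒦, ∀ T : Sylow p ↥E, Cfsg.IsMinimalOver (T : Subgroup ↥E)) → ∀ T : Sylow p H, Cfsg.IsMinimalOver (T : Subgroup H)) ∧ ((∀ E ∈ 𝒦, Cfsg.IsStronglyPIrreducible p ↥E) → Cfsg.IsPIrreducible p H ∧ ∀ E ∈ 𝒦, ∀ K ∈ 𝒦, (Cfsg.pResidual p ↥(E ⊔ Cfsg.pCore p H)).map (E ⊔ Cfsg.pCore p H).subtype = (Cfsg.pResidual p ↥(K ⊔ Cfsg.pCore p H)).map (K ⊔ Cfsg.pCore p H).subtype ∨ ⁅E, K⁆ ≤ Cfsg.pCore p H) := by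
  rw [sSup_eq_iSup'] at hres hnorm
  obtain ⟨E₀, hE₀⟩ := hne
  have : Nonempty 𝒦 := ⟨⟨E₀, hE₀⟩⟩
  set O := pCore p H with hO
  have hOp : IsPGroup p O := pcore_isPGroup
  set R := ⨆ i : 𝒦, (i : Subgroup H) with hR
  have hRn : R.Normal := by
    refine normal_of_cj fun g => cj_eq_of_le ?_
    rw [hR, cj_iSup]
    exact iSup_le fun i => le_iSup (fun i : 𝒦 => (i : Subgroup H)) ⟨_, hinv g i i.2⟩
  have hER : ∀ i : 𝒦, (i : Subgroup H) ≤ R := fun i => le_iSup (fun i : 𝒦 => (i : Subgroup H)) i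
  have hsn : ∀ i : 𝒦, ((i : Subgroup H) ⊔ O).IsSubnormal := fun i =>
    CL.SnIn.top_iff.1 ((CL.SnIn.of_normal (H := R ⊔ O) le_top).trans
      (CL.SnIn.of_le_normalizer (sup_le_sup_right (hER i) O) (hnorm i i.2)))
  refine ⟨fun hmin T => isMinimalOver_iff.2 ?_, fun hirr => ?_⟩
  · have hTR : (T : Subgroup H) ⊔ R = ⊤ := by
      rw [eq_top_iff, ← sylow_sup_pres T]
      exact sup_le_sup_left hres _
    refine minOver_of_family (sylIn_top T) (fun i : 𝒦 => (i : Subgroup H) ⊔ O) (fun g i => ?_)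
      (fun i j => ?_) ?_ hsn (fun i => ?_)
    · exact ⟨⟨_, hinv g i i.2⟩, by rw [cj_sup, cj_eq_of_normal g O]⟩
    · obtain ⟨g, hg⟩ := htr i i.2 j j.2
      obtain ⟨t, ht, r, hr, rfl⟩ := (mem_sup_of_normalizes_right (H := T) (N := R)
        le_normalizer_of_normal).1 (hTR ▸ mem_top g)
      refine ⟨t, ht, ?_⟩
      rw [← cj_eq_of_mem_normalizer (hnorm i i.2 (mem_sup_left hr)), ← cj_mul, cj_sup,
        cj_eq_of_normal _ O, hg]
    · rw [eq_top_iff, ← hTR]
      exact sup_le_sup_left (iSup_mono fun i => le_sup_left) _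
    · obtain ⟨S, hS⟩ := exists_sylIn p (i : Subgroup H)
      obtain ⟨M, hM⟩ := (isMinimalOver_subgroupOf_iff hS.le).1 (hmin i i.2 hS.toSylow)
      have h1 := minOver_sup hM hS.pgroup hOp
      have h2 := hS.sup_of_normalizes (sylIn_self hOp) le_normalizer_of_normal
        (isPGroup_sup_of_normalizes hS.pgroup hOp le_normalizer_of_normal)
      obtain ⟨x, hx, he⟩ := h2.exists_conj (sylIn_inf_subnormal (sylIn_top T) (hsn i))
      have h3 := h1.cj x
      rw [he, cj_eq_of_mem hx] at h3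
      exact ⟨_, h3⟩
  · set π := QuotientGroup.mk' O with hπ
    have hs : Function.Surjective π := QuotientGroup.mk'_surjective O
    have hker : π.ker = O := QuotientGroup.ker_mk' O
    have hcore : ∀ i : 𝒦, pCoreOf p (i : Subgroup H) ≤ O := by
      intro i
      refine le_trans le_sup_left ((le_oP (H := (i : Subgroup H) ⊔ O)
        (isPGroup_sup_of_normalizes (oP_isPGroup _) hOp le_normalizer_of_normal)
        (sup_le_sup_right (oP_le _) O) (sup_le ?_ ?_)).trans (oP_le_of_subnormal (hsn i)))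
      · exact le_normalizer_sup (oP_normal _) le_normalizer_of_normal
      · exact le_sup_right.trans le_normalizer
    have hkp : ∀ L : Subgroup H, IsPGroup p (L ⊓ π.ker : Subgroup H) := fun L =>
      hOp.to_le (inf_le_right.trans hker.le)
    have hmapO : ∀ L : Subgroup H, (L ⊔ O).map π = L.map π := fun L => by
      rw [Subgroup.map_sup, (Subgroup.map_eq_bot_iff O).2 hker.ge, sup_bot_eq]
    obtain ⟨h1, h2⟩ := core_b (p := p) (fun i : 𝒦 => (i : Subgroup H).map π)
      (fun g i => by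
        obtain ⟨g, rfl⟩ := hs g
        exact ⟨⟨_, hinv g i i.2⟩, map_cj π g i⟩)
      (fun i j => by
        obtain ⟨g, hg⟩ := htr i i.2 j j.2
        exact ⟨π g, by rw [hg]; exact map_cj π g i⟩)
      (by
        rw [← Subgroup.map_iSup, ← oU_pResidual_map hs]
        exact map_mono hres)
      (fun i => by
        rw [← Subgroup.map_iSup, ← hmapO i]
        exact (map_mono (le_sup_left.trans (hnorm i i.2))).trans (le_normalizer_map _))
      (fun i => by
        refine ⟨?_, fun hc => (hirr i i.2).1 (isPClosed_of_map π (hkp _) hc), fun N h1 h2 => ?_⟩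
        · rw [← oP_map_of_ker π _ (hkp _), Subgroup.map_eq_bot_iff, hker]
          exact hcore i
        · have hn : ((N.comap π).subgroupOf (i : Subgroup H)).Normal :=
            normal_subgroupOf_of_le_normalizer
              ((map_le_iff_le_comap.1 h2).trans (le_normalizer_comap π))
          by_cases h3 : ⁅(N.comap π).subgroupOf (i : Subgroup H), ⊤⁆ ≤ pCore p (i : Subgroup H)
          · right
            rintro n hn' _ ⟨e, he, rfl⟩
            obtain ⟨m, hm, rfl⟩ := h1 hn'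
            have h4 := h3 (commutator_mem_commutator (g₁ := ⟨m, hm⟩) (g₂ := ⟨e, he⟩) hn'
              (mem_top _))
            have h5 : ⁅m, e⁆ ∈ π.ker := hker.ge (hcore i ⟨_, h4, rfl⟩)
            rw [MonoidHom.mem_ker, map_commutatorElement,
              commutatorElement_eq_one_iff_mul_comm] at h5
            exact h5.symm
          · left
            rw [← map_presOf, map_le_iff_le_comap, map_le_iff_le_comap]
            exact (hirr i i.2).2 _ hn h3)
    refine ⟨⟨fun hc => (hirr E₀ hE₀).1 (isPClosed_of_le (isPClosed_top_iff.2 hc) le_top),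
      fun N hN hc => ?_⟩, fun E hE K hK => ?_⟩
    · have h3 := h1 (N.map π) (hN.map π hs) fun h => hc (isPClosed_of_map π (hkp _) h)
      rw [← oU_pResidual_map hs, Subgroup.map_le_map_iff, hker] at h3
      rw [← presOf_top, ← presOf_presOf, presOf_top]
      exact oU_le_of_le_sup hOp le_normalizer_of_normal h3
    · have h3 : ∀ A B : Subgroup H, presOf p (A.map π) ≤ presOf p (B.map π) →
          presOf p (A ⊔ O) ≤ presOf p (B ⊔ O) := by
        intro A B h
        rw [← hmapO A, ← map_presOf, ← map_presOf, Subgroup.map_le_map_iff, hker] at h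
        rw [← presOf_presOf]
        exact presOf_mono (h.trans (sup_le_sup_right (presOf_le _) O))
      rcases h2 ⟨E, hE⟩ ⟨K, hK⟩ with h | h
      · exact Or.inl (le_antisymm (h3 _ _ h.le) (h3 _ _ h.ge))
      · right
        rwa [← map_commutator, Subgroup.map_eq_bot_iff, hker] at h

end Cfsg.Agent.S2855
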