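import Cfsg.Statements.S2859
import Cfsg.Agent.TECH.FrakH

set_option autoImplicit false
open Cfsg

namespace Cfsg.Agent.S2859

open CL.MSS Subgroup

theorem aux {G : Type*} [Group G] [Finite G] {p : ℕ} [Fact p.Prime] {Q Hc H₁ H₂ : Subgroup G}
    (hw : WC p Q ⊤) (hHc : Hc = ncl Q Hc) (hn₁ : H₁ ≤ Hc ∧ Hc ≤ normalizer (H₁ : Set G))
    (hn₂ : H₂ ≤ Hc ∧ Hc ≤ normalizer (H₂ : Set G)) (hprod : H₁ ⊔ H₂ = Hc)
    (hcomm : ⁅H₁, H₂⁆ ≤ normalizer (Q : Set G)) {K : Subgroup G}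
    (hK : K = oU[p] (ncl Q (H₁ ⊔ Q))) :
    (⁅K, Q⁆ = K ∧ ⁅K, H₁⁆ = K ∧ K ≤ ⁅H₁, H₁⁆ ∧ Hc ≤ normalizer (K : Set G)) ∧
      ⁅K, H₂⁆ ≤ pCoreOf p Hc := by
  have hQ : Q ≤ Hc := hHc ▸ le_ncl Q Hc
  have hO := oP_normal (p := p) Hc
  have hOp := oP_isPGroup (p := p) Hc
  set O := pCoreOf p Hc
  have hOH : O ≤ Hc := oP_le Hc
  have hN : Hc ≤ normalizer ((⁅H₁, H₂⁆ : Subgroup G) : Set G) :=
    le_normalizer_commutator hn₁.2 hn₂.2
  have hNH : ⁅H₁, H₂⁆ ≤ Hc := (commutator_le_left_of_normalizes (hn₂.1.trans hn₁.2)).trans hn₁.1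
  have h1 : ⁅⁅H₁, H₂⁆, Q⁆ ≤ O :=
    (commutator_le_inf_of_normalizes hcomm (hQ.trans hN)).trans
      ((le_oP hw.pgroup.to_inf_right inf_le_left (le_normalizer_inf le_normalizer hcomm)).trans
        (oP_le_oP_of_normal hNH hN))
  have h2 : ⁅⁅H₁, H₂⁆, Hc⁆ ≤ O := by
    have := commutator_ncl_le (hQ.trans hO) hN hO h1
    rwa [← hHc] at this
  have h3 : ⁅⁅H₁, H₁⁆, H₂⁆ ≤ O := three_subgroups_of_normalizes (hn₁.1.trans hO) (hn₁.1.trans hO)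
    (hn₂.1.trans hO) ((commutator_mono le_rfl hn₁.1).trans h2)
    (by rw [commutator_comm H₂]; exact (commutator_mono le_rfl hn₁.1).trans h2)
  have hKQ : ⁅K, Q⁆ = K := hK ▸ hw.commutator_oU_ncl le_sup_right le_top
  have hKK : oU[p] K = K := by rw [hK, oU_oU]
  have hK1 : K ≤ H₁ := hK ▸ oU_le_of_le_sup hw.pgroup (hQ.trans hn₁.2) (ncl_le_self le_sup_right)
  have hD : Hc ≤ normalizer ((⁅H₁, H₁⁆ : Subgroup G) : Set G) :=
    le_normalizer_commutator hn₁.2 hn₁.2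
  have hDH : ⁅H₁, H₁⁆ ≤ Hc := (commutator_le_left_of_normalizes le_normalizer).trans hn₁.1
  have h4 : K ≤ ⁅H₁, H₁⁆ ⊔ ⁅H₁, H₂⁆ := by
    have hs := le_normalizer_sup hD hN
    refine hKQ.ge.trans ((commutator_mono hK1 (hQ.trans hprod.ge)).trans ?_)
    exact commutator_sup_le_of_normalizes (hn₁.1.trans hs) (hn₂.1.trans hs) le_sup_left le_sup_right
  have h5 : K ≤ ⁅H₁, H₁⁆ := by
    have hs := le_normalizer_sup hD hO
    refine hKK.ge.trans (oU_le_of_le_sup hOp (hOH.trans hD) ?_)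
    refine hKQ.ge.trans ((commutator_mono h4 le_rfl).trans ?_)
    exact sup_commutator_le_of_normalizes (hDH.trans hs) (hNH.trans hs)
      ((commutator_le_left_of_normalizes (hQ.trans hD)).trans le_sup_left) (h1.trans le_sup_right)
  have h6 : ⁅K, H₂⁆ ≤ O := (commutator_mono h5 le_rfl).trans h3
  have hOQ : O ≤ normalizer (Q : Set G) := hw.oP_le_normalizer hQ le_top
  have hOK : O ≤ normalizer (K : Set G) :=
    hK ▸ le_normalizer_oU (le_normalizer_ncl hOQ (le_normalizer_sup (hOH.trans hn₁.2) hOQ))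
  have h7 : H₁ ≤ normalizer (K : Set G) :=
    hK ▸ le_normalizer_oU (le_sup_left.trans (ncl_normal Q _))
  have h8 : H₂ ≤ normalizer (K : Set G) := by
    rw [← hKK, ← oU_sup_of_isPGroup hOp hOK]
    refine le_normalizer_oU (le_normalizer_of_commutator_le (sup_commutator_le_of_normalizes
      (le_sup_left.trans le_normalizer) (le_sup_right.trans le_normalizer)
      (h6.trans le_sup_right) ?_))
    exact (commutator_le_left_of_normalizes (hn₂.1.trans hO)).trans le_sup_right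
  have h9 : Hc ≤ normalizer (K : Set G) := hprod.ge.trans (sup_le h7 h8)
  refine ⟨⟨hKQ, le_antisymm (commutator_le_left_of_normalizes h7) ?_, h5, h9⟩, h6⟩
  have hE := le_normalizer_commutator h9 hn₁.2
  have hs := le_normalizer_sup hE hO
  refine hKK.ge.trans (oU_le_of_le_sup hOp (hOH.trans hE) ?_)
  refine hKQ.ge.trans ((commutator_mono le_rfl (hQ.trans hprod.ge)).trans ?_)
  exact commutator_sup_le_of_normalizes (hn₁.1.trans hs) (hn₂.1.trans hs) le_sup_left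
    (h6.trans le_sup_right)

/-- Let Q be a nontrivial p-subgroup of the finite group H that is a weakly closed subgroup, H° the weak closure of Q in H (generated by the conjugates of Q) and H_∘ = O^p(H°). Suppose H₁, H₂ are normal subgroups of H° with H° = H₁H₂ and [H₁, H₂] ≤ N_H(Q), and put Kᵢ = O^p of the weak closure of Q in HᵢQ. Then for i = 1, 2: Kᵢ = [Kᵢ, Q] = [Kᵢ, Hᵢ] ≤ Hᵢ′ and Kᵢ is normal in H°; H_∘ = K₁K₂; and [K₁, K₂] ≤ O_p(H°). -/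
theorem result {G : Type*} [Group G] [Finite G] {p : ℕ} [Fact p.Prime] (Q : Subgroup G) (hQp : IsPGroup p ↥Q) (hQ1 : Q ≠ ⊥) (hwc : Cfsg.IsWeaklyClosedSubgroup p Q) (Hc : Subgroup G) (hHc : Hc = Cfsg.weakClosure Q ⊤) (H₁ H₂ : Subgroup G) (hn₁ : H₁ ≤ Hc ∧ Hc ≤ Subgroup.normalizer ((H₁ : Subgroup G) : Set G)) (hn₂ : H₂ ≤ Hc ∧ Hc ≤ Subgroup.normalizer ((H₂ : Subgroup G) : Set G)) (hprod : H₁ ⊔ H₂ = Hc) (hcomm : ⁅H₁, H₂⁆ ≤ Subgroup.normalizer ((Q : Subgroup G) : Set G)) (K₁ K₂ : Subgroup G) (hK₁ : K₁ = ((Cfsg.pResidual p ↥(Cfsg.weakClosure Q (H₁ ⊔ Q))).map ((Cfsg.weakClosure Q (H₁ ⊔ Q))).subtype)) (hK₂ : K₂ = ((Cfsg.pResidual p ↥(Cfsg.weakClosure Q (H₂ ⊔ Q))).map ((Cfsg.weakClosure Q (H₂ ⊔ Q))).subtype)) : (⁅K₁, Q⁆ = K₁ ∧ ⁅K₁, H₁⁆ = K₁ ∧ K₁ ≤ ⁅H₁, H₁⁆ ∧ Hc ≤ Subgroup.normalizer ((K₁ : Subgroup G) : Set G)) ∧ (⁅K₂, Q⁆ = K₂ ∧ ⁅K₂, H₂⁆ = K₂ ∧ K₂ ≤ ⁅H₂, H₂⁆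 ∧ Hc ≤ Subgroup.normalizer ((K₂ : Subgroup G) : Set G)) ∧ K₁ ⊔ K₂ = ((Cfsg.pResidual p ↥Hc).map (Hc).subtype) ∧ ⁅K₁, K₂⁆ ≤ (Cfsg.pCoreOf p Hc) := by
  have hw := wc_top_iff.1 hwc
  rw [hw.weakClosure_eq_ncl le_top] at hHc
  rw [hw.weakClosure_eq_ncl le_sup_right] at hK₁ hK₂
  have hH : Hc = ncl Q Hc := by rw [hHc, hw.ncl_ncl le_top le_top]
  have hQ : Q ≤ Hc := hH ▸ le_ncl Q Hc
  obtain ⟨a1, a2⟩ := aux hw hH hn₁ hn₂ hprod hcomm hK₁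
  obtain ⟨b1, b2⟩ := aux hw hH hn₂ hn₁ ((sup_comm _ _).trans hprod)
    (by rwa [commutator_comm]) hK₂
  have hK2 : K₂ ≤ H₂ := b1.2.2.1.trans (commutator_le_left_of_normalizes le_normalizer)
  refine ⟨a1, b1, le_antisymm (sup_le ?_ ?_) ?_, (commutator_mono le_rfl hK2).trans a2⟩
  · exact hK₁ ▸ oU_mono ((ncl_le_self le_sup_right).trans (sup_le hn₁.1 hQ))
  · exact hK₂ ▸ oU_mono ((ncl_le_self le_sup_right).trans (sup_le hn₂.1 hQ))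
  · have hn := le_normalizer_sup a1.2.2.2 b1.2.2.2
    refine oU_le_of_le_sup hQp (hQ.trans hn) (hH.le.trans (ncl_le le_sup_right ?_))
    refine hprod.ge.trans (sup_le ?_ ?_)
    · have e : K₁ ⊔ K₂ ⊔ Q = ncl Q (H₁ ⊔ Q) ⊔ K₂ := by
        rw [← hw.ncl_eq_sup_oU le_sup_right le_top, sup_comm Q, sup_right_comm, hK₁]
      rw [e]
      exact le_normalizer_sup (le_sup_left.trans (ncl_normal Q _)) (hn₁.1.trans b1.2.2.2)
    · have e : K₁ ⊔ K₂ ⊔ Q = K₁ ⊔ ncl Q (H₂ ⊔ Q) := by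
        rw [← hw.ncl_eq_sup_oU le_sup_right le_top, sup_comm Q, sup_assoc, hK₂]
      rw [e]
      exact le_normalizer_sup (hn₂.1.trans a1.2.2.2) (le_sup_left.trans (ncl_normal Q _))

end Cfsg.Agent.S2859
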