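import Cfsg.Statements.S2860
import Cfsg.Agent.TECH.FrakH
import Cfsg.Agent.S2815

set_option autoImplicit false
open Cfsg

namespace Cfsg.Agent.S2860

open CL.MSS Subgroup

theorem bar_le {G : Type*} [Group G] {E C X Y : Subgroup G} [(C.subgroupOf E).Normal]
    (hX : X ≤ E) (h : (X.subgroupOf E).map (QuotientGroup.mk' (C.subgroupOf E)) ≤
      (Y.subgroupOf E).map (QuotientGroup.mk' (C.subgroupOf E))) : X ≤ Y ⊔ E ⊓ C := by
  intro x hx
  obtain ⟨y, hy, he⟩ := h ⟨⟨x, hX hx⟩, hx, rfl⟩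
  have h1 : y⁻¹ * ⟨x, hX hx⟩ ∈ C.subgroupOf E := QuotientGroup.eq.1 he
  have h2 := mul_mem (mem_sup_left hy : (y : G) ∈ Y ⊔ E ⊓ C)
    (mem_sup_right (⟨(y⁻¹ * ⟨x, hX hx⟩).2, h1⟩ : (y : G)⁻¹ * x ∈ E ⊓ C))
  simpa using h2

theorem bar_commutator {G G' : Type*} [Group G] [Group G'] {E X Y : Subgroup G} (f : E →* G')
    (hX : X ≤ E) (hY : Y ≤ E) : (⁅X, Y⁆.subgroupOf E).map f =
      ⁅(X.subgroupOf E).map f, (Y.subgroupOf E).map f⁆ := by
  rw [← map_commutator]
  congr 1
  apply map_injective E.subtype_injective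
  rw [map_commutator, subgroupOf_map_subtype, subgroupOf_map_subtype, subgroupOf_map_subtype,
    inf_of_le_left hX, inf_of_le_left hY, inf_of_le_left ((commutator_mono hX hY).trans
      (commutator_le_left_of_normalizes le_normalizer))]

/-- Let Q be a nontrivial large p-subgroup of the finite group H, U a nontrivial elementary abelian p-subgroup of H, and Q ≤ E ≤ N_H(U) with Q not normal in E. Suppose O_p(E/C_E(U)) = 1 and O^p(E)·C_E(U)/C_E(U) is quasisimple. Let E° be the weak closure of Q in E (generated by the conjugates of Q inside E) and E_∘ = O^p(E°). Then O^p(E)·C_E(U) = E_∘·C_E(U); E_∘ is perfect and equals O^p(E_∘); E_∘/C_{E_∘}(U) and E_∘/O_p(E_∘) are quasisimple; and E_∘ = [E_∘, Y] for every p-subgroup Y of E not centralizing U. -/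
theorem result {G : Type*} [Group G] [Finite G] {p : ℕ} [Fact p.Prime] (Q : Subgroup G) (hQp : IsPGroup p ↥Q) (hQ1 : Q ≠ ⊥) (hQ : Cfsg.IsLarge Q) (U : Subgroup G) (hU : Cfsg.IsElementaryAbelian p U) (hU1 : U ≠ ⊥) (E : Subgroup G) (hQE : Q ≤ E) (hEU : E ≤ Subgroup.normalizer ((U : Subgroup G) : Set G)) (hQn : ¬ E ≤ Subgroup.normalizer ((Q : Subgroup G) : Set G)) [hn : ((Subgroup.centralizer ((U : Subgroup G) : Set G)).subgroupOf E).Normal] (hred : Cfsg.pCore p (↥E ⧸ (Subgroup.centralizer ((U : Subgroup G) : Set G)).subgroupOf E) = ⊥) (hqs : Cfsg.IsQuasisimple ↥(((Cfsg.pResidual p ↥E) ⊔ (Subgroup.centralizer ((U : Subgroup G) : Set G)).subgroupOf E).map (QuotientGroup.mk' ((Subgroup.centralizer ((U : Subgroup G) : Set G)).subgroupOf E)))) (Er : Subgroup G) (hEr : Er = ((Cfsg.pResidual p ↥(Cfsg.weakClosure Q E)).map ((Cfsg.weakClosure Q E)).subtype)) [hn2 : ((Subgroup.centralizer ((U : Subgroup G) : Set G)).subgroupOf Er).Normal] : ((Cfsg.pResidual p ↥E).map (E).subtype)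 ⊔ (E ⊓ Subgroup.centralizer ((U : Subgroup G) : Set G)) = Er ⊔ (E ⊓ Subgroup.centralizer ((U : Subgroup G) : Set G)) ∧ ⁅Er, Er⁆ = Er ∧ ((Cfsg.pResidual p ↥Er).map (Er).subtype) = Er ∧ Cfsg.IsQuasisimple (↥Er ⧸ (Subgroup.centralizer ((U : Subgroup G) : Set G)).subgroupOf Er) ∧ Cfsg.IsQuasisimple (↥Er ⧸ Cfsg.pCore p ↥Er) ∧ ∀ Y : Subgroup G, Y ≤ E → IsPGroup p ↥Y → ¬ Y ≤ Subgroup.centralizer ((U : Subgroup G) : Set G) → ⁅Er, Y⁆ = Er := by
  have hw := large_wc hQ hQp hQ1
  rw [hw.weakClosure_eq_ncl hQE] at hEr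
  have hEr' : Er = oU[p] (ncl Q E) := hEr
  clear hEr
  have hUp := elemAb_isPGroup hU
  set C := centralizer (U : Set G) with hC
  set π := QuotientGroup.mk' (C.subgroupOf E) with hπ
  have hπs : Function.Surjective π := QuotientGroup.mk'_surjective _
  have hbar : ∀ Y : Subgroup G, Y ≤ E → ¬ Y ≤ C → (Y.subgroupOf E).map π ≠ ⊥ := by
    intro Y h1 h2 h3
    rw [Subgroup.map_eq_bot_iff, QuotientGroup.ker_mk'] at h3
    exact h2 fun y hy => h3 (x := ⟨y, h1 hy⟩) hy
  have hQC : ¬ Q ≤ C := fun h => hQn (hEU.trans (hQ.2 U (le_centralizer_symm h) hU1))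
  have hK : (pResidual p E ⊔ C.subgroupOf E).map π = pResidual p (E ⧸ C.subgroupOf E) := by
    rw [Subgroup.map_sup, (Subgroup.map_eq_bot_iff _).2 (QuotientGroup.ker_mk' _).ge, sup_bot_eq,
      oU_pResidual_map hπs]
  rw [hK] at hqs
  have hQp' := (isPGroup_subgroupOf hQp E).map π
  obtain ⟨-, h2815, -⟩ := Cfsg.Agent.S2815.result (p := p) (by
    have := dvd_card_of_isPGroup_le hQp' (hbar Q hQE hQC) le_top
    rwa [card_top] at this) hred hqs
  have hEE : ncl Q E ≤ E := ncl_le_self hQE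
  have hEn : E ≤ normalizer (Er : Set G) := hEr' ▸ le_normalizer_oU (ncl_normal Q E)
  have hErE : Er ≤ E := hEr' ▸ (oU_le _).trans hEE
  have hErr : oU[p] Er = Er := by rw [hEr', oU_oU]
  have hKr : (Er.subgroupOf E).map π = pResidual p (E ⧸ C.subgroupOf E) := by
    rw [hEr', oU_subgroupOf_of_le hEE, oU_map]
    refine le_antisymm ((oU_mono le_top).trans oU_top.le) ?_
    rw [← oU_top, ← oU_oU]
    refine oU_mono ?_
    rw [oU_top]
    have : ((ncl Q E).subgroupOf E).Normal := normal_subgroupOf_of_le_normalizer (ncl_normal Q E)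
    have := this.map π hπs
    exact (h2815 _ hQp' (hbar Q hQE hQC)).2.trans
      (ncl_le (map_mono (comap_mono (le_ncl Q E))) le_normalizer_of_normal)
  have hc : ⁅ncl Q E, C⁆ ≤ pCoreOf p (ncl Q E) :=
    large_commutator_ncl_centralizer_le_oP hQ hQp hQE hUp hU1 hEU
  have hEO : E ≤ normalizer (pCoreOf p (ncl Q E) : Set G) := le_normalizer_oP (ncl_normal Q E)
  have hperf : ⁅Er, Er⁆ = Er := by
    refine le_antisymm (commutator_le_left_of_normalizes le_normalizer) ?_
    have h1 : Er ≤ ⁅Er, Er⁆ ⊔ E ⊓ C := bar_le hErE (by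
      rw [bar_commutator π hErE hErE, hKr, IsQuasisimple.commutator_self hqs])
    have h2 := le_normalizer_commutator hEn hEn
    have h3 := le_normalizer_sup h2 hEO
    refine hErr.ge.trans (oU_le_of_le_sup (oP_isPGroup (ncl Q E)) (((oP_le _).trans hEE).trans h2) ?_)
    have h4 : ⁅Er, Q⁆ = Er := hEr' ▸ hw.commutator_oU_ncl hQE le_top
    refine h4.ge.trans ((commutator_mono h1 le_rfl).trans (sup_commutator_le_of_normalizes
      (((commutator_le_left_of_normalizes le_normalizer).trans hErE).trans h3) (inf_le_left.trans h3)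
      ((commutator_le_left_of_normalizes (hQE.trans h2)).trans le_sup_left) ?_))
    rw [commutator_comm]
    exact ((commutator_mono (le_ncl Q E) inf_le_right).trans hc).trans le_sup_right
  have hD : ⁅Er ⊓ C, Er⁆ ≤ pCoreOf p Er := by
    refine le_trans (le_inf ?_ (commutator_le_right_of_normalizes (inf_le_left.trans le_normalizer)))
      (oP_inf_le (hEr' ▸ oU_le (ncl Q E) : Er ≤ ncl Q E))
    rw [commutator_comm]
    exact (commutator_mono (hEr' ▸ oU_le (ncl Q E)) inf_le_right).trans hc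
  let f : Er →* E ⧸ C.subgroupOf E := π.comp (inclusion hErE)
  have hfr : f.range = pResidual p (E ⧸ C.subgroupOf E) := by
    rw [MonoidHom.range_comp, inclusion_range, hKr]
  have hfk : f.ker = C.subgroupOf Er := by
    ext x
    simp only [f, MonoidHom.mem_ker, MonoidHom.comp_apply, hπ, QuotientGroup.mk'_apply,
      QuotientGroup.eq_one_iff, mem_subgroupOf, coe_inclusion]
  have hq : IsQuasisimple (Er ⧸ C.subgroupOf Er) := IsQuasisimple.of_mulEquiv hqs
    (((QuotientGroup.quotientMulEquivOfEq hfk.symm).trans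
      (QuotientGroup.quotientKerEquivRange f)).trans (MulEquiv.subgroupCongr hfr)).symm
  refine ⟨le_antisymm (sup_le (bar_le (oU_le E) ?_) le_sup_right)
    (sup_le_sup_right (hEr' ▸ oU_mono hEE) _), hperf, hErr, hq, ?_, fun Y h1 h2 h3 => ?_⟩
  · rw [hKr, oU_subgroupOf, oU_pResidual_map hπs]
  · have hO : pCore p Er ≤ C.subgroupOf Er := by
      rw [← oP_subgroupOf]
      exact comap_mono ((pRedFor_iff_pcore_quot.2 hred).le_centralizer_of_isPGroup
        ((oP_le Er).trans hErE) (le_normalizer_oP hEn) (oP_isPGroup Er))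
    have : Group.IsPerfect Er := isPerfect_iff.2 hperf
    refine IsQuasisimple.of_ker_le_center hq inferInstance
      (QuotientGroup.map _ _ (MonoidHom.id _) hO) ?_ ?_
    · intro y
      obtain ⟨x, rfl⟩ := QuotientGroup.mk_surjective y
      exact ⟨x, rfl⟩
    · intro y hy
      obtain ⟨x, rfl⟩ := QuotientGroup.mk_surjective y
      have hx : (x : G) ∈ C := (QuotientGroup.eq_one_iff x).1 hy
      refine mem_center_iff.2 fun z => ?_
      obtain ⟨z, rfl⟩ := QuotientGroup.mk_surjective z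
      symm
      rw [← commutatorElement_eq_one_iff_mul_comm, ← QuotientGroup.mk'_apply,
        ← QuotientGroup.mk'_apply, ← map_commutatorElement, QuotientGroup.mk'_apply,
        QuotientGroup.eq_one_iff, ← mem_oP_iff]
      exact hD (commutator_mem_commutator ⟨x.2, hx⟩ z.2)
  · have h4 : ⁅Er, Y⁆ ≤ Er := commutator_le_left_of_normalizes (h1.trans hEn)
    refine le_antisymm h4 ?_
    have h5 : Er ≤ ⁅Er, Y⁆ ⊔ E ⊓ C := bar_le hErE (by
      rw [bar_commutator π hErE h1, hKr,
        (h2815 _ ((isPGroup_subgroupOf h2 E).map π) (hbar Y h1 h3)).1])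
    have h6 : Er ≤ normalizer ((⁅Er, Y⁆ : Subgroup G) : Set G) := le_normalizer_commutator_left
    have h7 : Er ≤ ⁅Er, Y⁆ ⊔ Er ⊓ C := by
      have := inf_sup_of_normalizes (B := E ⊓ C) h4 ((h4.trans hErE).trans
        (le_normalizer_inf le_normalizer (le_normalizer_centralizer hEU)))
      rw [← inf_assoc, inf_of_le_left hErE] at this
      exact (le_inf le_rfl h5).trans this.le
    have h8 := le_normalizer_sup h6 (oP_normal (p := p) Er)
    refine hErr.ge.trans (oU_le_of_le_sup (oP_isPGroup Er) ((oP_le _).trans h6) ?_)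
    exact hperf.ge.trans ((commutator_mono h7 le_rfl).trans (sup_commutator_le_of_normalizes
      (h4.trans h8) (inf_le_left.trans h8)
      ((commutator_le_left_of_normalizes h6).trans le_sup_left) (hD.trans le_sup_right)))

end Cfsg.Agent.S2860
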