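import Cfsg.Statements.S2861
import Cfsg.Agent.TECH.FrakLCases
import Cfsg.Agent.TECH.PRed
import Cfsg.Agent.SOLV.Core
import Cfsg.Agent.CLAS.SL2Sylow
import Cfsg.Agent.TECH.Amb

set_option autoImplicit false
open Cfsg

namespace Cfsg.Agent.S2861

open Subgroup Matrix
open scoped MatrixGroups

/-- `W` is the only nontrivial subgroup of exponent `p` that is normal in `N(W)`. -/
def Uq {X : Type*} [Group X] (p : ℕ) (W : Subgroup X) : Prop :=
  ∀ V : Subgroup X, V ≠ ⊥ → (∀ v ∈ V, v ^ p = 1) → V ≤ normalizer (W : Set X) →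
    (∀ g ∈ normalizer (W : Set X), ∀ v ∈ V, g * v * g⁻¹ ∈ V) → V = W

theorem pgrp {X : Type*} [Group X] {p : ℕ} {V : Subgroup X} (h : ∀ v ∈ V, v ^ p = 1) :
    IsPGroup p V := fun v => ⟨1, Subtype.ext (by simpa using h v v.2)⟩

theorem le_syl {X : Type*} [Group X] {p : ℕ} {V : Subgroup X} (P : Sylow p X) (h : IsPGroup p V)
    (hn : V ≤ normalizer ((P : Subgroup X) : Set X)) : V ≤ P := fun _ hv =>
  ((h.inf_normalizer_sylow P).le ⟨hv, hn hv⟩).2

theorem Uq.map {X : Type*} [Group X] {p : ℕ} {W : Subgroup X} (h : Uq p W) (e : X ≃* X) :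
    Uq p (W.map e.toMonoidHom) := by
  intro V h1 h2 h3 h4
  have k : ∀ g, g ∈ normalizer (W : Set X) ↔
      e g ∈ normalizer ((W.map e.toMonoidHom : Subgroup X) : Set X) := by
    intro g
    rw [← map_equiv_normalizer_eq W e]
    exact (mem_map_iff_mem (f := e.toMonoidHom) e.injective).symm
  have := h (V.comap e.toMonoidHom) (fun c => h1 (by
      rw [← map_comap_eq_self_of_surjective (f := e.toMonoidHom) e.surjective V, c,
        Subgroup.map_bot]))
    (fun v hv => e.injective (by rw [map_pow, map_one]; exact h2 _ hv))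
    (fun v hv => (k v).2 (h3 hv)) (fun g hg v hv => by
      have := h4 _ ((k g).1 hg) _ hv
      simpa using this)
  rw [← this, map_comap_eq_self_of_surjective (f := e.toMonoidHom) e.surjective]

theorem uq_e1 {F : Type*} [Field F] [Fintype F] {p : ℕ} [Fact p.Prime] [CharP F p] :
    Uq p (MulAction.stabilizer SL(2, F) (![1, 0] : Fin 2 → F)) := by
  intro V h1 h2 h3 h4
  have hv : (![1, 0] : Fin 2 → F) ≠ 0 := by simp
  have hle : V ≤ MulAction.stabilizer SL(2, F) (![1, 0] : Fin 2 → F) :=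
    le_syl (CL.SL2.sylowOfVec p _ hv) (pgrp h2) h3
  have k : ∀ a ∈ MulAction.stabilizer SL(2, F) (![1, 0] : Fin 2 → F),
      a = CL.SL2.unip ![1, 0] (a.1 0 1) := by
    intro a ha
    have h0 := congrFun ha 0
    have h1 := congrFun ha 1
    simp [CL.FrakL.smul_ap] at h0 h1
    have hd := a.det_coe
    rw [det_fin_two, h0, h1] at hd
    have h2 : a.1 1 1 = 1 := by simpa using hd
    apply Subtype.ext
    rw [show (CL.SL2.unip ![1, 0] (a.1 0 1)).1 = _ from CL.SL2.coe_unip _ _]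
    ext i j
    fin_cases i <;> fin_cases j <;> simp [h0, h1, h2]
  have add : ∀ c d : F, CL.SL2.unip ![1, 0] (c + d) =
      CL.SL2.unip ![1, 0] c * CL.SL2.unip ![1, 0] d := by
    intro c d
    apply Matrix.SpecialLinearGroup.ext
    intro i j
    rw [Matrix.SpecialLinearGroup.coe_mul, CL.SL2.coe_unip, CL.SL2.coe_unip, CL.SL2.coe_unip]
    fin_cases i <;> fin_cases j <;> simp [mul_apply, Fin.sum_univ_two, add_comm]
  have zero : CL.SL2.unip ![1, 0] (0 : F) = 1 := by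
    have := add 0 0
    rw [add_zero] at this
    exact left_eq_mul.1 this
  obtain ⟨v, hvV, hv1⟩ := (bot_or_exists_ne_one V).resolve_left h1
  obtain ⟨c, rfl⟩ : ∃ c, v = CL.SL2.unip ![1, 0] c := ⟨_, k v (hle hvV)⟩
  have c0 : c ≠ 0 := fun e => hv1 (e ▸ zero)
  have sq : ∀ a : F, CL.SL2.unip ![1, 0] (a ^ 2 * c) ∈ V := by
    intro a
    by_cases ha : a = 0
    · rw [ha, zero_pow two_ne_zero, zero_mul, zero]; exact one_mem V
    let D : SL(2, F) := ⟨!![a, 0; 0, a⁻¹], by simp [det_fin_two_of, ha]⟩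
    have hD : D • (![1, 0] : Fin 2 → F) = a • ![1, 0] := by
      change Matrix.mulVec !![a, 0; 0, a⁻¹] ![1, 0] = _
      ext i
      fin_cases i <;> simp [Matrix.mulVec, dotProduct, Fin.sum_univ_two]
    have hN : D ∈ normalizer ((MulAction.stabilizer SL(2, F) (![1, 0] : Fin 2 → F) :
        Subgroup SL(2, F)) : Set SL(2, F)) := by
      rw [mem_normalizer_iff_map_conj_eq]
      refine (MulAction.stabilizer_smul_eq_stabilizer_map_conj D _).symm.trans ?_
      rw [hD, CL.SL2.stabilizer_smul_eq ha]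
    convert h4 D hN _ hvV using 1
    rw [eq_mul_inv_iff_mul_eq]
    apply Matrix.SpecialLinearGroup.ext
    intro i j
    rw [Matrix.SpecialLinearGroup.coe_mul, Matrix.SpecialLinearGroup.coe_mul, CL.SL2.coe_unip, CL.SL2.coe_unip,
      show (D : Matrix (Fin 2) (Fin 2) F) = !![a, 0; 0, a⁻¹] from rfl]
    fin_cases i <;> fin_cases j <;> simp [mul_apply, Fin.sum_univ_two]
    field_simp
  refine le_antisymm hle fun w hw => ?_
  rw [k w hw]
  generalize w.1 0 1 = s
  obtain ⟨a, b, e⟩ : ∃ a b : F, a ^ 2 = s / c + b ^ 2 := by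
    by_cases h2 : ringChar F = 2
    · obtain ⟨a, ha⟩ := FiniteField.isSquare_of_char_two h2 (s / c)
      exact ⟨a, 0, by rw [ha]; ring⟩
    · have t : (2 : F) ≠ 0 := Ring.two_ne_zero h2
      exact ⟨(s / c + 1) / 2, (s / c - 1) / 2, by field_simp; ring⟩
  have := sq a
  rw [e, add_mul, div_mul_cancel₀ _ c0, add] at this
  exact (mul_mem_cancel_right (sq b)).1 this

theorem uq_sl {F : Type*} [Field F] [Fintype F] {p : ℕ} [hp : Fact p.Prime] {W : Subgroup SL(2, F)}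
    (hW : IsPGroup p W) (hc : Nat.card W = Fintype.card F) : Uq p W := by
  obtain ⟨r, hr⟩ := CharP.exists F
  obtain ⟨m, hr', hm⟩ := FiniteField.card F r
  obtain ⟨n, hn⟩ := hW.exists_card_eq
  obtain rfl : r = p := by
    have h1 : r ∣ p ^ n := by rw [← hn, hc, hm]; exact dvd_pow_self r m.ne_zero
    exact (Nat.prime_dvd_prime_iff_eq hr' hp.out).1 (hr'.dvd_of_dvd_pow h1)
  obtain ⟨v, hv, rfl⟩ := CL.FrakL.exists_eq_stabilizer hW hc
  obtain ⟨g, rfl⟩ := CL.FrakL.exists_smul_eq (u := ![1, 0]) (by simp) hv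
  rw [MulAction.stabilizer_smul_eq_stabilizer_map_conj]
  exact uq_e1.map (MulAut.conj g)

theorem uq_sz {F : Type*} [Field F] [CharP F 2] [Finite F] {θ : F →+* F} {X : Type*} [Group X]
    (M : CL.Sz.Model θ X) {W : Subgroup X} (hW : ∀ w ∈ W, w ^ 2 = 1)
    (hc : Nat.card W = Nat.card F) : Uq 2 W := by
  have := M.finite_G
  obtain ⟨P, hP⟩ := (pgrp hW).exists_le_sylow
  obtain ⟨M, hM⟩ := M.exists_model_U_eq P
  obtain rfl : W = M.Z := eq_of_le_of_card_ge
    (fun w hw => M.mem_Z_of_sq (hM ▸ hP hw) (by rw [← sq]; exact hW w hw)) (by rw [hc, M.card_Z])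
  intro V h1 h2 h3 h4
  rw [M.normalizer_Z] at h3 h4
  have hU : V ≤ M.U := le_syl M.sylow (pgrp h2) (by rw [M.coe_sylow, M.normalizer_U]; exact h3)
  have hZ : V ≤ M.Z := fun v hv => M.mem_Z_of_sq (hU hv) (by rw [← sq]; exact h2 v hv)
  obtain ⟨v, hv, hv1⟩ := (bot_or_exists_ne_one V).resolve_left h1
  obtain ⟨y, rfl⟩ := hZ hv
  refine le_antisymm hZ ?_
  rintro _ ⟨y', rfl⟩
  by_cases hy' : y' = 0
  · rw [hy', M.u_zero]; exact one_mem V
  obtain ⟨l, hl⟩ := M.exists_h_conj_u_zero (y := y) (fun e => hv1 (by rw [e, M.u_zero])) hy'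
  exact hl ▸ h4 _ (M.h_mem_B l) _ hv

theorem uq_dih {r : ℕ} (hr : Odd r) {W : Subgroup (DihedralGroup r)} (hW : IsPGroup 2 W)
    (h0 : W ≠ ⊥) : Uq 2 W := by
  have : NeZero r := ⟨hr.pos.ne'⟩
  intro V h1 h2 h3 _
  have hp : IsPGroup 2 (V ⊔ W : Subgroup (DihedralGroup r)) :=
    IsPGroup.to_sup_of_normal_right' (pgrp h2) hW h3
  obtain ⟨n, hn⟩ := hp.exists_card_eq
  have hd := card_subgroup_dvd_card (V ⊔ W)
  rw [hn, DihedralGroup.nat_card] at hd
  have h2 : 2 ^ n ≤ 2 := Nat.le_of_dvd two_pos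
    (((Nat.coprime_two_left.2 hr).pow_left n).dvd_of_dvd_mul_right hd)
  have a1 := (one_lt_card_iff_ne_bot V).2 h1
  have a2 := (one_lt_card_iff_ne_bot W).2 h0
  exact (eq_of_le_of_card_ge (le_sup_left (b := W)) (by omega)).trans
    (eq_of_le_of_card_ge (le_sup_right (a := V)) (by omega)).symm

/-- Standing hypotheses: G a finite group, S a Sylow p-subgroup, Q a nontrivial large p-subgroup of G contained in S, M a subgroup containing S with the basic property (M ∈ 𝔐_G(S)); Y_M the largest p-reduced normal subgroup of M and M† = M·C_G(Y_M). Let L ∈ 𝔏_G(Y_M) (L ∈ 𝔏_G(Y_M): Y_M ≤ L; O_p(L) is the normal closure in L of Y_M ∩ O_p(L) and normalizes Y_M; L is Y_M-minimal of characteristic p with N_L(Y_M) its unique maximal subgroup over Y_M; and L/O_p(L) ≅ SL₂(q) with q = |Y_M : Y_M ∩ O_p(L)|, or p = 2 and L/O_p(L) is a Suzuki group Sz(q) or dihedral of order 2r, r an odd prime) and A = O_p(L). Then Y_M·A/A is the unique nontrivial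 elementary abelian normal p-subgroup of N_L(Y_M)/A. -/
theorem result {G : Type*} [Group G] [Finite G] {p : ℕ} [Fact p.Prime] (S : Sylow p G) (Q : Subgroup G) (hQp : IsPGroup p ↥Q) (hQ1 : Q ≠ ⊥) (hQS : Q ≤ (S : Subgroup G)) (hQ : Cfsg.IsLarge Q) (M : Subgroup G) (hSM : (S : Subgroup G) ≤ M) (hM : Cfsg.IsInFrakM p M) (L : Subgroup G) (hL : Cfsg.IsInFrakL p M L) (NL : Subgroup G) (hNL : NL = L ⊓ Subgroup.normalizer (((Cfsg.largestPReducedOf p M) : Subgroup G) : Set G)) [hn : (((Cfsg.pCoreOf p L)).subgroupOf NL).Normal] : let Ybar : Subgroup (↥NL ⧸ ((Cfsg.pCoreOf p L)).subgroupOf NL) := (((Cfsg.largestPReducedOf p M)).subgroupOf NL).map (QuotientGroup.mk' (((Cfsg.pCoreOf p L)).subgroupOf NL)); Ybar ≠ ⊥ ∧ Ybar.Normal ∧ Cfsg.IsElementaryAbelian p Ybar ∧ ∀ (V : Subgroup (↥NL ⧸ ((Cfsg.pCoreOf p L)).subgroupOf NL)), V.Normal → Cfsg.IsElementaryAbelian p V → V ≠ ⊥ → V = Ybar := by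
  intro Ybar
  obtain ⟨hYL, -, hnorm, hmin, -, ⟨hlt, hmax⟩, hiso⟩ := hL
  have hE := CL.MSS.elemAb_yOf (p := p) M
  set Y := Cfsg.largestPReducedOf p M with hY
  have hA : ∀ x : L, (x : G) ∈ Cfsg.pCoreOf p L ↔ x ∈ Cfsg.pCore p L := fun x =>
    mem_map_iff_mem L.subtype_injective
  have hNLL : NL ≤ L := hNL ▸ inf_le_left
  have hYN : Y ≤ NL := hNL ▸ le_inf hYL le_normalizer
  have hnA : ¬ Y.subgroupOf L ≤ Cfsg.pCore p L := fun h => hlt.ne (le_antisymm inf_le_left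
    fun x hx => ⟨hx, hnorm ((hA ⟨x, hx⟩).2 (normalClosure_le_normal h (hmin.1 ▸ mem_top _)))⟩)
  have hYn : (Y.subgroupOf NL).Normal :=
    (normal_subgroupOf_iff_le_normalizer hYN).2 (hNL ▸ inf_le_right)
  have key : ∀ {X : Type} [Group X] (e : L ⧸ Cfsg.pCore p L ≃* X),
      (∀ W : Subgroup X, W ≠ ⊥ → (∀ w ∈ W, w ^ p = 1) →
        Nat.card W = (Y ⊓ Cfsg.pCoreOf p L).relIndex Y → Uq p W) →
      ∀ V : Subgroup (NL ⧸ (Cfsg.pCoreOf p L).subgroupOf NL), V.Normal →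
        Cfsg.IsElementaryAbelian p V → V ≠ ⊥ → V = Ybar := by
    intro X _ e hX V hVn hVe hV0
    let π : L →* X := e.toMonoidHom.comp (QuotientGroup.mk' _)
    have hπ : Function.Surjective π := e.surjective.comp (QuotientGroup.mk'_surjective _)
    have hk : π.ker = Cfsg.pCore p L := by
      rw [← MonoidHom.comap_ker, (MonoidHom.ker_eq_bot_iff _).2 e.injective,
        MonoidHom.comap_bot, QuotientGroup.ker_mk']
    let W := (Y.subgroupOf L).map π
    have hW0 : W ≠ ⊥ := fun h => hnA (hk ▸ (Subgroup.map_eq_bot_iff _).1 h)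
    have hWp : ∀ w ∈ W, w ^ p = 1 := by
      rintro _ ⟨y, hy, rfl⟩
      rw [← map_pow, show y ^ p = 1 from Subtype.ext (hE.2 _ hy), map_one]
    have hU := hX W hW0 hWp (by
      rw [← relIndex_ker, hk, inf_relIndex_left, ← relIndex_subgroupOf hYL]
      congr 1
      ext x
      rw [mem_subgroupOf, hA])
    let φ : NL →* X := π.comp (inclusion hNLL)
    have hφ : φ.ker = (Cfsg.pCoreOf p L).subgroupOf NL := by
      ext x
      rw [mem_subgroupOf, ← MonoidHom.comap_ker, mem_comap, hk, ← hA]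
      rfl
    let ψ : (NL ⧸ (Cfsg.pCoreOf p L).subgroupOf NL) →* X := QuotientGroup.lift _ φ hφ.ge
    have hψ : Function.Injective ψ := (QuotientGroup.injective_lift_iff _ _ _).2 hφ.symm
    have hYW : Ybar.map ψ = W := by
      ext w
      constructor
      · rintro ⟨_, ⟨y, hy, rfl⟩, rfl⟩
        exact ⟨⟨y, hNLL y.2⟩, hy, rfl⟩
      · rintro ⟨y, hy, rfl⟩
        exact ⟨_, ⟨⟨y, hYN hy⟩, hy, rfl⟩, rfl⟩
    have hr1 : ∀ n, ψ n ∈ normalizer (W : Set X) := by
      intro n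
      have : Ybar.Normal := hYn.map _ (QuotientGroup.mk'_surjective _)
      rw [← hYW]
      exact le_normalizer_map ψ ⟨n, by rw [normalizer_eq_top]; exact mem_top n, rfl⟩
    have hr2 : ∀ g ∈ normalizer (W : Set X), ∃ n, ψ n = g := by
      intro g hg
      obtain ⟨g, rfl⟩ := hπ g
      have h1 : ((normalizer (W : Set X)).comap π).map L.subtype < L := by
        refine lt_of_le_of_ne (map_subtype_le _) fun he => hW0 ?_
        have : W.Normal := normalizer_eq_top_iff.1 (eq_top_iff.2 fun x _ => by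
          obtain ⟨x, rfl⟩ := hπ x
          exact (mem_map_iff_mem L.subtype_injective).1 (he.ge x.2))
        have h2 := CL.le_pCore (pgrp hWp)
        rw [← CL.map_pCore_equiv e, CL.pCore_quotient_pCore, Subgroup.map_bot] at h2
        exact le_bot_iff.1 h2
      have h2 := hmax (((normalizer (W : Set X)).comap π).map L.subtype) (fun y hy => ⟨⟨y, hYL hy⟩,
        (le_normalizer (H := W)) ⟨⟨y, hYL hy⟩, hy, rfl⟩, rfl⟩) h1
        ⟨g, hg, rfl⟩
      rw [← hNL] at h2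
      exact ⟨(⟨g, h2⟩ : NL), rfl⟩
    apply Subgroup.map_injective hψ
    rw [hYW]
    refine hU _ (fun h => hV0 ((map_eq_bot_iff_of_injective _ hψ).1 h)) ?_ ?_ ?_
    · rintro _ ⟨v, hv, rfl⟩
      rw [← map_pow, hVe.2 v hv, map_one]
    · rintro _ ⟨v, -, rfl⟩
      exact hr1 v
    · rintro g hg _ ⟨v, hv, rfl⟩
      obtain ⟨n, rfl⟩ := hr2 g hg
      exact ⟨_, hVn.conj_mem v hv n, by simp⟩
  refine ⟨fun h => hnA fun y hy => ?_, hYn.map _ (QuotientGroup.mk'_surjective _), ⟨⟨⟨?_⟩⟩, ?_⟩, ?_⟩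
  · have := (Subgroup.map_eq_bot_iff _).1 h (show (⟨y, hYN hy⟩ : NL) ∈ Y.subgroupOf NL from hy)
    rw [QuotientGroup.ker_mk'] at this
    exact (hA y).1 this
  · rintro ⟨_, a, ha, rfl⟩ ⟨_, b, hb, rfl⟩
    apply Subtype.ext
    change QuotientGroup.mk' _ a * QuotientGroup.mk' _ b = QuotientGroup.mk' _ b * QuotientGroup.mk' _ a
    rw [← map_mul, ← map_mul]
    congr 1
    have := congrArg Subtype.val (hE.1.is_comm.comm (⟨a, ha⟩ : Y) ⟨b, hb⟩)
    exact Subtype.ext this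
  · rintro _ ⟨y, hy, rfl⟩
    rw [← map_pow, show y ^ p = 1 from Subtype.ext (hE.2 _ hy), map_one]
  rcases hiso with ⟨F, _, _, hF, ⟨e⟩⟩ | ⟨rfl, F, _, _, m, hF, hF', ⟨e⟩⟩ | ⟨rfl, r, hr, hr2, ⟨e⟩⟩
  · exact key e fun W _ h1 h2 => uq_sl (pgrp h1) (h2.trans hF.symm)
  · have := CL.Sz.charP_two hF
    exact key e fun W _ h1 h2 => uq_sz (CL.Sz.lieModel hF) h1
      (h2.trans (hF'.symm.trans Nat.card_eq_fintype_card.symm))
  · exact key e fun W h0 h1 _ => uq_dih (hr.odd_of_ne_two hr2) (pgrp h1) h0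

end Cfsg.Agent.S2861
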