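import Cfsg.Statements.S2863
import Cfsg.Agent.TECH.FrakLCases
import Cfsg.Agent.TECH.PRed
import Cfsg.Agent.SOLV.Core

set_option autoImplicit false
open Cfsg

namespace Cfsg.Agent.S2863

/-- Standing hypotheses: G a finite group, S a Sylow p-subgroup, Q a nontrivial large p-subgroup of G contained in S, M a subgroup containing S with the basic property (M ∈ 𝔐_G(S)); Y_M the largest p-reduced normal subgroup of M and M† = M·C_G(Y_M). Let L ∈ 𝔏_G(Y_M) (L ∈ 𝔏_G(Y_M): Y_M ≤ L; O_p(L) is the normal closure in L of Y_M ∩ O_p(L) and normalizes Y_M; L is Y_M-minimal of characteristic p with N_L(Y_M) its unique maximal subgroup over Y_M; and L/O_p(L) ≅ SL₂(q) with q = |Y_M : Y_M ∩ O_p(L)|, or p = 2 and L/O_p(L) is a Suzuki group Sz(q) or dihedral of order 2r, r an odd prime), A = O_p(L), and C = C_{Y_M}(L). Then every element h of L whose order is not a power of p acts without nontrivial fixed points on A/C: for a ∈ A, hah⁻¹a⁻¹ ∈ C implies a ∈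 C. -/
theorem result {G : Type*} [Group G] [Finite G] {p : ℕ} [Fact p.Prime] (S : Sylow p G) (Q : Subgroup G) (hQp : IsPGroup p ↥Q) (hQ1 : Q ≠ ⊥) (hQS : Q ≤ (S : Subgroup G)) (hQ : Cfsg.IsLarge Q) (M : Subgroup G) (hSM : (S : Subgroup G) ≤ M) (hM : Cfsg.IsInFrakM p M) (L : Subgroup G) (hL : Cfsg.IsInFrakL p M L) (h : G) (hh : h ∈ L) (hnp : ¬ ∃ k : ℕ, orderOf h = p ^ k) : ∀ a ∈ (Cfsg.pCoreOf p L), h * a * h⁻¹ * a⁻¹ ∈ (Cfsg.largestPReducedOf p M) ⊓ Subgroup.centralizer ((L : Subgroup G) : Set G) → a ∈ (Cfsg.largestPReducedOf p M) ⊓ Subgroup.centralizer ((L : Subgroup G) : Set G) := by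
  intro a ha hf
  obtain ⟨hYL, hgen, hnorm, hmin, -, ⟨hlt, hmax⟩, hiso⟩ := hL
  have hE := CL.MSS.elemAb_yOf (p := p) M
  set Y := Cfsg.largestPReducedOf p M with hY
  obtain ⟨a, ha', rfl⟩ := ha
  have hN : ∀ x : L, x ∈ Subgroup.normalizer ((Y.subgroupOf L : Subgroup L) : Set L) ↔
      (x : G) ∈ Subgroup.normalizer (Y : Set G) := by
    intro x
    simp only [Subgroup.mem_normalizer_iff, Subgroup.mem_subgroupOf]
    constructor
    · intro hx y
      constructor
      · intro hy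
        exact (hx ⟨y, hYL hy⟩).1 hy
      · intro hy
        have h1 : y ∈ L := by
          have := L.mul_mem (L.mul_mem (L.inv_mem x.2) (hYL hy)) x.2
          simpa [mul_assoc] using this
        exact (hx ⟨y, h1⟩).2 hy
    · intro hx y
      exact hx y
  have hA : ∀ x : L, (x : G) ∈ Cfsg.pCoreOf p L ↔ x ∈ Cfsg.pCore p L := fun x =>
    Subgroup.mem_map_iff_mem L.subtype_injective
  have hS : CL.FrakL.Setup p (Cfsg.pCore p L) (Y.subgroupOf L) :=
    { normal := inferInstance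
      pA := CL.isPGroup_pCore _ _
      pY := fun y => ⟨1, Subtype.ext (Subtype.ext (by simpa using hE.2 _ y.2))⟩
      comm := fun a ha b hb => by
        have := congrArg Subtype.val (hE.1.is_comm.comm (⟨a, ha⟩ : Y) ⟨b, hb⟩)
        exact Subtype.ext this
      norm := fun x hx => (hN x).2 (hnorm ((hA x).2 hx))
      max := fun X hX hX' x hx => (hN x).2 (hmax (X.map L.subtype)
        (fun y hy => ⟨⟨y, hYL hy⟩, hX hy, rfl⟩)
        (lt_of_le_of_ne (Subgroup.map_subtype_le _) fun he => hX' (eq_top_iff.2 fun z _ =>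
          (Subgroup.mem_map_iff_mem L.subtype_injective).1 (he.ge z.2))) ⟨x, hx, rfl⟩).2
      ne_top := fun ht => hlt.ne (le_antisymm inf_le_left fun x hx =>
        ⟨hx, (hN ⟨x, hx⟩).1 (ht ▸ Subgroup.mem_top _)⟩)
      ncl := hmin.1
      gen := fun x hx => by
        have h1 := (hA x).2 hx
        rw [hgen] at h1
        refine Subgroup.normalClosure_mono ?_
          ((Subgroup.mem_map_iff_mem L.subtype_injective).1 h1)
        intro y hy
        exact ⟨hy.1, (hA y).1 hy.2⟩ }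
  have hC : ∀ x : L, (x : G) ∈ Y ⊓ Subgroup.centralizer ((L : Subgroup G) : Set G) ↔
      x ∈ Y.subgroupOf L ⊓ Subgroup.center L := by
    intro x
    simp only [Subgroup.mem_inf, Subgroup.mem_subgroupOf, Subgroup.mem_centralizer_iff,
      Subgroup.mem_center_iff]
    exact and_congr_right fun _ => ⟨fun h g => Subtype.ext (h g g.2),
      fun h g hg => congrArg Subtype.val (h ⟨g, hg⟩)⟩
  have hf' : (⟨h, hh⟩ : L) ∈ CL.FrakL.Setup.fixMod (Y.subgroupOf L ⊓ Subgroup.center L)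
      inf_le_right a := (hC _).1 hf
  have hnp' : CL.FrakL.Setup.NP p (⟨h, hh⟩ : L) := by
    intro k hk
    have h1 : h ^ p ^ k = 1 := congrArg Subtype.val hk
    obtain ⟨j, -, hj⟩ := (Nat.dvd_prime_pow (Fact.out : p.Prime)).1 (orderOf_dvd_of_pow_eq_one h1)
    exact hnp ⟨j, hj⟩
  refine (hC a).2 ?_
  have key : ∀ {X : Type} [Group X] (e : L ⧸ Cfsg.pCore p L ≃* X),
      ∃ π : L →* X, Function.Surjective π ∧ π.ker = Cfsg.pCore p L ∧
        CL.FrakL.Setup.NP p (π ⟨h, hh⟩) ∧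
        Nat.card ((Y.subgroupOf L).map π) = (Y ⊓ Cfsg.pCoreOf p L).relIndex Y ∧
        ∃ y ∈ (Y.subgroupOf L).map π, y ≠ 1 ∧ y ^ p = 1 := by
    intro X _ e
    let π : L →* X := e.toMonoidHom.comp (QuotientGroup.mk' _)
    have hk : π.ker = Cfsg.pCore p L := by
      rw [← MonoidHom.comap_ker, (MonoidHom.ker_eq_bot_iff _).2 e.injective,
        MonoidHom.comap_bot, QuotientGroup.ker_mk']
    refine ⟨π, e.surjective.comp (QuotientGroup.mk'_surjective _), hk,
      (hS.np_iff π hk _).1 hnp', ?_, ?_⟩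
    · rw [← Subgroup.relIndex_ker, hk, Subgroup.inf_relIndex_left,
        ← Subgroup.relIndex_subgroupOf hYL]
      congr 1
      ext x
      rw [Subgroup.mem_subgroupOf, hA]
    · by_contra hc
      push Not at hc
      have h1 : Y.subgroupOf L ≤ Cfsg.pCore p L := by
        intro y hy
        rw [← hk, MonoidHom.mem_ker]
        by_contra h2
        exact hc _ ⟨y, hy, rfl⟩ h2 (by
          rw [← map_pow, show y ^ p = 1 from Subtype.ext (hE.2 _ hy), map_one])
      have h2 : (⟨h, hh⟩ : L) ∈ Cfsg.pCore p L :=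
        Subgroup.normalClosure_le_normal h1 (hS.ncl ▸ Subgroup.mem_top _)
      obtain ⟨k, hk⟩ := hS.pA ⟨_, h2⟩
      exact hnp' k (congrArg Subtype.val hk)
  rcases hiso with ⟨F, _, _, hF, ⟨e⟩⟩ | ⟨rfl, F, _, _, m, hF, -, ⟨e⟩⟩ | ⟨rfl, r, hr, hr2, ⟨e⟩⟩
  · obtain ⟨π, hs, hk, hx, hc, -⟩ := key e
    exact CL.FrakL.fpf_sl hS π hs hk (hc.trans hF.symm) hx ha' hf'
  · obtain ⟨π, hs, hk, hx, -, y, hy, h1, h2⟩ := key e
    have := CL.Sz.charP_two hF
    exact hS.fpf π hs hk hx (CL.FrakL.prod2_sz (CL.Sz.lieModel hF) hF hy h1 h2 hx) ha' hf'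
  · obtain ⟨π, hs, hk, hx, -, y, hy, h1, h2⟩ := key e
    exact hS.fpf π hs hk hx (CL.FrakL.prod2_dihedral (hr.odd_of_ne_two hr2) hy h1 h2 hx) ha' hf'

end Cfsg.Agent.S2863
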