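import Cfsg.Statements.S2864
import Cfsg.Agent.TECH.FrakH
import Cfsg.Agent.SOLV.CoprimeSylow

set_option autoImplicit false
open Cfsg

namespace Cfsg.Agent.S2864

open CL.MSS Subgroup

/-- Standing hypotheses: G a finite group, S a Sylow p-subgroup, Q a nontrivial large p-subgroup of G contained in S, M a subgroup containing S with the basic property (M ∈ 𝔐_G(S)); Y_M the largest p-reduced normal subgroup of M and M† = M·C_G(Y_M). Let I be a nontrivial normal p-subgroup of M and Y ≤ O_p(M†); let L be a subgroup of G containing Y and A a normal p-subgroup of L with I ≤ A ≤ M. If [Y, A] ≤ [I, A], then Y ≤ O_p(L). -/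
theorem result {G : Type*} [Group G] [Finite G] {p : ℕ} [Fact p.Prime] (S : Sylow p G) (Q : Subgroup G) (hQp : IsPGroup p ↥Q) (hQ1 : Q ≠ ⊥) (hQS : Q ≤ (S : Subgroup G)) (hQ : Cfsg.IsLarge Q) (M : Subgroup G) (hSM : (S : Subgroup G) ≤ M) (hM : Cfsg.IsInFrakM p M) (I : Subgroup G) (hI1 : I ≠ ⊥) (hIp : IsPGroup p ↥I) (hIM : I ≤ M ∧ M ≤ Subgroup.normalizer ((I : Subgroup G) : Set G)) (Y : Subgroup G) (hY : Y ≤ (Cfsg.pCoreOf p (M ⊔ Subgroup.centralizer (((Cfsg.largestPReducedOf p M) : Subgroup G) : Set G)))) (L : Subgroup G) (hYL : Y ≤ L) (A : Subgroup G) (hAp : IsPGroup p ↥A) (hAL : A ≤ L ∧ L ≤ Subgroup.normalizer ((A : Subgroup G) : Set G)) (hIA : I ≤ A) (hAM : A ≤ M) (hc : ⁅Y, A⁆ ≤ ⁅I, A⁆) : Y ≤ (Cfsg.pCoreOf p L) := by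
  have h := fm_of_large S hQp hQ1 hQ hSM hM
  have hn : L ≤ normalizer ((⁅A, A⁆ : Subgroup G) : Set G) := le_normalizer_commutator hAL.2 hAL.2
  have h1 : ⁅A, ncl Y L⁆ ≤ ⁅A, A⁆ := commutator_ncl_le (hYL.trans hn) hAL.2 hn
    (by rw [commutator_comm]; exact hc.trans (commutator_mono hIA le_rfl))
  have h2 : oU[p] (ncl Y L) ≤ centralizer (A : Set G) := by
    refine oU_le_iff.2 fun x hx hxp => ?_
    have h3 : zpowers x ≤ ncl Y L := zpowers_le.2 hx
    have h4 := CL.coprime_le_centralizer_of_commutator_le_frattini (zpowers x) A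
      (h3.trans ((ncl_le_self hYL).trans hAL.2)) (by
        obtain ⟨k, hk⟩ := IsPGroup.iff_card.1 (hAp.to_subgroup (frattini A))
        rw [hk, Nat.card_zpowers]
        exact hxp.pow_right k)
      (((commutator_mono le_rfl h3).trans h1).trans (CL.PG.commutator_le_frattini_map hAp))
    exact le_centralizer_symm h4 (mem_zpowers x)
  have h3 : oU[p] (ncl Y L) ≤ dag p M :=
    (h2.trans ((centralizer_anti hIA).trans (centralizer_le_normalizer _))).trans
      (h.normalizer_le_dag hIp hI1 hIM.2)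
  have h4 : Y ≤ pCoreOf p (oU[p] (ncl Y L) ⊔ Y) :=
    (le_inf hY le_sup_right).trans (oP_inf_le (sup_le h3 (hY.trans (oP_le _))))
  exact h4.trans ((snIn_oP_le (snIn_of_oU_le le_sup_left (sup_le (oU_le _) (le_ncl Y L)))).trans
    (oP_le_oP_of_normal (ncl_le_self hYL) (ncl_normal Y L)))

end Cfsg.Agent.S2864
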