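import Cfsg.Statements.S2872
import Cfsg.Agent.TECH.ExtTransfer
import Cfsg.Agent.INV.IndexTwo
import Cfsg.Agent.TECH.PRed
import Cfsg.Agent.PLOC.PFrattini

set_option autoImplicit false
open Cfsg

namespace Cfsg.Agent.S2872

open Subgroup CL.MSS

/-- Let S be a Sylow 2-subgroup of the finite group G. Then G has a proper normal subgroup of 2-power index (O²(G) ≠ G), or Ω₁(Z(S)) is contained in the Frattini subgroup of S, or N_G(S) acts nontrivially on Ω₁(Z(S)) by conjugation. -/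
theorem result {G : Type*} [Group G] [Finite G] (S : Sylow 2 G) : Cfsg.pResidual 2 G ≠ ⊤ ∨ Cfsg.omegaOne 2 ((S : Subgroup G) ⊓ Subgroup.centralizer ((S : Subgroup G) : Set G)) ≤ (frattini ↥(S : Subgroup G)).map (S : Subgroup G).subtype ∨ ∃ g ∈ Subgroup.normalizer ((S : Subgroup G) : Set G), ∃ z ∈ Cfsg.omegaOne 2 ((S : Subgroup G) ⊓ Subgroup.centralizer ((S : Subgroup G) : Set G)), g * z * g⁻¹ ≠ z := by
  by_contra hc
  push Not at hc
  obtain ⟨h1, h2, h3⟩ := hc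
  refine h2 fun z hz => ?_
  obtain ⟨hzS, hzC, hz2⟩ := mem_omegaZ_iff.1 hz
  refine ⟨⟨z, hzS⟩, CL.PG.mem_frattini_iff.2 fun M hM => by_contra fun hzM => ?_, rfl⟩
  obtain ⟨ϕ, hϕ⟩ := CL.Iso.exists_sign_hom (CL.PG.coatom_index S.isPGroup' hM)
  have h4 : ϕ ⟨z, hzS⟩ ≠ 1 := fun e => hzM ((hϕ _).1 e)
  obtain ⟨g, h, h5, -, h6⟩ := extremal_transfer_sylIn (sylIn_top S) ϕ CL.Iso.isPGroup_two_intUnits
    (h1 ▸ mem_top z) (by rw [← sq, hz2]) hzS h4 fun g h => by
      rcases Int.units_eq_one_or (ϕ ⟨_, h⟩) with e | e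
      · exact Or.inl e
      · exact Or.inr (e.trans ((Int.units_eq_one_or _).resolve_left h4).symm)
  have h7 : (S : Subgroup G) ≤ centralizer {z} := fun x hx =>
    mem_centralizer_singleton_iff.2 (hzC x hx)
  rw [inf_of_le_left h7] at h6
  have h8 := h3 g (mem_normalizer_of_cj_le (h6.trans inf_le_left)) z hz
  exact h4 (by rw [← h5]; congr 1; exact Subtype.ext h8.symm)

end Cfsg.Agent.S2872
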