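import Cfsg.Statements.S2873
import Cfsg.Agent.TECH.PRed2
import Cfsg.Agent.INV.TwoInv
import Cfsg.Agent.SIG.SPE
import Cfsg.Agent.SOLV.Core

set_option autoImplicit false
open Cfsg

namespace Cfsg.Agent.S2873

open Subgroup CL.MSS

/-- Let G be a finite group and r an odd prime such that G ⧸ O₂(G) is dihedral of order 2r, and let R be a Sylow r-subgroup of G with C_{O₂(G)}(R) = 1. Then N_G(R) is dihedral of order 2r; for any involution a of N_G(R), every involution of G outside O₂(G) is conjugate to a; and |C_{O₂(G)}(a)|² = |O₂(G)|. -/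
theorem result {G : Type*} [Group G] [Finite G] {r : ℕ} [Fact r.Prime] (hr : r ≠ 2) [hN : (Cfsg.pCore 2 G).Normal] (hquot : Nonempty (G ⧸ Cfsg.pCore 2 G ≃* DihedralGroup r)) (R : Sylow r G) (hC : Cfsg.pCore 2 G ⊓ Subgroup.centralizer ((R : Subgroup G) : Set G) = ⊥) : Nonempty (↥(Subgroup.normalizer ((R : Subgroup G) : Set G)) ≃* DihedralGroup r) ∧ ∀ a : G, a ∈ Subgroup.normalizer ((R : Subgroup G) : Set G) → orderOf a = 2 → (∀ b : G, orderOf b = 2 → b ∉ Cfsg.pCore 2 G → ∃ g : G, g * a * g⁻¹ = b) ∧ Nat.card ↥(Cfsg.pCore 2 G ⊓ Subgroup.centralizer ({a} : Set G)) ^ 2 = Nat.card ↥(Cfsg.pCore 2 G) := by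
  have hp : r.Prime := Fact.out
  obtain ⟨e⟩ := hquot
  set Q := Cfsg.pCore 2 G with hQ
  let π : G →* DihedralGroup r := e.toMonoidHom.comp (QuotientGroup.mk' Q)
  have hπ : Function.Surjective π := e.surjective.comp (QuotientGroup.mk'_surjective Q)
  have hker : ∀ x, π x = 1 ↔ x ∈ Q := fun x =>
    (map_eq_one_iff e e.injective).trans (QuotientGroup.eq_one_iff x)
  have hcop : (2 : ℕ).Coprime r := (Nat.coprime_primes Nat.prime_two hp).2 (Ne.symm hr)
  have h2 : (2 : ZMod r) ≠ 0 := fun h => by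
    have h5 : ((2 : ℕ) : ZMod r) = 0 := by exact_mod_cast h
    rw [ZMod.natCast_eq_zero_iff] at h5
    exact hr ((Nat.prime_dvd_prime_iff_eq hp Nat.prime_two).1 h5)
  have hRQ : (R : Subgroup G) ⊓ Q = ⊥ := by
    refine IsPGroup.disjoint_of_ne r 2 hr _ _ R.isPGroup' (CL.isPGroup_pCore 2 G) |>.eq_bot
  set A := zpowers (DihedralGroup.r 1 : DihedralGroup r) with hA
  have hAn : A.Normal := ⟨fun n hn g => by
    obtain ⟨m, rfl⟩ := mem_zpowers_iff.1 hn
    rw [← conj_zpow]
    refine zpow_mem ?_ m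
    cases g with
    | r i => simp [hA]
    | sr i =>
      have : DihedralGroup.sr i * DihedralGroup.r 1 * (DihedralGroup.sr i)⁻¹ =
          (DihedralGroup.r 1 : DihedralGroup r)⁻¹ := by simp
      rw [this]; exact inv_mem (mem_zpowers _)⟩
  have hAc : Nat.card A = r := by rw [hA, Nat.card_zpowers, DihedralGroup.orderOf_r_one]
  have hAi : A.index = 2 := by
    have := A.card_mul_index
    rw [hAc, DihedralGroup.nat_card, mul_comm 2] at this
    exact Nat.eq_of_mul_eq_mul_left hp.pos this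
  have hRA : (R : Subgroup G).map π = A := by
    apply le_antisymm
    · obtain ⟨k, hk⟩ := IsPGroup.iff_card.1 (R.isPGroup'.map π)
      refine CL.le_of_coprime_index ?_
      rw [hk, hAi]; exact Nat.Coprime.pow_left _ hcop.symm
    · have := (sylIn_top R).map π
      rw [map_top_of_surjective π hπ] at this
      exact this.le_of_normalized (isPGroup_zpowers (k := 1) (by simp)) le_top
        (by rw [normalizer_eq_top]; exact le_top)
  have hkerQ : π.ker = Q := by ext x; exact hker x
  have hRc : Nat.card (R : Subgroup G) = r := by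
    rw [← CL.card_map_mul_card_inf_ker (R : Subgroup G) π, hkerQ, hRQ, hRA, hAc]; simp
  set N := normalizer ((R : Subgroup G) : Set G) with hNdef
  have hNQ : ∀ x ∈ N, x ∈ Q → x = 1 := by
    intro x hx hxQ
    have : x ∈ Q ⊓ centralizer ((R : Subgroup G) : Set G) := by
      refine ⟨hxQ, fun u (hu : u ∈ (R : Subgroup G)) => ?_⟩
      have h1 : x * u * x⁻¹ * u⁻¹ ∈ (R : Subgroup G) ⊓ Q :=
        mem_inf.2 ⟨mul_mem (conj_mem_of_mem_normalizer hx hu) (inv_mem hu), by
          have := mul_mem hxQ (hN.conj_mem _ (inv_mem hxQ) u)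
          simpa [mul_assoc] using this⟩
      rw [hRQ, mem_bot] at h1
      calc u * x = (x * u * x⁻¹ * u⁻¹) * (u * x) := by rw [h1, one_mul]
        _ = x * u := by group
    rwa [hC, mem_bot] at this
  have hNs : Function.Surjective (π.comp N.subtype) := by
    intro d
    obtain ⟨g, rfl⟩ := hπ d
    have hS : SylIn r (R : Subgroup G) (A.comap π) :=
      sylIn_sylow R (map_le_iff_le_comap.1 hRA.le)
    obtain ⟨n, hn, y, hy, rfl⟩ := hS.frattini (x := g) (by rw [normalizer_eq_top]; trivial)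
    obtain ⟨u, hu, hu'⟩ : π n ∈ (R : Subgroup G).map π := by rw [hRA]; exact hn
    exact ⟨⟨u * y, mul_mem (le_normalizer hu) hy⟩, by simp [hu']⟩
  refine ⟨⟨MulEquiv.ofBijective (π.comp N.subtype) ⟨(injective_iff_map_eq_one _).2 fun x hx =>
    Subtype.ext (hNQ x x.2 ((hker _).1 hx)), hNs⟩⟩, fun a ha ha2 => ?_⟩
  have hfree : ∀ w q : G, ∀ i, π w = DihedralGroup.r i → i ≠ 0 → q ∈ Q → q * w = w * q →
      q = 1 := by
    intro w q i hw hi hq hqw
    have h1 : orderOf (π w) = r := by
      refine orderOf_eq_prime ?_ ?_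
      · rw [hw]; simp
      · rw [hw, DihedralGroup.one_def]; exact fun h => hi (DihedralGroup.r.inj h)
    obtain ⟨u, hu, hu'⟩ := CL.SPE.exists_mem_orderOf_eq (p := r) (H := zpowers w)
      (by rw [Nat.card_zpowers, ← h1]; exact orderOf_map_dvd π w)
    obtain ⟨g, -, hg⟩ := (sylIn_top R).exists_conj_le (CL.SPE.isPGroup_zpowers_of_orderOf hu') le_top
    have h3 : g •ᶜ zpowers u = R := eq_of_le_of_card_ge hg
      (by rw [card_cj, Nat.card_zpowers, hu', hRc])
    have h4 : g * q * g⁻¹ ∈ Q ⊓ centralizer ((R : Subgroup G) : Set G) := by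
      refine ⟨hN.conj_mem q hq g, ?_⟩
      rw [← h3, ← cj_centralizer]
      refine conj_mem_cj fun v hv => ?_
      obtain ⟨k, rfl⟩ := mem_zpowers_iff.1 ((zpowers_le.2 hu) hv)
      exact ((Commute.zpow_right (show Commute q w from hqw) k).eq).symm
    rwa [hC, mem_bot, conj_eq_one_iff] at h4
  have hrefl : ∀ b : G, orderOf b = 2 → b ∉ Q → ∃ j, π b = DihedralGroup.sr j := by
    intro b hb hbQ
    cases h : π b with
    | sr j => exact ⟨j, rfl⟩
    | r j =>
      exfalso
      have h1 : π b * π b = 1 := by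
        rw [← map_mul, CL.TwoInv.mul_self_of_orderOf_eq_two hb, map_one]
      rw [h, DihedralGroup.r_mul_r, DihedralGroup.one_def, DihedralGroup.r.injEq, ← two_mul,
        mul_eq_zero] at h1
      exact hbQ ((hker b).1 (by rw [h, h1.resolve_left h2, DihedralGroup.one_def]))
  have haQ : a ∉ Q := fun h => CL.TwoInv.ne_one_of_orderOf_eq_two ha2 (hNQ a ha h)
  obtain ⟨i, hi⟩ := hrefl a ha2 haQ
  obtain ⟨y, hy⟩ := hπ (DihedralGroup.r 1)
  set a' := y * a * y⁻¹ with ha'
  have ha'2 : orderOf a' = 2 := by rw [ha', CL.TwoInv.orderOf_conj, ha2]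
  have hi' : π a' = DihedralGroup.sr (i - 2) := by
    rw [ha', map_mul, map_mul, map_inv, hi, hy]
    simp only [DihedralGroup.r_mul_sr, DihedralGroup.inv_r, DihedralGroup.sr_mul_r]
    congr 1; ring
  have hii : i - 2 ≠ i := fun h => h2 (by linear_combination -h)
  have hconj : ∀ (a b : G) i j, orderOf a = 2 → orderOf b = 2 → π a = DihedralGroup.sr i →
      π b = DihedralGroup.sr j → i ≠ j → IsConj a b := by
    intro a b i j ha hb hi hj hij
    refine CL.TwoInv.isConj_of_odd (CL.TwoInv.mul_self_of_orderOf_eq_two ha)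
      (CL.TwoInv.mul_self_of_orderOf_eq_two hb) (Nat.not_even_iff_odd.1 fun h => ?_)
    have hab : π (a * b) = DihedralGroup.r (j - i) := by rw [map_mul, hi, hj]; simp
    obtain ⟨u, hu, hu'⟩ := CL.SPE.exists_mem_orderOf_eq (p := 2) (H := zpowers (a * b))
      (by rw [Nat.card_zpowers]; exact h.two_dvd)
    obtain ⟨k, rfl⟩ := mem_zpowers_iff.1 hu
    refine CL.TwoInv.ne_one_of_orderOf_eq_two hu' (hfree (a * b) _ _ hab
      (sub_ne_zero.2 hij.symm) (by_contra fun hq => ?_)
      (Commute.zpow_left (Commute.refl (a * b)) k).eq)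
    obtain ⟨l, hl⟩ := hrefl _ hu' hq
    rw [map_zpow, hab, DihedralGroup.r_zpow] at hl
    cases hl
  refine ⟨fun b hb hbQ => ?_, ?_⟩
  · obtain ⟨j, hj⟩ := hrefl b hb hbQ
    by_cases hij : i = j
    · subst hij
      exact isConj_iff.1 ((isConj_iff.2 ⟨y, rfl⟩).trans (hconj a' b _ _ ha'2 hb hi' hj hii))
    · exact isConj_iff.1 (hconj a b _ _ ha2 hb hi hj hij)
  · set C := Q ⊓ centralizer ({a} : Set G) with hCdef
    set C' := Q ⊓ centralizer ({a'} : Set G) with hC'def
    have hCC : Nat.card C' = Nat.card C := by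
      rw [← card_cj y C, hCdef, cj_inf, cj_eq_of_normal, cj_centralizer_singleton]
    have haa : π (a * a') = DihedralGroup.r (i - 2 - i) := by rw [map_mul, hi, hi']; simp
    have hle1 : Nat.card C * Nat.card C' ≤ Nat.card Q := by
      rw [← Nat.card_prod]
      refine Nat.card_le_card_of_injective
        (fun x : C × C' => (⟨x.1 * x.2, mul_mem x.1.2.1 x.2.2.1⟩ : Q)) ?_
      rintro ⟨c, c'⟩ ⟨d, d'⟩ h
      have h1 : (c : G) * c' = d * d' := congrArg Subtype.val h
      have h3 : (d : G)⁻¹ * c = d' * (c' : G)⁻¹ := by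
        calc (d : G)⁻¹ * c = (d : G)⁻¹ * (c * c') * (c' : G)⁻¹ := by group
          _ = _ := by rw [h1]; group
      have h4 : (d : G)⁻¹ * c ∈ C := mul_mem (inv_mem d.2) c.2
      have h5 : (d : G)⁻¹ * c ∈ C' := h3 ▸ mul_mem d'.2 (inv_mem c'.2)
      have h6 := hfree _ _ _ haa (sub_ne_zero.2 hii) h4.1 (Commute.mul_right
        (mem_centralizer_singleton_iff.1 h4.2) (mem_centralizer_singleton_iff.1 h5.2)).eq
      have h7 : c = d := Subtype.ext (inv_mul_eq_one.1 h6).symm
      subst h7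
      rw [show c' = d' from Subtype.ext (mul_left_cancel h1)]
    have hπc : ∀ (q : Q) (x : G), π (q * x * (q : G)⁻¹) = π x := fun q x => by
      rw [map_mul, map_mul, map_inv, (hker q).2 q.2]; simp
    have hle2 : C.relIndex Q * C'.relIndex Q ≤ Nat.card Q := by
      rw [relIndex, relIndex, index, index, ← Nat.card_prod]
      refine Nat.card_le_card_of_injective
        (fun x : (Q ⧸ C.subgroupOf Q) × (Q ⧸ C'.subgroupOf Q) =>
          (⟨((x.1.out : G) * a * (x.1.out : G)⁻¹) * ((x.2.out : G) * a' * (x.2.out : G)⁻¹) *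
            (a * a')⁻¹, (hker _).1 (by
              rw [map_mul, map_mul, hπc, hπc, ← map_mul, map_inv, mul_inv_cancel])⟩ : Q)) ?_
      rintro ⟨s, s'⟩ ⟨t, t'⟩ h
      have h1 := mul_right_cancel (congrArg Subtype.val h)
      dsimp only at h1
      have hq : ∀ (x : G) (s t : Q ⧸ (Q ⊓ centralizer ({x} : Set G)).subgroupOf Q),
          (s.out : G) * x * (s.out : G)⁻¹ = (t.out : G) * x * (t.out : G)⁻¹ → s = t := by
        intro x s t h
        rw [← s.out_eq, ← t.out_eq]
        refine QuotientGroup.eq.2 ⟨(s.out⁻¹ * t.out).2, mem_centralizer_singleton_iff.2 ?_⟩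
        change (s.out : G)⁻¹ * t.out * x = x * ((s.out : G)⁻¹ * t.out)
        calc (s.out : G)⁻¹ * t.out * x = (s.out : G)⁻¹ * (t.out * x * (t.out : G)⁻¹) * t.out := by
              group
          _ = _ := by rw [← h]; group
      have hinv : ∀ (q : Q) (x : G), orderOf x = 2 →
          (q * x * (q : G)⁻¹) * (q * x * (q : G)⁻¹) = 1 := fun q x hx => by
        rw [conj_mul, CL.TwoInv.mul_self_of_orderOf_eq_two hx]; simp
      have e1 := hinv s.out a ha2
      have e2 := hinv s'.out a' ha'2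
      have e3 := hinv t.out a ha2
      have e4 := hinv t'.out a' ha'2
      have p1 := hπc s.out a
      have p2 := hπc s'.out a'
      have p3 := hπc t.out a
      have hs : (s.out : G) * a * (s.out : G)⁻¹ = (t.out : G) * a * (t.out : G)⁻¹ := by
        generalize (s.out : G) * a * (s.out : G)⁻¹ = b at h1 e1 p1
        generalize (s'.out : G) * a' * (s'.out : G)⁻¹ = b' at h1 e2 p2
        generalize (t.out : G) * a * (t.out : G)⁻¹ = d at h1 e3 p3
        generalize (t'.out : G) * a' * (t'.out : G)⁻¹ = d' at h1 e4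
        have c1 := CL.TwoInv.conj_mul_left e1 e2
        have c2 := CL.TwoInv.conj_mul_left e3 e4
        rw [← h1] at c2
        have h6 := hfree (b * b') (b⁻¹ * d) _ (by rw [map_mul, p1, p2, ← map_mul, haa])
          (sub_ne_zero.2 hii) ((hker _).1 (by rw [map_mul, map_inv, p1, p3, inv_mul_cancel])) (by
            calc b⁻¹ * d * (b * b') = b⁻¹ * (d * (b * b') * d⁻¹) * d := by group
              _ = b * b' * (b⁻¹ * d) := by rw [c2, ← c1]; group)
        exact inv_mul_eq_one.1 h6
      rw [hs] at h1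
      rw [hq a s t hs, hq a' s' t' (mul_left_cancel h1)]
    have e1 := CL.card_mul_relIndex_of_le (inf_le_left : C ≤ Q)
    have e2 := CL.card_mul_relIndex_of_le (inf_le_left : C' ≤ Q)
    rw [hCC] at hle1 e2
    have hpos : 0 < Nat.card Q := Nat.card_pos
    apply le_antisymm (by rwa [pow_two])
    refine Nat.le_of_mul_le_mul_right ?_ hpos
    calc Nat.card Q * Nat.card Q = Nat.card C ^ 2 * (C.relIndex Q * C'.relIndex Q) := by
          nth_rewrite 1 [← e1]; nth_rewrite 1 [← e2]; ring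
      _ ≤ _ := Nat.mul_le_mul_left _ hle2

end Cfsg.Agent.S2873
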