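import Mathlib
import Cfsg.Statements.S2874


set_option autoImplicit false
open Cfsg

namespace Cfsg.Agent.S2874

open Subgroup Matrix

theorem unit_of_cast {k : ℕ} (hk : 2 ≤ k) (x : ZMod (2 ^ k))
    (h : ZMod.castHom (dvd_pow_self 2 (by omega : k ≠ 0)) (ZMod 2) x = 1) : IsUnit x := by
  rw [← ZMod.natCast_zmod_val x] at h ⊢
  rw [map_natCast, ZMod.natCast_eq_one_iff_odd] at h
  exact (ZMod.isUnit_iff_coprime _ _).mpr (Nat.Coprime.pow_right _ (Nat.coprime_two_right.mpr h))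

theorem mod_two : ∀ M : Matrix (Fin 2) (Fin 2) (ZMod 2), M * M * M = 1 →
    (M * M + M + 1).det = 1 ∨ (M 1 0 = 1 ∧ (M - 1).det = 1) := by
  intro M
  rw [M.eta_fin_two]
  generalize M 0 0 = a, M 0 1 = b, M 1 0 = c, M 1 1 = d
  revert a b c d
  decide

theorem exists_conj {k : ℕ} (hk : 2 ≤ k) (ρ : GL (Fin 2) (ZMod (2 ^ k))) (h3 : ρ * ρ * ρ = 1)
    (h1 : ρ ≠ 1) : ∃ g : GL (Fin 2) (ZMod (2 ^ k)), (g * ρ * g⁻¹).val = !![0, -1; 1, -1] := by
  let π := ZMod.castHom (dvd_pow_self 2 (by omega : k ≠ 0)) (ZMod 2)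
  have h3' : ρ.val * ρ.val * ρ.val = 1 := congrArg Units.val h3
  have hf : (ρ.val - 1) * (ρ.val * ρ.val + ρ.val + 1) = 0 := by
    rw [← sub_eq_zero] at h3'; rw [← h3']; noncomm_ring
  rcases mod_two (π.mapMatrix ρ.val) (by rw [← map_mul, ← map_mul, h3', map_one]) with h | ⟨h, h'⟩
  · have hu : IsUnit (ρ.val * ρ.val + ρ.val + 1) := (isUnit_iff_isUnit_det _).mpr
      (unit_of_cast hk _ (by rw [RingHom.map_det, map_add, map_add, map_mul, map_one]; exact h))
    exact absurd (Units.ext (sub_eq_zero.mp (hu.mul_left_eq_zero.mp hf))) h1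
  · have hu : IsUnit (ρ.val - 1) := (isUnit_iff_isUnit_det _).mpr
      (unit_of_cast hk _ (by rw [RingHom.map_det, map_sub, map_one]; exact h'))
    have h0 := hu.mul_right_eq_zero.mp hf
    have hc : IsUnit (ρ.val 1 0) := unit_of_cast hk _ h
    have hP : IsUnit (!![1, ρ.val 0 0; 0, ρ.val 1 0] : Matrix (Fin 2) (Fin 2) (ZMod (2 ^ k))) :=
      (isUnit_iff_isUnit_det _).mpr (by simpa using hc)
    refine ⟨hP.unit⁻¹, ?_⟩
    rw [inv_inv, mul_assoc, Units.val_mul, Units.inv_mul_eq_iff_eq_mul, Units.val_mul, hP.unit_spec]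
    have e0 := congrFun (congrFun h0 0) 0
    have e1 := congrFun (congrFun h0 1) 0
    simp [Matrix.mul_apply, Fin.sum_univ_two] at e0 e1
    ext i j
    fin_cases i <;> fin_cases j <;> simp [Matrix.mul_apply, Fin.sum_univ_two]
    · linear_combination e0
    · linear_combination e1

theorem shape {R : Type*} [CommRing R] {u e : R} (hu : 3 * u = 1) (he : 2 * e = 0)
    (he' : ∀ x : R, 2 * x = 0 → x = 0 ∨ x = e) {t y z : Matrix (Fin 2) (Fin 2) R}
    (hy : y = !![0, -1; 1, -1] * t * !![-1, 1; -1, 0])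
    (hz : z = !![0, -1; 1, -1] * y * !![-1, 1; -1, 0])
    (h1 : t * t = 1) (h2 : t * y = z) (h3 : y * t = z) :
    t = 1 ∨ t = !![1, e; e, 1] ∨ y = !![1, e; e, 1] ∨ z = !![1, e; e, 1] := by
  obtain ⟨a0, a1, b0, b1, rfl⟩ : ∃ a0 a1 b0 b1 : R,
      t = !![a0 - b1, -a1 + b0; a1 + b0 - b1, a0 - a1 + b1] := by
    refine ⟨u * (t 0 0 - t 0 1 + t 1 0 + 2 * t 1 1), u * (-t 0 0 - 2 * t 0 1 + 2 * t 1 0 + t 1 1),
      t 0 1 + u * (-t 0 0 - 2 * t 0 1 + 2 * t 1 0 + t 1 1),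
      u * (t 0 0 - t 0 1 + t 1 0 + 2 * t 1 1) - t 0 0, ?_⟩
    ext i j
    fin_cases i <;> fin_cases j <;> simp
    · linear_combination (t 0 1 - t 1 0 + t 0 0) * hu
    · linear_combination (-t 0 0 - t 1 1) * hu
  subst hy
  subst hz
  simp only [Matrix.mul_fin_two, Matrix.one_fin_two, ← Matrix.ext_iff, Fin.forall_fin_two, of_apply,
    cons_val', cons_val_zero, cons_val_one, cons_val_fin_one] at *
  obtain ⟨⟨p1, q1⟩, r1, s1⟩ := h1
  obtain ⟨⟨p2, q2⟩, r2, s2⟩ := h2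
  obtain ⟨⟨p3, q3⟩, r3, s3⟩ := h3
  have hN : b0 ^ 2 - b0 * b1 + b1 ^ 2 = 0 := by
    linear_combination u * ((p2 - p3) - (q2 - q3) + (r2 - r3) + 2 * (s2 - s3)) -
      (b0 ^ 2 - b0 * b1 + b1 ^ 2) * hu
  have ha1 : a1 = 0 := by
    linear_combination u * (-(p1 - p2) - 2 * (q1 - q2) + 2 * (r1 - r2) + (s1 - s2)) +
      3 * u * hN - a1 * hu
  subst ha1
  have ha0 : a0 = 1 := by
    linear_combination u * ((p1 - p2) - (q1 - q2) + (r1 - r2) + 2 * (s1 - s2)) -
      3 * u * hN - (a0 - 1) * hu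
  subst ha0
  have hb0 : 2 * b0 = 0 := by linear_combination q1
  have hb1 : 2 * b1 = 0 := by linear_combination hb0 - r1
  clear p1 q1 r1 s1 p2 q2 r2 s2 p3 q3 r3 s3 hN
  rcases he' b0 hb0 with rfl | rfl <;> rcases he' b1 hb1 with rfl | h
  · left; simp
  · subst h
    right; right; left
    refine ⟨⟨?_, ?_⟩, ?_, ?_⟩ <;>
      first | ring1 | linear_combination he | linear_combination -he
  · right; left; simp
  · subst h
    right; right; right
    refine ⟨⟨?_, ?_⟩, ?_, ?_⟩ <;>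
      first | ring1 | linear_combination he | linear_combination -he

def c3 : alternatingGroup (Fin 4) := ⟨Equiv.swap 0 1 * Equiv.swap 1 2, Equiv.Perm.mem_alternatingGroup.mpr (by decide)⟩
def v4 : alternatingGroup (Fin 4) := ⟨Equiv.swap 0 1 * Equiv.swap 2 3, Equiv.Perm.mem_alternatingGroup.mpr (by decide)⟩

theorem a4_rel : c3 * c3 * c3 = 1 ∧ c3 ≠ 1 ∧ v4 ≠ 1 ∧ v4 * v4 = 1 ∧
    v4 * (c3 * v4 * c3⁻¹) = c3 * (c3 * v4 * c3⁻¹) * c3⁻¹ ∧
    (c3 * v4 * c3⁻¹) * v4 = c3 * (c3 * v4 * c3⁻¹) * c3⁻¹ := by decide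

theorem a4_words : ∀ x : alternatingGroup (Fin 4), ∃ i j l : Fin 3,
    x = c3 ^ (i : ℕ) * v4 ^ (j : ℕ) * c3 ^ (l : ℕ) := by decide +kernel

theorem closure_conj {G : Type*} [Group G] (w t : G) :
    Subgroup.closure {w, w * t * w⁻¹} = Subgroup.closure {w, t} := by
  apply le_antisymm <;> rw [closure_le] <;> rintro x (rfl | rfl)
  · exact Subgroup.subset_closure (by simp)
  · exact mul_mem (mul_mem (Subgroup.subset_closure (by simp)) (Subgroup.subset_closure (by simp)))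
      (inv_mem (Subgroup.subset_closure (by simp)))
  · exact Subgroup.subset_closure (by simp)
  · have h1 : w ∈ Subgroup.closure {w, w * x * w⁻¹} := Subgroup.subset_closure (by simp)
    have h2 : w * x * w⁻¹ ∈ Subgroup.closure {w, w * x * w⁻¹} := Subgroup.subset_closure (by simp)
    simpa [mul_assoc] using mul_mem (mul_mem (inv_mem h1) h2) h1

theorem nf {k : ℕ} (hk : 2 ≤ k) (H : Subgroup (GL (Fin 2) (ZMod (2 ^ k))))
    (h : Nonempty (H ≃* alternatingGroup (Fin 4))) : ∃ g w t : GL (Fin 2) (ZMod (2 ^ k)),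
    w.val = !![0, -1; 1, -1] ∧ t.val = !![1, ((2 ^ (k - 1) : ℕ) : ZMod (2 ^ k));
      ((2 ^ (k - 1) : ℕ) : ZMod (2 ^ k)), 1] ∧
      H.map (MulAut.conj g).toMonoidHom = Subgroup.closure {w, t} := by
  obtain ⟨e⟩ := h
  let f0 : alternatingGroup (Fin 4) →* GL (Fin 2) (ZMod (2 ^ k)) := H.subtype.comp e.symm.toMonoidHom
  have hf0 : Function.Injective f0 := Subtype.val_injective.comp e.symm.injective
  obtain ⟨r1, r2, r3, r4, r5, r6⟩ := a4_rel
  obtain ⟨g, hg⟩ := exists_conj hk (f0 c3) (by rw [← map_mul, ← map_mul, r1, map_one])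
    (fun h => r2 (hf0 (h.trans (map_one f0).symm)))
  let f := (MulAut.conj g).toMonoidHom.comp f0
  have hf : Function.Injective f := (MulAut.conj g).injective.comp hf0
  have hw : (f c3).val = !![0, -1; 1, -1] := hg
  have hH : H.map (MulAut.conj g).toMonoidHom = Subgroup.closure {f c3, f v4} := by
    apply le_antisymm
    · rintro _ ⟨x, hx, rfl⟩
      obtain ⟨i, j, l, h⟩ := a4_words (e ⟨x, hx⟩)
      have : (MulAut.conj g).toMonoidHom x = f (e ⟨x, hx⟩) := by simp [f, f0]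
      rw [this, h, map_mul, map_mul, map_pow, map_pow, map_pow]
      exact mul_mem (mul_mem (pow_mem (Subgroup.subset_closure (by simp)) _)
        (pow_mem (Subgroup.subset_closure (by simp)) _)) (pow_mem (Subgroup.subset_closure (by simp)) _)
    · rw [closure_le]
      rintro x (rfl | rfl) <;> exact ⟨_, (e.symm _).2, rfl⟩
  have hwi : (f c3)⁻¹.val = !![-1, 1; -1, 0] := by
    refine Units.inv_eq_of_mul_eq_one_right ?_
    rw [hw]; simp [Matrix.one_fin_two]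
  obtain ⟨u, hu⟩ : ∃ u : ZMod (2 ^ k), 3 * u = 1 :=
    (unit_of_cast hk 3 (by rw [map_ofNat]; rfl)).exists_right_inv
  have hk' : 2 ^ k = 2 * 2 ^ (k - 1) := by rw [← pow_succ']; congr 1; omega
  have := shape (e := ((2 ^ (k - 1) : ℕ) : ZMod (2 ^ k))) hu (by
      have := (ZMod.natCast_eq_zero_iff (2 * 2 ^ (k - 1)) (2 ^ k)).mpr hk'.dvd
      rw [Nat.cast_mul] at this
      exact_mod_cast this) (fun x hx => by
      refine ((ZMod.neg_eq_self_iff x).mp (by linear_combination -hx)).imp_right fun h => ?_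
      rw [← ZMod.natCast_zmod_val x, show x.val = 2 ^ (k - 1) by omega])
    (t := (f v4).val) (y := (f (c3 * v4 * c3⁻¹)).val) (z := (f (c3 * (c3 * v4 * c3⁻¹) * c3⁻¹)).val)
    (by rw [map_mul, map_mul, map_inv, Units.val_mul, Units.val_mul, hw, hwi])
    (by rw [map_mul f _ c3⁻¹, map_mul f c3, map_inv, Units.val_mul, Units.val_mul, hw, hwi])
    (by rw [← Units.val_mul, ← map_mul, r4, map_one, Units.val_one])
    (by rw [← Units.val_mul, ← map_mul, r5]) (by rw [← Units.val_mul, ← map_mul, r6])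
  rcases this with h | h | h | h
  · exact absurd (hf ((Units.ext h).trans (map_one f).symm)) r3
  · exact ⟨g, _, _, hw, h, hH⟩
  · exact ⟨g, _, _, hw, h, by rw [hH, map_mul, map_mul, map_inv, closure_conj]⟩
  · exact ⟨g, _, _, hw, h, by
      rw [hH, map_mul f _ c3⁻¹, map_mul f c3, map_inv, closure_conj, map_mul, map_mul, map_inv,
        closure_conj]⟩

/-- For k ≥ 2, any two subgroups of GL₂(ℤ/2ᵏℤ) (the automorphism group of the homocyclic group ℤ/2ᵏ × ℤ/2ᵏ) that are isomorphic to the alternating group of degree 4 are conjugate. -/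
theorem result (k : ℕ) (hk : 2 ≤ k) (H₁ H₂ : Subgroup (GL (Fin 2) (ZMod (2 ^ k)))) (h₁ : Nonempty (↥H₁ ≃* ↥(alternatingGroup (Fin 4)))) (h₂ : Nonempty (↥H₂ ≃* ↥(alternatingGroup (Fin 4)))) : ∃ g : GL (Fin 2) (ZMod (2 ^ k)), H₂ = H₁.map (MulAut.conj g).toMonoidHom := by
  obtain ⟨g1, w1, t1, a1, b1, c1⟩ := nf hk H₁ h₁
  obtain ⟨g2, w2, t2, a2, b2, c2⟩ := nf hk H₂ h₂
  obtain rfl : w1 = w2 := Units.ext (a1.trans a2.symm)
  obtain rfl : t1 = t2 := Units.ext (b1.trans b2.symm)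
  refine ⟨g2⁻¹ * g1, Subgroup.map_injective (f := (MulAut.conj g2).toMonoidHom)
    (MulAut.conj g2).injective ?_⟩
  rw [c2, ← c1, Subgroup.map_map]
  congr 1
  ext x : 1
  simp [mul_assoc]

end Cfsg.Agent.S2874
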