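import Cfsg.Statements.S2879
import Cfsg.Agent.INV.QDFusion
import Cfsg.Agent.INV.DihFusion
import Cfsg.Agent.PLOC.SL23
import Cfsg.Agent.SOLV.PSolvable
import Cfsg.Agent.TECH.PRed2

set_option autoImplicit false
open Cfsg

namespace Cfsg.Agent.S2879

open Subgroup CL.MSS

theorem q8_aux : ∀ y w : QuaternionGroup 2, y * y ≠ 1 → w * w ≠ 1 →
    ((QuaternionGroup.a 1)⁻¹ * y) * ((QuaternionGroup.a 1)⁻¹ * y) ≠ 1 →
    (y⁻¹ * w) * (y⁻¹ * w) ≠ 1 →
    ((QuaternionGroup.a 1 * y) * (QuaternionGroup.a 1 * y) ≠ 1 →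
      ((QuaternionGroup.a 1 * y)⁻¹ * (y * w)) * ((QuaternionGroup.a 1 * y)⁻¹ * (y * w)) ≠ 1) →
    y ^ 2 = QuaternionGroup.a 1 ^ 2 ∧ y * QuaternionGroup.a 1 * y⁻¹ = (QuaternionGroup.a 1)⁻¹ ∧
      QuaternionGroup.a 1 * y * (QuaternionGroup.a 1)⁻¹ = y⁻¹ ∧ y ^ 4 = 1 ∧ y ^ 2 ≠ 1 ∧
      (w = QuaternionGroup.a 1 * y ∨ w = y * QuaternionGroup.a 1) := by decide +kernel

theorem q8_four : ∀ y : QuaternionGroup 2, y * y * (y * y) = 1 := by decide +kernel

theorem q8_central : ∀ x : QuaternionGroup 2, x * x = 1 → ∀ y, y * x = x * y := by decide +kernel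

/-- Let G be a finite solvable group with O(G) = 1 whose Sylow 2-subgroup T is dihedral of order at least 8 or semidihedral, with G ≠ T and Z(T) normal in G. Then G has a normal subgroup isomorphic to SL₂(3). -/
theorem result {G : Type*} [Group G] [Finite G] (hsol : IsSolvable G) (hO : Cfsg.oddCore G = ⊥) (T : Sylow 2 G) (hT : (∃ n : ℕ, 4 ≤ n ∧ Nonempty (↥(T : Subgroup G) ≃* DihedralGroup n)) ∨ Cfsg.IsQuasiDihedral ↥(T : Subgroup G)) (hne : (T : Subgroup G) ≠ ⊤) (hZ : ((T : Subgroup G) ⊓ Subgroup.centralizer ((T : Subgroup G) : Set G)).Normal) : ∃ U : Subgroup G, U.Normal ∧ Nonempty (↥U ≃* Matrix.SpecialLinearGroup (Fin 2) (ZMod 3)) := by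
  have : Group.IsSolvable G := hsol
  have hps : Cfsg.IsPSolvable 2 G := CL.isPSolvable_of_isSolvable 2 G
  set Q := Cfsg.pCore 2 G with hQ
  have hC : centralizer (Q : Set G) ≤ Q := CL.IsPSolvable.centralizer_pCore_le hps hO
  have hQT : Q ≤ T := CL.pCore_le_sylow T
  have hN : normalizer (Q : Set G) = ⊤ := normalizer_eq_top Q
  have hq : ¬ CL.FusInv.Quiet Q := by
    intro h
    refine hne (eq_top_iff.2 (CL.FusInv.le_of_sylowIn_of_odd (S := T) (N := ⊤) ?_ inf_le_left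
      fun g _ hg => hQT (hC (h g (by rw [hN]; trivial) hg))))
    rw [relIndex_top_right]; exact T.not_dvd_index
  have h4 : ∀ z : G, z ≠ 1 → (∀ x ∈ (T : Subgroup G) ⊓ centralizer ((T : Subgroup G) : Set G),
      x = 1 ∨ x = z) → z ∈ (T : Subgroup G) ⊓ centralizer ((T : Subgroup G) : Set G) →
      Nat.card Q ≠ 4 := by
    intro z hz1 hz hzT hc
    obtain ⟨g, -, -, hg⟩ := (CL.FusInv.v4Sec_bot hc).exists_fpf hq
    have hzQ : z ∈ Q := hC fun x hx => hzT.2 x (hQT hx)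
    refine hg z hzQ (by simpa using hz1) ?_
    rcases hz _ (hZ.conj_mem z hzT g) with h | h
    · exact absurd (conj_eq_one_iff.1 h) hz1
    · rw [h]; simp
  have hquat : Nonempty (Q ≃* QuaternionGroup 2) ∧ Q.index = 6 := by
    rcases hT with ⟨m, hm, ⟨e⟩⟩ | hT
    · exfalso
      obtain ⟨n, rfl, ⟨c⟩⟩ := CL.Dih.exists_coord T.isPGroup' (by omega) e
      have hn : 2 ≤ n := by
        by_contra h
        have : n = 0 ∨ n = 1 := by omega
        rcases this with rfl | rfl <;> omega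
      refine h4 (c.r (CL.Z2.hh n)) (fun h => c.h_ne (c.r_eq_one_iff.1 h)) ?_
        ⟨c.r_mem _, fun g hg => c.r_h_comm hg⟩ (c.card_eq_four_of_not_quiet (CL.isPGroup_pCore 2 G) hq)
      intro x hx
      rcases (c.mem_iff x).1 hx.1 with ⟨i, rfl⟩ | ⟨i, rfl⟩
      · rcases (CL.Z2.two_mul_eq_zero_iff c.hn i).1
          ((CL.Dih.Coord.r_comm_s_iff i 0).1 (hx.2 _ (c.s_mem 0))) with rfl | rfl
        · exact Or.inl c.r_zero
        · exact Or.inr rfl
      · have h1 := (CL.Dih.Coord.r_comm_s_iff 1 i).1 (hx.2 _ (c.r_mem 1)).symm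
        rw [mul_one, ← pow_one (2 : ZMod (2 ^ n)), CL.Z2.two_pow_eq_zero_iff] at h1
        omega
    · obtain ⟨n, ⟨c⟩⟩ := CL.QD.exists_coord hT
      rcases c.quiet_cases hQT hq with ⟨j, hj, h⟩ | ⟨j, hj, h⟩
      · exfalso
        refine h4 (c.r (CL.Z2.hh n)) (fun h => c.h_ne (c.r_eq_one_iff.1 h))
          (fun x hx => (c.central_iff hx.1).1 hx.2)
          ⟨c.r_mem _, (c.central_iff (c.r_mem _)).2 (Or.inr rfl)⟩ (h.isKleinFour hj).card_four
      · obtain ⟨e⟩ := CL.QD.Coord.IsSub.quaternion (c := c) (H := Q) (a := 1)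
          (by have := c.hn; omega) (by norm_num; exact h) hj
        refine ⟨⟨e⟩, ?_⟩
        rcases c.relIndex_quaternion hQT e with h | h
        · exact absurd (CL.FusInv.quiet_of_index_eq_two (CL.isPGroup_pCore 2 G) h) hq
        · rwa [sup_eq_left.2 hC, hN, relIndex_top_right] at h
  obtain ⟨⟨e⟩, hi⟩ := hquat
  have hcard : Nat.card G = 48 := by
    rw [← Q.card_mul_index, hi, Nat.card_congr e.toEquiv, Nat.card_eq_fintype_card,
      QuaternionGroup.card]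
  obtain ⟨g, -, hgo, hg⟩ := (CL.FusInv.v4Sec_quaternion e).exists_fpf hq
  have hg3 : g ^ 3 = 1 := by
    refine orderOf_dvd_iff_pow_eq_one.1 (Nat.Coprime.dvd_of_dvd_mul_left
      (k := orderOf g) (m := 2 ^ 4) (Nat.Coprime.pow_right _ (Nat.coprime_two_right.2 hgo)) ?_)
    have := orderOf_dvd_natCard g
    rwa [hcard] at this
  let ι : QuaternionGroup 2 →* G := Q.subtype.comp e.symm.toMonoidHom
  have hι : Function.Injective ι := Q.subtype_injective.comp e.symm.injective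
  have hmem : ∀ x, ι x ∈ Q := fun x => (e.symm x).2
  have hsurj : ∀ g ∈ Q, ∃ x, ι x = g := fun g hg => ⟨e ⟨g, hg⟩, by simp [ι]⟩
  have hZ' : ∀ x, ι x ∈ Q ⊓ centralizer (Q : Set G) ↔ x * x = 1 := by
    intro x
    constructor
    · intro h
      obtain ⟨y, hy, hxy⟩ := CL.FusInv.exists_sq_of_mem_center_quaternion e h
      obtain ⟨y, rfl⟩ := hsurj y hy
      rw [← map_mul] at hxy
      rw [hι hxy]
      exact q8_four y
    · intro h
      refine ⟨hmem x, fun y hy => ?_⟩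
      obtain ⟨y, rfl⟩ := hsurj y hy
      rw [← map_mul, ← map_mul, q8_central x h]
  have hfpf : ∀ x y, ι y = g * ι x * g⁻¹ → x * x ≠ 1 → (x⁻¹ * y) * (x⁻¹ * y) ≠ 1 := by
    intro x y hy hx
    rw [Ne, ← hZ', map_mul, map_inv, hy]
    exact hg _ (hmem x) (fun h => hx ((hZ' x).1 h))
  have hsq : ∀ x y, ι y = g * ι x * g⁻¹ → x * x ≠ 1 → y * y ≠ 1 := by
    intro x y hy hx h
    apply hx
    have := congrArg ι h
    rw [map_mul, hy, conj_mul, map_one, conj_eq_one_iff, ← map_mul] at this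
    exact (map_eq_one_iff ι hι).1 this
  obtain ⟨y, hy⟩ := hsurj _ (Normal.conj_mem inferInstance _ (hmem (.a 1)) g)
  obtain ⟨w, hw⟩ := hsurj _ (Normal.conj_mem inferInstance _ (hmem y) g)
  have hi1 : (QuaternionGroup.a 1 : QuaternionGroup 2) * .a 1 ≠ 1 := by decide +kernel
  have hy1 := hsq _ _ hy hi1
  obtain ⟨h1, h2, h3, h5, h6, h7⟩ := q8_aux y w hy1 (hsq _ _ hw hy1) (hfpf _ _ hy hi1)
    (hfpf _ _ hw hy1) (hfpf _ _ (by rw [map_mul, map_mul, hy, hw, ← hy, ← conj_mul, ← hy]))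
  have hφ : ∃ φ : Matrix.SpecialLinearGroup (Fin 2) (ZMod 3) →* G, Function.Injective φ := by
    rcases h7 with rfl | rfl
    · obtain ⟨φ, hφ, -, -⟩ := CL.Tr.exists_sl23_hom (i := ι (.a 1)) (j := ι y) (g := g)
        (by rw [← map_pow, ← map_one ι]; congr 1) (by rw [← map_pow, ← map_pow, h1])
        (by rw [← map_inv, ← map_inv, ← map_mul, ← map_mul, h2]) hy.symm
        (by rw [← hw, map_mul]) hg3
      refine ⟨φ, CL.Tr.injective_of_sl23 ?_⟩
      rw [hφ, ← map_pow, Ne, map_eq_one_iff ι hι, ← h1]; exact h6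
    · obtain ⟨φ, hφ, -, -⟩ := CL.Tr.exists_sl23_hom (i := ι y) (j := ι (.a 1)) (g := g⁻¹)
        (by rw [← map_pow, h5, map_one]) (by rw [← map_pow, ← map_pow, h1])
        (by rw [← map_inv, ← map_inv, ← map_mul, ← map_mul, h3]) (by rw [hy]; group)
        (by
          rw [← map_mul, hw, hy]
          calc g⁻¹ * ι (.a 1) * g⁻¹⁻¹ = (g ^ 3)⁻¹ * (g * (g * ι (.a 1) * g⁻¹) * g⁻¹) * g ^ 3 := by
                simp only [pow_succ, pow_zero]; group
            _ = _ := by rw [hg3]; group)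
        (by rw [inv_pow, hg3, inv_one])
      refine ⟨φ, CL.Tr.injective_of_sl23 ?_⟩
      rw [hφ, ← map_pow, Ne, map_eq_one_iff ι hι]; exact h6
  obtain ⟨φ, hφ⟩ := hφ
  refine ⟨φ.range, normal_of_index_eq_two ?_, ⟨(MonoidHom.ofInjective hφ).symm⟩⟩
  have := φ.range.card_mul_index
  rw [hcard, ← Nat.card_congr (MonoidHom.ofInjective hφ).toEquiv, CL.Tr.card_sl23] at this
  omega

end Cfsg.Agent.S2879
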