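import Cfsg.Statements.S2880
import Cfsg.Agent.PLOC.ESClass

set_option autoImplicit false
open Cfsg

namespace Cfsg.Agent.S2880

/-- Let E be an extraspecial 2-group of order 2^(2m+1) of plus type, that is, containing an elementary abelian subgroup of order 2^(m+1) (equivalently, a central product of m dihedral groups of order 8). Then E has exactly 2^(2m) − 2^m elements of order 4. -/
theorem result {E : Type*} [Group E] [Finite E] (m : ℕ) (hm : 1 ≤ m) (hE : Cfsg.IsExtraspecial 2 E) (hcard : Nat.card E = 2 ^ (2 * m + 1)) (hplus : ∃ A : Subgroup E, Cfsg.IsElementaryAbelian 2 A ∧ Nat.card A = 2 ^ (m + 1)) : Nat.card {x : E // orderOf x = 4} = 2 ^ (2 * m) - 2 ^ m := by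
  obtain ⟨z, d, c, -⟩ := CL.ES.exists_zdata hE
  have hd := d.finrank_eq_of_card hcard
  have hpl : CL.Orth.IsPlus d.Q := (d.isPlus_iff_not_pRankLE c hd).mpr fun hr => by
    obtain ⟨A, hA, hc⟩ := hplus
    have := hr A hA.1 hA.2
    rw [hc, Nat.pow_le_pow_iff_right (by norm_num)] at this
    omega
  have h1 := d.card_sq_eq_one_of_isPlus c hd hpl
  classical
  have h2 : Nat.card {x : E // orderOf x = 4} = Nat.card {x : E // ¬ x ^ 2 = 1} :=
    Nat.card_congr (Equiv.subtypeEquivRight fun x => d.orderOf_eq_four_iff)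
  have h3 := Nat.card_congr (Equiv.sumCompl fun x : E => x ^ 2 = 1)
  rw [Nat.card_sum, h1, hcard, pow_succ] at h3
  omega

end Cfsg.Agent.S2880
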