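import Cfsg.Statements.S2881
import Cfsg.Agent.PLOC.ESClass

set_option autoImplicit false
set_option linter.unusedVariables false
open Cfsg

namespace Cfsg.Agent.S2881


theorem card_modEq {α : Type*} [Finite α] (f : α → α) (hf : f^[5] = id) :
    Nat.card α ≡ Nat.card {x // f x = x} [MOD 5] := by
  classical
  have := Fintype.ofFinite α
  have : Fact (Nat.Prime 5) := ⟨by norm_num⟩
  have h := Equiv.Perm.card_fixedPoints_modEq (f := (f : Function.End α)) (p := 5) (n := 1) (by
    rw [pow_one]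
    exact hf)
  rw [Nat.card_eq_fintype_card, Nat.card_eq_fintype_card]
  convert h
  rfl


/-- Let E be an extraspecial 2-group of order 2^(2m+1) of plus type (containing an elementary abelian subgroup of order 2^(m+1)), and let ω be an automorphism of E of order 5 whose fixed points are exactly the centre of E. Then m is divisible by 4. -/
theorem result {E : Type*} [Group E] [Finite E] (m : ℕ) (hm : 1 ≤ m) (hE : Cfsg.IsExtraspecial 2 E) (hcard : Nat.card E = 2 ^ (2 * m + 1)) (hplus : ∃ A : Subgroup E, Cfsg.IsElementaryAbelian 2 A ∧ Nat.card A = 2 ^ (m + 1)) (ω : E ≃* E) (hω : orderOf ω = 5) (hfix : ∀ x : E, ω x = x ↔ x ∈ Subgroup.center E) : 4 ∣ m := by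

  obtain ⟨z, hz, hc, -⟩ := CL.ES.exists_zdata hE
  have hd := hz.finrank_eq_of_card hcard
  have hpl : CL.Orth.IsPlus hz.Q := (hz.isPlus_iff_not_pRankLE hc hd).2 (by
    intro h
    obtain ⟨A, hA, hA'⟩ := hplus
    have := h A hA.1 hA.2
    rw [hA'] at this
    have := (Nat.pow_le_pow_iff_right (by norm_num)).1 this
    omega)
  have h1 := hz.card_sq_eq_one_of_isPlus hc hd hpl
  have hω5 : (ω : E → E)^[5] = id := by
    funext x
    have : ω ^ 5 = 1 := by rw [← hω]; exact pow_orderOf_eq_one ω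
    have h2 := congrArg (fun φ : MulAut E => φ x) this
    simpa [pow_succ] using h2
  have hZ : Nat.card (Subgroup.center E) = 2 := hE.2
  have h2 := card_modEq ω hω5
  rw [Nat.card_congr (Equiv.subtypeEquivRight hfix), hcard] at h2
  change _ ≡ Nat.card (Subgroup.center E) [MOD 5] at h2
  let f : {x : E // x ^ 2 = 1} → {x : E // x ^ 2 = 1} := fun x => ⟨ω x, by rw [← map_pow, x.2, map_one]⟩
  have h3 := card_modEq f (by
    funext x
    apply Subtype.ext
    exact congrFun hω5 x.1)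
  have h4 : Nat.card {x // f x = x} = 2 := by
    refine Eq.trans ?_ hZ
    refine Nat.card_congr ⟨fun x => ⟨x.1.1, (hfix _).1 (congrArg Subtype.val x.2)⟩,
      fun x => ⟨⟨x.1, ?_⟩, Subtype.ext ((hfix _).2 x.2)⟩, fun _ => rfl, fun _ => rfl⟩
    exact hz.pow_eq_one (hc ▸ x.2)
  rw [h1, h4] at h3
  rw [hZ] at h2
  have h5 : ∀ k, 2 ^ (4 * k) % 5 = 1 := fun k => by rw [pow_mul, Nat.pow_mod]; simp
  obtain ⟨k, r, hr, rfl⟩ : ∃ k r, r < 4 ∧ m = 4 * k + r := ⟨m / 4, m % 4, Nat.mod_lt _ (by norm_num),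
    (Nat.div_add_mod m 4).symm⟩
  have e1 : 2 ^ (2 * (4 * k + r)) = 2 ^ (4 * (2 * k)) * 2 ^ (2 * r) := by ring
  have e2 : 2 ^ (4 * k + r) = 2 ^ (4 * k) * 2 ^ r := by ring
  unfold Nat.ModEq at h2 h3
  rw [pow_succ, e1] at h2
  rw [e1, e2] at h3
  have h6 := h5 k
  have h7 := h5 (2 * k)
  generalize 2 ^ (4 * k) = a at *
  generalize 2 ^ (4 * (2 * k)) = b at *
  interval_cases r <;> omega

end Cfsg.Agent.S2881
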