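import Cfsg.Statements.S2913
import Cfsg.Agent.PERM.McL3M
import Cfsg.Agent.PERM.ONan4
import Cfsg.Agent.PERM.FCStruct
import Cfsg.Agent.SPOR.LeechRep
import Cfsg.Agent.FUS.EssSmall
import Cfsg.Agent.INV.SylowRel

set_option autoImplicit false
open Cfsg

namespace Cfsg.Agent.S2913

open Subgroup CL CL.McL3 CL.Odd CL.Comp in

/-- Let G be a finite group with O_{3'}(G) = 1, Z ≤ G a subgroup of order 3, M = C_G(Z), S a Sylow 3-subgroup of M and J an elementary abelian subgroup of S of order 3⁴. Suppose Q = F*(M) is extraspecial of order 3⁵ and exponent 3, F*(M ⧸ Q) ≅ SL₂(5), J = F*(N_G(J)), and the subgroup of N_G(J) ⧸ J generated by its 3-elements is isomorphic to the alternating group of degree 6. Then F*(G) is isomorphic to the McLaughlin group. -/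
theorem result {G : Type*} [Group G] [Finite G] (hO : Cfsg.pPrimeCore 3 G = ⊥) (Z : Subgroup G) (hZ : Nat.card ↥Z = 3) (S : Sylow 3 ↥(Subgroup.centralizer (Z : Set G))) (J : Subgroup G) (hJS : J ≤ ((S : Subgroup ↥(Subgroup.centralizer (Z : Set G))).map (Subgroup.centralizer (Z : Set G)).subtype)) (hJ : Cfsg.IsElementaryAbelian 3 J) (hJcard : Nat.card ↥J = 3 ^ 4) (hQ : Cfsg.IsExtraspecial 3 ↥(Cfsg.generalizedFittingSubgroup ↥(Subgroup.centralizer (Z : Set G)))) (hQcard : Nat.card ↥(Cfsg.generalizedFittingSubgroup ↥(Subgroup.centralizer (Z : Set G))) = 3 ^ 5) [hQn : (Cfsg.generalizedFittingSubgroup ↥(Subgroup.centralizer (Z : Set G))).Normal] (hexp : ∀ x ∈ Cfsg.generalizedFittingSubgroup ↥(Subgroup.centralizer (Z : Set G)), x ^ 3 = 1) (hFMQ : Nonempty (↥(Cfsg.generalizedFittingSubgroup (↥(Subgroup.centralizer (Z : Set G)) ⧸ Cfsg.generalizedFittingSubgroup ↥(Subgroup.centralizer (Z : Set G)))) ≃* Matrix.SpecialLinearGroup (Fin 2)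 (ZMod 5))) (hJF : ((Cfsg.generalizedFittingSubgroup ↥(Subgroup.normalizer (J : Set G))).map (Subgroup.normalizer (J : Set G)).subtype) = J) [hJn : (J.subgroupOf (Subgroup.normalizer (J : Set G))).Normal] (hA6 : Nonempty (↥(Subgroup.closure {x : ↥(Subgroup.normalizer (J : Set G)) ⧸ J.subgroupOf (Subgroup.normalizer (J : Set G)) | ∃ k : ℕ, orderOf x = 3 ^ k}) ≃* ↥(alternatingGroup (Fin 6)))) : Cfsg.Spor.IsoMcL ↥(Cfsg.generalizedFittingSubgroup G) := by
  obtain ⟨eL⟩ := hFMQ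
  obtain ⟨eM⟩ := hA6
  have : Nontrivial Z := Finite.one_lt_card_iff_nontrivial.1 (by omega)
  obtain ⟨⟨z, zZ⟩, z1⟩ := exists_ne (1 : Z)
  replace z1 : z ≠ 1 := fun e => z1 (Subtype.ext e)
  have z3 : z ^ 3 = 1 := congrArg Subtype.val (hZ ▸ pow_card_eq_one' (x := (⟨z, zZ⟩ : Z)))
  obtain rfl : zpowers z = Z :=
    eq_of_le_of_card_ge (zpowers_le.2 zZ) (by rw [hZ, card_zpowers_three z1 z3])
  have hC : ∀ g, g ∈ centralizer (zpowers z : Set G) ↔ g * z = z * g := fun g => by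
    rw [cent_zp, mem_cz']
  have nC : ∀ g, NZ z g → g ∈ Nm (centralizer (zpowers z : Set G)) := fun g h =>
    cent_zp z ▸ h.cent
  clear hJF hO
  generalize centralizer (zpowers z : Set G) = C at *
  have zC := fun q (hq : q ∈ fstarOf C) => (hC q).1 (fstarOf_le C hq)
  have zQ : z ∈ fstarOf C := inf_centralizer_fstarOf_le C ⟨(hC z).2 rfl, zC⟩
  obtain ⟨Qc, QZ⟩ := es (EssSm.isExtraspecial_congr
    (equivMapOfInjective _ _ C.subtype_injective) hQ) zQ z1 z3 zC
  have CQ : ∀ g, (∀ q ∈ fstarOf C, g * q = q * g) → g ∈ zpowers z := fun g hg =>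
    QZ g (inf_centralizer_fstarOf_le C ⟨(hC g).2 (hg z zQ), fun q hq => (hg q hq).symm⟩) hg
  have Q3 : ∀ q ∈ fstarOf C, q ^ 3 = 1 := by
    rintro _ ⟨q, hq, rfl⟩; exact congrArg Subtype.val (hexp q hq)
  have pS := S.isPGroup'.map C.subtype
  have SC := map_subtype_le (S : Subgroup C)
  have iS : ¬ 3 ∣ ((S : Subgroup C).map C.subtype).relIndex C := by
    rw [relIndex, subgroupOf_map_subtype_self]; exact S.not_dvd_index
  have QS : fstarOf C ≤ (S : Subgroup C).map C.subtype := le_sylow pS iS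
    (fun q => ⟨1, Subtype.ext (Q3 q q.2)⟩) (fstarOf_le C) (le_normalizer_fstarOf C)
  obtain ⟨L, π, mL, rL⟩ := exists_pre (QuotientGroup.mk' (generalizedFittingSubgroup C)) eL
  obtain ⟨M, μ, mM, rM⟩ := exists_pre (QuotientGroup.mk' (J.subgroupOf (Nm J))) eM
  have sM : ∀ x, ∃ m, Rel μ m x := fun x => (QuotientGroup.mk'_surjective _ (eM.symm x).1).elim
    fun m hm => ⟨m, (rM _ x).2 ⟨m.2, hm⟩⟩
  have hr : ((generalizedFittingSubgroup _).subtype.comp eL.symm.toMonoidHom).range =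
      generalizedFittingSubgroup _ := by
    rw [MonoidHom.range_comp, MonoidHom.range_eq_top.2 eL.symm.surjective, ← MonoidHom.range_eq_map,
      range_subtype]
  have := hr.symm ▸ fstar_normal
  obtain ⟨f, kf, af⟩ := FC.exists_hom_S5 _ (hN := this)
    (Subtype.val_injective.comp eL.symm.injective)
  rw [hr] at kf af
  have H : HypL _ _ L z π := ⟨pS, ?_, z1, z3, fun s hs => (hC s).1 (SC hs), zQ, QS,
    (card_map_of_injective C.subtype_injective).trans hQcard, Q3, Qc, CQ, fun g hg q =>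
      Tr.conj_mem_of_mem_normalizer (normalizer_le_normalizer_fstarOf C (nC g hg)),
    fun l hl => ((mL l).1 hl).elim fun y r => (hC l).1 r.2.1, fun g k h1 h2 => ?_, fun g hg l hl => ?_,
    fun x => (QuotientGroup.mk'_surjective _ (eL.symm x).1).elim fun l hl =>
      ⟨l, (rL _ x).2 ⟨l.2, hl⟩⟩, fun l => ?_⟩
  · have := Hyp.main (μ := (alternatingGroup _).subtype.comp μ) ⟨H, hJS,
      fun a ha b hb => congrArg Subtype.val (hJ.1.1.1 (⟨a, ha⟩ : J) ⟨b, hb⟩), hJ.2, hJcard,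
      fun m hm => ((mM m).1 hm).elim fun y r => r.2.1, fun g h1 k h2 => (mM g).2
        ⟨_, subset_closure (three_ord (Rel.pow_eq_one ⟨h1, rfl⟩ h2)), h1, rfl⟩, fun g hg m hm => ?_,
      (rel_alt sM).1, fun m => ((rel_alt sM).2 m).trans ?_⟩
    · obtain ⟨N, hN, ⟨e⟩, hc⟩ := this
      have : N.Normal := hN.elim (fun e => e ▸ normal_top) normal_of_index_eq_two
      have := Leech.simple_McL
      have := e.isSimpleGroup
      rw [ONan.fstar_eq_of_simple (L := N) (eq_bot_iff.2 fun c h => hc c fun x hx => (h x hx).symm)]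
      exact ⟨e⟩
    · obtain ⟨y, hy, r⟩ := (mM m).1 hm
      obtain ⟨x, rx⟩ := rel_of_mem (QuotientGroup.mk' (J.subgroupOf (Nm J))) hg
      exact (mM _).2 ⟨_, (closure_le ((Subgroup.closure _).comap (MulAut.conj x).toMonoidHom)).2
        (by rintro y ⟨k, h⟩; exact subset_closure ⟨k, ((MulAut.conj x).orderOf_eq y).trans h⟩) hy,
        (rx.mul r).mul rx.inv⟩
    · rw [rM, map_one]
      exact ⟨fun r => (QuotientGroup.eq_one_iff (⟨m, r.1⟩ : Nm J)).1 r.2, fun h =>
        ⟨le_normalizer h, (QuotientGroup.eq_one_iff _).2 h⟩⟩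
  · rw [← relIndex_top_right]
    refine SylowRel.not_dvd_relIndex_of_normalizer pS le_top fun x _ hx ⟨n, hn⟩ =>
      SylowRel.mem_of_not_dvd_relIndex pS SC iS ((hC x).2 ((NZ.of_mem z1 z3 (CQ _ fun q hq => ?_)).three
        z1 z3 hn)) hn hx
    have := (hC _).1 (SC (Tr.inv_conj_mem_of_mem_normalizer hx (QS hq)))
    rw [show x * z * x⁻¹ * q = x * (z * (x⁻¹ * q * x)) * x⁻¹ by group, ← this]; group
  · have r : Rel (QuotientGroup.mk' (generalizedFittingSubgroup C)) g _ := ⟨(hC g).2 h1, rfl⟩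
    have e := congrArg (fun y => Equiv.Perm.sign (f y)) (r.pow_eq_one h2)
    simp only [map_pow, map_one] at e
    obtain ⟨w, hw, ew⟩ := af.ge (Equiv.Perm.mem_alternatingGroup.2
      ((Int.units_eq_one_or _).resolve_right fun e' => by
        rw [e', (Odd.pow (by decide)).neg_one_pow] at e; exact absurd e (by decide)))
    exact (mL g).2 ⟨_, (mul_mem_cancel_left (inv_mem hw)).1 (centralizer_fstar_le
      (kf.le (MonoidHom.eq_iff f |>.1 ew.symm))), r⟩
  · obtain ⟨y, hy, hl, rfl⟩ := (mL l).1 hl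
    let α := C.normalizerMonoidHom ⟨g, nC g hg⟩
    exact (mL _).2 ⟨_, (fstar_map_equiv' (QuotientGroup.congr _ _ α (fstar_map_equiv' α))).le
      ⟨_, hy, rfl⟩, (α ⟨l, hl⟩).2, rfl⟩
  · rw [rL, map_one]
    exact ⟨fun r => ⟨_, (QuotientGroup.eq_one_iff _).1 r.2, rfl⟩, fun ⟨q, h, e⟩ =>
      e ▸ ⟨q.2, (QuotientGroup.eq_one_iff _).2 h⟩⟩

end Cfsg.Agent.S2913
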