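import Cfsg.Statements.S2928
import Cfsg.Agent.TECH.AltOver2
import Cfsg.Agent.KSG.AltSylow2

set_option autoImplicit false
set_option linter.unusedVariables false
open Cfsg

namespace Cfsg.Agent.S2928


open Equiv Equiv.Perm Subgroup CL.KSG CL.Misc CL.Comp CL.AltOver CL.AltInvol

theorem conj_ss {α : Type*} [DecidableEq α] (k : Perm α) (x y u v : α) :
    k * (swap x y * swap u v) * k⁻¹ = swap (k x) (k y) * swap (k u) (k v) := by
  rw [swap_apply_apply, swap_apply_apply]; group

theorem exists_blocks {n : ℕ} (hn : 8 ≤ n) {P : Subgroup (Perm (Fin n))}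
    (hP : SylIn 2 P (alternatingGroup (Fin n))) :
    ∃ B B' : Finset (Fin n), Blk P B ∧ Blk P B' ∧ Disjoint B B' := by
  let j : Fin 8 ↪ Fin n := Fin.castLEEmb hn
  let s : Set (Perm (Fin 8)) := {swap 0 1 * swap 2 3, swap 0 2 * swap 1 3, swap 4 5 * swap 6 7,
    swap 4 6 * swap 5 7}
  have hs : IsPGroup 2 (closure s) := isPGroup_closure_of_commute_involutions (by
    simp only [s, Set.mem_insert_iff, Set.mem_singleton_iff, forall_eq_or_imp, forall_eq]
    decide +kernel) (by
    simp only [s, Set.mem_insert_iff, Set.mem_singleton_iff, forall_eq_or_imp, forall_eq]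
    decide +kernel)
  have hj : ∀ a b c d : Fin 8, viaEmbeddingHom j (swap a b * swap c d) =
      swap (j a) (j b) * swap (j c) (j d) := fun a b c d => by
    rw [map_mul, viaEmbeddingHom_swap, viaEmbeddingHom_swap]
  have hne : ∀ {a b : Fin 8}, a ≠ b → j a ≠ j b := fun h => j.injective.ne h
  obtain ⟨g, -, hg⟩ := hP.exists_conj_le (hs.map (viaEmbeddingHom j)) (by
    rw [map_le_iff_le_comap, closure_le]
    intro x hx
    simp only [s, Set.mem_insert_iff, Set.mem_singleton_iff] at hx
    rcases hx with rfl | rfl | rfl | rfl <;>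
    · rw [SetLike.mem_coe, mem_comap, hj, mem_alternatingGroup, map_mul, sign_swap (hne (by decide)),
        sign_swap (hne (by decide))]
      simp)
  have hm : ∀ a b c d : Fin 8, swap a b * swap c d ∈ s →
      swap (g (j a)) (g (j b)) * swap (g (j c)) (g (j d)) ∈ P := fun a b c d h => by
    rw [← conj_ss, ← hj]
    exact hg _ ⟨_, subset_closure h, rfl⟩
  have hne' : ∀ {a b : Fin 8}, a ≠ b → g (j a) ≠ g (j b) := fun h => g.injective.ne (hne h)
  refine ⟨_, _, Qd.blk ⟨hne' (a := 0) (b := 1) (by decide), hne' (b := 2) (by decide),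
    hne' (b := 3) (by decide), hne' (by decide), hne' (by decide), hne' (by decide),
    hm _ _ _ _ (by simp [s]), hm _ _ _ _ (by simp [s])⟩,
    Qd.blk ⟨hne' (a := 4) (b := 5) (by decide), hne' (b := 6) (by decide),
    hne' (b := 7) (by decide), hne' (by decide), hne' (by decide), hne' (by decide),
    hm _ _ _ _ (by simp [s]), hm _ _ _ _ (by simp [s])⟩, ?_⟩
  simp only [Finset.disjoint_insert_left, Finset.mem_insert, Finset.mem_singleton,
    Finset.disjoint_singleton_left, g.injective.eq_iff, j.injective.eq_iff]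
  decide


/-- Let n ≥ 8 and let H be a subgroup of the symmetric group of degree n whose generalized Fitting subgroup F*(H) is quasisimple. If H contains a Sylow 2-subgroup of the alternating group of degree n, then F*(H) is isomorphic to an alternating group of degree m for some m ∈ {n − 3, n − 2, n − 1, n}. -/
theorem result (n : ℕ) (hn : 8 ≤ n) (H : Subgroup (Equiv.Perm (Fin n))) (hF : Cfsg.IsQuasisimple ↥(Cfsg.generalizedFittingSubgroup ↥H)) (hS : ∃ P : Sylow 2 ↥(alternatingGroup (Fin n)), ((P : Subgroup ↥(alternatingGroup (Fin n))).map (alternatingGroup (Fin n)).subtype) ≤ H) : ∃ m : ℕ, (m = n - 3 ∨ m = n - 2 ∨ m = n - 1 ∨ m = n) ∧ Nonempty (↥(Cfsg.generalizedFittingSubgroup ↥H) ≃* ↥(alternatingGroup (Fin m))) := by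

  obtain ⟨P0, hPH⟩ := hS
  set P := (P0 : Subgroup ↥(alternatingGroup (Fin n))).map (alternatingGroup (Fin n)).subtype
  have hP : SylIn 2 P (alternatingGroup (Fin n)) := sylIn_map_subtype P0
  have hF' : IsQuasisimple (fstarOf H) := hF.map_of_injective H.subtype H.subtype_injective
  obtain ⟨B, B', hB, hB', hd⟩ := exists_blocks hn hP
  have hmono : ∀ {S}, Blk P S → Blk H S := by
    rintro S ⟨a, b, c, d, h, rfl⟩
    exact Qd.blk ⟨h.ab, h.ac, h.ad, h.bc, h.bd, h.cd, hPH h.m1, hPH h.m2⟩
  have h3 := not_no3 hF' (hmono hB) (hmono hB') hd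
  unfold No3 at h3
  push Not at h3
  obtain ⟨c, hcH, hc⟩ := h3
  obtain ⟨a, ha⟩ : ∃ x, c x ≠ x := by
    by_contra h
    push Not at h
    exact hc.ne_one (Equiv.ext h)
  obtain ⟨Δ, h5, hL, hΔ⟩ := exists_eq_altOn hF' (tr_of_isThreeCycle hc hcH ha)
  have h2 : Δᶜ.card ≤ 3 := by
    by_contra hc
    obtain ⟨T, hT, hT4⟩ := Finset.exists_subset_card_eq (show 4 ≤ Δᶜ.card by omega)
    obtain ⟨p, q, r, s, pq, pr, ps, qr, qs, rs, rfl⟩ := Finset.card_eq_four.1 hT4
    have hnd : [p, q, r, s].Nodup := by simp [*]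
    have hz : swap p q * swap r s ∈ altOn Δᶜ :=
      mem_inf.2 ⟨ss_mem_permOn (hT (by simp)) (hT (by simp)) (hT (by simp)) (hT (by simp)),
        sign_swap_swap hnd⟩
    have hz1 : swap p q * swap r s ≠ 1 := fun e => by
      have := card_support_swap_swap hnd
      rw [e] at this
      simp at this
    obtain ⟨g, hg, h⟩ := exists_conj_mem hP le_rfl (F := Δᶜ) (fun g hg x hx => by
      rw [Finset.mem_compl] at hx ⊢
      rwa [mem_iff_of_invariant hΔ (hPH hg)]) hz
      (orderOf_eq_prime (by rw [pow_two, swap_swap_sq hnd]) hz1)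
    refine not_mem_centralizer hF' (hPH h) (by simpa using hz1) (by
      rw [card_support_conj, card_support_swap_swap hnd]) ?_
    rw [hL]
    exact not_mem_centralizer_altOn disjoint_compl_left
      (mul_mem (mul_mem hg hz) (inv_mem hg)).1
  rw [Finset.card_compl, Fintype.card_fin] at h2
  have h3 : Δ.card ≤ n := by simpa using Δ.card_le_univ
  refine ⟨Δ.card, by omega, ?_⟩
  obtain ⟨e⟩ := nonempty_altOn_equiv Δ
  exact ⟨((equivMapOfInjective _ H.subtype H.subtype_injective).trans
    (MulEquiv.subgroupCongr hL)).trans e⟩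

end Cfsg.Agent.S2928
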