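import Cfsg.Statements.S2931
import Cfsg.Agent.SYL.P4Con
import Cfsg.Agent.SYL.O6.DMod
import Cfsg.Agent.SYL.U4
import Cfsg.Agent.S0288
import Cfsg.Agent.S0245
import Cfsg.Agent.S0246

set_option autoImplicit false
open Cfsg

namespace Cfsg.Agent.S2931

open CL.G2S CL.O6 Matrix

theorem homW {G : Type*} [Group G] {s b t : G} (ss : s * s = 1) (bb : b * b = 1) (tt : t * t = 1)
    (r4 : (s * b) ^ 4 = 1) (c1 : Commute s (t * s * t)) (c2 : Commute b (t * s * t))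
    (c3 : Commute b (t * b * t)) :
    ∃ φ : Wd (ZMod (4 * 2 ^ 0)) →* G,
      φ (zz ((2 ^ 0 : ℕ) : ZMod _)) = (s * b) ^ 2 * (t * (s * b) ^ 2 * t) := by
  have ti : t⁻¹ = t := inv_eq_of_mul_eq_one_right tt
  have si : s⁻¹ = s := inv_eq_of_mul_eq_one_right ss
  have bi : b⁻¹ = b := inv_eq_of_mul_eq_one_right bb
  have c4 : Commute s (t * b * t) := by
    have h := c2.symm.map (MulAut.conj t)
    simp only [map_mul, MulAut.conj_apply, ti] at h
    rwa [show t * t * t * (t * s * t) * (t * t * t) = s by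
      simp only [← mul_assoc, tt, one_mul]; simp only [mul_assoc, tt, mul_one]] at h
  obtain ⟨r, hr⟩ : ∃ r, r = s * b := ⟨_, rfl⟩
  have sr : s * r * s⁻¹ = r⁻¹ := by
    rw [hr, _root_.mul_inv_rev, si, bi, ← mul_assoc, ss, one_mul]
  have trt : t * r * t = t * s * t * (t * b * t) := by
    rw [hr]; simp only [mul_assoc]; rw [← mul_assoc t t, tt, one_mul]
  have d1 : Commute s (t * r * t) := trt ▸ c1.mul_right c4
  have d2 : Commute r (t * s * t) := hr ▸ c1.mul_left c2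
  have d3 : Commute r (t * r * t) := by
    have : Commute b (t * r * t) := trt ▸ c2.mul_right c3
    have h := d1.mul_left this
    rwa [← hr] at h
  rw [← hr] at r4 ⊢
  have add : ∀ x y : ZMod (4 * 2 ^ 0), r ^ (x + y).val = r ^ x.val * r ^ y.val :=
    fun x y => by rw [ZMod.val_add, ← pow_eq_pow_mod (n := 4 * 2 ^ 0) _ r4, pow_add]
  obtain ⟨ρ, hρ⟩ : ∃ ρ : ZMod (4 * 2 ^ 0) → G, ∀ x, ρ x = r ^ x.val := ⟨_, fun _ => rfl⟩
  obtain ⟨ρ', hρ'⟩ : ∃ ρ' : ZMod (4 * 2 ^ 0) → G, ∀ x, ρ' x = t * ρ x * t := ⟨_, fun _ => rfl⟩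
  obtain ⟨s', hs'⟩ : ∃ s', s' = t * s * t := ⟨_, rfl⟩
  have k0 : ∀ c, t * (t * c) = c := fun c => by rw [← mul_assoc, tt, one_mul]
  have k0' : ∀ c, s * (s * c) = c := fun c => by rw [← mul_assoc, ss, one_mul]
  have a1 : ∀ x y c, ρ x * (ρ y * c) = ρ (x + y) * c := fun x y c => by rw [hρ, hρ, hρ, add, mul_assoc]
  have a2 : ∀ x y c, ρ' x * (ρ' y * c) = ρ' (x + y) * c := fun x y c => by
    simp only [hρ', mul_assoc, k0, a1]
  have e' : ∀ x, ρ' x = (t * r * t) ^ x.val := fun x => by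
    have := conj_pow (i := x.val) (a := t) (b := r)
    rw [ti] at this
    rw [hρ', hρ, this]
  have k1 : ∀ x c, s * (ρ x * c) = ρ (-x) * (s * c) := fun x c => by
    have : ρ (-x) = (ρ x)⁻¹ := (inv_eq_of_mul_eq_one_right (by
      rw [← mul_one (ρ (-x)), a1, add_neg_cancel, hρ, ZMod.val_zero, pow_zero, one_mul])).symm
    rw [this, hρ, ← inv_pow, ← sr, conj_pow]; group
  have k2 : ∀ x c, s * (ρ' x * c) = ρ' x * (s * c) := fun x c => by
    rw [e', ← mul_assoc, (d1.pow_right _).eq, mul_assoc]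
  have k3 : ∀ x c, s' * (ρ x * c) = ρ x * (s' * c) := fun x c => by
    rw [hρ, hs', ← mul_assoc, ← (d2.pow_left _).eq, mul_assoc]
  have k4 : ∀ x c, s' * (ρ' x * c) = ρ' (-x) * (s' * c) := fun x c => by
    simp only [hρ', hs', mul_assoc, k0, k1]
  have k5 : ∀ x c, t * (ρ x * c) = ρ' x * (t * c) := fun x c => by simp only [hρ', mul_assoc, k0]
  have k6 : ∀ x c, t * (ρ' x * c) = ρ x * (t * c) := fun x c => by simp only [hρ', mul_assoc, k0]
  have k7 : ∀ c, t * (s * c) = s' * (t * c) := fun c => by simp only [hs', mul_assoc, k0]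
  have k8 : ∀ c, t * (s' * c) = s * (t * c) := fun c => by simp only [hs', mul_assoc, k0]
  have k9 : ∀ c, s' * (s * c) = s * (s' * c) := fun c => by rw [hs', ← mul_assoc, ← c1.eq, mul_assoc]
  have k10 : ∀ c, s' * (s' * c) = c := fun c => by simp only [hs', mul_assoc, k0, k0']
  have k11 : ∀ x y c, ρ' y * (ρ x * c) = ρ x * (ρ' y * c) := fun x y c => by
    rw [e', hρ, ← mul_assoc, ← (d3.pow_pow _ _).eq, mul_assoc]
  refine ⟨MonoidHom.mk' (fun w => ρ w.x * (ρ' w.y * (bp s w.e * (bp s' w.f * (bp t w.d * 1))))) ?_, ?_⟩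
  · rintro ⟨x, y, e, f, d⟩ ⟨x', y', e', f', d'⟩
    simp only [Wd.mul_x, Wd.mul_y, Wd.mul_e, Wd.mul_f, Wd.mul_d, mul_assoc, one_mul]
    rcases e with _ | _ <;> rcases f with _ | _ <;> rcases d with _ | _ <;> rcases e' with _ | _ <;>
      rcases f' with _ | _ <;> rcases d' with _ | _ <;>
      simp only [bp, cond_true, cond_false, Bool.xor_false, Bool.xor_true, Bool.not_true, Bool.not_false,
        one_mul, sg_ff, sg_tt, neg_mul, k0, k0', k1, k2, k3, k4, k5, k6, k7, k8, k9, k10, k11, a1, a2]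
  · change ρ _ * (ρ' _ * (1 * (1 * (1 * 1)))) = _
    rw [hρ', hρ]
    simp only [mul_one]
    rfl

abbrev ι6 := (Fin 2 ⊕ Fin 2) ⊕ Fin 2

def e6 : ι6 → Fin 6
  | .inl (.inl i) => ![0, 1] i
  | .inl (.inr i) => ![2, 3] i
  | .inr i => ![4, 5] i

def mk6 (M : Matrix (Fin 6) (Fin 6) (ZMod 2)) : Matrix ι6 ι6 (ZMod 2) := M.submatrix e6 e6

def ms : Matrix ι6 ι6 (ZMod 2) := mk6 !![1, 0, 0, 0, 0, 0; 0, 1, 0, 0, 0, 0; 0, 0, 1, 0, 0, 0; 0, 0, 0, 1, 0, 0;
  0, 0, 0, 0, 1, 0; 0, 0, 0, 0, 1, 1]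
def mb : Matrix ι6 ι6 (ZMod 2) := mk6 !![1, 0, 0, 0, 0, 0; 0, 1, 0, 0, 0, 0; 0, 1, 1, 0, 0, 0; 1, 1, 0, 1, 0, 1;
  0, 1, 0, 0, 1, 0; 0, 0, 0, 0, 0, 1]
def mt : Matrix ι6 ι6 (ZMod 2) := mk6 !![1, 0, 1, 0, 0, 1; 0, 1, 0, 0, 0, 0; 0, 0, 1, 0, 0, 0; 0, 0, 0, 1, 0, 0;
  0, 0, 1, 0, 1, 0; 0, 0, 0, 0, 0, 1]

abbrev O2 := Cfsg.isometryGroup (ZMod 2) (Cfsg.quadFormMinus 2 (ZMod 2) 1 1)

def inv6 (M : Matrix ι6 ι6 (ZMod 2)) (h : M * M = 1)
    (hQ : ∀ v, Cfsg.quadFormMinus 2 (ZMod 2) 1 1 (M *ᵥ v) = Cfsg.quadFormMinus 2 (ZMod 2) 1 1 v) : O2 :=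
  ⟨⟨M, M, h, h⟩, fun u _ => hQ u⟩

theorem homO : ∃ φ : Wd (ZMod (4 * 2 ^ 0)) →* O2, Function.Injective φ := by
  have ext' : ∀ x y : O2, x.1.1 = y.1.1 → x = y := fun x y h => Subtype.ext (Units.ext h)
  obtain ⟨φ, h⟩ := homW (s := inv6 ms (by decide +kernel) (by decide +kernel))
    (b := inv6 mb (by decide +kernel) (by decide +kernel)) (t := inv6 mt (by decide +kernel) (by decide +kernel))
    (ext' _ _ (show ms * ms = 1 by decide +kernel)) (ext' _ _ (show mb * mb = 1 by decide +kernel))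
    (ext' _ _ (show mt * mt = 1 by decide +kernel))
    (ext' _ _ (show (ms * mb) ^ 4 = 1 by decide +kernel))
    (ext' _ _ (show ms * (mt * ms * mt) = mt * ms * mt * ms by decide +kernel))
    (ext' _ _ (show mb * (mt * ms * mt) = mt * ms * mt * mb by decide +kernel))
    (ext' _ _ (show mb * (mt * mb * mt) = mt * mb * mt * mb by decide +kernel))
  refine ⟨φ, injective_of (n := 0) ?_⟩
  rw [h]
  intro e
  exact (show (ms * mb) ^ 2 * (mt * (ms * mb) ^ 2 * mt) ≠ 1 by decide +kernel) (congrArg (fun x : O2 => x.1.1) e)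

theorem homS8 : ∃ φ : Wd (ZMod (4 * 2 ^ 0)) →* Equiv.Perm (Fin 8), Function.Injective φ := by
  obtain ⟨φ, h⟩ := homW (G := Equiv.Perm (Fin 8)) (s := Equiv.swap 0 2) (b := Equiv.swap 0 1 * Equiv.swap 2 3)
    (t := Equiv.swap 0 4 * Equiv.swap 1 5 * Equiv.swap 2 6 * Equiv.swap 3 7)
    (by decide +kernel) (by decide +kernel) (by decide +kernel) (by decide +kernel)
    (by unfold Commute SemiconjBy; decide +kernel) (by unfold Commute SemiconjBy; decide +kernel)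
    (by unfold Commute SemiconjBy; decide +kernel)
  refine ⟨φ, injective_of (n := 0) ?_⟩
  rw [h]
  decide +kernel

theorem transferO (K : Type) [Field K] [Fintype K] (hK : Fintype.card K = 2) :
    ∃ ψ : O2 →* Cfsg.isometryGroup K (Cfsg.quadFormMinus 2 K 1 1), Function.Injective ψ := by
  let e : ZMod 2 ≃+* K := ZMod.ringEquivOfPrime K Nat.prime_two hK
  have hQ : ∀ u : ι6 → ZMod 2, Cfsg.quadFormMinus 2 K 1 1 (e ∘ u) = e (Cfsg.quadFormMinus 2 (ZMod 2) 1 1 u) :=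
    fun u => by
      simp only [Cfsg.quadFormMinus, map_add, map_mul, map_pow, map_sum, map_one, Function.comp_apply]
  refine ⟨((Matrix.GeneralLinearGroup.map (n := ι6) (e : ZMod 2 →+* K)).comp O2.subtype).codRestrict _ ?_, ?_⟩
  · rintro ⟨g, hg⟩ u v
    obtain ⟨u, rfl⟩ : ∃ u' : ι6 → ZMod 2, u = e ∘ u' := ⟨e.symm ∘ u, by ext; simp⟩
    have : (g.1.map (e : ZMod 2 →+* K)) *ᵥ (e ∘ u) = e ∘ (g.1 *ᵥ u) := by
      ext i
      exact (RingHom.map_mulVec (e : ZMod 2 →+* K) g.1 u i).symm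
    change Cfsg.quadFormMinus 2 K 1 1 ((g.1.map (e : ZMod 2 →+* K)) *ᵥ (e ∘ u)) = Cfsg.quadFormMinus 2 K 1 1 _
    rw [this, hQ, hQ]
    exact congrArg e (hg u u)
  · intro x y h
    refine Subtype.ext (Units.ext ?_)
    ext i j
    exact e.injective (congrArg (fun z : Cfsg.isometryGroup K (Cfsg.quadFormMinus 2 K 1 1) => z.1.1 i j) h)

theorem result (F : Type) [Field F] [Fintype F] (hF : Fintype.card F = 3) (K : Type) [Field K] [Fintype K] (hK : Fintype.card K = 2) (a b : K) (hab : ∀ z₁ z₂ : K, z₁ ^ 2 + a * z₁ * z₂ + b * z₂ ^ 2 = 0 → z₁ = 0 ∧ z₂ = 0) (P : Sylow 2 ↥(alternatingGroup (Fin 8))) (Q : Sylow 2 (Cfsg.PSp 2 F)) (P' : Sylow 2 (Equiv.Perm (Fin 8))) (Q' : Sylow 2 ↥(Cfsg.isometryGroup K (Cfsg.quadFormMinus 2 K a b))) : Nonempty (↥(P : Subgroup ↥(alternatingGroup (Fin 8))) ≃* ↥(Q : Subgroup (Cfsg.PSp 2 F))) ∧ Nonempty (↥(P' : Subgroup (Equiv.Perm (Fin 8))) ≃* ↥(Q' : Subgroup ↥(Cfsg.isometryGroup K (Cfsg.quadFormMinus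 2 K a b)))) := by
  constructor
  · have h25 : Nat.card (PSp 2 F) = 25920 := by
      have h1 := (Subgroup.center (symplecticGroup (Fin 2) F)).card_mul_index
      rw [S0245.result hF 2, S0246.result hF 2 (by norm_num)] at h1
      have : Nat.card (PSp 2 F) = (Subgroup.center (symplecticGroup (Fin 2) F)).index := rfl
      simp [Finset.prod_range_succ] at h1
      omega
    have : Finite (PSp 2 F) := Nat.finite_of_card_ne_zero (by rw [h25]; norm_num)
    obtain ⟨n, φ, hφ⟩ := CL.P4S.exists_sy (F := F) (by rw [hF]; decide)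
    have hd := φ.range.card_mul_index
    rw [← Nat.card_congr (MonoidHom.ofInjective hφ.inj).toEquiv, CL.P4S.card_P (by positivity), h25] at hd
    obtain rfl : n = 0 := by
      rcases n with _ | n
      · rfl
      · exfalso
        generalize φ.range.index = m at hd
        have : 64 * (2 ^ (n + 1)) ^ 2 * m = 256 * ((2 ^ n) ^ 2 * m) := by ring
        omega
    obtain ⟨e1⟩ := CL.Syl.equiv_sylow_of_injective φ hφ.inj (k := 6) (m := 405)
      (by rw [CL.P4S.card_P (by norm_num)]; norm_num) (by decide) h25 Q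
    obtain ⟨ψ, hψ⟩ := CL.P4S.exists_hom (G := alternatingGroup (Fin 8)) (k := 2 ^ 0) (by norm_num)
      (a := ⟨c[0, 1, 2, 3] * c[4, 7, 6, 5], Equiv.Perm.mem_alternatingGroup.2 (by decide +kernel)⟩) (b := ⟨c[0, 3, 2, 1] * c[4, 7, 6, 5], Equiv.Perm.mem_alternatingGroup.2 (by decide +kernel)⟩)
      (σ := ⟨c[0, 3] * c[1, 2] * c[4, 6] * c[5, 7], Equiv.Perm.mem_alternatingGroup.2 (by decide +kernel)⟩)
      (π := ⟨c[0, 5] * c[1, 4] * c[2, 7] * c[3, 6], Equiv.Perm.mem_alternatingGroup.2 (by decide +kernel)⟩)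
      (by decide +kernel) (by unfold Commute SemiconjBy; decide +kernel) (by decide +kernel) (by decide +kernel)
      (by decide +kernel) (by unfold Commute SemiconjBy; decide +kernel) (by decide +kernel) (by decide +kernel)
      (by decide +kernel)
    have hi := CL.P4S.injective_of (n := 0) (φ := ψ) (by rw [hψ]; decide +kernel)
    obtain ⟨e2⟩ := CL.Syl.equiv_sylow_of_injective ψ hi (k := 6) (m := 315)
      (by rw [CL.P4S.card_P (by norm_num)]; norm_num) (by decide) (by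
        have := two_mul_nat_card_alternatingGroup (α := Fin 8)
        rw [Nat.card_perm, Nat.card_fin] at this
        change _ = 40320 at this
        omega) P
    exact ⟨e2.trans e1.symm⟩
  · have h01 : ∀ x : K, x ≠ 0 → x = 1 := fun x hx => by
      simpa [hK] using FiniteField.pow_card_sub_one_eq_one x hx
    have h2 : (1 : K) + 1 = 0 := by
      by_contra h
      exact one_ne_zero (add_left_cancel ((h01 _ h).trans (add_zero 1).symm))
    obtain rfl : b = 1 := h01 b fun h => one_ne_zero (hab 0 1 (by simp [h])).2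
    obtain rfl : a = 1 := h01 a fun h => one_ne_zero (hab 1 1 (by simp [h, h2])).2
    have hc := S0288.result hK 3 (by norm_num) 1 1 hab
    have hc' : Nat.card (Cfsg.isometryGroup K (Cfsg.quadFormMinus 2 K 1 1)) = 2 ^ 7 * 405 :=
      hc.trans (by decide)
    obtain ⟨φ, hφ⟩ := homO
    obtain ⟨ψ, hψ⟩ := transferO K hK
    obtain ⟨χ, hχ⟩ := homS8
    have hW : Nat.card (Wd (ZMod (4 * 2 ^ 0))) = 2 ^ 7 := by rw [card_Wd (by norm_num)]; norm_num
    obtain ⟨e1⟩ := CL.Syl.equiv_sylow_of_injective (ψ.comp φ) (hψ.comp hφ) hW (by decide) hc' Q'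
    obtain ⟨e2⟩ := CL.Syl.equiv_sylow_of_injective χ hχ hW (m := 315) (by decide)
      (by rw [Nat.card_perm, Nat.card_fin]; rfl) P'
    exact ⟨e2.trans e1.symm⟩

end Cfsg.Agent.S2931
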