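import Cfsg.Statements.S2932
import Cfsg.Agent.FGS.NatA7
import Cfsg.Agent.CLAS.SLBasic

set_option autoImplicit false
open Cfsg

namespace Cfsg.Agent.S2932

open Subgroup CL CL.MSS CL.NatA7


/-- Let p be a prime. Inside a finite ambient group let V be an elementary abelian p-subgroup and G a subgroup normalizing V and acting faithfully on it (G ∩ C(V) = 1), and let L ≤ G act on V as SL₂(F) on its natural module, F a finite field of characteristic p, with L ≅ SL₂(F). If every Sylow p-subgroup of N_G(L) is a Sylow p-subgroup of G, then either L is normal in G, or F has 4 elements and G is isomorphic to the alternating group of degree 7. -/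
theorem result {X : Type*} [Group X] [Finite X] {p : ℕ} [Fact p.Prime] (F : Type) [Field F] [Fintype F] [CharP F p] (V G L : Subgroup X) (hV : Cfsg.IsElementaryAbelian p V) (hGV : G ≤ Subgroup.normalizer (V : Set X)) (hfaith : G ⊓ Subgroup.centralizer (V : Set X) = ⊥) (hLG : L ≤ G) (hnat : Cfsg.IsNaturalSL2Module F V L) (hLiso : Nonempty (↥L ≃* Matrix.SpecialLinearGroup (Fin 2) F)) (hSyl : ∀ S : Sylow p ↥(G ⊓ Subgroup.normalizer (L : Set X)), ∀ P : Sylow p ↥G, Nat.card S = Nat.card P) : (L.subgroupOf G).Normal ∨ (Fintype.card F = 4 ∧ Nonempty (↥G ≃* ↥(alternatingGroup (Fin 7)))) := by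
  by_cases hn : (L.subgroupOf G).Normal
  · exact Or.inl hn
  right
  obtain ⟨-, ρ, ψ, hρ, -, hact⟩ := hnat
  let χ : Additive V ≃+ F × F := ψ.trans (LinearEquiv.finTwoArrow F F).toAddEquiv
  let τ : G →* MulAut V := V.normalizerMonoidHom.comp (inclusion hGV)
  have hτ : ∀ (g : G) (v : V), (τ g v : X) = g * v * (g : X)⁻¹ := fun g v => rfl
  let _ : DistribMulAction G (F × F) :=
    { smul := fun g m => χ (Additive.ofMul (τ g (χ.symm m).toMul))
      one_smul := fun m => by
        change χ (Additive.ofMul (τ 1 (χ.symm m).toMul)) = m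
        simp
      mul_smul := fun a b m => by
        change χ (Additive.ofMul (τ (a * b) (χ.symm m).toMul)) =
          χ (Additive.ofMul (τ a (χ.symm (χ (Additive.ofMul (τ b (χ.symm m).toMul)))).toMul))
        simp
      smul_zero := fun g => by
        change χ (Additive.ofMul (τ g (χ.symm 0).toMul)) = 0
        simp
      smul_add := fun g m m' => by
        change χ (Additive.ofMul (τ g (χ.symm (m + m')).toMul)) =
          χ (Additive.ofMul (τ g (χ.symm m).toMul)) + χ (Additive.ofMul (τ g (χ.symm m').toMul))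
        simp }
  have hs : ∀ (g : G) (m : F × F), g • m = χ (Additive.ofMul (τ g (χ.symm m).toMul)) :=
    fun _ _ => rfl
  have : FaithfulSMul G (F × F) := ⟨fun {a b} e => by
    have h1 : τ a = τ b := MulEquiv.ext fun v => by
      have := e (χ (Additive.ofMul v))
      simpa [hs] using this
    have h2 : ((a⁻¹ * b : G) : X) ∈ G ⊓ centralizer (V : Set X) := ⟨(a⁻¹ * b).2, fun v hv => by
      have := hτ (a⁻¹ * b) ⟨v, hv⟩
      rw [map_mul, ← h1, ← map_mul, inv_mul_cancel, map_one, MulAut.one_apply,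
        eq_mul_inv_iff_mul_eq] at this
      exact this⟩
    rw [hfaith, mem_bot, OneMemClass.coe_eq_one, inv_mul_eq_one] at h2
    exact h2⟩
  have key : ∀ (l : L) (x y : F), (⟨l, hLG l.2⟩ : G) • ((x, y) : F × F) =
      (ρ l 0 0 * x + ρ l 0 1 * y, ρ l 1 0 * x + ρ l 1 1 * y) := fun l x y => by
    obtain ⟨w, h1, h2⟩ := hact l (χ.symm (x, y)).toMul
    rw [hs, show τ ⟨l, hLG l.2⟩ (χ.symm (x, y)).toMul = w from Subtype.ext h1.symm]
    simp [χ, h2, Matrix.mulVec, dotProduct]
  have hnat : IsNat F (L.subgroupOf G) :=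
    { mem := fun l hl => ⟨_, _, _, _, by
        rw [← Matrix.det_fin_two]; exact (ρ ⟨l, hl⟩).det_coe, key ⟨l, hl⟩⟩
      ex := fun a b c d e => by
        obtain ⟨l, hl⟩ := hρ ⟨!![a, b; c, d], by rwa [Matrix.det_fin_two_of]⟩
        exact ⟨⟨l, hLG l.2⟩, l.2, fun x y => by rw [key, hl]; rfl⟩ }
  have hN : normalizer ((L.subgroupOf G : Subgroup G) : Set G) =
      (G ⊓ normalizer (L : Set X)).subgroupOf G := by
    rw [inf_subgroupOf_left, subgroupOf_normalizer_eq hLG]
  have hA : K G (W F) ⊓ L.subgroupOf G ≤ normalizer ((L.subgroupOf G : Subgroup G) : Set G) :=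
    inf_le_right.trans le_normalizer
  obtain ⟨S, hS, hAS⟩ := exists_sylIn_ge (isPGroup_K p (W F)).to_inf_left hA
  have hS' : SylIn p S ⊤ := by
    obtain ⟨P⟩ : Nonempty (Sylow p G) := inferInstance
    refine (sylIn_top P).of_card_le hS.pgroup le_top ?_
    have h1 := hS.map_injective G.subtype_injective
    rw [hN, map_subgroupOf_eq_of_le inf_le_left] at h1
    rw [← hSyl h1.toSylow P, ← card_map_of_injective (K := S) G.subtype_injective]
    change Nat.card (h1.toSylow : Subgroup ↥(G ⊓ normalizer (L : Set X))) ≤ _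
    rw [← card_map_of_injective (subtype_injective _), h1.map_toSylow]
  have hc : Ctx F p (L.subgroupOf G) S :=
    { hnat with
      syl := hS'
      le := hS.le
      uS := fun t l e => hAS ⟨u_mem_K e, by
        obtain ⟨l', hl, e1⟩ := hnat.ex_u t
        rwa [FaithfulSMul.eq_of_smul_eq_smul (α := F × F) (m₁ := l) (m₂ := l') fun ⟨x, y⟩ => by
          rw [e, e1]]⟩ }
  rw [← Nat.card_eq_fintype_card]
  refine hc.alt_seven hn fun hq => ?_
  obtain ⟨e⟩ := hLiso
  rw [Nat.card_congr ((subgroupOfEquivOfLe hLG).trans e).toEquiv, CL.SL.card_SL_two, hq]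
  norm_num

end Cfsg.Agent.S2932
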