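import Cfsg.Statements.S2933
import Cfsg.Agent.S3161
import Cfsg.Agent.INV.Three2

set_option autoImplicit false
open Cfsg

namespace Cfsg.Agent.S2933

open Subgroup

theorem four_cases {Q : Type*} [Group Q] [Finite Q] (V : Subgroup Q) (hV : Nat.card V = 4)
    (h2 : ∀ v ∈ V, v ^ 2 = 1) {a b : Q} (ha : a ∈ V) (hb : b ∈ V) (a1 : a ≠ 1) (b1 : b ≠ 1)
    (ab : a ≠ b) {x : Q} (hx : x ∈ V) : x = 1 ∨ x = a ∨ x = b ∨ x = a * b := by
  classical
  have ab1 : a * b ≠ 1 := fun e => ab (by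
    have := h2 b hb
    rw [sq] at this
    exact mul_right_cancel (e.trans this.symm))
  have aba : a * b ≠ a := fun e => b1 (by simpa using e)
  have abb : a * b ≠ b := fun e => a1 (by simpa using e)
  have hc : ({1, a, b, a * b} : Set Q).ncard = 4 := by
    rw [Set.ncard_insert_of_notMem (by simp [a1.symm, b1.symm, ab1.symm]),
      Set.ncard_insert_of_notMem (by simp [ab, aba.symm]),
      Set.ncard_insert_of_notMem (by simp [abb.symm]), Set.ncard_singleton]
  have hsub : ({1, a, b, a * b} : Set Q) ⊆ (V : Set Q) := by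
    rintro y (rfl | rfl | rfl | rfl)
    exacts [V.one_mem, ha, hb, V.mul_mem ha hb]
  have := Set.eq_of_subset_of_ncard_le hsub (by
    rw [hc, ← hV]; exact (Nat.card_coe_set_eq (V : Set Q)).symm.le)
  have hx' : x ∈ ({1, a, b, a * b} : Set Q) := this ▸ hx
  simpa using hx'

/-- The abstract configuration. -/
theorem core {Q : Type*} [Group Q] [Finite Q] (hQ : IsPGroup 2 Q) (hc : ∀ x y : Q, x * y = y * x)
    (α ρ : MulAut Q) (hα : ∀ x, α (α x) = x) (hcm : ∀ x, α (ρ x) = ρ (α x))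
    (V : Subgroup Q) (hV : ∀ x, x ∈ V ↔ α x = x) (h4 : Nat.card V = 4) (h2 : ∀ v ∈ V, v ^ 2 = 1)
    (hρ : ∀ v ∈ V, v ≠ 1 → ∀ w ∈ V, w = 1 ∨ w = v ∨ w = ρ v ∨ w = ρ (ρ v))
    {u : Q} (hu : u * u = 1) (huV : u ∉ V) :
    Nat.card Q = 16 ∧ ∀ x : Q, x ^ 2 = 1 := by
  let _ : CommGroup Q := { (inferInstance : Group Q) with mul_comm := hc }
  have hN : ∀ x : Q, x * α x ∈ V := fun x => by rw [hV, map_mul, hα, mul_comm]
  have hw : u * α u ≠ 1 := fun e => huV ((hV u).2 (mul_left_cancel (e.trans hu.symm)))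
  have hsurj : ∀ w ∈ V, ∃ y : Q, y * y = 1 ∧ y * α y = w := by
    intro w hw'
    rcases hρ _ (hN u) hw w hw' with rfl | rfl | rfl | rfl
    · exact ⟨1, by simp, by simp⟩
    · exact ⟨u, hu, rfl⟩
    · exact ⟨ρ u, by rw [← map_mul, hu, map_one], by rw [map_mul, hcm]⟩
    · exact ⟨ρ (ρ u), by rw [← map_mul, ← map_mul, hu, map_one, map_one],
        by rw [map_mul, map_mul, hcm, hcm]⟩
  have h4' : ∀ x : Q, x ^ 2 * x ^ 2 = 1 → x ^ 2 = 1 := by
    intro x hx
    have e1 : α (x ^ 2) = x ^ 2 := by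
      have := h2 _ (hN x)
      rw [mul_pow, ← map_pow] at this
      exact mul_left_cancel (this.trans hx.symm)
    have e2 : x⁻¹ * α x ∈ V := by
      rw [hV, map_mul, map_inv, hα]
      have : α x * α x = x * x := by rw [← map_mul, ← sq, e1]
      calc (α x)⁻¹ * x = (α x)⁻¹ * (x * x) * x⁻¹ := by group
        _ = (α x)⁻¹ * (α x * α x) * x⁻¹ := by rw [this]
        _ = x⁻¹ * α x := by rw [← mul_assoc, inv_mul_cancel, one_mul, mul_comm]
    obtain ⟨y, hy, hy'⟩ := hsurj _ e2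
    have e3 : x * y ∈ V := by
      rw [hV, map_mul]
      have hαy : α y * α y = 1 := by rw [← map_mul, hy, map_one]
      have : α x = x * (y * α y) := by rw [hy']; group
      rw [this, mul_assoc, mul_assoc, hαy, mul_one]
    have := h2 _ e3
    rw [mul_pow, sq y, hy, mul_one] at this
    exact this
  have hel : ∀ x : Q, x ^ 2 = 1 := by
    intro x
    obtain ⟨k, hk⟩ := hQ x
    induction k generalizing x with
    | zero => simp at hk; simp [hk]
    | succ k ih =>
      apply h4'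
      rw [← sq]
      apply ih
      rw [← pow_mul, ← pow_succ', hk]
  refine ⟨?_, hel⟩
  let f : Q →* Q := MonoidHom.id Q * α.toMonoidHom
  have hker : f.ker = V := by
    ext x
    rw [MonoidHom.mem_ker, hV]
    change x * α x = 1 ↔ _
    have := hel x
    rw [sq] at this
    constructor
    · intro e; exact mul_left_cancel (e.trans this.symm)
    · intro e; rw [e, this]
  have hran : f.range = V := by
    ext w
    constructor
    · rintro ⟨x, rfl⟩; exact hN x
    · intro hw'; obtain ⟨y, -, hy⟩ := hsurj w hw'; exact ⟨y, hy⟩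
  have := f.ker.card_mul_index
  rw [Subgroup.index_ker, hker, hran, h4] at this
  omega

/-- Let T be a 2-subgroup of a finite group G, V ≤ Z(T) a four-group, and t, ρ ∈ N_G(V) ∩ N_G(T) elements of order 2 and 3 with t commuting with ρ and with V. If [V, ρ] = V and C_T(t) = V, then T is elementary abelian of order 16, or homocyclic of rank 2 (ℤ/2ⁿ × ℤ/2ⁿ for some n ≥ 1), or isomorphic to a Sylow 2-subgroup of PSL₃(4) or of PSU₃(4). -/
theorem result {G : Type*} [Group G] [Finite G] (T V : Subgroup G) (hT : IsPGroup 2 ↥T) (hVT : V ≤ T ⊓ Subgroup.centralizer (T : Set G)) (hV : Nat.card ↥V = 4 ∧ ∀ v ∈ V, v ^ 2 = 1) (t ρ : G) (ht : orderOf t = 2) (hρ : orderOf ρ = 3) (htn : t ∈ Subgroup.normalizer (V : Set G) ⊓ Subgroup.normalizer (T : Set G)) (hρn : ρ ∈ Subgroup.normalizer (V : Set G) ⊓ Subgroup.normalizer (T : Set G)) (htρ : t * ρ = ρ * t) (htV : t ∈ Subgroup.centralizer (V : Set G)) (hVρ : ⁅V, Subgroup.zpowers ρ⁆ = V) (hCt : T ⊓ Subgroup.centralizer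 ({t} : Set G) = V) : (Nat.card ↥T = 16 ∧ ∀ x ∈ T, x ^ 2 = 1) ∨ (∃ n : ℕ, 1 ≤ n ∧ Nonempty (↥T ≃* Multiplicative (ZMod (2 ^ n)) × Multiplicative (ZMod (2 ^ n)))) ∨ (∃ (F : Type) (_ : Field F) (_ : Fintype F), Fintype.card F = 4 ∧ ∀ P : Sylow 2 (Matrix.ProjectiveSpecialLinearGroup (Fin 3) F), Nonempty (↥T ≃* ↥(P : Subgroup (Matrix.ProjectiveSpecialLinearGroup (Fin 3) F)))) ∨ (∃ (F : Type) (_ : Field F) (_ : Fintype F), Fintype.card F = 16 ∧ ∀ P : Sylow 2 (Cfsg.PSU 3 F 4), Nonempty (↥T ≃* ↥(P : Subgroup (Cfsg.PSU 3 F 4)))) := by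
  classical
  obtain ⟨h4, h2⟩ := hV
  have hVT' : V ≤ T := fun x hx => (hVT hx).1
  let α : MulAut T := T.normalizerMonoidHom ⟨t, htn.2⟩
  let r : MulAut T := T.normalizerMonoidHom ⟨ρ, hρn.2⟩
  have hαv : ∀ x : T, ((α x : T) : G) = t * x * t⁻¹ := fun x => rfl
  have hrv : ∀ x : T, ((r x : T) : G) = ρ * x * ρ⁻¹ := fun x => rfl
  have t2 : t * t = 1 := by rw [← sq, ← ht, pow_orderOf_eq_one]
  have r3 : ρ ^ 3 = 1 := by rw [← hρ, pow_orderOf_eq_one]
  have hαα : ∀ x, α (α x) = x := fun x => Subtype.ext (by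
    rw [hαv, hαv]
    calc t * (t * x * t⁻¹) * t⁻¹ = (t * t) * x * (t * t)⁻¹ := by group
      _ = x := by rw [t2]; simp)
  have hcm : ∀ x, α (r x) = r (α x) := fun x => Subtype.ext (by
    rw [hαv, hrv, hrv, hαv]
    calc t * (ρ * x * ρ⁻¹) * t⁻¹ = (t * ρ) * x * (t * ρ)⁻¹ := by group
      _ = (ρ * t) * x * (ρ * t)⁻¹ := by rw [htρ]
      _ = _ := by group)
  have hr3 : ∀ x, r (r (r x)) = x := fun x => Subtype.ext (by
    rw [hrv, hrv, hrv]
    calc ρ * (ρ * (ρ * x * ρ⁻¹) * ρ⁻¹) * ρ⁻¹ = ρ ^ 3 * x * (ρ ^ 3)⁻¹ := by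
          rw [pow_three']; group
      _ = x := by rw [r3]; simp)
  let C : Subgroup T := V.subgroupOf T
  have hC : ∀ x : T, x ∈ C ↔ α x = x := by
    intro x
    rw [mem_subgroupOf, ← hCt, mem_inf, mem_centralizer_singleton_iff, Subtype.ext_iff, hαv]
    constructor
    · rintro ⟨-, e⟩; rw [← e]; group
    · intro e; exact ⟨x.2, by rw [mul_inv_eq_iff_eq_mul] at e; exact e.symm⟩
  have hC4 : Nat.card C = 4 := by
    rw [← h4]; exact Nat.card_congr (subgroupOfEquivOfLe hVT').toEquiv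
  have hC2 : ∀ v ∈ C, v ^ 2 = 1 := fun v hv => Subtype.ext (by simpa using h2 _ hv)
  have hCc : ∀ v ∈ C, ∀ x : T, x * v = v * x := fun v hv x =>
    Subtype.ext ((mem_centralizer_iff.1 (hVT hv).2) x x.2)
  have hrC : ∀ v ∈ C, r v ∈ C := fun v hv => by
    rw [hC] at hv ⊢; rw [hcm, hv]
  -- `r` has no non-trivial fixed point on `C`
  have hfp : ∀ v ∈ C, v ≠ 1 → r v ≠ v := by
    intro a ha a1 hra
    have hall : ∀ w ∈ C, r w = w := by
      intro b hb
      by_cases b1 : b = 1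
      · simp [b1]
      by_cases ab : a = b
      · exact ab ▸ hra
      have aa : a * a = 1 := by rw [← sq]; exact hC2 a ha
      rcases four_cases C hC4 hC2 ha hb a1 b1 ab (hrC b hb) with e | e | e | e
      · exact absurd (by simpa using e) b1
      · exact absurd (r.injective (e.trans hra.symm)).symm ab
      · exact e
      · have := hr3 b
        rw [e, map_mul, hra, e, ← mul_assoc, aa, one_mul, e] at this
        exact absurd (by simpa using this) a1
    have : ⁅V, zpowers ρ⁆ = ⊥ := by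
      rw [commutator_eq_bot_iff_le_centralizer]
      intro v hv
      rw [mem_centralizer_iff]
      rintro _ ⟨k, rfl⟩
      have e := congrArg Subtype.val (hall ⟨v, hVT' hv⟩ hv)
      rw [hrv] at e
      have : Commute ρ v := by
        rw [mul_inv_eq_iff_eq_mul] at e; exact e
      exact (this.zpow_left k).eq
    rw [hVρ] at this
    rw [this, card_bot] at h4
    omega
  have hrr : ∀ v ∈ C, v ≠ 1 → r (r v) = v * r v := by
    intro v hv v1
    have n1 := hfp v hv v1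
    have r1 : r v ≠ 1 := by simpa using v1
    rcases four_cases C hC4 hC2 hv (hrC v hv) v1 r1 n1.symm (hrC _ (hrC v hv)) with e | e | e | e
    · exact absurd (by simpa using e) v1
    · have := hr3 v
      rw [e] at this
      exact absurd this n1
    · exact absurd e (hfp _ (hrC v hv) r1)
    · exact e
  have hρ4 : ∀ v ∈ C, v ≠ 1 → ∀ w ∈ C, w = 1 ∨ w = v ∨ w = r v ∨ w = r (r v) := by
    intro v hv v1 w hw
    rw [hrr v hv v1]
    exact four_cases C hC4 hC2 hv (hrC v hv) v1 (by simpa using v1) (hfp v hv v1).symm hw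
  obtain ⟨a, ha, a1⟩ : ∃ a ∈ C, a ≠ 1 := by
    have : Nontrivial C := Finite.one_lt_card_iff_nontrivial.1 (by omega)
    exact (nontrivial_iff_exists_ne_one C).1 this
  by_cases hc : ∀ x y : T, x * y = y * x
  · by_cases hu : ∃ u : T, u * u = 1 ∧ u ∉ C
    · obtain ⟨u, hu, huC⟩ := hu
      obtain ⟨k1, k2⟩ := core hT hc α r hαα hcm C hC hC4 hC2 hρ4 hu huC
      exact Or.inl ⟨k1, fun x hx => by simpa using congrArg Subtype.val (k2 ⟨x, hx⟩)⟩
    · push Not at hu
      have h3 : CL.Three.V3 a (r a) := ⟨hT, a1, by simpa using a1, (hfp a ha a1).symm,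
        by rw [← sq]; exact hC2 a ha, by rw [← sq]; exact hC2 _ (hrC a ha), hCc a ha,
        hCc _ (hrC a ha), fun x hx => four_cases C hC4 hC2 ha (hrC a ha) a1 (by simpa using a1)
          (hfp a ha a1).symm (hu x hx)⟩
      obtain ⟨n, hn, ⟨e⟩⟩ := h3.homocyclic hc r rfl (hrr a ha a1)
      exact Or.inr (Or.inl ⟨n, hn, ⟨e.trans (MulEquiv.prodMultiplicative _ _)⟩⟩)
  · have hna : ¬ IsMulCommutative T := fun h => hc fun x y => h.is_comm.comm x y
    have hα2 : orderOf α = 2 := by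
      refine orderOf_eq_prime (by ext x; rw [sq, MulAut.mul_apply, hαα]; rfl) fun e => hc ?_
      intro x y
      exact hCc y ((hC y).2 (by rw [e]; rfl)) x
    have hr3' : orderOf r = 2 ^ 2 - 1 := by
      have : Fact (Nat.Prime 3) := ⟨by norm_num⟩
      refine orderOf_eq_prime (p := 3) (by
        ext x; rw [pow_three', MulAut.mul_apply, MulAut.mul_apply, hr3]; rfl) fun e => ?_
      exact hfp a ha a1 (by rw [e]; rfl)
    have := Cfsg.Agent.S3161.result hT hna 2 le_rfl α r hα2 hr3' (by ext x; simp [hcm]) C hC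
      ⟨⟨⟨⟨fun x y => Subtype.ext (hCc _ y.2 _)⟩⟩, hC2⟩, hC4⟩ (by
        intro x y hx hy x1 y1
        rcases hρ4 x hx x1 y hy with e | e | e | e
        · exact absurd e y1
        · exact ⟨0, e.symm⟩
        · exact ⟨1, by rw [pow_one, e]⟩
        · exact ⟨2, by rw [sq, MulAut.mul_apply, e]⟩)
    rcases this with ⟨F, i1, i2, hF, S, ⟨e⟩⟩ | ⟨F, i1, i2, hF, S, ⟨e⟩⟩
    · refine Or.inr (Or.inr (Or.inr ⟨F, i1, i2, hF, fun P => ?_⟩))
      exact ⟨e.trans (Sylow.equiv S P)⟩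
    · refine Or.inr (Or.inr (Or.inl ⟨F, i1, i2, hF, fun P => ?_⟩))
      exact ⟨e.trans (Sylow.equiv S P)⟩

end Cfsg.Agent.S2933
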