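import Cfsg.Statements.S2934
import Cfsg.Agent.SOLV.CoprimeAut
import Cfsg.Agent.FUS.QuadCent
import Cfsg.Agent.INV.Rk1Solv
import Cfsg.Agent.PLOC.Critical
import Cfsg.Agent.PLOC.Symplectic
import Cfsg.Agent.PLOC.ESClass
import Cfsg.Agent.FUS.EssSmall
import Cfsg.Agent.ODD.BG4.Basic
import Cfsg.Agent.INV.JR.Loc

set_option autoImplicit false
open Cfsg

namespace Cfsg.Agent.S2934

section
open Subgroup CL
open scoped commutatorElement

variable {W : Type*} [Group W] [Finite W] {p : ℕ} [hp : Fact p.Prime] {E : Subgroup (MulAut W)}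

structure Hyp (p : ℕ) (E : Subgroup (MulAut W)) : Prop where
  hW : IsPGroup 2 W
  hp : p ≠ 2
  hE : IsPGroup p E
  hab : IsMulCommutative E
  hnc : ¬ IsCyclic E
  hfix : ∀ e ∈ E, e ≠ 1 → ∀ x y : W, orderOf x = 2 → orderOf y = 2 → e x = x → e y = y → x = y

theorem Hyp.cop (h : Hyp p E) (K : Subgroup W) : (Nat.card E).Coprime (Nat.card K) :=
  IsPGroup.coprime_card_of_ne p 2 h.hp E K h.hE (h.hW.to_subgroup K)

theorem Hyp.loc (h : Hyp p E) {B : Subgroup W} (hi : ∀ b ∈ E, ∀ x ∈ B, b • x ∈ B) {e : MulAut W}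
    (he : e ∈ E) (h1 : e ≠ 1) (hB : B ≤ actFix W (zpowers e)) :
    B ≤ actFix W E ∨ p = 3 ∧ Nat.card B = 8 ∧ ¬ IsMulCommutative B ∧
      ∃ K ≤ E, K.relIndex E = 3 ∧ B ≤ actFix W K := by
  let ρ := QuadCent.resHom E.subtype B fun g => hi g g.2
  have h2 : IsPGroup p ρ.range := h.hE.of_surjective _ ρ.rangeRestrict_surjective
  have h3 : ρ.range = ⊥ → B ≤ actFix W E := fun h3 x hx b hb =>
    congrArg Subtype.val (DFunLike.congr_fun (mem_bot.1 (h3.le ⟨⟨b, hb⟩, rfl⟩)) (⟨x, hx⟩ : B))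
  have h4 : IsPGroup 2 (MulAut B) → B ≤ actFix W E := fun h4 => h3 (card_eq_one.1
    ((Nat.coprime_self _).1 (IsPGroup.coprime_card_of_ne p 2 h.hp _ _ h2 (h4.to_subgroup _))))
  obtain h5 | ⟨-, n, ⟨f⟩⟩ := PCyc.isCyclic_or_quaternion (h.hW.to_subgroup B)
    fun x y hx hy _ => (Subtype.ext (h.hfix e he h1 x y (by rwa [orderOf_coe])
      (by rwa [orderOf_coe]) (mem_actFix_zpowers.1 (hB x.2)) (mem_actFix_zpowers.1 (hB y.2))) :
        x = y) ▸ mem_zpowers x
  · exact Or.inl (h4 (OddAut.isPGroup_mulAut_of_isCyclic (h.hW.to_subgroup B)))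
  rcases n with _ | n
  · obtain ⟨k, hk⟩ := h2.exists_card_eq
    have h6 := card_subgroup_dvd_card ρ.range
    rw [hk, (Nat.card_congr (MulAut.congr f).toEquiv).trans Rk1.card_aut] at h6
    rcases k with _ | k
    · exact Or.inl (h3 (card_eq_one.1 hk))
    obtain rfl : p = 3 := by
      have h7 : p ∣ 2 ^ 3 * 3 := (dvd_pow_self p k.succ_ne_zero).trans h6
      rcases (Nat.Prime.dvd_mul hp.out).1 h7 with h8 | h8
      · exact absurd ((Nat.prime_dvd_prime_iff_eq hp.out Nat.prime_two).1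
          (hp.out.dvd_of_dvd_pow h8)) h.hp
      · exact (Nat.prime_dvd_prime_iff_eq hp.out Nat.prime_three).1 h8
    obtain rfl : k = 0 := by
      by_contra h7
      exact absurd ((pow_dvd_pow 3 (show 2 ≤ k + 1 by omega)).trans h6) (by decide)
    refine Or.inr ⟨rfl, (Nat.card_congr f.toEquiv).trans (by
      rw [Nat.card_eq_fintype_card]; rfl), fun h7 => ?_, ρ.ker.map E.subtype, map_subtype_le _,
      ?_, ?_⟩
    · have := congrArg f (h7.is_comm.comm (f.symm (.a 1)) (f.symm (.xa 0)))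
      simp only [map_mul, MulEquiv.apply_symm_apply] at this
      exact absurd this (by decide)
    · rw [relIndex, subgroupOf, comap_map_eq_self_of_injective E.subtype_injective, index_ker, hk]
      rfl
    · rintro x hx _ ⟨b, hb, rfl⟩
      exact congrArg Subtype.val (DFunLike.congr_fun hb ⟨x, hx⟩)
  · exact Or.inl (h4 ((Zass.isPGroup_mulAut_quaternion (by omega)).of_equiv
      (MulAut.congr f).symm))

theorem Hyp.inv (h : Hyp p E) {e : MulAut W} (he : e ∈ E) :
    ∀ b ∈ E, ∀ x ∈ actFix W (zpowers e), b • x ∈ actFix W (zpowers e) := fun b hb x hx => by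
  rw [mem_actFix_zpowers] at hx ⊢
  rw [← mul_smul, show e * b = b * e from
    congrArg Subtype.val (h.hab.is_comm.comm ⟨e, he⟩ ⟨b, hb⟩), mul_smul, hx]

theorem Hyp.ab_le (h : Hyp p E) {B : Subgroup W} (hi : ∀ b ∈ E, ∀ x ∈ B, b • x ∈ B)
    (hc : B ≤ centralizer B) : B ≤ actFix W E :=
  have := h.hab
  act_le_of_forall_fixed_le E B _ h.hnc hi (h.cop B) fun e he h1 =>
    (h.loc (fun b hb x hx => mem_inf.2 ⟨hi b hb x hx.1, h.inv he b hb x hx.2⟩) he h1
      inf_le_right).resolve_right fun h2 => h2.2.2.1 (le_centralizer_iff_isMulCommutative.1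
        (inf_le_left.trans (hc.trans (centralizer_le inf_le_left))))

theorem Hyp.big (h : Hyp p E) : ∃ e ∈ E, e ≠ 1 ∧ ¬ actFix W (zpowers e) ≤ actFix W E := by
  by_contra! h1
  have := h.hab
  have h2 := act_le_of_forall_fixed_le E ⊤ _ h.hnc (fun _ _ _ _ => mem_top _) (h.cop ⊤)
    fun e he h2 => inf_le_right.trans (h1 e he h2)
  refine h.hnc ?_
  rw [show E = ⊥ from eq_bot_iff.2 fun e he => MulEquiv.ext fun x => h2 (mem_top x) e he]
  infer_instance

theorem Hyp.fix (h : Hyp p E) : Nat.card (center W) = 2 ∧ actFix W E = center W := by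
  obtain ⟨e, he, h1, h2⟩ := h.big
  obtain ⟨-, h3, -⟩ := (h.loc (h.inv he) he h1 le_rfl).resolve_left h2
  have h4 : actFix W E ≤ actFix W (zpowers e) := actFix_anti (zpowers_le.2 he)
  have h5 : center W ≤ actFix W E := h.ab_le (fun b _ => smul_mem_of_characteristic _ b)
    (center_le_centralizer _)
  have h6 := card_mul_index ((actFix W E).subgroupOf (actFix W (zpowers e)))
  rw [h3, Nat.card_congr (subgroupOfEquivOfLe h4).toEquiv] at h6
  have h7 : ((actFix W E).subgroupOf (actFix W (zpowers e))).index ≠ 1 := fun e =>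
    h2 (subgroupOf_eq_top.1 (index_eq_one.1 e))
  have h8 : ((actFix W E).subgroupOf (actFix W (zpowers e))).index ≠ 2 := fun i =>
    h2 (act_le_actFix_of_trivial_on_factors E _ _ (h.cop _) le_rfl (actComm_le.2 fun b hb x hx =>
      (mul_mem_iff_of_index_two i (a := ⟨x, hx⟩⁻¹) (b := ⟨_, h.inv he b hb x hx⟩)).2
        ⟨fun h9 => by
          have h10 : x ∈ actFix W E := inv_mem_iff.1 h9
          change b • x ∈ actFix W E
          rwa [h10 b hb],
        fun h9 => by
          have h10 := (show b • x ∈ actFix W E from h9) _ (inv_mem hb)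
          rw [inv_smul_smul] at h10
          exact inv_mem (show x ∈ actFix W E from h10 ▸ h9)⟩))
  have : Nontrivial W := by
    by_contra h9
    rw [not_nontrivial_iff_subsingleton] at h9
    exact h1 (MulEquiv.ext fun _ => Subsingleton.elim _ _)
  have := h.hW.center_nontrivial
  have h9 : 1 < Nat.card (center W) := Finite.one_lt_card
  have h10 := card_le_of_le h5
  have h11 : Nat.card (actFix W E) ≤ 2 := by
    generalize ((actFix W E).subgroupOf (actFix W (zpowers e))).index = i at *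
    by_contra h11
    rcases (show i = 0 ∨ 3 ≤ i by omega) with rfl | h12
    · omega
    · nlinarith
  exact ⟨by omega, (eq_of_le_of_card_ge h5 (by omega)).symm⟩

theorem Hyp.nine (h : Hyp p E) : p = 3 ∧ Nat.card E = 9 ∧ ∀ b ∈ E, b ^ 3 = 1 := by
  have := h.hab
  have h0 : ∀ b ∈ E, b ^ 3 = 1 := fun b hb => MulEquiv.ext fun x => mem_actFix_zpowers.1
    (act_le_of_forall_fixed_le E ⊤ (actFix W (zpowers (b ^ 3))) h.hnc (fun _ _ _ _ => mem_top _)
      (h.cop ⊤) (fun e he h1 => inf_le_right.trans ?_) (mem_top x))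
  · obtain ⟨e, he, h1, h2⟩ := h.big
    obtain ⟨rfl, h3, -, K, h4, h5, h6⟩ := (h.loc (h.inv he) he h1 le_rfl).resolve_left h2
    have h7 : IsCyclic K := by
      by_contra h7
      have h8 : Hyp 3 K := ⟨h.hW, h.hp, h.hE.to_le h4, le_centralizer_iff_isMulCommutative.1
        (h4.trans ((le_centralizer E).trans (centralizer_le h4))), h7,
          fun e he => h.hfix e (h4 he)⟩
      have := card_le_of_le h6
      rw [h8.fix.2, h8.fix.1, h3] at this
      omega
    have h8 : Nat.card K ∣ 3 := IsCyclic.exponent_eq_card (α := K) ▸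
      Monoid.exponent_dvd_of_forall_pow_eq_one fun g => Subtype.ext (h0 g (h4 g.2))
    have h9 := card_mul_index (K.subgroupOf E)
    rw [Nat.card_congr (subgroupOfEquivOfLe h4).toEquiv, ← relIndex, h5] at h9
    rcases (Nat.dvd_prime Nat.prime_three).1 h8 with h10 | h10 <;> rw [h10] at h9
    · exact absurd (isCyclic_of_prime_card h9.symm) h.hnc
    · exact ⟨rfl, h9.symm, h0⟩
  · rcases h.loc (h.inv he) he h1 le_rfl with h2 | ⟨-, -, -, K, h2, h3, h4⟩
    · exact h2.trans (actFix_anti (zpowers_le.2 (pow_mem hb 3)))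
    · refine h4.trans (actFix_anti (zpowers_le.2 ?_))
      have := (K.subgroupOf E).pow_index_mem ⟨b, hb⟩
      rwa [← relIndex, h3] at this

theorem Hyp.es (h : Hyp p E) : IsExtraspecial 2 W := by
  obtain ⟨h1, h2⟩ := h.fix
  obtain ⟨H, hH⟩ := PG.exists_isCritical h.hW
  have := hH.characteristic
  have := isCyclic_of_prime_card h1
  obtain ⟨z, hz⟩ := IsCyclic.exists_generator (α := center W)
  have h3 : zpowers (z : W) = center W := le_antisymm (zpowers_le.2 z.2) fun x hx => by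
    obtain ⟨k, hk⟩ := hz ⟨x, hx⟩
    exact ⟨k, congrArg Subtype.val hk⟩
  have h4 : orderOf (z : W) = 2 := by rw [← Nat.card_zpowers, h3, h1]
  have h5 : H ⊓ centralizer H = zpowers (z : W) := (le_antisymm ((h.ab_le (B := H ⊓ centralizer H)
    (fun b _ x hx => mem_inf.2 ⟨smul_mem_of_characteristic _ b x hx.1,
      smul_mem_of_characteristic _ b x hx.2⟩) (inf_le_right.trans (centralizer_le inf_le_left))).trans
        h2.le) (le_inf ((center_le_centralizer _).trans hH.centralizer_le)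
          (center_le_centralizer _))).trans h3.symm
  have h6 : (z : W) ∈ H := (h5.ge (mem_zpowers _)).1
  have h7 : ∀ g x, x ∈ H → ⁅g, x⁆ ∈ zpowers (z : W) := fun g x hx => h5 ▸ hH.commutator_le
    (commutator_comm H ⊤ ▸ commutator_mem_commutator (mem_top g) hx)
  have h8 : ∀ x ∈ H, x ^ 2 ∈ zpowers (z : W) := fun x hx => h5 ▸ ⟨pow_mem hx 2, hH.pow_mem x hx⟩
  refine EssSm.isExtraspecial_congr ((MulEquiv.subgroupCongr (eq_top_iff.2 fun g _ => ?_)).trans
    topEquiv) (ES.isExtraspecial_of_not_comm h6 h4 (fun x _ => h7 x) h8 h5 fun e => ?_)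
  · obtain ⟨f, hf, c, hc, rfl⟩ := ES.exists_mul_centralizer h6 h4 z.2 h7 h8 h5 g
    exact mul_mem hf (hH.centralizer_le hc)
  · obtain ⟨b, hb, h9, -⟩ := h.big
    obtain ⟨k, hk⟩ := h.hE ⟨b, hb⟩
    refine h9 (hH.aut_eq_one h.hW b (Nat.Coprime.coprime_dvd_left (orderOf_dvd_of_pow_eq_one
      (congrArg Subtype.val hk)) (((Nat.coprime_primes hp.out Nat.prime_two).2 h.hp).pow_left k))
        fun x hx => ?_)
    exact (h2.ge (h3.le (e.le hx))) b hb

theorem card_sup_le {G : Type*} [Group G] [Finite G] {Z H K : Subgroup G} [K.Normal] (h1 : Z ≤ H)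
    (h2 : Z ≤ K) : Nat.card (H ⊔ K : Subgroup G) * Nat.card Z ≤ Nat.card H * Nat.card K := by
  have h3 := card_mul_index (K.subgroupOf (H ⊔ K))
  have h4 := card_mul_index (K.subgroupOf H)
  rw [← relIndex, relIndex_sup_right, Nat.card_congr (subgroupOfEquivOfLe le_sup_right).toEquiv]
    at h3
  rw [← relIndex, ← inf_subgroupOf_right, Nat.card_congr (subgroupOfEquivOfLe inf_le_right).toEquiv]
    at h4
  rw [← h3, ← h4]
  have := card_le_of_le (le_inf h2 h1)
  nlinarith [Nat.mul_le_mul_left (Nat.card K * K.relIndex H) this]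

theorem Hyp.card_le (h : Hyp p E) : Nat.card W ≤ 512 := by
  obtain ⟨h1, h2⟩ := h.fix
  obtain ⟨-, h3, h4⟩ := h.nine
  obtain ⟨a, ha, h5, -⟩ := h.big
  have := h.hab
  have hc : ∀ x ∈ E, ∀ y ∈ E, Commute x y := fun x hx y hy =>
    congrArg Subtype.val (h.hab.is_comm.comm ⟨x, hx⟩ ⟨y, hy⟩)
  have h6 : orderOf a = 3 := orderOf_eq_prime (h4 a ha) h5
  obtain ⟨b, hb, h7⟩ := SetLike.exists_of_lt (lt_of_le_of_ne (zpowers_le.2 ha) fun e => by
    rw [← e, Nat.card_zpowers, h6] at h3; omega)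
  have h8 : b ≠ 1 := fun e => h7 (e ▸ one_mem _)
  have h9 : zpowers a ⊔ zpowers b = E := eq_of_le_of_card_ge (sup_le (zpowers_le.2 ha)
    (zpowers_le.2 hb)) (by
      rw [JR.card_sup_zpowers Nat.prime_three (hc a ha b hb) h6 (orderOf_eq_prime (h4 b hb) h8) h7,
        h3])
  have hZ : ∀ e ∈ E, center W ≤ actFix W (zpowers e) := fun e he =>
    h2.ge.trans (actFix_anti (zpowers_le.2 he))
  have hN : ∀ e ∈ E, (actFix W (zpowers e)).Normal := fun e he =>
    Normal.of_commutator_le _ (h.es.1.2.2.le.trans (hZ e he))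
  have h10 : ∀ e ∈ E, e ≠ 1 → Nat.card (actFix W (zpowers e)) ≤ 8 := fun e he h10 => by
    rcases h.loc (h.inv he) he h10 le_rfl with h11 | h11
    · exact (card_le_of_le h11).trans (by rw [h2, h1]; omega)
    · exact h11.2.1.le
  have h11 : a * b ≠ 1 := fun e => h7 (eq_inv_of_mul_eq_one_right e ▸ inv_mem (mem_zpowers a))
  have h12 : a * b ^ 2 ≠ 1 := fun e => h7 (by
    rw [← mul_right_cancel (e.trans ((h4 b hb).symm.trans (pow_succ' b 2)))]
    exact mem_zpowers a)
  have h13 := mul_mem ha hb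
  have h14 := mul_mem ha (pow_mem hb 2)
  have h15 : ⊤ ≤ actFix W (zpowers a) ⊔ actFix W (zpowers b) ⊔ actFix W (zpowers (a * b)) ⊔
      actFix W (zpowers (a * b ^ 2)) := act_le_of_forall_fixed_le E ⊤ _ h.hnc
    (fun _ _ _ _ => mem_top _) (h.cop ⊤) fun e he h15 => inf_le_right.trans (by
      obtain ⟨i, j, rfl⟩ := PCyc.exists_eq_zpow_mul_pow (mem_normalizer_fintype (by
        rintro _ ⟨k, rfl⟩
        rw [((hc b hb a ha).zpow_right k).eq, mul_inv_cancel_right]
        exact zpow_mem_zpowers a k)) (h9.ge he)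
      have h16 : ∀ x : MulAut W, actFix W (zpowers x) ≤ actFix W (zpowers (x ^ 2)) := fun x =>
        actFix_anti (zpowers_le.2 (npow_mem_zpowers x 2))
      have h17 : (a ^ 2) ^ 2 = a := by rw [← pow_mul, pow_succ, h4 a ha, one_mul]
      have h18 : (b ^ 2) ^ 2 = b := by rw [← pow_mul, pow_succ, h4 b hb, one_mul]
      rw [← zpow_mod_orderOf, h6, ← pow_mod_orderOf, orderOf_eq_prime (h4 b hb) h8] at h15 ⊢
      rcases (show i % (3 : ℕ) = (0 : ℕ) ∨ i % (3 : ℕ) = (1 : ℕ) ∨ i % (3 : ℕ) = (2 : ℕ) by omega)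
        with e | e | e <;> rcases (show j % 3 = 0 ∨ j % 3 = 1 ∨ j % 3 = 2 by omega)
          with e' | e' | e' <;> rw [e, e', zpow_natCast] at h15 ⊢ <;>
        try simp only [pow_zero, pow_one, one_mul, mul_one] at h15 ⊢
      · exact absurd rfl h15
      · exact le_sup_of_le_left (le_sup_of_le_left le_sup_right)
      · exact le_sup_of_le_left (le_sup_of_le_left (le_sup_of_le_right ((h16 _).trans (by
          rw [h18]))))
      · exact le_sup_of_le_left (le_sup_of_le_left le_sup_left)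
      · exact le_sup_of_le_left le_sup_right
      · exact le_sup_right
      · exact le_sup_of_le_left (le_sup_of_le_left (le_sup_of_le_left ((h16 _).trans (by
          rw [h17]))))
      · exact le_sup_of_le_right ((h16 _).trans (by
          rw [(hc _ (pow_mem ha 2) _ hb).mul_pow, h17]))
      · exact le_sup_of_le_left (le_sup_of_le_right ((h16 _).trans (by
          rw [(hc _ (pow_mem ha 2) _ (pow_mem hb 2)).mul_pow, h17, h18]))))
  have := hN b hb
  have := hN _ h13
  have := hN _ h14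
  have h16 := card_sup_le (hZ a ha) (hZ b hb)
  have h17 := card_sup_le (le_sup_of_le_left (hZ a ha) (b := actFix W (zpowers b))) (hZ _ h13)
  have h18 := card_sup_le (le_sup_of_le_right (hZ _ h13)
    (a := actFix W (zpowers a) ⊔ actFix W (zpowers b))) (hZ _ h14)
  rw [eq_top_iff.2 h15, card_top] at h18
  rw [h1] at h16 h17 h18
  have h19 := Nat.mul_le_mul (h10 a ha h5) (h10 b hb h8)
  have h20 := Nat.mul_le_mul (show Nat.card (actFix W (zpowers a) ⊔ actFix W (zpowers b) :
    Subgroup W) ≤ 32 by omega) (h10 _ h13 h11)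
  have h21 := Nat.mul_le_mul (show Nat.card (actFix W (zpowers a) ⊔ actFix W (zpowers b) ⊔
    actFix W (zpowers (a * b)) : Subgroup W) ≤ 128 by omega) (h10 _ h14 h12)
  omega

end

/-- Let p be an odd prime, W a finite 2-group and E a non-cyclic abelian p-subgroup of Aut(W) such that, for every nontrivial e ∈ E, the fixed points of e in W contain at most one involution. Then E has order 9, W is extraspecial of order 2⁵, 2⁷ or 2⁹, and the common fixed points of E in W form exactly the centre Z(W). -/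
theorem result {W : Type*} [Group W] [Finite W] (hW : IsPGroup 2 W) {p : ℕ} [Fact p.Prime] (hp : p ≠ 2) (E : Subgroup (MulAut W)) (hE : IsPGroup p ↥E) (hab : IsMulCommutative ↥E) (hnc : ¬ IsCyclic ↥E) (hfix : ∀ e ∈ E, e ≠ 1 → ∀ x y : W, orderOf x = 2 → orderOf y = 2 → e x = x → e y = y → x = y) : Nat.card ↥E = 9 ∧ Cfsg.IsExtraspecial 2 W ∧ (Nat.card W = 2 ^ 5 ∨ Nat.card W = 2 ^ 7 ∨ Nat.card W = 2 ^ 9) ∧ {x : W | ∀ e ∈ E, e x = x} = (Subgroup.center W : Set W) := by
  open Subgroup CL in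
  have h : Hyp p E := ⟨hW, hp, hE, hab, hnc, hfix⟩
  refine ⟨h.nine.2.1, h.es, ?_, congrArg SetLike.coe h.fix.2⟩
  obtain ⟨n, h1, h2⟩ := ES.exists_card_eq_of_isExtraspecial h.es
  have h3 := h.card_le
  obtain ⟨e, he, h4, h5⟩ := h.big
  obtain ⟨-, h6, -⟩ := (h.loc (h.inv he) he h4 le_rfl).resolve_left h5
  have h7 : n ≠ 1 := by
    rintro rfl
    have h7 := (card_eq_iff_eq_top _).1 (h6.trans h2.symm)
    exact h4 (MulEquiv.ext fun x => mem_actFix_zpowers.1 (h7.ge (mem_top x)))
  have h8 : 2 * n + 1 ≤ 9 := (Nat.pow_le_pow_iff_right one_lt_two).1 (h2 ▸ h3)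
  rw [h2]
  rcases (show n = 2 ∨ n = 3 ∨ n = 4 by omega) with rfl | rfl | rfl <;> simp

end Cfsg.Agent.S2934
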