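import Cfsg.Statements.S2937
import Cfsg.Agent.CHEV.PMinExc
import Cfsg.Agent.SIG.FStar
import Cfsg.Agent.S1074
-- import your own Cfsg.Agent.* helpers here

set_option autoImplicit false
open Cfsg CL.Chev

namespace Cfsg.Agent.S2937

/-- Let X be a finite p-minimal group whose generalized Fitting subgroup K = F*(X) is a simple group of Lie type in characteristic p, and let U be a Sylow p-subgroup of K. Then N_X(U) is a maximal subgroup of X, and either K has Lie rank one (K ≅ PSL₂(pᵉ), PSU₃(pᵉ), a Suzuki group for p = 2, or a Ree group or PSL₂(8) for p = 3), or p = 2, K ≠ X and K is isomorphic to PSL₃(2ᵉ) or to PSp₄(2ᵉ) (e ≥ 2) or to the alternating group of degree 6. -/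
theorem result {X : Type*} [Group X] [Finite X] {p : ℕ} [Fact p.Prime] (hX : Cfsg.IsPMinimal p X) (hK : Cfsg.IsChevSimple p ↥(Cfsg.generalizedFittingSubgroup X)) (U : Sylow p ↥(Cfsg.generalizedFittingSubgroup X)) : IsCoatom (Subgroup.normalizer (((U : Subgroup ↥(Cfsg.generalizedFittingSubgroup X)).map (Cfsg.generalizedFittingSubgroup X).subtype : Subgroup X) : Set X)) ∧ (Cfsg.IsLieRankOneChar p ↥(Cfsg.generalizedFittingSubgroup X) ∨ (p = 2 ∧ Cfsg.generalizedFittingSubgroup X ≠ ⊤ ∧ ((∃ (F : Type) (_ : Field F) (_ : Fintype F) (_ : CharP F 2), Nonempty (↥(Cfsg.generalizedFittingSubgroup X) ≃* Matrix.ProjectiveSpecialLinearGroup (Fin 3) F)) ∨ (∃ (F : Type) (_ : Field F) (_ : Fintype F) (_ : CharP F 2), 4 ≤ Fintype.card F ∧ Nonempty (↥(Cfsg.generalizedFittingSubgroup X) ≃* Cfsg.PSp 2 F)) ∨ Nonempty (↥(Cfsg.generalizedFittingSubgroup X) ≃* ↥(alternatingGroup (Fin 6)))))) := by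
  have := CL.Comp.fstar_normal (G := X)
  generalize generalizedFittingSubgroup X = K at *
  have key : ∀ [IsSimpleGroup K] {n}, Nat.card K = n → p ∣ n → ¬ n.Prime → _ := fun h1 h2 h3 => exists_pMin hX U
    (fun Z hZ h => hZ.eq_bot_or_eq_top.resolve_left fun e => U.ne_bot_of_dvd_card (h1 ▸ h2) (le_bot_iff.1 (e ▸ h)))
    fun e => not_subsingleton_iff_nontrivial.2 ((e ▸ U.isPGroup').of_equiv Subgroup.topEquiv).center_nontrivial
      (CL.Small.center_eq_bot (CL.Small.not_comm_of_not_prime (h1 ▸ h3)) ▸ inferInstance)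
  rcases hK with h | ⟨rfl, ⟨⟨e⟩⟩ | ⟨F, _, _, hF, ⟨e⟩⟩ | ⟨⟨e⟩⟩⟩ | ⟨rfl, F, i1, i2, hF, ⟨e⟩⟩
  · refine lieType_elim h fun T j hj _ => ?_
    obtain ⟨j, hj, e⟩ := hj.exists_sylow U
    obtain ⟨A, Y, hP, h1, h2⟩ := exists_pMin hX U (fun Z _ h => top_le_iff.1 (hj.normalClosure_U.ge.trans
      (Subgroup.normalClosure_le_normal (e.le.trans h)))) fun h => by
        obtain ⟨y, -, hy⟩ := hj.exists_mem_P_not_mem (T.c (Classical.arbitrary _))
        exact hy (StData.B_le_P _ _ (StData.U_le_B _ ((e.trans h).ge trivial)))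
    exact ⟨h1 (by simpa [e] using (hj.pMin (e ▸ hP)).1),
      (pMin_lieType h hP).imp_right fun ⟨h3, h4, h5⟩ => ⟨h3, fun h => h4 (h2 h), h5.imp_right .inl⟩⟩
  · obtain ⟨_, h⟩ := facts_A6 e
    obtain ⟨A, Y, hP, h1, h2⟩ := key h (by decide) (by norm_num)
    exact ⟨h1 (PMinA6.pMin e hP).1, .inr ⟨rfl, fun h => (PMinA6.pMin e hP).2 (h2 h), .inr (.inr ⟨e⟩)⟩⟩
  · obtain ⟨_, h, -⟩ := facts_U33 hF e
    obtain ⟨A, Y, hP, -⟩ := key h (by decide) (by norm_num)
    obtain ⟨φ, M, -⟩ := CL.U33.exists_model_SU (F := F) hF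
    obtain ⟨f⟩ := CL.U33.nonempty_equiv (F := F) hF
    exact (PMinU33.not_pMin (PMinU33.model_comp M (e.trans f.symm)) h hP).elim
  · have : IsSimpleGroup K := @MulEquiv.isSimpleGroup _ _ _ _ S1074.result.2.1 e
    obtain ⟨A, Y, hP, -⟩ := key ((Nat.card_congr e.toEquiv).trans S1074.result.2.2.2) (by decide) (by norm_num)
    exact (Tits.not_pMin e hP).elim
  · obtain ⟨_, h⟩ := facts_L28 hF e
    obtain ⟨A, Y, hP, h1, -⟩ := key h (by decide) (by norm_num)
    exact ⟨h1 (pMin_L28 hF e hP), .inl (.inr (.inr (.inr ⟨rfl, .inr ⟨F, i1, i2, hF, ⟨e⟩⟩⟩)))⟩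

end Cfsg.Agent.S2937
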