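import Cfsg.Statements.S2962
import Mathlib
import Cfsg.Agent.INV.ZStarElt
import Cfsg.Agent.SOLV.OddOrderCor
import Cfsg.Agent.SIG.PBase

set_option autoImplicit false
open Cfsg

namespace Cfsg.Agent.S2962

open Subgroup
open scoped commutatorElement

/-- Let G be a finite group with G = QN, where N is a normal subgroup of G and Q is a non-abelian 2-subgroup with Q ∩ N = 1. Suppose that some nontrivial element t of Z(Q) ∩ [Q, Q] satisfies C_N(Q) = C_N(t). Then [N, Q] is solvable of odd order. -/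
theorem result {G : Type*} [Group G] [Finite G] (N Q : Subgroup G) [N.Normal] (hG : Q ⊔ N = ⊤) (hQ : IsPGroup 2 ↥Q) (hQna : ¬ IsMulCommutative ↥Q) (hdisj : Q ⊓ N = ⊥) (t : G) (ht1 : t ≠ 1) (htZ : t ∈ Q ⊓ Subgroup.centralizer (Q : Set G)) (htQ : t ∈ ⁅Q, Q⁆) (hC : N ⊓ Subgroup.centralizer (Q : Set G) = N ⊓ Subgroup.centralizer ({t} : Set G)) : Group.IsSolvable ↥⁅N, Q⁆ ∧ Odd (Nat.card ↥⁅N, Q⁆) := by
  have hN : N.Normal := inferInstance
  have htQ' : ∀ q ∈ Q, Commute q t := fun q hq => htZ.2 q hq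
  have hCN : ∀ n ∈ N, Commute n t → ∀ q ∈ Q, Commute q n := fun n hn hc q hq => by
    have : n ∈ N ⊓ centralizer (Q : Set G) := hC ▸ ⟨hn, mem_centralizer_singleton_iff.2 hc⟩
    exact this.2 q hq
  have hdec : ∀ g : G, ∃ n ∈ N, ∃ q ∈ Q, n * q = g := fun g => by
    have : g ∈ N ⊔ Q := by rw [sup_comm, hG]; trivial
    exact mem_sup_of_normal_left.1 this
  obtain ⟨k, hk⟩ := hQ ⟨t, htZ.1⟩
  have hk' : t ^ 2 ^ k = 1 := congrArg Subtype.val hk
  -- `Q` centralizes every `N`-conjugate of `t` commuting with `t`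
  have key : ∀ n ∈ N, Commute (n * t * n⁻¹) t → ∀ q ∈ Q, Commute q (n * t * n⁻¹) := by
    intro n hn hc q hq
    have h1 : n * t * n⁻¹ * t⁻¹ ∈ N := by
      have := mul_mem hn (hN.conj_mem _ (inv_mem hn) t)
      simpa [mul_assoc] using this
    have h2 := hCN _ h1 (hc.mul_left (Commute.refl t).inv_left) q hq
    simpa using h2.mul_right (htQ' q hq)
  have hiso : IsIsolated t := by
    intro g hc
    obtain ⟨n, hn, q0, hq0, rfl⟩ := hdec g
    have e : n * q0 * t * (n * q0)⁻¹ = n * t * n⁻¹ := by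
      rw [mul_assoc n, (htQ' q0 hq0).eq]; group
    rw [e] at hc ⊢
    have hc1 : Commute (n * t * n⁻¹) t := hc.symm
    have hc2 : Commute (n⁻¹ * t * n⁻¹⁻¹) t := by
      have := hc1.symm.map (MulAut.conj n⁻¹)
      simpa [mul_assoc] using this
    have k1 := key n hn hc1
    have k2 := key n⁻¹ (inv_mem hn) hc2
    have hm : ∀ q : G, q * n * q⁻¹ * n⁻¹ ∈ N := fun q => mul_mem (hN.conj_mem n hn q) (inv_mem hn)
    have c1 : ∀ q ∈ Q, ∀ r ∈ Q, Commute r (q * n * q⁻¹ * n⁻¹) := fun q hq => by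
      refine hCN _ (hm q) ?_
      have := (k2 q⁻¹ (inv_mem hq)).map (MulAut.conj n)
      have h3 : Commute (n * q⁻¹ * n⁻¹) t := by simpa [mul_assoc] using this
      simpa [mul_assoc] using (htQ' q hq).mul_left h3
    have c2 : ∀ q ∈ Q, ∀ r ∈ Q, Commute (n * r * n⁻¹) (q * n * q⁻¹ * n⁻¹) := fun q hq r hr => by
      have h3 : Commute (n⁻¹ * (q * n * q⁻¹ * n⁻¹) * n) t := by
        have h4 := (k1 q hq).map (MulAut.conj n⁻¹)
        have h5 : Commute (n⁻¹ * q * n) t := by simpa [mul_assoc] using h4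
        simpa [mul_assoc] using h5.mul_left (htQ' q hq).inv_left
      have h6 := (hCN _ (hN.conj_mem' _ (hm q) n) h3 r hr).map (MulAut.conj n)
      simpa [mul_assoc] using h6
    have c3 : ∀ q ∈ Q, ∀ r ∈ Q, Commute (r * n * r⁻¹ * n⁻¹) (q * n * q⁻¹ * n⁻¹) := fun q hq r hr => by
      simpa [mul_assoc] using (c1 q hq r hr).mul_left (c2 q hq r⁻¹ (inv_mem hr))
    have hmul : ∀ q ∈ Q, ∀ r ∈ Q, q * r * n * (q * r)⁻¹ * n⁻¹ =
        (q * n * q⁻¹ * n⁻¹) * (r * n * r⁻¹ * n⁻¹) := fun q hq r hr => by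
      rw [(c3 r hr q hq).eq]
      calc q * r * n * (q * r)⁻¹ * n⁻¹ = q * (r * n * r⁻¹ * n⁻¹) * (n * q⁻¹ * n⁻¹) := by group
        _ = _ := by rw [(c1 r hr q hq).eq]; group
    let f : Q →* G := MonoidHom.mk' (fun q => q * n * (q : G)⁻¹ * n⁻¹) fun a b => hmul a a.2 b b.2
    have hle : ⁅Q, Q⁆ ≤ f.ker.map Q.subtype := by
      refine commutator_le.2 fun a ha b hb => ⟨⁅(⟨a, ha⟩ : Q), (⟨b, hb⟩ : Q)⁆, ?_, rfl⟩
      rw [SetLike.mem_coe, MonoidHom.mem_ker, map_commutatorElement,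
        commutatorElement_eq_one_iff_commute]
      exact c3 b hb a ha
    obtain ⟨x, hx, rfl⟩ := hle htQ
    have hx' : (x : G) * n * (x : G)⁻¹ * n⁻¹ = 1 := hx
    change n * (x : G) * n⁻¹ = x
    calc n * (x : G) * n⁻¹ = (x * n * (x : G)⁻¹ * n⁻¹) * (n * x * n⁻¹) := by rw [hx', one_mul]
      _ = x := by group
  have hle : ⁅N, Q⁆ ≤ pPrimeCore 2 G := by
    have hO : (pPrimeCore 2 G).Normal := inferInstance
    refine commutator_le.2 fun n hn q hq => ?_
    have h1 : n * t * n⁻¹ ∈ (N ⊓ pPrimeCore 2 G) ⊔ zpowers t := by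
      have h2 : n * t * n⁻¹ * t⁻¹ ∈ N ⊓ pPrimeCore 2 G := by
        refine ⟨?_, ?_⟩
        · have := mul_mem hn (hN.conj_mem _ (inv_mem hn) t)
          simpa [mul_assoc] using this
        · have := inv_mem (CL.Iso.zstar_elt hk' hiso n)
          simpa [mul_assoc] using this
      simpa using mul_mem (mem_sup_left h2) (mem_sup_right (mem_zpowers t))
    obtain ⟨h, hh, hc⟩ := CL.Iso.isolated_conj_in hk' hiso (mem_sup_right (mem_zpowers t)) h1
    rw [sup_comm] at hh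
    obtain ⟨a, ⟨j, rfl⟩, o, ho, rfl⟩ := mem_sup_of_normal_right.1 hh
    have hc' : Commute (o * n) t := by
      have := ((Commute.refl t).zpow_left j).inv_left.mul_left hc
      simpa [mul_assoc] using this
    have h3 := hCN _ (mul_mem ho.1 hn) hc' q hq
    have e : ⁅n, q⁆ = o⁻¹ * (q * o * q⁻¹) := by
      calc ⁅n, q⁆ = o⁻¹ * ((o * n) * q) * n⁻¹ * q⁻¹ := by rw [commutatorElement_def]; group
        _ = _ := by rw [← h3.eq]; group
    rw [e]
    exact mul_mem (inv_mem ho.2) (hO.conj_mem o ho.2 q)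
  have hodd : Odd (Nat.card ↥⁅N, Q⁆) := Nat.coprime_two_right.1
    (CL.PComp.coprime_card_of_le hle (CL.PComp.pPrimeCore_coprime 2))
  exact ⟨CL.isSolvable_of_odd _ hodd, hodd⟩

end Cfsg.Agent.S2962
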