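import Cfsg.Statements.S2965
import Mathlib
import Cfsg.Agent.SIG.CopFix
import Cfsg.Agent.S0205

set_option autoImplicit false
open Cfsg

namespace Cfsg.Agent.S2965

/-- Let r be a prime and let A and G be subgroups of a finite group, with A an elementary abelian r-group normalizing G and the orders of A and G coprime. Suppose that every non-abelian simple section of G is a known finite simple group. If C_G(A) is nilpotent or has odd order, then G is solvable. -/
theorem result {X : Type*} [Group X] [Finite X] {r : ℕ} [Fact r.Prime] (A G : Subgroup X) (hA : Cfsg.IsElementaryAbelian r A) (hAG : A ≤ Subgroup.normalizer (G : Set X)) (hcop : (Nat.card ↥A).Coprime (Nat.card ↥G)) (hK : Cfsg.IsKGroup ↥G) (hC : Group.IsNilpotent ↥(G ⊓ Subgroup.centralizer (A : Set X)) ∨ Odd (Nat.card ↥(G ⊓ Subgroup.centralizer (A : Set X)))) : Group.IsSolvable ↥G := by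
  rcases CL.CopF.bot_or_not_dvd hA hcop with rfl | hr
  · have e : G ⊓ Subgroup.centralizer ((⊥ : Subgroup X) : Set X) = G :=
      inf_eq_left.2 fun g _ a ha => by rw [Subgroup.mem_bot.1 ha, one_mul, mul_one]
    rw [e] at hC
    rcases hC with hC | hC
    · infer_instance
    · exact Cfsg.Agent.S0205.result hC
  have e := CL.CopF.fxEquiv hAG
  refine CL.CopF.isSolvable_of_fix (A := A) (fun a => Subtype.ext (hA.2 a a.2)) _ G (CL.CopF.act hAG) rfl hr hK ?_
  rcases hC with hC | hC
  · exact Or.inl (nilpotent_of_mulEquiv e.symm)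
  · exact Or.inr (Nat.card_congr e.toEquiv ▸ hC)

end Cfsg.Agent.S2965
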