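import Cfsg.Statements.S2966
import Mathlib
import Cfsg.Agent.SIG.CopFix

set_option autoImplicit false
open Cfsg

namespace Cfsg.Agent.S2966

/-- Let r be a prime and let A and G be subgroups of a finite group, with A an elementary abelian r-group normalizing G and the orders of A and G coprime. Suppose that every non-abelian simple section of G is a known finite simple group and that C_G(A) is solvable. Then every non-abelian composition factor of G is isomorphic to PSL₂(2^r), PSL₂(3^r), PSU₃(2^r) or, when r is odd, the Suzuki group over the field with 2^r elements. -/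
theorem result {X : Type*} [Group X] [Finite X] {r : ℕ} [Fact r.Prime] (A G : Subgroup X) (hA : Cfsg.IsElementaryAbelian r A) (hAG : A ≤ Subgroup.normalizer (G : Set X)) (hcop : (Nat.card ↥A).Coprime (Nat.card ↥G)) (hK : Cfsg.IsKGroup ↥G) (hC : Group.IsSolvable ↥(G ⊓ Subgroup.centralizer (A : Set X))) : Cfsg.IsCompositionKGroupWith (Cfsg.IsRankOneOverDegreeRField r) ↥G := by
  intro H hH N _ hs hc
  rcases CL.CopF.bot_or_not_dvd hA hcop with rfl | hr
  · have e : G ⊓ Subgroup.centralizer ((⊥ : Subgroup X) : Set X) = G :=
      inf_eq_left.2 fun g _ a ha => by rw [Subgroup.mem_bot.1 ha, one_mul, mul_one]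
    rw [e] at hC
    exact ((CL.Comp.isQuasisimple_of_isSimpleGroup hc).not_isSolvable inferInstance).elim
  have e := CL.CopF.fxEquiv hAG
  exact CL.CopF.rankOne_of_fix (A := A) (fun a => Subtype.ext (hA.2 a a.2)) hc _ G (CL.CopF.act hAG) rfl hr hK
    (solvable_of_solvable_injective (f := e.toMonoidHom) e.injective) H hH _ (QuotientGroup.mk'_surjective N)

end Cfsg.Agent.S2966
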