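import Cfsg.Statements.S2967
import Mathlib
import Cfsg.Agent.SIG.CopFix

set_option autoImplicit false
open Cfsg

namespace Cfsg.Agent.S2967

/-- Let r be a prime and let A and G be subgroups of a finite group, with A an elementary abelian r-group normalizing G and the orders of A and G coprime. Suppose that every non-abelian simple section of G is a known finite simple group. Then the centre of C_G(A) lies in the largest solvable normal subgroup of G; equivalently, the normal closure in G of Z(C_G(A)) is solvable. -/
theorem result {X : Type*} [Group X] [Finite X] {r : ℕ} [Fact r.Prime] (A G : Subgroup X) (hA : Cfsg.IsElementaryAbelian r A) (hAG : A ≤ Subgroup.normalizer (G : Set X)) (hcop : (Nat.card ↥A).Coprime (Nat.card ↥G)) (hK : Cfsg.IsKGroup ↥G) : Group.IsSolvable ↥(Subgroup.normalClosure (((G ⊓ Subgroup.centralizer (A : Set X)) ⊓ Subgroup.centralizer ((G ⊓ Subgroup.centralizer (A : Set X) : Subgroup X) : Set X)).subgroupOf G : Set ↥G)) := by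
  have hle : (((G ⊓ Subgroup.centralizer (A : Set X)) ⊓ Subgroup.centralizer
      ((G ⊓ Subgroup.centralizer (A : Set X) : Subgroup X) : Set X)).subgroupOf G : Subgroup G) ≤
      CL.CopF.Fx (CL.CopF.act hAG) ⊓ Subgroup.centralizer (CL.CopF.Fx (CL.CopF.act hAG) : Set G) := by
    rw [CL.CopF.Fx_act]
    exact fun z hz => ⟨hz.1, fun c hc => Subtype.ext (hz.2 c hc)⟩
  rcases CL.CopF.bot_or_not_dvd hA hcop with rfl | hr
  · have : Group.IsSolvable (Subgroup.center G) := isSolvable_of_comm fun a b => Subtype.ext (b.2.comm a).symm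
    refine CL.Comp.isSolvable_of_le (Subgroup.normalClosure_le_normal fun z hz => ?_) this
    refine Subgroup.mem_center_iff.2 fun g => Subtype.ext (hz.2 g ⟨g.2, fun a ha => ?_⟩)
    rw [Subgroup.mem_bot.1 ha, one_mul, mul_one]
  exact CL.Comp.isSolvable_of_le (Subgroup.normalClosure_mono hle)
    (CL.CopF.isSolvable_normalClosure (A := A) (fun a => Subtype.ext (hA.2 a a.2)) _ G (CL.CopF.act hAG) rfl hr hK)

end Cfsg.Agent.S2967
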