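import Cfsg.Statements.S2975
import Cfsg.Agent.TECH.IsolZ

set_option autoImplicit false
set_option linter.unusedVariables false
open Cfsg

namespace Cfsg.Agent.S2975

open scoped Pointwise


/-- Let G be a finite group, p a prime and x ∈ G an isolated element of order p (the only conjugate of x commuting with x is x) which is not central modulo the largest normal subgroup of order prime to p, while x is central modulo the largest normal subgroup of order prime to p in every proper subgroup containing x, and the image of x is so in every quotient of G by a nontrivial normal subgroup (a minimal counterexample to the Z*_p statement). Then for every prime q, every q-subgroup of G that is normalized by x and maximal among the q-subgroups normalized by x is either trivial or a Sylow q-subgroup of G; and C_G(x) permutes the x-invariant Sylow q-subgroups of G transitively by conjugation. -/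
theorem result {G : Type*} [Group G] [Finite G] {p : ℕ} [Fact p.Prime] (x : G) (hx : orderOf x = p) (hiso : Cfsg.IsIsolated x) (hnz : ¬ Cfsg.InZStar p x) (hmin : ∀ (H : Subgroup G) (hxH : x ∈ H), H ≠ ⊤ → Cfsg.InZStar p (⟨x, hxH⟩ : ↥H)) (hquot : ∀ (N : Subgroup G) [N.Normal], N ≠ ⊥ → Cfsg.InZStar p (QuotientGroup.mk x : G ⧸ N)) (q : ℕ) [Fact q.Prime] : (∀ Q : Subgroup G, IsPGroup q ↥Q → x ∈ Subgroup.normalizer (Q : Set G) → (∀ R : Subgroup G, IsPGroup q ↥R → x ∈ Subgroup.normalizer (R : Set G) → Q ≤ R → R = Q) → Q = ⊥ ∨ ∃ S : Sylow q G, (S : Subgroup G) = Q) ∧ (∀ S₁ S₂ : Sylow q G, x ∈ Subgroup.normalizer ((S₁ : Subgroup G) : Set G) → x ∈ Subgroup.normalizer ((S₂ : Subgroup G) : Set G) → ∃ c ∈ Subgroup.centralizer ({x} : Set G), (S₁ : Subgroup G).map (MulAut.conj c).toMonoidHom = (S₂ : Subgroup G)) := by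

  have h : CL.Isol.MinCx p x :=
    ⟨CL.Misc.isPGroup_zpowers_of_orderOf (n := 1) (by rw [hx, pow_one]), hiso, hnz, hmin, hquot⟩
  constructor
  · intro Q hQ hxQ hmax
    by_cases hb : Q = ⊥
    · exact Or.inl hb
    right
    have key : ∃ R : Subgroup G, CL.Misc.SylIn q R (Subgroup.normalizer (Q : Set G)) ∧
        x ∈ Subgroup.normalizer (R : Set G) := by
      by_cases hqp : q = p
      · subst hqp
        obtain ⟨R, hR, hle⟩ := CL.Misc.exists_sylIn_ge h.pgrp (Subgroup.zpowers_le.2 hxQ)
        exact ⟨R, hR, Subgroup.le_normalizer (hle (Subgroup.mem_zpowers x))⟩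
      · refine CL.Isol.exists_invariant_sylIn h.pgrp hxQ (hmin _ hxQ fun ht => hb ?_) q
        have hn : Q.Normal := Subgroup.normalizer_eq_top_iff.1 ht
        rw [eq_bot_iff, ← h.pPrimeCore_eq_bot]
        exact (CL.le_pCore hQ).trans (CL.pCore_le_pPrimeCore_of_ne hqp)
    obtain ⟨R, hR, hxR⟩ := key
    have hQR : Q ≤ R := hR.le_of_normalizes hQ Subgroup.le_normalizer hR.le
    have e := hmax R hR.isPGroup hxR hQR
    rw [e] at hR
    exact (CL.Misc.sylIn_of_normalizer le_top (by rwa [top_inf_eq])).exists_sylow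
  · intro S₁ S₂ h1 h2
    obtain ⟨g, hg⟩ := MulAction.exists_smul_eq G S₁ S₂
    have hg' : MulAut.conj g • (S₁ : Subgroup G) = (S₂ : Subgroup G) := by
      rw [← hg]; rfl
    exact CL.Isol.exists_centralizer_conj_eq hiso h.pgrp h1 h2 hg'

end Cfsg.Agent.S2975
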