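import Cfsg.Statements.S3038
import Cfsg.Agent.TECH.ZPRk2b
import Cfsg.Agent.INV.FusInv
import Cfsg.Agent.S3049


set_option autoImplicit false
set_option linter.unusedVariables false
open Cfsg

namespace Cfsg.Agent.S3038

/-- Let G be a finite group and p an odd prime with O_{p'}(G) = 1. Suppose that G has p-rank at most 2 and that some element x of order p is isolated in G and not central. Then F*(G) is a non-abelian simple group, and for every Sylow p-subgroup P of F*(G), either no conjugate of x lies in P and P is cyclic, or some conjugate of x lies in P and either P is extraspecial of order p³ and exponent p, or p = 3 and P has order 3^{2k+1} for some k ≥ 2 and is of maximal class (nilpotency class 2k). Since O_{p'}(G) = 1, such an x is not central modulo O_{p'}(G): the hypotheses describe a counterexample to the Z*_p statement in p-rank at most 2, and the conclusion records the structure it would have. -/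
theorem result {G : Type*} [Group G] [Finite G] {p : ℕ} [Fact p.Prime] (hp : p ≠ 2) (hcore : Cfsg.pPrimeCore p G = ⊥)
    (hrank : Cfsg.PRankLE p 2 G) (x : G) (hx : orderOf x = p) (hiso : Cfsg.IsIsolated x) (hnc : x ∉ Subgroup.center G) :
    IsSimpleGroup ↥(Cfsg.generalizedFittingSubgroup G) ∧ ¬ IsMulCommutative ↥(Cfsg.generalizedFittingSubgroup G) ∧
    ∀ P : Sylow p ↥(Cfsg.generalizedFittingSubgroup G),
      ((∀ g : G, g * x * g⁻¹ ∉ ((P : Subgroup ↥(Cfsg.generalizedFittingSubgroup G)).map (Cfsg.generalizedFittingSubgroup G).subtype)) ∧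
          IsCyclic ↥(P : Subgroup ↥(Cfsg.generalizedFittingSubgroup G))) ∨
      ((∃ g : G, g * x * g⁻¹ ∈ ((P : Subgroup ↥(Cfsg.generalizedFittingSubgroup G)).map (Cfsg.generalizedFittingSubgroup G).subtype)) ∧
        ((Cfsg.IsExtraspecial p ↥(P : Subgroup ↥(Cfsg.generalizedFittingSubgroup G)) ∧
            Nat.card (P : Subgroup ↥(Cfsg.generalizedFittingSubgroup G)) = p ^ 3 ∧
            ∀ y ∈ (P : Subgroup ↥(Cfsg.generalizedFittingSubgroup G)), y ^ p = 1) ∨
         (p = 3 ∧ ∃ k : ℕ, 2 ≤ k ∧ Nat.card (P : Subgroup ↥(Cfsg.generalizedFittingSubgroup G)) = 3 ^ (2 * k + 1) ∧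
            ∃ _ : Group.IsNilpotent ↥(P : Subgroup ↥(Cfsg.generalizedFittingSubgroup G)),
              Group.nilpotencyClass ↥(P : Subgroup ↥(Cfsg.generalizedFittingSubgroup G)) = 2 * k))) := by

  obtain ⟨hs, hna⟩ := Cfsg.Agent.S3049.result hp hcore hrank x hx hiso hnc
  refine ⟨hs, hna, fun P => ?_⟩
  have hpp : p.Prime := Fact.out
  haveI hEn : (Cfsg.generalizedFittingSubgroup G).Normal := inferInstance
  generalize Cfsg.generalizedFittingSubgroup G = E at *
  have hxz : IsPGroup p (Subgroup.zpowers x) :=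
    CL.Misc.isPGroup_zpowers_of_orderOf (n := 1) (by rw [hx, pow_one])
  by_cases hxE : x ∈ E
  · right
    have hxz' : IsPGroup p (Subgroup.zpowers (⟨x, hxE⟩ : E)) :=
      CL.Misc.isPGroup_zpowers_of_orderOf (n := 1) (by rw [pow_one, ← hx]; exact Subgroup.orderOf_mk x _)
    obtain ⟨g, -, hg⟩ := (CL.Misc.sylIn_top P).exists_conj_le hxz' le_top
    have hg1 := hg _ (Subgroup.mem_zpowers _)
    refine ⟨⟨g, _, hg1, rfl⟩, ?_⟩
    have hrk := CL.ZP.prankLE_sub hrank E
    have hF : CL.ZP.Foc (P : Subgroup E) := fun Y hY h => by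
      obtain ⟨K, hK, h1, h2⟩ := CL.FusInv.exists_normal_inf_eq P hY h
      rcases hK.eq_bot_or_eq_top with rfl | rfl
      · exfalso
        rw [Subgroup.index_bot] at h2
        obtain ⟨n, hn⟩ := P.isPGroup'.exists_card_eq
        have h3 : Nat.card E ∣ p ^ n := by
          rw [h2, ← hn]; exact Subgroup.relIndex_dvd_card _ _
        obtain ⟨m, -, hm⟩ := (Nat.dvd_prime_pow hpp).1 h3
        have h4 := IsPGroup.center_nontrivial (IsPGroup.of_card hm)
        rcases (inferInstance : (Subgroup.center E).Normal).eq_bot_or_eq_top with h5 | h5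
        · rw [h5] at h4
          exact not_nontrivial _ h4
        · exact hna ⟨⟨fun a b => Subgroup.mem_center_iff.1 (h5.ge (Subgroup.mem_top b)) a⟩⟩
      · rw [← h1, top_inf_eq]
    have hC := CL.ZP.main_isolated hp hrk (x := g * ⟨x, hxE⟩ * g⁻¹)
      (by rw [← MulAut.conj_apply, MulEquiv.orderOf_eq, ← hx]; exact Subgroup.orderOf_mk x _)
      (CL.Isol.isolated_conj (CL.Isol.isolated_subgroup hiso E hxE) g) P hg1 hF
    rcases hC with ⟨h1, h2⟩ | ⟨h1, k, hk, h2, s, hs, h3⟩
    · exact Or.inl ⟨(CL.BG.p3group_extraspecial h1 (CL.ZP.not_comm_of_cube hrk h2 h1)).1, h1, h2⟩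
    · refine Or.inr ⟨h1, k, hk, h1 ▸ h2, P.isPGroup'.isNilpotent, ?_⟩
      have := CL.PCyc.nilpotencyClass_of_card_centralizer_le (p := p) (2 * k - 1) (P : Subgroup E)
        (by rw [h2]; congr 1; omega) ⟨⟨s, hs⟩, le_trans (by
          rw [← Subgroup.card_map_of_injective (P : Subgroup E).subtype_injective]
          refine Subgroup.card_le_of_le ?_
          rintro _ ⟨y, hy, rfl⟩
          exact ⟨y.2, Subgroup.mem_centralizer_singleton_iff.2
            (congrArg Subtype.val (Subgroup.mem_centralizer_singleton_iff.1 hy))⟩) h3⟩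
      rw [this]; omega
  · left
    have hno : ∀ g : G, g * x * g⁻¹ ∉ E := fun g h => hxE (by
      have := hEn.conj_mem _ h g⁻¹
      simpa [mul_assoc] using this)
    refine ⟨fun g h => hno g (Subgroup.map_subtype_le _ h), ?_⟩
    by_contra hn
    obtain ⟨A, -, hA1, hA2⟩ := Cfsg.Agent.S0126.result hp P.isPGroup' hn
    set V := A.map (E.subtype.comp (P : Subgroup E).subtype) with hV
    have hVe : ∀ v ∈ V, v ^ p = 1 := by
      rintro _ ⟨a, ha, rfl⟩
      rw [← map_pow, hA1.2 a ha, map_one]
    have hVc : Nat.card V = p ^ 2 := by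
      rw [hV, Subgroup.card_map_of_injective (f := E.subtype.comp (P : Subgroup E).subtype)
        (fun a b h => Subtype.ext (Subtype.ext h)), hA2]
    obtain ⟨S, hS, hVS⟩ := CL.Misc.exists_sylIn_ge (CL.ZP.isPGroup_of_exp hVe) (le_top (a := V))
    obtain ⟨g, -, hg⟩ := hS.exists_conj_le hxz le_top
    have hg1 := hg _ (Subgroup.mem_zpowers _)
    have h1 := CL.Isol.le_centralizer (CL.Isol.isolated_conj hiso g) hS.isPGroup hg1
    have h2 := CL.ZP.mem_of_sq hrank hVe hVc (y := g * x * g⁻¹)
      (by rw [conj_pow, ← hx, pow_orderOf_eq_one]; group)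
      (fun v hv => Subgroup.mem_centralizer_singleton_iff.1 (h1 (hVS hv)))
    obtain ⟨a, -, ha⟩ := h2
    exact hno g (ha ▸ (a : E).2)

end Cfsg.Agent.S3038
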