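import Cfsg.Statements.S3043
import Cfsg.Agent.PERM.TIInv3
import Cfsg.Agent.TECH.Conj

set_option autoImplicit false
open Cfsg

namespace Cfsg.Agent.S3043

open CL.MSS CL.TIInv MulAction in
/-- the conjugates of a subgroup -/
def Cj {G : Type*} [Group G] (M : Subgroup G) := {K : Subgroup G // ∃ g : G, g •ᶜ M = K}

open CL.MSS in
instance {G : Type*} [Group G] (M : Subgroup G) : MulAction G (Cj M) where
  smul g K := ⟨g •ᶜ K.1, by obtain ⟨k, hk⟩ := K.2; exact ⟨g * k, by rw [cj_mul, hk]⟩⟩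
  one_smul K := Subtype.ext (cj_one K.1)
  mul_smul g k K := Subtype.ext (cj_mul g k K.1)

open CL.MSS in
theorem smul_val {G : Type*} [Group G] {M : Subgroup G} (g : G) (K : Cj M) :
    (g • K).1 = g •ᶜ K.1 := rfl

open CL.MSS CL.TIInv MulAction in
theorem ti {G : Type*} [Group G] [Finite G] (M : Subgroup G) (hM1 : M ≠ ⊥)
    (hTI : ∀ g : G, M ⊓ g •ᶜ M ≠ ⊥ → g •ᶜ M = M)
    (z : G) (hz : orderOf z = 2) (hzN : z ∈ Subgroup.normalizer (M : Set G))
    (hfac : M ⊔ (Subgroup.normalizer (M : Set G) ⊓ Subgroup.centralizer ({z} : Set G)) = Subgroup.normalizer (M : Set G))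
    (hodd : ∀ x ∈ M, x ≠ 1 → Odd (Nat.card ↥(Subgroup.centralizer ({x} : Set G)))) :
    TI (fun K : Cj M => K.1) := by
  have hz' := invo_iff.mpr hz
  have hc1 : ∀ g x : G, g⁻¹ * x * g = 1 → x = 1 := fun g x e => by
    rw [show x = g * (g⁻¹ * x * g) * g⁻¹ by group, e]; group
  have hodd' : ∀ x ∈ M, x ≠ 1 → ∀ t : G, t * x = x * t → Odd (orderOf t) := fun x hx h1 t e =>
    Odd.of_dvd_nat (hodd x hx h1) (by
      simpa using orderOf_dvd_natCard (⟨t, Subgroup.mem_centralizer_singleton_iff.mpr e⟩ :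
        Subgroup.centralizer ({x} : Set G)))
  have hodd2 : ∀ x ∈ M, x ≠ 1 → ∀ t : G, t * t = 1 → t * x = x * t → t = 1 := by
    intro x hx h1 t ht e
    by_contra h2
    have := hodd' x hx h1 t e
    rw [invo_iff.mp ⟨h2, ht⟩] at this
    exact absurd this (by decide)
  have hinv : ∀ t : G, Invo t → t ∈ Subgroup.normalizer (M : Set G) → ∀ x ∈ M,
      t * x * t = x⁻¹ := by
    intro t ht hb x hx
    let f : M → M := fun y => ⟨(y : G)⁻¹ * (t * y * t⁻¹),
      M.mul_mem (M.inv_mem y.2) ((Subgroup.mem_normalizer_iff.mp hb y).mp y.2)⟩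
    have hf : Function.Injective f := by
      intro y w e
      have e1 : (y : G)⁻¹ * (t * y * t⁻¹) = (w : G)⁻¹ * (t * w * t⁻¹) := congrArg Subtype.val e
      by_contra hne
      have h1 : (w : G) * (y : G)⁻¹ ≠ 1 := fun e2 => hne (Subtype.ext (mul_inv_eq_one.mp e2).symm)
      refine ht.1 (hodd2 _ (M.mul_mem w.2 (M.inv_mem y.2)) h1 t ht.2 ?_)
      calc t * ((w : G) * (y : G)⁻¹) = w * ((w : G)⁻¹ * (t * w * t⁻¹)) * t * (y : G)⁻¹ := by group
        _ = w * ((y : G)⁻¹ * (t * y * t⁻¹)) * t * (y : G)⁻¹ := by rw [e1]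
        _ = _ := by group
    obtain ⟨y, hy⟩ := (Finite.injective_iff_surjective.mp hf) ⟨x, hx⟩
    have e : (y : G)⁻¹ * (t * y * t⁻¹) = x := congrArg Subtype.val hy
    rw [← e, ht.inv_eq]
    calc t * ((y : G)⁻¹ * (t * y * t)) * t = t * (y : G)⁻¹ * t * y * (t * t) := by group
      _ = t⁻¹ * (y : G)⁻¹ * t⁻¹ * y := by rw [ht.2, ht.inv_eq, mul_one]
      _ = _ := by group
  have htwo : ∀ t : G, Invo t → t ∈ Subgroup.normalizer (M : Set G) → t * z ∈ M := by
    intro t ht hb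
    obtain ⟨x, hx, hx1⟩ := (Subgroup.bot_or_exists_ne_one M).resolve_left hM1
    have h1 : Odd (orderOf (t * z)) := hodd' x hx hx1 _ (by
      have e1 := hinv t ht hb _ (M.inv_mem hx)
      have e2 := hinv z hz' hzN x hx
      calc t * z * x = t * (z * x * z) * t * (t * z) := by
            rw [show t * (z * x * z) * t * (t * z) = t * z * x * (z * (t * t) * z) by group, ht.2,
              mul_one, hz'.2, mul_one]
        _ = _ := by rw [e2, e1, inv_inv])
    refine CL.Sidki.mem_of_sq_mem h1 ?_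
    rw [← hfac] at hb
    obtain ⟨y, hy, c, hc, rfl⟩ := (mem_sup_of_normalizes_left (N := M) inf_le_left).mp hb
    have e1 := Subgroup.mem_centralizer_singleton_iff.mp hc.2
    have e2 : y * c * z * (y * c * z) = (y * c * z * (y * c)⁻¹) * z := by
      rw [ht.inv_eq]; group
    rw [e2, show y * c * z * (y * c)⁻¹ * z = y * ((c * z) * c⁻¹ * y⁻¹ * z) by group, e1,
      mul_inv_cancel_right, hinv z hz' hzN _ (M.inv_mem hy)]
    exact M.mul_mem hy (M.inv_mem (M.inv_mem hy))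
  have hnorm : ∀ (k g : G), g •ᶜ (k •ᶜ M) = k •ᶜ M → k⁻¹ * g * k ∈ Subgroup.normalizer (M : Set G) := by
    intro k g e
    rw [mem_normalizer_iff_cj, cj_mul, cj_mul, e, inv_cj_cj]
  refine ⟨?_, fun g b x hx => conj_mem_cj hx, fun {b x} hx => Subtype.ext (cj_eq_of_mem hx),
    ?_, ?_, ?_, ?_, ?_⟩
  · rintro ⟨_, g, rfl⟩ ⟨_, k, rfl⟩
    exact ⟨k * g⁻¹, Subtype.ext (by
      change (k * g⁻¹) •ᶜ (g •ᶜ M) = k •ᶜ M
      rw [cj_mul, inv_cj_cj])⟩
  · rintro ⟨_, g, rfl⟩ ⟨_, k, rfl⟩ x hx hy hab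
    by_contra h1
    apply hab
    have := hTI (g⁻¹ * k) (fun e => h1 (by
      have h2 : g⁻¹ * x * g ∈ M ⊓ (g⁻¹ * k) •ᶜ M := ⟨mem_cj.mp hx, by
        rw [cj_mul]; simpa using conj_mem_cj (g := g⁻¹) hy⟩
      rw [e, Subgroup.mem_bot] at h2
      exact hc1 _ _ h2))
    refine Subtype.ext ?_
    change g •ᶜ M = k •ᶜ M
    conv_lhs => rw [← this, cj_mul, cj_inv_cj]
  · rintro ⟨_, g, rfl⟩
    obtain ⟨x, hx, hx1⟩ := (Subgroup.bot_or_exists_ne_one M).resolve_left hM1
    exact ⟨_, conj_mem_cj hx, by simpa using hx1⟩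
  · rintro ⟨_, g, rfl⟩ x t hx h1 ht e
    have := hodd2 _ (mem_cj.mp hx) (fun e => h1 (hc1 _ _ e)) (g⁻¹ * t * g)
      (by rw [show g⁻¹ * t * g * (g⁻¹ * t * g) = g⁻¹ * (t * t) * g by group, ht]; group)
      (by rw [show g⁻¹ * t * g * (g⁻¹ * x * g) = g⁻¹ * (t * x) * g by group, e]; group)
    exact hc1 _ _ this
  · rintro ⟨_, g, rfl⟩
    refine ⟨_, hz'.conj g, Subtype.ext ?_⟩
    change (g * z * g⁻¹) •ᶜ (g •ᶜ M) = g •ᶜ M
    rw [cj_mul, cj_mul, inv_cj_cj, cj_eq_of_mem_normalizer hzN]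
  · rintro ⟨_, g, rfl⟩ s t hs ht e1 e2
    have h1 := htwo _ (by simpa using hs.conj g⁻¹) (hnorm g s (congrArg Subtype.val e1))
    have h2 := htwo _ (by simpa using ht.conj g⁻¹) (hnorm g t (congrArg Subtype.val e2))
    have h3 := M.mul_mem h1 (M.inv_mem h2)
    refine mem_cj.mpr ?_
    rw [← ht.inv_eq]
    convert h3 using 1
    group

/-- Let M be a nontrivial subgroup of a finite group G meeting each of its other conjugates trivially, with N_G(M) = M · C_{N_G(M)}(z) for some involution z ∈ N_G(M), and with C_G(x) of odd order for every nontrivial x ∈ M. Then one of the following holds: M is normal in G; the number of involutions of G is at most |G : M|; G is isomorphic to PGL₂(F) or to PSL₂(F) for a finite field F with |F| = |M|, M is an elementary abelian p-group for the characteristic p of F, and |F| ≡ 1 (mod 4) in the PSL₂ case; G is isomorphic to PSL₂(F) with |F| = 2^e, e > 1, and M is cyclic of order 2^e + 1; or for some d ≥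 1, G has an elementary abelian normal subgroup of order 2^{2d} complemented by N_G(M), and N_G(M) is dihedral of order 2(2^d + 1). -/
theorem result {G : Type*} [Group G] [Finite G] (M : Subgroup G) (hM1 : M ≠ ⊥)
    (hTI : ∀ g : G, M ⊓ M.map (MulAut.conj g).toMonoidHom ≠ ⊥ → M.map (MulAut.conj g).toMonoidHom = M)
    (z : G) (hz : orderOf z = 2) (hzN : z ∈ Subgroup.normalizer (M : Set G))
    (hfac : M ⊔ (Subgroup.normalizer (M : Set G) ⊓ Subgroup.centralizer ({z} : Set G)) = Subgroup.normalizer (M : Set G))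
    (hodd : ∀ x ∈ M, x ≠ 1 → Odd (Nat.card ↥(Subgroup.centralizer ({x} : Set G)))) :
    M.Normal ∨
    Nat.card {g : G // orderOf g = 2} ≤ M.index ∨
    (∃ (F : Type) (_ : Field F) (_ : Fintype F) (p : ℕ) (_ : Fact p.Prime) (_ : CharP F p), Fintype.card F = Nat.card M ∧ Cfsg.IsElementaryAbelian p M ∧
        (Nonempty (G ≃* (GL (Fin 2) F ⧸ Subgroup.center (GL (Fin 2) F))) ∨
         (Fintype.card F % 4 = 1 ∧ Nonempty (G ≃* Matrix.ProjectiveSpecialLinearGroup (Fin 2) F)))) ∨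
    (∃ (F : Type) (_ : Field F) (_ : Fintype F) (e : ℕ), 1 < e ∧ Fintype.card F = 2 ^ e ∧ IsCyclic ↥M ∧ Nat.card M = 2 ^ e + 1 ∧
        Nonempty (G ≃* Matrix.ProjectiveSpecialLinearGroup (Fin 2) F)) ∨
    (∃ (d : ℕ) (E : Subgroup G), 1 ≤ d ∧ E.Normal ∧ Cfsg.IsElementaryAbelian 2 E ∧ Nat.card E = 2 ^ (2 * d) ∧
        E ⊓ Subgroup.normalizer (M : Set G) = ⊥ ∧ E ⊔ Subgroup.normalizer (M : Set G) = ⊤ ∧
        Nonempty (↥(Subgroup.normalizer (M : Set G)) ≃* DihedralGroup (2 ^ d + 1))) := by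
  by_cases hN : M.Normal
  · exact Or.inl hN
  right
  by_cases hbig : Nat.card {g : G // orderOf g = 2} ≤ M.index
  · exact Or.inl hbig
  right
  have h := ti M hM1 hTI z hz hzN hfac hodd
  let a : Cj M := ⟨M, 1, CL.MSS.cj_one M⟩
  have hg := h.good (a₀ := a) (by
    have e : {s : G | CL.TIInv.Invo s} = {s : G | orderOf s = 2} := by
      ext s; exact CL.TIInv.invo_iff
    rw [e]
    exact not_le.mp hbig)
  have : Nontrivial (Cj M) := by
    by_contra hn
    rw [not_nontrivial_iff_subsingleton] at hn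
    exact hN (CL.MSS.normal_of_cj fun g => congrArg Subtype.val (Subsingleton.elim (g • a) a))
  have hs : MulAction.stabilizer G a = Subgroup.normalizer (M : Set G) := by
    ext g
    rw [CL.MSS.mem_normalizer_iff_cj, MulAction.mem_stabilizer_iff]
    exact Subtype.ext_iff
  have := hg.classify a
  rw [hs] at this
  exact this

end Cfsg.Agent.S3043
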