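import Cfsg.Statements.S3061
import Mathlib.GroupTheory.Nilpotent

set_option autoImplicit false
set_option linter.unusedVariables false
open Cfsg
open scoped commutatorElement

namespace Cfsg.Agent.S3061

theorem conj_mem {S : Type*} [Group S] {A : Subgroup S} (hA : A ∈ Cfsg.dStarFamily S) (g : S) :
    A.map (MulAut.conj g).toMonoidHom ∈ Cfsg.dStarFamily S := by
  obtain ⟨h1, h2⟩ := hA
  refine ⟨inferInstance, ?_⟩
  rintro x hx _ ⟨a, ha, rfl⟩
  have hinj : Function.Injective (MulAut.conj g).toMonoidHom := (MulAut.conj g).injective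
  have h3 : (A ⊔ Subgroup.zpowers (g⁻¹ * x * g)).map (MulAut.conj g).toMonoidHom =
      A.map (MulAut.conj g).toMonoidHom ⊔ Subgroup.zpowers x := by
    rw [Subgroup.map_sup, MonoidHom.map_zpowers]
    congr 2
    simp only [MulEquiv.coe_toMonoidHom, MulAut.conj_apply]
    group
  rw [← h3, ← Subgroup.map_commutator, ← Subgroup.map_commutator,
    Subgroup.map_eq_bot_iff_of_injective _ hinj] at hx
  have h4 := h2 _ hx a ha
  simp only [MulEquiv.coe_toMonoidHom, MulAut.conj_apply]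
  calc g * a * g⁻¹ * x = g * (a * (g⁻¹ * x * g)) * g⁻¹ := by group
    _ = g * ((g⁻¹ * x * g) * a) * g⁻¹ := by rw [h4]
    _ = _ := by group

theorem sup_mem {S : Type*} [Group S] {A B : Subgroup S} (hA : A ∈ Cfsg.dStarFamily S)
    (hB : B ∈ Cfsg.dStarFamily S) (hAB : A ≤ Subgroup.normalizer (B : Set S))
    (hBA : B ≤ Subgroup.normalizer (A : Set S)) : A ⊔ B ∈ Cfsg.dStarFamily S := by
  obtain ⟨hA1, hA2⟩ := hA
  obtain ⟨hB1, hB2⟩ := hB
  have hAA : ⁅A, A⁆ = ⊥ := by
    rw [Subgroup.commutator_eq_bot_iff_le_centralizer]; exact Subgroup.le_centralizer A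
  have hBB : ⁅B, B⁆ = ⊥ := by
    rw [Subgroup.commutator_eq_bot_iff_le_centralizer]; exact Subgroup.le_centralizer B
  have hc1 : ⁅A, B⁆ ≤ A ⊓ B := le_inf (Subgroup.le_normalizer_iff_commutator_le_left.1 hBA)
    (Subgroup.le_normalizer_iff_commutator_le_right.1 hAB)
  have hcen : A ⊔ B ≤ Subgroup.centralizer ((A ⊓ B : Subgroup S) : Set S) :=
    sup_le ((Subgroup.le_centralizer A).trans (Subgroup.centralizer_le (fun x hx => hx.1)))
      ((Subgroup.le_centralizer B).trans (Subgroup.centralizer_le (fun x hx => hx.2)))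
  have hc2 : ⁅A ⊔ B, A ⊔ B⁆ ≤ A ⊓ B := by
    -- the quotient of `A ⊔ B` by `A ⊓ B` is abelian
    have hN : A ⊔ B ≤ Subgroup.normalizer ((A ⊓ B : Subgroup S) : Set S) :=
      hcen.trans (Subgroup.centralizer_le_normalizer _)
    have step : ∀ x ∈ A ⊔ B, (∀ a ∈ A, ⁅a, x⁆ ∈ A ⊓ B) ∧ (∀ b ∈ B, ⁅b, x⁆ ∈ A ⊓ B) := by
      intro x hx
      have hx' : x ∈ ((A ⊔ B : Subgroup S) : Set S) := hx
      rw [Subgroup.coe_mul_of_right_le_normalizer_left A B hBA] at hx'
      obtain ⟨a, ha, b, hb, rfl⟩ := hx'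
      refine ⟨fun c hc => ?_, fun c hc => ?_⟩
      · have h1 : c * a = a * c := congrArg Subtype.val (hA1.is_comm.comm (⟨c, hc⟩ : A) ⟨a, ha⟩)
        have : ⁅c, a * b⁆ = a * ⁅c, b⁆ * a⁻¹ := by
          simp only [commutatorElement_def]
          calc c * (a * b) * c⁻¹ * (a * b)⁻¹ = (c * a) * b * c⁻¹ * (a * b)⁻¹ := by group
            _ = (a * c) * b * c⁻¹ * (a * b)⁻¹ := by rw [h1]
            _ = _ := by group
        show ⁅c, a * b⁆ ∈ A ⊓ B
        rw [this]
        exact (Subgroup.mem_normalizer_iff.1 (hN (Subgroup.mem_sup_left ha)) _).1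
          (hc1 (Subgroup.commutator_mem_commutator hc hb))
      · have h1 : c * b = b * c := congrArg Subtype.val (hB1.is_comm.comm (⟨c, hc⟩ : B) ⟨b, hb⟩)
        have : ⁅c, a * b⁆ = ⁅a, c⁆⁻¹ := by
          simp only [commutatorElement_def]
          calc c * (a * b) * c⁻¹ * (a * b)⁻¹ = c * a * c⁻¹ * ((c * b) * c⁻¹ * b⁻¹) * a⁻¹ := by group
            _ = c * a * c⁻¹ * ((b * c) * c⁻¹ * b⁻¹) * a⁻¹ := by rw [h1]
            _ = _ := by group
        show ⁅c, a * b⁆ ∈ A ⊓ B
        rw [this]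
        exact Subgroup.inv_mem _ (hc1 (Subgroup.commutator_mem_commutator ha hc))
    rw [Subgroup.commutator_le]
    intro y hy x hx
    have hy' : y ∈ ((A ⊔ B : Subgroup S) : Set S) := hy
    rw [Subgroup.coe_mul_of_right_le_normalizer_left A B hBA] at hy'
    obtain ⟨a, ha, b, hb, rfl⟩ := hy'
    have : ⁅a * b, x⁆ = a * ⁅b, x⁆ * a⁻¹ * ⁅a, x⁆ := by
      simp only [commutatorElement_def]; group
    show ⁅a * b, x⁆ ∈ A ⊓ B
    rw [this]
    exact Subgroup.mul_mem _ ((Subgroup.mem_normalizer_iff.1 (hN (Subgroup.mem_sup_left ha)) _).1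
      ((step x hx).2 b hb)) ((step x hx).1 a ha)
  have hc3 : ⁅⁅A ⊔ B, A ⊔ B⁆, A ⊔ B⁆ = ⊥ := by
    rw [Subgroup.commutator_comm, Subgroup.commutator_eq_bot_iff_le_centralizer]
    exact hcen.trans (Subgroup.centralizer_le hc2)
  have mono : ∀ {X Y : Subgroup S}, X ≤ Y → ⁅⁅Y, Y⁆, Y⁆ = ⊥ → ⁅⁅X, X⁆, X⁆ = ⊥ := by
    intro X Y h hY
    rw [eq_bot_iff, ← hY]
    exact Subgroup.commutator_mono (Subgroup.commutator_mono h h) h
  have hcomm : ∀ b ∈ B, ∀ a ∈ A, a * b = b * a := by
    intro b hb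
    exact hA2 b (mono (sup_le_sup_left ((Subgroup.zpowers_le).2 hb) A) hc3)
  have gen : ∀ x : S, (∀ a ∈ A, a * x = x * a) → (∀ b ∈ B, b * x = x * b) → ∀ y ∈ A ⊔ B, y * x = x * y := by
    intro x h1 h2 y hy
    have : A ⊔ B ≤ Subgroup.centralizer {x} :=
      sup_le (fun a ha => Subgroup.mem_centralizer_singleton_iff.2 (h1 a ha))
        (fun a ha => Subgroup.mem_centralizer_singleton_iff.2 (h2 a ha))
    exact Subgroup.mem_centralizer_singleton_iff.1 (this hy)
  refine ⟨?_, ?_⟩
  · refine ⟨⟨fun x y => Subtype.ext ?_⟩⟩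
    apply gen _ _ _ _ x.2
    · intro a ha
      refine (gen a ?_ ?_ y y.2).symm
      · intro c hc
        exact congrArg Subtype.val (hA1.is_comm.comm (⟨c, hc⟩ : A) ⟨a, ha⟩)
      · intro c hc
        exact (hcomm c hc a ha).symm
    · intro b hb
      refine (gen b ?_ ?_ y y.2).symm
      · intro c hc
        exact hcomm b hb c hc
      · intro c hc
        exact congrArg Subtype.val (hB1.is_comm.comm (⟨c, hc⟩ : B) ⟨b, hb⟩)
  · intro x hx
    exact gen x (hA2 x (mono (sup_le_sup_right le_sup_left _) hx))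
      (hB2 x (mono (sup_le_sup_right le_sup_right _) hx))


/-- Let S be a finite p-group. Then D*(S) itself belongs to the family that generates it: D*(S) is abelian, and every x ∈ S with ⟨D*(S), x⟩ of class at most two centralizes D*(S). Hence D*(S) is the unique maximal member of that family. -/
theorem result {S : Type*} [Group S] [Finite S] {p : ℕ} [Fact p.Prime] (hS : IsPGroup p S) :
    Cfsg.dStar S ∈ Cfsg.dStarFamily S := by
  classical
  have hne : (Cfsg.dStarFamily S).Nonempty := by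
    refine ⟨⊥, inferInstance, ?_⟩
    intro x _ a ha
    rw [Subgroup.mem_bot.1 ha]; simp
  have hmaxnormal : ∀ A, Maximal (· ∈ Cfsg.dStarFamily S) A → A.Normal := by
    intro A hA
    by_contra hn
    have : Group.IsNilpotent S := hS.isNilpotent
    have hnc : NormalizerCondition S := Group.normalizerCondition_of_isNilpotent
    have h1 : Subgroup.normalizer (A : Set S) < ⊤ := by
      rw [lt_top_iff_ne_top, Ne, Subgroup.normalizer_eq_top_iff]; exact hn
    obtain ⟨g, hg, hg'⟩ := SetLike.exists_of_lt (hnc _ h1)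
    apply hg'
    have hB := conj_mem hA.prop g
    have h2 : A.map (MulAut.conj g).toMonoidHom ≤ Subgroup.normalizer (A : Set S) := by
      rintro _ ⟨a, ha, rfl⟩
      exact (Subgroup.mem_normalizer_iff.1 hg a).1 (Subgroup.le_normalizer ha)
    have h3 : A ≤ Subgroup.normalizer ((A.map (MulAut.conj g).toMonoidHom : Subgroup S) : Set S) := by
      rw [Subgroup.le_normalizer_iff]
      rintro a ha _ ⟨b, hb, rfl⟩
      have : g⁻¹ * a * g ∈ Subgroup.normalizer (A : Set S) :=
        (Subgroup.mem_normalizer_iff''.1 hg a).1 (Subgroup.le_normalizer ha)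
      refine ⟨_, (Subgroup.mem_normalizer_iff.1 this b).1 hb, ?_⟩
      simp only [MulEquiv.coe_toMonoidHom, MulAut.conj_apply]
      group
    have h4 := hA.le_of_ge (sup_mem hA.prop hB h3 h2) le_sup_left
    apply Subgroup.mem_normalizer_fintype
    intro a ha
    exact h4 (Subgroup.mem_sup_right ⟨a, ha, rfl⟩)
  obtain ⟨A, hA⟩ := (Set.toFinite (Cfsg.dStarFamily S)).exists_maximal hne
  have : Cfsg.dStar S = A := by
    apply le_antisymm _ (le_sSup hA.prop)
    apply sSup_le
    intro B hB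
    obtain ⟨C, hBC, hC⟩ := (Set.toFinite (Cfsg.dStarFamily S)).exists_le_maximal hB
    have := hmaxnormal A hA
    have := hmaxnormal C hC
    have h4 := hA.le_of_ge (sup_mem hA.prop hC.prop Subgroup.le_normalizer_of_normal
      Subgroup.le_normalizer_of_normal) le_sup_left
    exact hBC.trans (le_sup_right.trans h4)
  rw [this]
  exact hA.prop

end Cfsg.Agent.S3061
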