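import Cfsg.Statements.S3065
import Mathlib
import Cfsg.Agent.SIG.LBalance
import Cfsg.Agent.SIG.Quasisimple
import Cfsg.Agent.SOLV.OddOrderCor

set_option autoImplicit false
open Cfsg

namespace Cfsg.Agent.S3065

theorem solv_of_perfect {X : Type*} [Group X] [Finite X] (H : Subgroup X)
    (h : ∀ J ≤ H, ⁅J, J⁆ = J → J = ⊥) : Group.IsSolvable H := by
  induction H using WellFoundedLT.induction with
  | ind H ih =>
  have hle : ⁅H, H⁆ ≤ H := Subgroup.commutator_le.2 fun a ha b hb => by
    rw [commutatorElement_def]
    exact mul_mem (mul_mem (mul_mem ha hb) (inv_mem ha)) (inv_mem hb)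
  by_cases he : ⁅H, H⁆ = H
  · rw [h H le_rfl he]
    infer_instance
  · haveI := ih ⁅H, H⁆ (lt_of_le_of_ne hle he) fun J hJ => h J (hJ.trans hle)
    refine Group.isSolvable_of_ker_le_range (Subgroup.inclusion hle) (Abelianization.of (G := H)) ?_
    rw [Abelianization.ker_of, Subgroup.inclusion_range]
    intro x hx
    rw [Subgroup.mem_subgroupOf, ← Subgroup.map_subtype_commutator]
    exact ⟨x, hx, rfl⟩

/-- Let G be a finite non-abelian simple group with a nontrivial Sylow 2-subgroup S (that is, G has even order). If the automorphism group of S is solvable, then the outer automorphism group Out(G) = Aut(G)/Inn(G) is solvable. -/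
theorem result {G : Type*} [Group G] [Finite G] [IsSimpleGroup G]
    (hG : ¬ IsMulCommutative G) (S : Sylow 2 G) (hS1 : (S : Subgroup G) ≠ ⊥) (hS : Group.IsSolvable (MulAut ↥S)) :
    Group.IsSolvable (Cfsg.Out G) := by
  classical
  haveI : Finite (MulAut G) :=
    Finite.of_injective (fun f : MulAut G => (f : G → G)) DFunLike.coe_injective
  have hZ : Subgroup.center G = ⊥ := by
    rcases (inferInstance : (Subgroup.center G).Normal).eq_bot_or_eq_top with h | h
    · exact h
    · exact absurd ⟨⟨fun a b => (Subgroup.mem_center_iff.1 (h ▸ Subgroup.mem_top b) a)⟩⟩ hG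
  have hinj : Function.Injective (MulAut.conj : G →* MulAut G) := by
    rw [injective_iff_map_eq_one]
    intro g hg
    have : g ∈ Subgroup.center G := by
      rw [Subgroup.mem_center_iff]
      intro x
      have := DFunLike.congr_fun hg x
      simp only [MulAut.conj_apply, MulAut.one_apply] at this
      rw [← mul_inv_eq_iff_eq_mul.1 this]
    rwa [hZ] at this
  set L : Subgroup (MulAut G) := Cfsg.Inn G with hL
  set S' : Subgroup (MulAut G) := (S : Subgroup G).map MulAut.conj with hS'
  have hSyl : CL.MSS.SylIn 2 S' L := by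
    have := (CL.MSS.sylIn_top S).map (MulAut.conj : G →* MulAut G)
    rwa [← MonoidHom.range_eq_map] at this
  let e : G ≃* L := MonoidHom.ofInjective hinj
  have hO : CL.PComp.opOf 2 L = ⊥ := by
    rw [CL.PComp.opOf_def, ← CL.map_pPrimeCore_equiv e]
    have : Cfsg.pPrimeCore 2 G = ⊥ := by
      rcases (inferInstance : (Cfsg.pPrimeCore 2 G).Normal).eq_bot_or_eq_top with h | h
      · exact h
      · exfalso
        have h1 := CL.pPrimeCore_eq_top_iff.1 h
        exact hS1 (CL.MSS.eq_bot_of_isPGroup_of_not_dvd S.isPGroup' le_top (by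
          rw [Subgroup.card_top]
          exact (Nat.Prime.coprime_iff_not_dvd Nat.prime_two).1 h1.symm))
    rw [this, Subgroup.map_bot, Subgroup.map_bot]
  have hC : Group.IsSolvable (Subgroup.centralizer (S' : Set (MulAut G))) := by
    refine solv_of_perfect _ fun J hJ hJJ => ?_
    refine CL.Comp.eq_bot_of_perfect_of_isSolvable hJJ (CL.isSolvable_of_not_two_dvd _ ?_)
    intro h2
    obtain ⟨⟨x, hx⟩, hx2⟩ := exists_prime_orderOf_dvd_card' (G := J) 2 h2
    have hx2' : orderOf x = 2 := by rw [← hx2]; exact (Subgroup.orderOf_mk x hx).symm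
    have hx1 : x = 1 := by
      ext g
      have := CL.PComp.commutator_mem_opOf_of_perfect hSyl hJJ hJ hx (k := 1)
        (by rw [pow_one, ← hx2', pow_orderOf_eq_one]) (g := MulAut.conj g) ⟨g, rfl⟩
      rw [hO, Subgroup.mem_bot, mul_inv_eq_one] at this
      apply hinj
      rw [MulAut.one_apply, ← this]
      ext y
      simp
    rw [hx1, orderOf_one] at hx2'
    exact absurd hx2' (by norm_num)
  have hN : Group.IsSolvable (Subgroup.normalizer (S' : Set (MulAut G))) := by
    haveI : Group.IsSolvable (MulAut S') :=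
      Group.isSolvable_of_surjective (f := (MulAut.congr
        ((S : Subgroup G).equivMapOfInjective _ hinj)).toMonoidHom) (MulEquiv.surjective _)
    refine Group.isSolvable_of_ker_le_range
      (Subgroup.inclusion (Subgroup.centralizer_le_normalizer (S' : Set (MulAut G))))
      S'.normalizerMonoidHom ?_
    rw [Subgroup.normalizerMonoidHom_ker, Subgroup.inclusion_range]
  refine Group.isSolvable_of_surjective
    (f := (QuotientGroup.mk' L).comp (Subgroup.normalizer (S' : Set (MulAut G))).subtype) ?_
  intro y
  obtain ⟨x, rfl⟩ := QuotientGroup.mk'_surjective L y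
  obtain ⟨n, hn, y, hy, rfl⟩ := hSyl.frattini (x := x) (by rw [Subgroup.normalizer_eq_top]; trivial)
  refine ⟨⟨y, hy⟩, ?_⟩
  simp [(QuotientGroup.eq_one_iff n).2 hn]

end Cfsg.Agent.S3065
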