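import Cfsg.Statements.S3087
import Mathlib.LinearAlgebra.Isomorphisms
import Mathlib.LinearAlgebra.Quotient.Card

set_option autoImplicit false
set_option linter.unusedVariables false
open Cfsg

namespace Cfsg.Agent.S3087

theorem card_sup_mul_card_inf {R V : Type*} [Ring R] [AddCommGroup V] [Module R V]
    (X Y : Submodule R V) : Nat.card ↥(X ⊔ Y) * Nat.card ↥(X ⊓ Y) = Nat.card X * Nat.card Y := by
  have e := LinearMap.quotientInfEquivSupQuotient X Y
  have h1 := Submodule.card_eq_card_quotient_mul_card (Submodule.comap X.subtype (X ⊓ Y))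
  have h2 := Submodule.card_eq_card_quotient_mul_card (Submodule.comap (X ⊔ Y).subtype Y)
  have h3 : Nat.card ↥(Submodule.comap X.subtype (X ⊓ Y)) = Nat.card ↥(X ⊓ Y) :=
    Nat.card_congr (Submodule.comapSubtypeEquivOfLe inf_le_left).toEquiv
  have h4 : Nat.card ↥(Submodule.comap (X ⊔ Y).subtype Y) = Nat.card Y :=
    Nat.card_congr (Submodule.comapSubtypeEquivOfLe le_sup_right).toEquiv
  rw [h1, h2, h3, h4, Submodule.comap_inf, Nat.card_congr e.toEquiv]
  ring


/-- Let p be a prime, G a finite group acting linearly on a finite vector space V over the field with p elements, W a G-invariant subspace, and A a subgroup of G with |A|·|C_V(A)| ≥ |B|·|C_V(B)| for every subgroup B of A. Then |A|·|C_W(A)| ≥ |B|·|C_W(B)| for every subgroup B of A that contains C_A(W); that is, the image of A in the group induced on W satisfies the same maximality condition. -/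
theorem result {G V : Type*} [Group G] [Finite G] [AddCommGroup V] [Finite V] (p : ℕ) [Fact p.Prime] [Module (ZMod p) V]
    (ρ : Representation (ZMod p) G V) (W : Submodule (ZMod p) V) (hW : ∀ g : G, ∀ w ∈ W, ρ g w ∈ W)
    (A : Subgroup G)
    (hP : ∀ B : Subgroup G, B ≤ A →
      Nat.card ↥B * Nat.card {v : V // ∀ b ∈ B, ρ b v = v} ≤ Nat.card ↥A * Nat.card {v : V // ∀ a ∈ A, ρ a v = v})
    (B : Subgroup G) (hBA : B ≤ A) (hCB : ∀ a ∈ A, (∀ w ∈ W, ρ a w = w) → a ∈ B) :
    Nat.card ↥B * Nat.card {w : W // ∀ b ∈ B, ρ b w = w} ≤ Nat.card ↥A * Nat.card {w : W // ∀ a ∈ A, ρ a w = w} := by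
  let CB : Submodule (ZMod p) V :=
    { carrier := {v | ∀ b ∈ B, ρ b v = v}
      add_mem' := fun {x y} hx hy b hb => by rw [map_add, hx b hb, hy b hb]
      zero_mem' := fun b hb => map_zero _
      smul_mem' := fun c x hx b hb => by rw [map_smul, hx b hb] }
  let CA : Submodule (ZMod p) V :=
    { carrier := {v | ∀ b ∈ A, ρ b v = v}
      add_mem' := fun {x y} hx hy b hb => by rw [map_add, hx b hb, hy b hb]
      zero_mem' := fun b hb => map_zero _
      smul_mem' := fun c x hx b hb => by rw [map_smul, hx b hb] }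
  have hAB : CA ≤ CB := fun v hv b hb => hv b (hBA hb)
  have e1 : Nat.card {v : V // ∀ b ∈ B, ρ b v = v} = Nat.card CB := rfl
  have e2 : Nat.card {v : V // ∀ b ∈ A, ρ b v = v} = Nat.card CA := rfl
  have e3 : Nat.card {w : W // ∀ b ∈ B, ρ b w = w} = Nat.card ↥(W ⊓ CB) :=
    Nat.card_congr ⟨fun w => ⟨w.1.1, w.1.2, w.2⟩, fun w => ⟨⟨w.1, w.2.1⟩, w.2.2⟩, fun _ => rfl, fun _ => rfl⟩
  have e4 : Nat.card {w : W // ∀ b ∈ A, ρ b w = w} = Nat.card ↥(W ⊓ CA) :=
    Nat.card_congr ⟨fun w => ⟨w.1.1, w.1.2, w.2⟩, fun w => ⟨⟨w.1, w.2.1⟩, w.2.2⟩, fun _ => rfl, fun _ => rfl⟩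
  have h := hP B hBA
  rw [e1, e2] at h
  rw [e3, e4]
  have hsup := card_sup_mul_card_inf (W ⊓ CB) CA
  have hinf : (W ⊓ CB) ⊓ CA = W ⊓ CA := by
    rw [inf_assoc, inf_eq_right.2 hAB]
  rw [hinf] at hsup
  have hle : Nat.card ↥((W ⊓ CB) ⊔ CA) ≤ Nat.card CB :=
    Nat.card_le_card_of_injective _ (Submodule.inclusion_injective (sup_le inf_le_right hAB))
  have hpos : 0 < Nat.card CA := Nat.card_pos
  apply Nat.le_of_mul_le_mul_right _ hpos
  calc Nat.card B * Nat.card ↥(W ⊓ CB) * Nat.card CA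
      = Nat.card B * (Nat.card ↥((W ⊓ CB) ⊔ CA) * Nat.card ↥(W ⊓ CA)) := by rw [hsup]; ring
    _ ≤ Nat.card B * (Nat.card CB * Nat.card ↥(W ⊓ CA)) := by gcongr
    _ = (Nat.card B * Nat.card CB) * Nat.card ↥(W ⊓ CA) := by ring
    _ ≤ (Nat.card A * Nat.card CA) * Nat.card ↥(W ⊓ CA) := by gcongr
    _ = _ := by ring

end Cfsg.Agent.S3087
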