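import Cfsg.Statements.S3109
import Mathlib
import Cfsg.Agent.SIG.SFMethodEnd
import Cfsg.Agent.S1221

set_option autoImplicit false
open Cfsg

namespace Cfsg.Agent.S3109

/-- Let G be a non-abelian finite simple group in which every 2-local subgroup is 2-constrained, and suppose some Sylow 2-subgroup S of G has a self-centralizing abelian normal subgroup A (C_S(A) = A) of 2-rank at least 3. Then the centralizer of every involution of G has no nontrivial normal subgroup of odd order. -/
theorem result {G : Type*} [Group G] [Finite G] [IsSimpleGroup G] (hG : ¬ IsMulCommutative G)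
    (h2c : ∀ T : Subgroup G, IsPGroup 2 T → T ≠ ⊥ → Cfsg.IsPConstrained 2 ↥(Subgroup.normalizer (T : Set G)))
    (S : Sylow 2 G) (A : Subgroup ↥(S : Subgroup G)) (hAn : A.Normal) (hAab : IsMulCommutative ↥A)
    (hAC : Subgroup.centralizer (A : Set ↥(S : Subgroup G)) = A) (hA3 : ¬ Cfsg.PRankLE 2 2 ↥A) :
    ∀ t : G, orderOf t = 2 → Cfsg.centralizerPPrimeCore 2 t = ⊥ := by
  intro t ht
  have hL := CL.SFM.pLayerOf_eq_bot_of_constrained h2c
  obtain ⟨V, h1, h2, h3⟩ := CL.SFM.exists_normal_big_of_scn hAn hAab hA3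
  refine CL.SFM.core_eq_bot (CL.SFM.isEqCSF_two hL) hL
    (fun _ h => CL.SFM.good_of_normal_big S h3 h1 h2 h) ?_
    (fun H hH => Cfsg.Agent.S1221.result H hH) ht
  refine (IsSimpleGroup.eq_bot_or_eq_top_of_normal (Cfsg.oddCore G) inferInstance).resolve_right
    fun h => ?_
  have h4 := CL.PComp.coprime_orderOf_of_mem (CL.PComp.pPrimeCore_coprime (G := G) 2)
    (x := t) (h.ge (Subgroup.mem_top t))
  rw [ht] at h4
  norm_num at h4

end Cfsg.Agent.S3109
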