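import Cfsg.Statements.S3110
import Mathlib
import Cfsg.Agent.SIG.SFMethodEnd

set_option autoImplicit false
open Cfsg

namespace Cfsg.Agent.S3110

/-- Let G be a finite group in which every 2-local subgroup is 2-constrained and some Sylow 2-subgroup has a self-centralizing abelian normal subgroup of 2-rank at least 3, and let S be any Sylow 2-subgroup of G. Then there is a subgroup W of G of odd order such that, for every subgroup B of S of 2-rank at least 2, W is generated by the largest normal odd-order subgroups O(C_G(b)) of the centralizers of the non-identity elements b of B, and W is normalized by the normalizer of every such B. -/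
theorem result {G : Type*} [Group G] [Finite G]
    (h2c : ∀ T : Subgroup G, IsPGroup 2 T → T ≠ ⊥ → Cfsg.IsPConstrained 2 ↥(Subgroup.normalizer (T : Set G)))
    (S : Sylow 2 G) (A : Subgroup ↥(S : Subgroup G)) (hAn : A.Normal) (hAab : IsMulCommutative ↥A)
    (hAC : Subgroup.centralizer (A : Set ↥(S : Subgroup G)) = A) (hA3 : ¬ Cfsg.PRankLE 2 2 ↥A) (S' : Sylow 2 G) :
    ∃ W : Subgroup G, Odd (Nat.card ↥W) ∧
      ∀ B : Subgroup G, B ≤ (S' : Subgroup G) → ¬ Cfsg.PRankLE 2 1 ↥B →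
        W = (⨆ b : {b : G // b ∈ B ∧ b ≠ 1}, Cfsg.centralizerPPrimeCore 2 (b : G)) ∧
        Subgroup.normalizer (B : Set G) ≤ Subgroup.normalizer (W : Set G) := by
  have hL := CL.SFM.pLayerOf_eq_bot_of_constrained h2c
  have hθ := CL.SFM.isEqCSF_two hL
  obtain ⟨V0, h01, h02, h03⟩ := CL.SFM.exists_normal_big_of_scn hAn hAab hA3
  obtain ⟨g, -, hg⟩ := (CL.Misc.sylIn_top S').exists_conj_eq (CL.Misc.sylIn_top S)
  set V := V0.map (MulAut.conj g).toMonoidHom with hV
  have h1 : V ≤ S' := hg ▸ Subgroup.map_mono h01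
  have h2 : (S' : Subgroup G) ≤ Subgroup.normalizer (V : Set G) := by
    rw [← hg]
    rintro _ ⟨x, hx, rfl⟩
    exact CL.Rank.mem_normalizer_map_conj.2 (h02 hx)
  have h3 : CL.SFM.Big 2 V := h03.map_conj g
  refine ⟨Cfsg.signalizerClosure V (Cfsg.centralizerPPrimeCore 2),
    Nat.coprime_two_right.1 (hθ.coprime_closure h3.vtx), fun B hB hB1 => ?_⟩
  obtain ⟨E, hE1, hE2, hE3⟩ := CL.SFM.not_prankLE_one_iff.1 hB1
  have key : ∀ F : Subgroup G, F ≤ B → Cfsg.IsElementaryAbelian 2 F → 2 ^ 2 ≤ Nat.card F →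
      Cfsg.signalizerClosure F (Cfsg.centralizerPPrimeCore 2) =
        Cfsg.signalizerClosure V (Cfsg.centralizerPPrimeCore 2) := fun F a b c =>
    hθ.closure_eq_of_normal_big S'.isPGroup' h3 h1 h2 h3 h1 (a.trans hB) b c
  have hEv : CL.SFM.Vtx 2 E := by
    obtain ⟨C, -, h4, h5⟩ := CL.SFM.exists_big_ge_of_normal_big h3 h1 h2 (hE1.trans hB) hE2 hE3
    exact ⟨hE3, C, h4, h5⟩
  constructor
  · refine le_antisymm ((key E hE1 hE2 hE3).ge.trans (CL.SFM.closure_mono _ hE1))
      (CL.SFM.closure_le_iff.2 fun b hb hb1 => ?_)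
    have hP : IsPGroup 2 (Subgroup.zpowers b) :=
      CL.Misc.isPGroup_zpowers_of_mem S'.isPGroup' (hB hb)
    obtain ⟨⟨c, hc⟩, hc1⟩ := (Subgroup.ne_bot_iff_exists_ne_one).1
      (CL.Th.omegaOne_ne_bot_of_isPGroup hP (by simpa using hb1))
    obtain ⟨hc2, hc3⟩ := (CL.Th.mem_omegaOne_iff inferInstance).1 hc
    have hc1' : c ≠ 1 := fun h => hc1 (Subtype.ext h)
    have hco : orderOf c = 2 := orderOf_eq_prime hc3 hc1'
    have hle : Subgroup.zpowers b ≤ Subgroup.centralizer {c} :=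
      Subgroup.zpowers_le.2 (Subgroup.mem_centralizer_singleton_iff.2
        (CL.PCyc.commute_of_mem_zpowers hc2).symm)
    have h4 := (CL.PComp.local_of_pLayerOf_eq_bot (hL c hco) hP hle).2
    rw [inf_eq_right.2 (Subgroup.centralizer_le (Set.singleton_subset_iff.2 hc2)),
      CL.PCyc.centralizer_zpowers] at h4
    obtain ⟨C, h5, h6, h7⟩ := CL.SFM.exists_big_mem_of_normal_big h3 h1 h2
      (hB (Subgroup.zpowers_le.2 hb hc2)) (by rw [← pow_two, hc3])
    rw [← hθ.closure_eq_of_big S'.isPGroup' h7 h5 h3 h1]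
    exact h4.trans (CL.SFM.le_closure (Cfsg.centralizerPPrimeCore 2) h6 hc1')
  · intro x hx
    rw [← key E hE1 hE2 hE3]
    refine hθ.mem_normalizer_of_closure_eq hEv ?_
    rw [key E hE1 hE2 hE3]
    refine key _ ?_ (hEv.map_conj x).elemAb (hEv.map_conj x).1
    rintro _ ⟨y, hy, rfl⟩
    exact (Subgroup.mem_normalizer_iff.1 hx y).1 (hE1 hy)

end Cfsg.Agent.S3110
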