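import Cfsg.Statements.S3119
import Cfsg.Agent.INV.ABG.Weak

set_option autoImplicit false
open Cfsg

namespace Cfsg.Agent.S3119

/-- Let X be a finite group that has no subgroup of index 2 and whose Sylow 2-subgroups are quasi-dihedral or wreathed. Let H be a subgroup of X which is weakly embedded: H contains involutions, all involutions of H are conjugate in H, and for every involution y of H the centralizer C_X(y) is the product of C_H(y) and the largest normal odd-order subgroup O(C_X(y)). Suppose that all non-abelian composition factors of H are known finite simple groups and that H/O(H) is not isomorphic to the Mathieu group of degree 11. Then O(H) ≤ O(X). -/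
theorem result {X : Type*} [Group X] [Finite X] (S : Sylow 2 X) (hS : Cfsg.IsQuasiDihedral ↥(S : Subgroup X) ∨ Cfsg.IsWreathed ↥(S : Subgroup X))
    (h2 : ∀ N : Subgroup X, N.index ≠ 2)
    (H : Subgroup X)
    (hev : ∃ y ∈ H, orderOf y = 2) (h1 : ∀ y ∈ H, ∀ y' ∈ H, orderOf y = 2 → orderOf y' = 2 → ∃ h ∈ H, h * y * h⁻¹ = y')
    (hcov : ∀ y ∈ H, orderOf y = 2 → ∀ c ∈ Subgroup.centralizer ({y} : Set X),
      ∃ h ∈ H ⊓ Subgroup.centralizer ({y} : Set X), ∃ o ∈ Cfsg.centralizerPPrimeCore 2 y, c = h * o)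
    (hK : Cfsg.IsCompositionKGroup ↥H) (hM : ¬ Cfsg.Spor.IsoM11 (↥H ⧸ Cfsg.oddCore ↥H)) :
    (Cfsg.oddCore ↥H).map H.subtype ≤ Cfsg.oddCore X := by
  obtain ⟨z, hz, z2⟩ := hev
  obtain ⟨Q, -, ⟨e⟩⟩ := CL.QDS.exists_sylow_quot S
  let p := QuotientGroup.mk' (oddCore X)
  have hp : ∀ {x : X}, p x = 1 → Odd (orderOf x) := fun h =>
    CL.ABG.LC.odd_of_mem ((QuotientGroup.eq_one_iff _).1 h)
  have sq : ∀ {y : X}, orderOf y = 2 → y * y = 1 := CL.ABG.LC.sq_of_two
  have h3 : orderOf (p z) = 2 := orderOf_eq_prime (by rw [← map_pow, pow_two, sq z2, map_one])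
    fun h => absurd (z2 ▸ hp h) (by decide)
  have h4 := CL.ABG.core_eq_bot_of_weak Q (hS.imp (CL.Fus.isQuasiDihedral_of_equiv e)
    (CL.Fus.isWreathed_of_equiv e)) (CL.QDS.no_index_two_quot h2 _)
    (CL.pPrimeCore_quotient_pPrimeCore 2 X) (H := H.map p) ⟨z, hz, rfl⟩ h3 ?_ ?_
  · rintro _ ⟨x, hx, rfl⟩
    have h5 := CL.map_pPrimeCore_le (p := 2) (p.subgroupMap_surjective H) ⟨x, hx, rfl⟩
    exact (QuotientGroup.eq_one_iff _).1 (congrArg Subtype.val (h4.le h5))
  · rintro _ ⟨y, hy, rfl⟩ y2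
    obtain ⟨m, hm⟩ := hp (x := y ^ 2) (by rw [map_pow, pow_two, CL.ABG.LC.sq_of_two y2])
    have h5 : p (y ^ (2 * m + 1)) = p y := by
      rw [map_pow, pow_succ, pow_mul, pow_two, CL.ABG.LC.sq_of_two y2, one_pow, one_mul]
    obtain ⟨h, hh, e⟩ := h1 z hz _ (pow_mem hy (2 * m + 1)) z2 (orderOf_eq_prime
      (by rw [← pow_mul, mul_comm, pow_mul, ← hm, pow_orderOf_eq_one])
      fun e => by simp [← h5, e] at y2)
    exact ⟨p h, ⟨h, hh, rfl⟩, by rw [← h5, ← e, map_mul, map_mul, map_inv]⟩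
  · let φ : Subgroup.centralizer {z} →* Subgroup.centralizer {p z} :=
      (p.comp (Subgroup.subtype _)).codRestrict _ fun x =>
        Subgroup.mem_centralizer_singleton_iff.2 (by
          simpa using congrArg p (Subgroup.mem_centralizer_singleton_iff.1 x.2))
    have hφ : Function.Surjective φ := fun ⟨c, hc⟩ => by
      obtain ⟨c, rfl⟩ := QuotientGroup.mk'_surjective _ c
      have h5 : p (c * z * c⁻¹ * z) = 1 := by
        rw [map_mul, map_mul, map_mul, Subgroup.mem_centralizer_singleton_iff.1 hc, map_inv,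
          mul_inv_cancel_right, ← map_mul, sq z2, map_one]
      obtain ⟨k, hk⟩ := CL.TwoInv.exists_conj_of_odd (by rw [conj_mul, sq z2]; simp) (sq z2) (hp h5)
      refine ⟨⟨(c * z * c⁻¹ * z) ^ k * c, Subgroup.mem_centralizer_singleton_iff.2 ?_⟩,
        Subtype.ext (show p (_ * _) = p c by rw [map_mul, map_zpow, h5, one_zpow, one_mul])⟩
      rw [← mul_inv_eq_iff_eq_mul]
      exact Eq.trans (by group) hk
    intro c hc
    obtain ⟨d, hd⟩ := hφ ⟨c, hc⟩
    obtain ⟨h, hh, _, ⟨o, ho, rfl⟩, e⟩ := hcov z hz z2 d d.2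
    exact ⟨p h, ⟨⟨h, hh.1, rfl⟩, (φ ⟨h, hh.2⟩).2⟩, _,
      ⟨φ o, CL.map_pPrimeCore_le (p := 2) hφ ⟨o, ho, rfl⟩, rfl⟩,
      (congrArg Subtype.val hd).symm.trans ((congrArg p e).trans (map_mul p _ _))⟩

end Cfsg.Agent.S3119
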