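import Cfsg.Statements.S3139
import Cfsg.Agent.INV.HL.Main
import Cfsg.Agent.INV.HL.RedA
import Cfsg.Agent.INV.HL.RedB
import Cfsg.Agent.INV.HL.Red3
import Cfsg.Agent.INV.ZStar
import Cfsg.Agent.SIG.FStar

set_option autoImplicit false
open Cfsg

namespace Cfsg.Agent.S3139

/-- Let G be a finite group whose generalized Fitting subgroup F*(G) is a non-abelian simple group, and let t be an involution of G with centralizer H. Suppose H has a 2-component L such that L modulo its largest normal odd-order subgroup O(L) is isomorphic to the projective special linear group of dimension 3 over the field with 3 elements, and such that every 2-subgroup of H whose elements act trivially on L/O(L) by conjugation is cyclic (the centralizer of L/O(L) in H has cyclic Sylow 2-subgroups). Then the 2-part of the order of F*(G) is at most 2¹⁰. -/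
theorem result {G : Type*} [Group G] [Finite G]
    (hF : IsSimpleGroup ↥(Cfsg.generalizedFittingSubgroup G)) (hF' : ¬ IsMulCommutative ↥(Cfsg.generalizedFittingSubgroup G))
    (t : G) (ht : orderOf t = 2) (L : Subgroup ↥(Subgroup.centralizer ({t} : Set G))) (hL : Cfsg.IsPComponent 2 L)
    {F : Type*} [Field F] [Fintype F] (hF3 : Fintype.card F = 3)
    (hLX : Nonempty ((↥L ⧸ Cfsg.oddCore ↥L) ≃* Matrix.ProjectiveSpecialLinearGroup (Fin 3) F))
    (hc : ∀ P : Subgroup ↥(Subgroup.centralizer ({t} : Set G)), IsPGroup 2 ↥P →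
      (∀ g ∈ P, ∀ l ∈ L, ∃ o ∈ Cfsg.oddCore ↥L, g * (l : ↥(Subgroup.centralizer ({t} : Set G))) * g⁻¹ = l * o) → IsCyclic ↥P) :
    ¬ 2 ^ 11 ∣ Nat.card ↥(Cfsg.generalizedFittingSubgroup G) := by
  classical
  have hn : (Cfsg.generalizedFittingSubgroup G).Normal := inferInstance
  have hC : Subgroup.centralizer (Cfsg.generalizedFittingSubgroup G : Set G) = ⊥ := by
    have h1 := CL.Comp.centralizer_fstar_le (G := G)
    rcases (Subgroup.normal_subgroupOf_of_le_normalizer (H := Cfsg.generalizedFittingSubgroup G)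
      (N := Subgroup.centralizer (Cfsg.generalizedFittingSubgroup G : Set G))
      Subgroup.le_normalizer_of_normal).eq_bot_or_eq_top with e | e
    · have := (Subgroup.subgroupOf_eq_bot.1 e).eq_bot
      rwa [inf_eq_left.2 h1] at this
    · exact absurd ⟨⟨fun a b => Subtype.ext (Subgroup.subgroupOf_eq_top.1 e b.2 a a.2)⟩⟩ hF'
  intro hd
  have hdG := hd.trans (Subgroup.card_subgroup_dvd_card _)
  have fin : CL.HL.Concl G → False := by
    rintro (h | ⟨h, N, hN⟩)
    · exact h hdG
    · have hNn : N.Normal := Subgroup.normal_of_index_eq_two hN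
      rcases (hNn.subgroupOf (Cfsg.generalizedFittingSubgroup G)).eq_bot_or_eq_top with e | e
      · have h1 := Subgroup.relIndex_dvd_index_of_normal N (Cfsg.generalizedFittingSubgroup G)
        rw [Subgroup.relIndex, e, Subgroup.index_bot, hN] at h1
        exact absurd (Nat.le_of_dvd two_pos (hd.trans h1)) (by norm_num)
      · have h1 := hd.trans (Subgroup.card_dvd_of_le (Subgroup.subgroupOf_eq_top.1 e))
        apply h
        rw [← N.card_mul_index, hN, pow_succ]
        exact mul_dvd_mul h1 dvd_rfl
  obtain ⟨π, h1, h2, h3, h4, h5⟩ := CL.HL.exists_act L hL hF3 hLX hc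
  obtain ⟨M⟩ := CL.HL.exists_mo
  rcases CL.HL.lift_mo M t ht L π h1 h2 h3 h4 h5 with ⟨⟨Φ⟩⟩ | ⟨P, rfl, ⟨r, hr, e⟩ | ⟨hR, hs⟩⟩
  · exact fin Φ.concl
  · have hO : Cfsg.oddCore G = ⊥ := by
      have hOn : (Cfsg.oddCore G).Normal := inferInstance
      rcases (hOn.subgroupOf (Cfsg.generalizedFittingSubgroup G)).eq_bot_or_eq_top with e | e
      · have d := Subgroup.subgroupOf_eq_bot.1 e
        refine eq_bot_iff.2 fun x hx => hC ▸ fun y hy => ?_
        exact (Subgroup.commute_of_normal_of_disjoint _ _ hOn hn d x y hx hy).symm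
      · have := hd.trans (Subgroup.card_dvd_of_le (Subgroup.subgroupOf_eq_top.1 e))
        exact absurd ((dvd_pow_self 2 (by norm_num)).trans this)
          (CL.PComp.not_dvd_card_pPrimeCore 2)
    have hZ := CL.BS.zstar_center ⟨ht, fun g hg => by
      simpa using P.three hr e g⁻¹ (by simpa using hg)⟩ hO
    have : P.t ∈ Subgroup.centralizer (Cfsg.generalizedFittingSubgroup G : Set G) :=
      fun y _ => Subgroup.mem_center_iff.1 hZ y
    rw [hC] at this
    exact P.t1 this
  · exact fin (CL.HL.Concl.of (by norm_num) (P.twoa hR hs))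

end Cfsg.Agent.S3139
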