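import Cfsg.Statements.S3144
import Cfsg.Agent.INV.STD.O8G
import Cfsg.Agent.INV.STD.O8D
import Cfsg.Agent.INV.STD.Even

set_option autoImplicit false
open Cfsg

namespace Cfsg.Agent.S3144

open CL.StdO8 CL.StdE in
theorem fr {G : Type*} [Group G] {f : P →* G} (h : M ζ f) (hc : Cy ζ f) :
    ∃ F : W → G, Fr F ∧ F (e 1) = f ζ := by
  classical
  let F : W → G := fun w => if hw : w ∈ P then f ⟨w, hw⟩ else 1
  have hF : ∀ w (hw : w ∈ P), F w = f ⟨w, hw⟩ := fun w hw => dif_pos hw
  have hz : F (e 1) = f ζ := hF _ e1_P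
  have hK : Kc F = Kf f := by
    ext k
    rw [mem_Kc, mem_Kf]
    exact ⟨fun t x => hF _ x.2 ▸ t _ x.2, fun t x hx => hF x hx ▸ t _⟩
  refine ⟨F, ⟨fun x hx y hy => ?_, fun x hx y hy t => ?_, ?_, ?_, ?_, ?_⟩, hz⟩
  · rw [hF x hx, hF y hy, hF _ (mul_mem hx hy), ← map_mul]; rfl
  · rw [hF x hx, hF y hy] at t; exact congrArg Subtype.val (h.inj t)
  all_goals rw [hz]
  · intro m hm
    obtain ⟨α, hα⟩ := h.exists_aut hm
    obtain ⟨w, hw⟩ := aut_P α
    exact ⟨w, fun x hx => by rw [hF x hx, hF _ (conj_P hx w), ← hα, hw]; rfl⟩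
  · rw [hK]
    intro g hg
    by_contra hn
    exact h.not_mem hn hg
  · exact hK ▸ hc.uniq
  · exact hK ▸ hc.noinv


/-- Let G be a finite group with no nontrivial normal subgroup of odd order and L a standard subgroup of G which is a double cover of the simple orthogonal group PΩ⁺ of dimension 8 over the field with 2 elements (the centre of L has order 2 and L modulo its centre is isomorphic to that group), and suppose the centralizer of L in G has cyclic Sylow 2-subgroups. Then L is normal in G. -/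
theorem result {G : Type*} [Group G] [Finite G] (hO : Cfsg.oddCore G = ⊥) (L : Subgroup G) (hL : Cfsg.IsStandardSubgroup L)
    {F : Type*} [Field F] [Fintype F] (hF : Fintype.card F = 2)
    (hZ : Nat.card ↥(Subgroup.center ↥L) = 2) (hLX : Nonempty ((↥L ⧸ Subgroup.center ↥L) ≃* Cfsg.POmega F (Cfsg.quadFormPlus 4 F)))
    (hR : ∀ R : Sylow 2 ↥(Subgroup.centralizer (L : Set G)), IsCyclic ↥(R : Subgroup ↥(Subgroup.centralizer (L : Set G)))) :
    L.Normal := by
  have e2 : ZMod 2 ≃+* F := FiniteField.ringEquivOfCardEq (by rw [hF, ZMod.card])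
  obtain ⟨t⟩ := hLX
  let π : L →* CL.StdO8.Ob := (t.trans (CL.SchurC.pOmegaPlusCongr e2 4).symm).toMonoidHom.comp
    (QuotientGroup.mk' _)
  have hk : π.ker = Subgroup.center L := by
    ext x
    rw [MonoidHom.mem_ker, ← QuotientGroup.eq_one_iff]
    exact map_eq_one_iff _ (t.trans (CL.SchurC.pOmegaPlusCongr e2 4).symm).injective
  obtain ⟨e⟩ := CL.StdO8.exists_equiv (π := π) ⟨(t.trans (CL.SchurC.pOmegaPlusCongr e2 4).symm).surjective.comp
    (QuotientGroup.mk'_surjective _),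
    hk.le, by rw [commutator_def, hL.1.commutator_top]; exact le_top⟩ (hk ▸ hZ)
  let f : CL.StdO8.P →* G := L.subtype.comp e.symm.toMonoidHom
  have hf : f.range = L := by
    ext x
    exact ⟨fun ⟨y, hy⟩ => hy ▸ (e.symm y).2, fun hx => ⟨e ⟨x, hx⟩, by simp [f]⟩⟩
  have h : CL.StdE.M CL.StdO8.ζ f := CL.StdE.M.of_std (hf ▸ hL) (L.subtype_injective.comp e.symm.injective)
    CL.StdO8.order_ζ CL.StdO8.center_P
  obtain ⟨F', h1, h2⟩ := fr h (h.cy (by unfold CL.StdE.Kf; rw [hf]; exact hR))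
  by_contra hn
  obtain ⟨g, h3, h4⟩ := CL.StdE.exists_conj hO h.zord fun hz => hn (hf ▸ h.normal_of_center hz)
  rw [← h2] at h3 h4
  exact h3 (h1.isolated h4)

end Cfsg.Agent.S3144
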