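import Cfsg.Statements.S3149
import Cfsg.Agent.SOLV.RuU3
import Cfsg.Agent.INV.STD.Even
import Cfsg.Agent.S2051
import Cfsg.Agent.S2077

set_option autoImplicit false
open Cfsg

namespace Cfsg.Agent.S3149

open CL.StdE CL.Ru CL.RuU CL.Schur Cfsg.Spor Subgroup
open scoped commutatorElement

theorem cover {A : Type*} [Group A] [Finite A] (hp : Group.IsPerfect A) {ζ : A} (ho : orderOf ζ = 2)
    (hc : ∀ x, x ∈ center A ↔ x = 1 ∨ x = ζ) (hZ : Nat.card (center A) = 2) (e : (A ⧸ center A) ≃* Ru)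
    (x : A) : x * x * (x * x) ≠ ζ ∧ (x * x = 1 → x = 1 ∨ x = ζ ∨ Good ⊤ x) := by
  let σ : A →* Gam := (e.trans ruEquiv).toMonoidHom.comp (QuotientGroup.mk' _)
  have hk : σ.ker = center A := by
    ext y
    rw [MonoidHom.mem_ker, ← QuotientGroup.eq_one_iff]
    exact (e.trans ruEquiv).map_eq_one_iff
  have hs : Function.Surjective σ := (e.trans ruEquiv).surjective.comp (QuotientGroup.mk'_surjective _)
  have hσ : IsCover σ := ⟨(IsCentralExt.mk hs hk.le).isStem_of_perfect hp, by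
    rw [hk, hZ, ← card_multiplier_eq (CL.SchurC.cyclic_of_upper S2051.upper S2051.lower)]; simp⟩
  have : Finite Gam := Nat.finite_of_card_ne_zero (by rw [card_Gam]; decide)
  obtain ⟨η, hη⟩ := hσ.exists_lift_of_perfect (by
    have := hp
    exact Group.IsPerfect.ofSurjective hs) (MonoidHom.id _) (ξ := φ) ⟨φ_surj, center_eq.ge⟩
  rw [MonoidHom.id_comp] at hη
  have hι : ι ^ 2 ≠ 1 := fun t => by
    have := orderOf_dvd_of_pow_eq_one t
    rw [orderOf_ι] at this
    omega
  have h1 : η ζ = ι ^ 2 := by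
    have : ι ^ 2 ∈ stemKer φ := mem_stemKer.2 ⟨(ker_φ ▸ npow_mem_zpowers ι 2 : ι ^ 2 ∈ φ.ker),
      S2051.comm ▸ commutator_mem_commutator (mem_top _) (mem_top _)⟩
    obtain ⟨y, hy, t⟩ := (map_stemKer hs center_eq.ge η hη).ge this
    rcases (hc y).1 (hk ▸ stemKer_le_ker _ hy) with rfl | rfl
    · exact absurd (t.symm.trans (map_one _)) hι
    · exact t
  have hi : Function.Injective η := (injective_iff_map_eq_one _).2 fun y t => by
    have : σ y = 1 := by rw [← hη, MonoidHom.comp_apply, t, map_one]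
    rcases (hc y).1 (hk ▸ this) with rfl | rfl
    · rfl
    · exact absurd (h1.symm.trans t) hι
  have h2 : η.range = commutator fourRu := by
    rw [← map_commutator_of_over hs center_eq.ge η hη, hp.commutator_eq_top, MonoidHom.range_eq_map]
  have : η.range.Normal := h2 ▸ inferInstance
  obtain ⟨h3, h4⟩ := facts η.range (fun g => by
    obtain ⟨a, ha⟩ := hs (φ g)
    obtain ⟨k, hk⟩ : (η a)⁻¹ * g ∈ zpowers ι := by
      rw [← ker_φ, MonoidHom.mem_ker, map_mul, map_inv, ← ha, ← hη]; simp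
    have h5 : ι ^ k ∈ center fourRu := center_eq ▸ ker_φ ▸ zpow_mem_zpowers ι k
    refine ⟨a * a * ζ ^ k, ?_⟩
    rw [map_mul, map_mul, map_zpow, h1, eq_inv_mul_iff_mul_eq.1 hk |>.symm, mul_assoc (η a) (ι ^ k),
      ← mul_assoc (ι ^ k), ← mem_center_iff.1 h5, ← zpow_natCast, ← zpow_mul, mul_assoc, mul_assoc,
      ← zpow_add]
    congr 3
    push_cast; ring) (by
      rw [← Nat.card_congr (MonoidHom.ofInjective hi).toEquiv, card_eq_card_ker_mul hs, hk, hZ, card_Gam])
    (x := η x) ⟨x, rfl⟩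
  refine ⟨fun t => h3 (by rw [← h1, ← t]; simp), fun t => ?_⟩
  rcases h4 (by rw [← map_mul, t, map_one]) with t | t | ⟨_, ⟨y, rfl⟩, _, ⟨p, rfl⟩, _, ⟨q, rfl⟩, t1, t2, t3, t4⟩
  · exact Or.inl (hi (t.trans (map_one _).symm))
  · exact Or.inr (Or.inl (hi (t.trans h1.symm)))
  · exact Or.inr (Or.inr ⟨y, trivial, p, trivial, q, trivial, hi (by simpa using t1), hi (by simpa using t2),
      hi (by simpa using t3), hi (by simpa using t4)⟩)

theorem weak {X G : Type*} [Group X] [Group G] [Finite X] [Finite G] {ζ : X} {f : X →* G} (h : M ζ f)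
    (hR : ∀ R : Sylow 2 (Kf f), IsCyclic (R : Subgroup (Kf f)))
    (hin : ∀ α : X ≃* X, ∃ a, ∀ x, α x = a * x * a⁻¹) (h4 : ∀ x : X, x * x * (x * x) ≠ ζ) {g : G} {x : X}
    (hg : g * f ζ * g⁻¹ = f x) : ¬ Good ⊤ x := by
  rintro ⟨y, -, p, -, q, -, t1, t2, t3, t4⟩
  have key : ∀ y : X, y * x = x * y → ∃ a, ∃ k : Kf f, g⁻¹ * f y * g = f a * k := fun y t => by
    obtain ⟨a, k, hk, e⟩ := h.decomp hin (g := g⁻¹ * f y * g) (by
      calc g⁻¹ * f y * g * f ζ = g⁻¹ * (f y * (g * f ζ * g⁻¹)) * g := by group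
        _ = g⁻¹ * (g * f ζ * g⁻¹ * f y) * g := by rw [hg, ← map_mul, ← map_mul, t]
        _ = _ := by group)
    exact ⟨a, ⟨k, hk⟩, e⟩
  have hm : ∀ (x y : X) (k l : Kf f), f x * k * (f y * l) = f (x * y) * (k * l : Kf f) :=
    fun x y k l => by rw [map_mul, mul_assoc, ← mul_assoc (k : G), kcomm k.2, coe_mul]; group
  obtain ⟨a, k, e1⟩ := key y (by rw [← t1]; group)
  obtain ⟨b, l, e2⟩ := key p t2
  obtain ⟨c, m, e3⟩ := key q t3
  let z : Kf f := ⟨f ζ, h.z_mem⟩
  have e4 : f (a * a * (a * a)) * (k * k * (k * k) : Kf f) = z := by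
    rw [← hm, ← hm, ← e1]
    calc _ = g⁻¹ * f (y * y * (y * y)) * g := by simp only [map_mul]; group
      _ = f ζ := by rw [t1, ← hg]; group
  have e5 : k * k * (k * k) = z := by
    rcases h.eq_of_mem (x := a * a * (a * a)) (by
      rw [eq_mul_inv_of_mul_eq e4]; exact mul_mem z.2 (inv_mem (Subtype.coe_prop _))) with t | t
    · rw [t, map_one, one_mul] at e4
      exact Subtype.ext e4
    · exact absurd t (h4 a)
  have e6 : f (a * a * (c * b)) * (k * k * (m * l) : Kf f) = f (b * c) * (l * m : Kf f) := by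
    rw [← hm, ← hm, ← hm, ← hm, ← e1, ← e2, ← e3]
    calc _ = g⁻¹ * f (y * y * (q * p)) * g := by simp only [map_mul]; group
      _ = _ := by rw [t4, map_mul]; group
  have e7 : f ((b * c)⁻¹ * (a * a * (c * b))) = (l * m * (k * k * (m * l))⁻¹ : Kf f) := by
    rw [map_mul, map_inv, coe_mul, coe_inv, eq_mul_inv_iff_mul_eq, mul_assoc, e6, inv_mul_cancel_left]
  have hz : orderOf z = 2 := by rw [← orderOf_coe]; exact h.zord
  obtain ⟨R⟩ : Nonempty (Sylow 2 (Kf f)) := inferInstance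
  have hc := hR R
  let τ := MonoidHom.transferSylow R (hc.normalizer_le_centralizer
    ((Nat.minFac_eq_two_iff _).2 (hz ▸ orderOf_dvd_natCard z)))
  let _ := IsCyclic.commGroup (α := (R : Subgroup (Kf f)))
  have e8 : τ (l * m * (k * k * (m * l))⁻¹) = (τ k * τ k)⁻¹ := by
    simp only [map_mul, map_inv]
    rw [mul_comm (τ m), mul_inv, mul_comm, inv_mul_cancel_right]
  have e9 : τ z = 1 := by
    have e10 : (τ k * τ k)⁻¹ * (τ k * τ k)⁻¹ = 1 := by
      rw [← e8, ← map_mul, ← map_one τ]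
      congr 1
      apply Subtype.ext
      rw [coe_mul, ← e7]
      rcases h.eq_of_mem (e7 ▸ Subtype.coe_prop _) with t | t <;> rw [t]
      · simp
      · exact h.zsq
    rw [← mul_inv, inv_eq_one] at e10
    rw [← e5, map_mul, map_mul, e10]
  refine MonoidHom.not_dvd_card_ker_transferSylow R _ (?_ : 2 ∣ Nat.card τ.ker)
  exact hz.symm.dvd.trans (τ.ker.orderOf_dvd_natCard e9)

/-- Let G be a finite group with no nontrivial normal subgroup of odd order and A a standard subgroup of G which is a double cover of the Rudvalis group (the centre of A has order 2 and A modulo its centre is isomorphic to the Rudvalis group). If the centralizer of A in G has cyclic Sylow 2-subgroups, then A is normal in G. -/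
theorem result {G : Type*} [Group G] [Finite G] (hO : Cfsg.oddCore G = ⊥) (A : Subgroup G) (hA : Cfsg.IsStandardSubgroup A)
    (hZ : Nat.card ↥(Subgroup.center ↥A) = 2) (hAX : Cfsg.Spor.IsoRu (↥A ⧸ Subgroup.center ↥A))
    (hR : ∀ R : Sylow 2 ↥(Subgroup.centralizer (A : Set G)), IsCyclic ↥(R : Subgroup ↥(Subgroup.centralizer (A : Set G)))) : A.Normal := by
  obtain ⟨e⟩ := hAX
  obtain ⟨ζ, hζ, hu⟩ := (Nat.card_eq_two_iff' (1 : center A)).1 hZ
  have hc : ∀ x, x ∈ center A ↔ x = 1 ∨ x = ζ := fun x => ⟨fun hx => or_iff_not_imp_left.2 fun t =>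
    congrArg Subtype.val (hu ⟨x, hx⟩ fun t' => t (congrArg Subtype.val t')), by
      rintro (rfl | rfl)
      exacts [one_mem _, ζ.2]⟩
  have ho : orderOf (ζ : A) = 2 := by
    rw [orderOf_coe]
    exact orderOf_eq_prime (hZ ▸ pow_card_eq_one') hζ
  have hf : A.subtype.range = A := A.range_subtype
  have h : M (ζ : A) A.subtype := M.of_std (hf.symm ▸ hA) A.subtype_injective ho hc
  have hR' : ∀ R : Sylow 2 (Kf A.subtype), IsCyclic (R : Subgroup (Kf A.subtype)) := by
    unfold Kf; rw [hf]; exact hR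
  have hin := inner_of_out (X := A) hA.1.1.commutator_eq_top ((CL.AutT.card_out_congr e).trans S2077.result)
  have hF := cover hA.1.1 ho hc hZ e
  by_contra hn
  obtain ⟨g, h1, h2⟩ := exists_conj hO h.zord fun hz => hn (hf ▸ h.normal_of_center hz)
  obtain ⟨x, h3, -⟩ := h.outer (h.cy hR') hin (fun g x t => by
    rcases (hF x).2 (h.inj (by
      rw [map_mul, ← t, map_one, conj_mul, h.zsq, mul_one, mul_inv_cancel])) with t' | t' | t'
    · rw [t', map_one, mul_inv_eq_one, mul_eq_left] at t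
      exact absurd t h.zne
    · exact t'
    · exact absurd t' (weak h hR' hin (fun x => (hF x).1) t)) h1 h2
  exact (hF x).1 h3

end Cfsg.Agent.S3149
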