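import Cfsg.Statements.S3150
import Cfsg.Agent.INV.STD.Co0Fus
import Cfsg.Agent.S2069

set_option autoImplicit false
open Cfsg

namespace Cfsg.Agent.S3150

open CL.StdE CL.StdCo CL.Leech

/-- Let G be a finite group with no nontrivial normal subgroup of odd order and A a standard subgroup of G isomorphic to the automorphism group of the Leech lattice (the double cover of the first Conway group). If the centralizer of A in G has cyclic Sylow 2-subgroups, then A is normal in G. -/
theorem result {G : Type*} [Group G] [Finite G] (hO : Cfsg.oddCore G = ⊥) (A : Subgroup G) (hA : Cfsg.IsStandardSubgroup A)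
    (hAX : Nonempty (↥A ≃* ↥Cfsg.Co0)) (hR : ∀ R : Sylow 2 ↥(Subgroup.centralizer (A : Set G)), IsCyclic ↥(R : Subgroup ↥(Subgroup.centralizer (A : Set G)))) : A.Normal := by
  obtain ⟨e⟩ := hAX
  let f : Cfsg.Co0 →* G := A.subtype.comp e.symm.toMonoidHom
  have hf : f.range = A := by
    ext x
    exact ⟨fun ⟨y, hy⟩ => hy ▸ (e.symm y).2, fun hx => ⟨e ⟨x, hx⟩, by simp [f]⟩⟩
  have h : M neg1 f := M.of_std (hf ▸ hA) (A.subtype_injective.comp e.symm.injective)
    (orderOf_eq_prime (by rw [pow_two, neg1_mul_self]) neg1_ne_one) fun _ => CL.Leech.mem_center_iff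
  have hc : Cy neg1 f := h.cy (by unfold Kf; rw [hf]; exact hR)
  have hin := inner_of_out (X := Cfsg.Co0) (hA.1.of_mulEquiv e).commutator_top Cfsg.Agent.S2069.result
  by_contra hn
  obtain ⟨g, h1, h2⟩ := exists_conj hO h.zord fun hz => hn (hf ▸ h.normal_of_center hz)
  obtain ⟨x, h3, h4⟩ := h.outer hc hin (fun _ _ t => eq_of_conj h hc hin t) h1 h2
  exact not_cent_le h3 h4

end Cfsg.Agent.S3150
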