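import Cfsg.Statements.S3156
import Cfsg.Agent.CLAS.U3Aut

set_option autoImplicit false
open Cfsg

namespace Cfsg.Agent.S3156

/-- If a finite group T is isomorphic to a Sylow 2-subgroup of the projective special unitary group of dimension 3 with parameter 4 (realised over the field with 16 elements), then no subgroup of the automorphism group of T is isomorphic to the symmetric group of degree 3. -/
theorem result {T : Type*} [Group T] [Finite T] (hT : (∃ (F : Type) (_ : Field F) (_ : Fintype F), Fintype.card F = 16 ∧ ∃ S : Sylow 2 (Cfsg.PSU 3 F 4), Nonempty (T ≃* ↥(S : Subgroup (Cfsg.PSU 3 F 4))))) (H : Subgroup (MulAut T)) : ¬ Nonempty (↥H ≃* Equiv.Perm (Fin 3)) := by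
  obtain ⟨F, _, _, hF, S, ⟨e₀⟩⟩ := hT
  have hF' : Fintype.card F = (2 ^ 2) ^ 2 := hF
  have := CL.U3.charP_two (by omega) hF'
  have h2 : (2 : F) = 0 := CharTwo.two_eq_zero
  have hF4 : Fintype.card F = 4 ^ 2 := hF
  obtain ⟨e₁⟩ := CL.U3.nonempty_sylow_PSU hF4 2 S
  rintro ⟨e⟩
  let ψ : Equiv.Perm (Fin 3) →* MulAut (CL.U3.S hF4) :=
    (MulAut.congr (e₀.trans e₁)).toMonoidHom.comp (H.subtype.comp e.symm.toMonoidHom)
  have hψ : Function.Injective ψ :=
    (MulAut.congr (e₀.trans e₁)).injective.comp (H.subtype_injective.comp e.symm.injective)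
  obtain ⟨c, φ, h⟩ := CL.U3.S.exists_abar_eq h2 (ψ (finRotate 3))
  obtain ⟨d, τ, h'⟩ := CL.U3.S.exists_abar_eq h2 (ψ (Equiv.swap 0 1))
  have h3 : ∀ a, (c : F) * φ (c * φ (c * φ a)) = a := fun a => by
    rw [← h, ← h, ← h, ← CL.U3.S.abar_mul, ← CL.U3.S.abar_mul, ← map_mul, ← map_mul,
      show finRotate 3 * finRotate 3 * finRotate 3 = 1 by decide, map_one, CL.U3.S.abar_one]
  have h4 : ∀ a, (d : F) * τ (d * τ a) = a := fun a => by
    rw [← h', ← h', ← CL.U3.S.abar_mul, ← map_mul, Equiv.swap_mul_self, map_one, CL.U3.S.abar_one]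
  have h5 : ∀ a, (c : F) * φ (d * τ (c * φ a)) = d * τ a := fun a => by
    rw [← h, ← h', ← h, ← h', ← CL.U3.S.abar_mul, ← CL.U3.S.abar_mul, ← map_mul, ← map_mul,
      show finRotate 3 * Equiv.swap 0 1 * finRotate 3 = Equiv.swap 0 1 by decide]
  have hcard : Nat.card (F ≃+* F) = 4 := CL.FieldAut.card_ringAut (p := 2) (by rw [hF]; rfl)
  have hφ : φ = 1 := by
    have h6 : (c : F) * φ (c * φ c) = 1 := by simpa using h3 1
    have h7 : φ ^ 3 = 1 := RingEquiv.ext fun a => by
      have := h3 a
      simp only [map_mul] at this h6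
      change φ (φ (φ a)) = a
      linear_combination this - φ (φ (φ a)) * h6
    have h8 : φ ^ 4 = 1 := hcard ▸ pow_card_eq_one'
    rw [show 4 = 3 + 1 from rfl, pow_succ, h7, one_mul] at h8
    exact h8
  subst hφ
  have h6 : (c : F) * (c * c) = 1 := by simpa using h3 1
  have h7 : (c : F) * τ c = 1 := by
    have := h5 1
    simp only [RingAut.one_apply, map_one, mul_one] at this
    exact mul_left_cancel₀ d.ne_zero (by linear_combination this)
  have h8 : ∀ a, τ (τ a) = a := fun a => by
    have h9 : (d : F) * τ d = 1 := by simpa using h4 1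
    have := h4 a
    rwa [map_mul, ← mul_assoc, h9, one_mul] at this
  have h9 : τ c = c := by
    by_cases hτ : τ = 1
    · simp [hτ]
    · have hσ := CL.U3.eq_conj_of_involutive hF4 h8 hτ
      rw [hσ, CL.SqField.conj_apply]
      linear_combination c * h6
  have hc : (c : F) = 1 := by
    rw [h9] at h7
    linear_combination h6 - c * h7
  have := CL.U3.S.ker_sq h2 (CL.U3.S.mem_ker_abarHom.2 fun a => by rw [h, hc]; simp)
  rw [← map_pow, ← map_one ψ] at this
  exact absurd (hψ this) (by decide)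

end Cfsg.Agent.S3156
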