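import Cfsg.Statements.S3184
import Cfsg.Agent.INV.ZStarElt
import Cfsg.Agent.S3183
import Cfsg.Agent.SOLV.Basic

set_option autoImplicit false
open Cfsg

namespace Cfsg.Agent.S3184

open CL.MSS CL.Iso in

/-- Let G be a finite group in which the intersection of any two distinct Sylow 2-subgroups is contained in the centre of some Sylow 2-subgroup, and let S be a Sylow 2-subgroup. If C is a nontrivial cyclic characteristic subgroup of S, then the involution of C is central modulo the largest normal subgroup of odd order of G: each of its conjugates has the same image in G/O(G). -/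
theorem result {G : Type*} [Group G] [Finite G]
    (hCI : ∀ S T : Sylow 2 G, S ≠ T → ∃ U : Sylow 2 G,
      (S : Subgroup G) ⊓ (T : Subgroup G) ≤ (Subgroup.center ↥(U : Subgroup G)).map (U : Subgroup G).subtype)
    (S : Sylow 2 G) (C : Subgroup ↥(S : Subgroup G)) (hC : C ≠ ⊥) (hCc : IsCyclic ↥C) (hCh : C.Characteristic)
    (c : ↥(S : Subgroup G)) (hc : c ∈ C) (hc2 : orderOf c = 2) :
    ∀ g : G, (QuotientGroup.mk (s := Cfsg.oddCore G) (g * (c : G) * g⁻¹)) =
      QuotientGroup.mk (s := Cfsg.oddCore G) (c : G) := by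
  have hc2' : orderOf (c : G) = 2 := by rw [Subgroup.orderOf_coe, hc2]
  have hcyc : IsCyclic (C.map (S : Subgroup G).subtype) :=
    isCyclic_of_surjective _ (C.equivMapOfInjective _ (S : Subgroup G).subtype_injective).surjective
  have hN : ∀ n ∈ Subgroup.normalizer ((S : Subgroup G) : Set G), n * c * n⁻¹ = c := by
    intro n hn
    have h1 := CL.normalizer_le_normalizer_map_subtype (S : Subgroup G) C hn
    exact CL.SylowAux.eq_of_isCyclic_subgroup hcyc
      ((Subgroup.mem_normalizer_iff.mp h1 c).mp ⟨c, hc, rfl⟩) ⟨c, hc, rfl⟩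
      (by rw [orderOf_conj', hc2']) hc2'
  have hcZ : (c : G) ∈ Subgroup.centralizer ((S : Subgroup G) : Set G) := fun y hy =>
    mul_inv_eq_iff_eq_mul.mp (hN y (Subgroup.le_normalizer hy))
  have hiso : Cfsg.IsIsolatedInvolution (c : G) := by
    apply isolatedInvolution_of_sylow S hc2'
    intro g hg
    by_cases hgS : S = g • S
    · exact hN g (Sylow.smul_eq_iff_mem_normalizer.mp hgS.symm)
    · have h1 := Cfsg.Agent.S3183.inf_le_center hCI S (g • S) hgS
        (x := g * c * g⁻¹) ⟨hg, by rw [sylow_coe_smul]; exact conj_mem_cj c.2⟩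
      obtain ⟨n, hn, hn'⟩ := S.conj_eq_normalizer_conj_of_mem_centralizer c g⁻¹ hcZ
        (by rw [inv_inv]; exact h1.2)
      rw [inv_inv] at hn'
      rw [hn']
      simpa using hN n⁻¹ (Subgroup.inv_mem _ hn)
  intro g
  rw [QuotientGroup.eq]
  have := CL.BS.zstar hiso g
  rw [iso_inv hiso] at this
  have h2 := (inferInstance : (Cfsg.oddCore G).Normal).conj_mem _ this c
  have h3 := iso_mul_self hiso
  convert h2 using 1
  rw [mul_inv_rev, mul_inv_rev, iso_inv hiso]
  calc g⁻¹⁻¹ * ((c : G) * g⁻¹) * c = (c * c) * g * c * g⁻¹ * c := by rw [h3]; group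
    _ = _ := by group

end Cfsg.Agent.S3184
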