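import Cfsg.Statements.S3191
import Cfsg.Agent.INV.KA.Main

set_option autoImplicit false
open Cfsg

namespace Cfsg.Agent.S3191

/-- Let n ≥ 1 and r = 2 or 3, and let H be the centralizer in the alternating group of degree 4n + r of an involution moving exactly 4n points (a product of 2n disjoint transpositions). Let G be a finite group that has no normal subgroup of index 2 and that contains an involution t which is central in some Sylow 2-subgroup of G and whose centralizer is isomorphic to H. Then G has exactly n conjugacy classes of involutions. -/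
theorem result (n r : ℕ) (hn : 1 ≤ n) (hr : r = 2 ∨ r = 3)
    (α : ↥(alternatingGroup (Fin (4 * n + r)))) (hα : orderOf α = 2)
    (hα4 : (α : Equiv.Perm (Fin (4 * n + r))).support.card = 4 * n)
    {G : Type*} [Group G] [Finite G] (h2 : ∀ H : Subgroup G, H.Normal → H.index ≠ 2)
    (t : G) (ht : orderOf t = 2) (S : Sylow 2 G) (htS : t ∈ (S : Subgroup G))
    (htZ : ∀ s ∈ (S : Subgroup G), s * t = t * s)
    (hiso : Nonempty (↥(Subgroup.centralizer ({t} : Set G)) ≃*
      ↥(Subgroup.centralizer ({α} : Set ↥(alternatingGroup (Fin (4 * n + r))))))) :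
    Nat.card {c : ConjClasses G // ∃ x ∈ c.carrier, orderOf x = 2} = n := by
  obtain ⟨e⟩ := hiso
  have hG : ∀ H : Subgroup G, H.index ≠ 2 := fun H hH =>
    h2 H (Subgroup.normal_of_index_eq_two hH) hH
  have key : ∀ {A : Type} [Group A] (ε : G ≃* A),
      Nat.card {c : ConjClasses G // ∃ x ∈ c.carrier, orderOf x = 2} =
        Nat.card {c : ConjClasses A // ∃ x ∈ c.carrier, orderOf x = 2} := by
    intro A _ ε
    have hb : Function.Bijective (ConjClasses.map ε.toMonoidHom) := by
      constructor
      · intro a b h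
        obtain ⟨a, rfl⟩ := ConjClasses.exists_rep a
        obtain ⟨b, rfl⟩ := ConjClasses.exists_rep b
        have h' : IsConj (ε a) (ε b) := ConjClasses.mk_eq_mk_iff_isConj.1 h
        have := ε.symm.toMonoidHom.map_isConj h'
        exact ConjClasses.mk_eq_mk_iff_isConj.2 (by simpa using this)
      · exact ConjClasses.map_surjective ε.surjective
    refine Nat.card_congr ((Equiv.ofBijective _ hb).subtypeEquiv fun c => ?_)
    obtain ⟨a, rfl⟩ := ConjClasses.exists_rep c
    show _ ↔ ∃ x ∈ (ConjClasses.mk (ε a)).carrier, orderOf x = 2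
    simp only [ConjClasses.mem_carrier_iff_mk_eq, ConjClasses.mk_eq_mk_iff_isConj]
    constructor
    · rintro ⟨x, hx, ho⟩
      exact ⟨ε x, ε.toMonoidHom.map_isConj hx, by rw [MulEquiv.orderOf_eq, ho]⟩
    · rintro ⟨x, hx, ho⟩
      exact ⟨ε.symm x, by simpa using ε.symm.toMonoidHom.map_isConj hx,
        by rw [MulEquiv.orderOf_eq, ho]⟩
  by_cases h6 : 4 * n + r = 6
  · have h1 := (CL.KA.six hG (by rw [Fintype.card_fin, h6]) α hα t ht e).1
    rw [show n = 1 by omega, Nat.card_eq_one_iff_exists]
    refine ⟨⟨ConjClasses.mk t, t, ConjClasses.mem_carrier_mk, ht⟩, ?_⟩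
    rintro ⟨c, x, hx, ho⟩
    exact Subtype.ext ((ConjClasses.mem_carrier_iff_mk_eq.1 hx).symm.trans
      (ConjClasses.mk_eq_mk_iff_isConj.2 (h1 x ho).symm))
  · obtain ⟨ε⟩ := CL.KA.main (4 * n + r) hG (Fintype.card_fin _) (by omega) (by omega) α hα t ht e
    rw [key ε, CL.KA.card_classes]
    omega

end Cfsg.Agent.S3191
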