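import Cfsg.Statements.S3192
import Cfsg.Agent.PERM.Ito6

set_option autoImplicit false
open Cfsg

namespace Cfsg.Agent.S3192

/-- Simple groups of conjugate type rank three. For a finite group G consider the set of indices of the centralizers of the non-central elements of G. Then G is a non-abelian simple group for which this set has exactly three members if and only if G is isomorphic to PSL(2, 2^m) for some m ≥ 2. -/
theorem result (G : Type*) [Group G] [Finite G] :
    (IsSimpleGroup G ∧ ¬ IsMulCommutative G ∧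
        Set.ncard {m : ℕ | ∃ x : G, x ∉ Subgroup.center G ∧ m = (Subgroup.centralizer ({x} : Set G)).index} = 3) ↔
      ∃ (m : ℕ) (F : Type) (_ : Field F) (_ : Fintype F), 2 ≤ m ∧ Fintype.card F = 2 ^ m ∧
        Nonempty (G ≃* Matrix.ProjectiveSpecialLinearGroup (Fin 2) F) := by

  constructor
  · rintro ⟨h1, h2, h3⟩
    obtain ⟨a, b, c, -, -, -, h4⟩ := Set.ncard_eq_three.1 h3
    obtain ⟨n, h5, h6⟩ := CL.Ito.psl2_of_three (CL.PSL2E.center_eq_bot_of_simple h2)
      (CL.PSL2E.not_solvable_of_simple h2) fun y hy => h4.le ⟨y, hy, rfl⟩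
    have := Fintype.ofFinite (GaloisField 2 n)
    exact ⟨n, _, inferInstance, this, h5,
      by rw [← Nat.card_eq_fintype_card, GaloisField.card 2 n (by omega)], h6⟩
  · rintro ⟨m, F, _, _, h1, h2, ⟨e⟩⟩
    have h3 : 4 ≤ Fintype.card F := h2 ▸ Nat.pow_le_pow_right (n := 2) two_pos h1
    have h4 := Cfsg.Agent.S2507.result (F := F) (h2 ▸ dvd_pow_self 2 (by omega)) h3
    rw [← CL.Ito.range_index_congr e] at h4
    have := CL.CITC.isSimpleGroup_psl2 h3
    obtain ⟨k, hk⟩ := Nat.exists_eq_add_of_le' h3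
    rw [hk, show (k + 4) * (k + 4 - 1) = k * k + 7 * k + 12 by
        rw [show k + 4 - 1 = k + 3 from rfl]; ring,
      show (k + 4) ^ 2 = k * k + 8 * k + 16 by ring,
      show (k + 4) * (k + 4 + 1) = k * k + 9 * k + 20 by ring] at h4
    have h5 : {m : ℕ | ∃ x : G, x ∉ Subgroup.center G ∧
        m = (Subgroup.centralizer ({x} : Set G)).index} =
        {k * k + 7 * k + 12, k * k + 8 * k + 16 - 1, k * k + 9 * k + 20} := by
      ext n
      constructor
      · rintro ⟨x, hx, rfl⟩
        exact (h4.le ⟨x, rfl⟩).resolve_left fun e => hx (CL.CS.index_cen_eq_one_iff.1 e)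
      · intro hn
        obtain ⟨x, rfl⟩ := h4.ge (.inr hn)
        refine ⟨x, fun e => ?_, rfl⟩
        simp only [CL.CS.index_cen_eq_one_iff.2 e, Set.mem_insert_iff, Set.mem_singleton_iff] at hn
        omega
    refine ⟨e.isSimpleGroup, fun hc => ?_,
      Set.ncard_eq_three.2 ⟨_, _, _, by omega, by omega, by omega, h5⟩⟩
    obtain ⟨x, hx, -⟩ := h5.ge (.inl rfl)
    exact hx (Subgroup.mem_center_iff.2 fun g => hc.is_comm.comm g x)

end Cfsg.Agent.S3192
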