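import Cfsg.Statements.S3193
import Cfsg.Agent.PERM.Ito14

set_option autoImplicit false
open Cfsg

namespace Cfsg.Agent.S3193

/-- Simple groups of conjugate type rank four. For a finite group G consider the set of indices of the centralizers of the non-central elements of G. Then G is a non-abelian simple group for which this set has exactly four members if and only if G is isomorphic to PSL(2, q) for some odd prime power q ≥ 7. -/
theorem result (G : Type*) [Group G] [Finite G] :
    (IsSimpleGroup G ∧ ¬ IsMulCommutative G ∧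
        Set.ncard {m : ℕ | ∃ x : G, x ∉ Subgroup.center G ∧ m = (Subgroup.centralizer ({x} : Set G)).index} = 4) ↔
      ∃ (F : Type) (_ : Field F) (_ : Fintype F), Odd (Fintype.card F) ∧ 7 ≤ Fintype.card F ∧
        Nonempty (G ≃* Matrix.ProjectiveSpecialLinearGroup (Fin 2) F) := by

  have key : ∀ {s : Set ℕ}, Set.range (fun g : G => (Subgroup.centralizer ({g} : Set G)).index) =
      insert 1 s → 1 ∉ s → {m : ℕ | ∃ x : G, x ∉ Subgroup.center G ∧
        m = (Subgroup.centralizer ({x} : Set G)).index} = s := fun {s} h4 h1 => by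
    ext n
    constructor
    · rintro ⟨x, hx, rfl⟩
      exact (h4.le ⟨x, rfl⟩).resolve_left fun e => hx (CL.CS.index_cen_eq_one_iff.1 e)
    · intro hn
      obtain ⟨x, rfl⟩ := h4.ge (.inr hn)
      exact ⟨x, fun e => h1 (CL.CS.index_cen_eq_one_iff.2 e ▸ hn), rfl⟩
  constructor
  · rintro ⟨h1, h2, h3⟩
    obtain ⟨a, b, c, d, -, -, -, -, -, -, h4⟩ := Set.ncard_eq_four.1 h3
    have h0 : ∀ {F : Type} [Field F] [Fintype F], 4 ≤ Fintype.card F → 2 ∣ Fintype.card F →
        (G ≃* Matrix.ProjectiveSpecialLinearGroup (Fin 2) F) → False := fun {F} _ _ h5 h6 e => by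
      have h7 := Cfsg.Agent.S2507.result (F := F) h6 h5
      rw [← CL.Ito.range_index_congr e] at h7
      have h8 := Set.ncard_le_ncard (t := {_, _, _}) (show {m : ℕ | ∃ x : G, x ∉ Subgroup.center G ∧
          m = (Subgroup.centralizer ({x} : Set G)).index} ⊆ _ by
        rintro _ ⟨x, hx, rfl⟩
        exact (h7.le ⟨x, rfl⟩).resolve_left fun e => hx (CL.CS.index_cen_eq_one_iff.1 e))
      have := (Set.ncard_insert_le _ _).trans' h8
      have := Set.ncard_insert_le (Fintype.card F ^ 2 - 1) {Fintype.card F * (Fintype.card F + 1)}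
      rw [Set.ncard_singleton] at this
      omega
    obtain ⟨F, _, _, h5, ⟨e⟩⟩ := CL.Ito.psl2_of_four h2 fun y hy =>
      h4.le ⟨y, by simpa [CL.Ito.center_eq_bot h2] using hy, rfl⟩
    have h6 : ¬ 2 ∣ Fintype.card F := fun h6 => h0 h5 h6 e
    have h7 : Fintype.card F ≠ 5 := fun h7 => by
      have := Fintype.ofFinite (GaloisField 2 2)
      have h8 : Fintype.card (GaloisField 2 2) = 4 := by
        rw [← Nat.card_eq_fintype_card, GaloisField.card 2 2 two_ne_zero]; rfl
      obtain ⟨f⟩ := Agent.S0253.result h7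
      obtain ⟨g⟩ := Agent.S0252.result (F := GaloisField 2 2) h8
      exact h0 h8.ge (h8 ▸ by decide) ((e.trans f).trans g.symm)
    exact ⟨F, _, _, Nat.odd_iff.2 (by omega), by omega, ⟨e⟩⟩
  · rintro ⟨F, _, _, h1, h2, ⟨e⟩⟩
    have h4 := Cfsg.Agent.S2508.result (F := F) h1.not_two_dvd_nat h2
    rw [← CL.Ito.range_index_congr e] at h4
    have := CL.CITC.isSimpleGroup_psl2 (F := F) (by omega)
    obtain ⟨k, hk⟩ := h1
    have h8 : 3 * k ≤ k * k := Nat.mul_le_mul_right k (by omega)
    rw [hk, show (2 * k + 1) ^ 2 = 4 * (k * k) + 4 * k + 1 by ring,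
      show (2 * k + 1) * (2 * k + 1 + 1) = 4 * (k * k) + 6 * k + 2 by ring,
      show (2 * k + 1) * (2 * k + 1 - 1) = 4 * (k * k) + 2 * k by rw [Nat.add_sub_cancel]; ring] at h4
    have h5 : Set.ncard {m : ℕ | ∃ x : G, x ∉ Subgroup.center G ∧
        m = (Subgroup.centralizer ({x} : Set G)).index} = 4 := by
      rcases (show (2 * k + 1) % 4 = 1 ∨ (2 * k + 1) % 4 = 3 by omega) with e | e
      · rw [key (h4.1 e) (by simp only [Set.mem_insert_iff, Set.mem_singleton_iff]; omega)]
        exact Set.ncard_eq_four.2 ⟨_, _, _, _, by omega, by omega, by omega, by omega, by omega,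
          by omega, rfl⟩
      · rw [key (h4.2 e) (by simp only [Set.mem_insert_iff, Set.mem_singleton_iff]; omega)]
        exact Set.ncard_eq_four.2 ⟨_, _, _, _, by omega, by omega, by omega, by omega, by omega,
          by omega, rfl⟩
    refine ⟨e.isSimpleGroup, fun hc => ?_, h5⟩
    obtain ⟨_, x, hx, -⟩ := Set.nonempty_of_ncard_ne_zero (h5 ▸ four_ne_zero)
    exact hx (Subgroup.mem_center_iff.2 fun g => hc.is_comm.comm g x)

end Cfsg.Agent.S3193
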