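import Cfsg.Statements.S3194
import Cfsg.Agent.PERM.I5.Main
import Cfsg.Agent.S2507
import Cfsg.Agent.S2508
import Cfsg.Agent.S0252
import Cfsg.Agent.S0253

set_option autoImplicit false
open Cfsg

namespace Cfsg.Agent.S3194

/-- Simple groups of conjugate type rank five that are not three-headed. Let G be a non-abelian finite simple group and let I be the set of indices of the centralizers of the non-central elements of G. Suppose I has exactly five members, and that the number of members a of I that no other member of I divides is not three. Then G is isomorphic to a Suzuki group over the field with 2^(2n+1) elements for some n ≥ 1, or to PSL(3, 4). -/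
theorem result {G : Type*} [Group G] [Finite G]
    [IsSimpleGroup G] (hG : ¬ IsMulCommutative G)
    (h5 : Set.ncard {m : ℕ | ∃ x : G, x ∉ Subgroup.center G ∧ m = (Subgroup.centralizer ({x} : Set G)).index} = 5)
    (h3 : Set.ncard {a : ℕ | a ∈ {m : ℕ | ∃ x : G, x ∉ Subgroup.center G ∧ m = (Subgroup.centralizer ({x} : Set G)).index} ∧
      ∀ c ∈ {m : ℕ | ∃ x : G, x ∉ Subgroup.center G ∧ m = (Subgroup.centralizer ({x} : Set G)).index}, c ∣ a → c = a} ≠ 3) :
    (∃ (n : ℕ) (F : Type) (_ : Field F) (_ : Fintype F), 1 ≤ n ∧ Fintype.card F = 2 ^ (2 * n + 1) ∧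
        Nonempty (G ≃* ↥(Cfsg.Lie.Sz F (2 ^ (n + 1))))) ∨
      ∃ (F : Type) (_ : Field F) (_ : Fintype F), Fintype.card F = 4 ∧
        Nonempty (G ≃* Matrix.ProjectiveSpecialLinearGroup (Fin 3) F) := by
  set I := {m : ℕ | ∃ x : G, x ∉ Subgroup.center G ∧
    m = (Subgroup.centralizer ({x} : Set G)).index} with hI
  set Hd := {a : ℕ | a ∈ I ∧ ∀ c ∈ I, c ∣ a → c = a} with hHd
  have hZ := CL.Ito.center_eq_bot hG
  have hfin : I.Finite := Set.finite_of_ncard_ne_zero (by omega)
  have hsub : Hd ⊆ I := fun a ha => ha.1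
  have hmem : ∀ g : G, g ≠ 1 → (Subgroup.centralizer ({g} : Set G)).index ∈ I := fun g hg =>
    ⟨g, by simpa [hZ] using hg, rfl⟩
  have hex : ∀ m ∈ I, ∃ a ∈ Hd, a ∣ m := fun m => by
    induction m using Nat.strong_induction_on with
    | _ m ih =>
      intro hm
      by_cases h : ∀ c ∈ I, c ∣ m → c = m
      · exact ⟨m, ⟨hm, h⟩, dvd_rfl⟩
      push Not at h
      obtain ⟨c, hc, hcm, hne⟩ := h
      obtain ⟨x, -, rfl⟩ := hm
      obtain ⟨a, ha, h1⟩ := ih c ((Nat.le_of_dvd (CL.CS.index_cen_pos x) hcm).lt_of_ne hne) hc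
      exact ⟨a, ha, h1.trans hcm⟩
  have h4 : ∀ {a b c d : ℕ}, Set.range (fun g : G => (Subgroup.centralizer ({g} : Set G)).index) ⊆
      {1, a, b, c, d} → False := fun {a b c d} h => by
    have h1 := Set.ncard_le_ncard (s := I) (t := {a, b, c, d}) (by
      rintro _ ⟨x, hx, rfl⟩
      exact (h ⟨x, rfl⟩).resolve_left fun e => hx (CL.CS.index_cen_eq_one_iff.1 e))
    have h2 := Set.ncard_insert_le a {b, c, d}
    have h3 := Set.ncard_insert_le b {c, d}
    have h4 := Set.ncard_insert_le c {d}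
    rw [Set.ncard_singleton] at h4
    omega
  have h0 : ∀ {F : Type} [Field F] [Fintype F], 4 ≤ Fintype.card F → 2 ∣ Fintype.card F →
      (G ≃* Matrix.ProjectiveSpecialLinearGroup (Fin 2) F) → False := fun {F} _ _ h6 h7 e => by
    have h8 := Cfsg.Agent.S2507.result (F := F) h7 h6
    rw [← CL.Ito.range_index_congr e] at h8
    exact h4 (d := 1) (h8.le.trans fun n hn => by
      simp only [Set.mem_insert_iff, Set.mem_singleton_iff] at hn ⊢
      tauto)
  have hL : ¬ ∃ (F : Type) (_ : Field F) (_ : Fintype F), 3 < Fintype.card F ∧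
      Nonempty (G ≃* Matrix.ProjectiveSpecialLinearGroup (Fin 2) F) := by
    rintro ⟨F, _, _, h6, ⟨e⟩⟩
    have h7 : ¬ 2 ∣ Fintype.card F := fun h7 => h0 h6 h7 e
    have h8 : Fintype.card F ≠ 5 := fun h8 => by
      have := Fintype.ofFinite (GaloisField 2 2)
      have h9 : Fintype.card (GaloisField 2 2) = 4 := by
        rw [← Nat.card_eq_fintype_card, GaloisField.card 2 2 two_ne_zero]; rfl
      obtain ⟨f⟩ := Agent.S0253.result h8
      obtain ⟨g⟩ := Agent.S0252.result (F := GaloisField 2 2) h9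
      exact h0 h9.ge (h9 ▸ by decide) ((e.trans f).trans g.symm)
    have h9 := Cfsg.Agent.S2508.result (F := F) h7 (by omega)
    rw [← CL.Ito.range_index_congr e] at h9
    rcases (by omega : Fintype.card F % 4 = 1 ∨ Fintype.card F % 4 = 3) with h | h
    exacts [h4 (h9.1 h).le, h4 (h9.2 h).le]
  have hS : Lie.IsoSuzuki G → ∃ (n : ℕ) (F : Type) (_ : Field F) (_ : Fintype F), 1 ≤ n ∧
      Fintype.card F = 2 ^ (2 * n + 1) ∧ Nonempty (G ≃* ↥(Cfsg.Lie.Sz F (2 ^ (n + 1)))) :=
    fun ⟨F, _, _, m, h⟩ => ⟨m, F, _, _, h⟩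
  have hp : ∀ a ∈ Hd, ∀ p : ℕ, p.Prime → p ∣ a → ∃ b ∈ Hd, ¬ p ∣ b := by
    rintro _ ⟨⟨x, -, rfl⟩, -⟩ p hp hd
    obtain ⟨y, hy1, hy⟩ := CL.Ito.exists_not_dvd_index hG hp hd
    obtain ⟨b, hb, h1⟩ := hex _ (hmem y hy1)
    exact ⟨b, hb, fun e => hy (e.trans h1)⟩
  by_cases h6 : 4 ≤ Hd.ncard
  · have h7 : (I \ Hd).Subsingleton := by
      have : Finite (I \ Hd : Set ℕ) := hfin.subset Set.sdiff_subset
      rw [← Set.ncard_le_one_iff_subsingleton, Set.ncard_sdiff hsub (hfin.subset hsub)]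
      omega
    have h8 : ∀ {g t : G}, t ≠ 1 → (Subgroup.centralizer ({t} : Set G)).index ∣
        (Subgroup.centralizer ({g} : Set G)).index → (Subgroup.centralizer ({g} : Set G)).index ≠
        (Subgroup.centralizer ({t} : Set G)).index →
        (Subgroup.centralizer ({g} : Set G)).index ∈ I \ Hd := fun {g t} ht h1 h2 =>
      ⟨hmem g (by
        rintro rfl
        exact CL.Ito.index_ne_pow hG ht Nat.prime_two 0 (h1.trans CL.CS.index_cen_one.dvd)),
        fun e => h2 (e.2 _ (hmem t ht) h1).symm⟩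
    refine ((CL.Ito.DH.simple hG (fun x y z hx hy hz => ?_) fun s z w t hz ht hs hw => ?_).resolve_left
      hL).imp_left hS
    · by_contra! h
      exact h.2.2 (h7 (h8 hx hy h.1) (h8 hx hz h.2.1))
    · have hz1 : z ≠ 1 := by
        rintro rfl
        rw [CL.CS.cen_eq_top_iff.2 (one_mem _)] at hz
        have := (hz.of_equiv Subgroup.topEquiv).isNilpotent
        exact CL.PSL2E.not_solvable_of_simple hG inferInstance
      exact h7 (h8 hz1 (Subgroup.index_dvd_of_le hs.le) (CL.Ito.index_ne_of_lt hs))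
        (h8 ht (Subgroup.index_dvd_of_le hw.le) (CL.Ito.index_ne_of_lt hw))
  obtain ⟨m, hm⟩ := Set.nonempty_of_ncard_ne_zero (s := I) (by omega)
  obtain ⟨a, ha, -⟩ := hex m hm
  obtain ⟨⟨x, hx, rfl⟩, ha'⟩ := id ha
  replace hx : x ≠ 1 := by simpa [hZ] using hx
  obtain ⟨p, hpp, -, hd⟩ := CL.Ito.exists_prime_dvd_index hG hx 0
  obtain ⟨b, hb, hpb⟩ := hp _ ha p hpp hd
  obtain ⟨⟨y, hy, rfl⟩, hb'⟩ := id hb
  replace hy : y ≠ 1 := by simpa [hZ] using hy
  have hne : (Subgroup.centralizer ({x} : Set G)).index ≠ (Subgroup.centralizer ({y} : Set G)).index :=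
    fun e => hpb (e ▸ hd)
  have h7 : {(Subgroup.centralizer ({x} : Set G)).index, (Subgroup.centralizer ({y} : Set G)).index} =
      Hd := Set.eq_of_subset_of_ncard_le (Set.pair_subset ha hb) (by rw [Set.ncard_pair hne]; omega)
    (hfin.subset hsub)
  have H : CL.I5.TH x y := ⟨hx, hy, Nat.coprime_of_dvd fun q hq h1 h2 => by
      obtain ⟨c, hc, h⟩ := hp _ ha q hq h1
      rcases h7.ge hc with rfl | rfl
      exacts [h h1, h h2], fun g hg => by
      obtain ⟨c, hc, h⟩ := hex _ (hmem g hg)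
      rcases h7.ge hc with rfl | rfl
      exacts [.inl h, .inr h], fun g hg => ha' _ (hmem g hg), fun g hg => hb' _ (hmem g hg)⟩
  obtain ⟨c, d, e, h8⟩ := CL.Ito.exists_subset_triple (s := I \ Hd) (hfin.subset Set.sdiff_subset) (by
    rw [Set.ncard_sdiff hsub (hfin.subset hsub), ← h7, Set.ncard_pair hne]
    omega)
  rcases H.l4 hG (c := c) (d := d) (e := e) (fun g hg => by
    by_cases h : (Subgroup.centralizer ({g} : Set G)).index ∈ Hd
    · exact (h7.ge h).imp_right .inl
    · exact .inr (.inr (h8 ⟨hmem g hg, h⟩))) with h | h | ⟨⟨e⟩⟩ | h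
  exacts [(hL h).elim, .inl (hS h), (H.not_A7 hG e).elim, .inr h]

end Cfsg.Agent.S3194
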