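import Cfsg.Statements.S3824
import Cfsg.Agent.SOLV.KegelWielandt2

set_option autoImplicit false
open Cfsg

namespace Cfsg.Agent.S3824

/-- Every finite group having an abelian subgroup whose index is a power of 2 is solvable. -/
theorem result {G : Type*} [Group G] [Finite G]
    (A : Subgroup G) (hA : IsMulCommutative A) (hidx : ∃ k : ℕ, A.index = 2 ^ k) : Group.IsSolvable G := by
  obtain ⟨k, hk⟩ := hidx
  obtain ⟨P⟩ := (inferInstance : Nonempty (Sylow 2 G))
  refine CL.isSolvable_of_isFact_of_isNilpotent (A := A) (B := P)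
    (CL.isNilpotent_of_isMulCommutative A) P.isPGroup'.isNilpotent (CL.IsFact.of_coprime_index ?_)
  rw [hk]
  exact Nat.Coprime.pow_left _ ((Nat.Prime.coprime_iff_not_dvd Nat.prime_two).2 P.not_dvd_index)

end Cfsg.Agent.S3824
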