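import Cfsg.Statements.S3200
import Cfsg.Agent.S3824
import Cfsg.Agent.SOLV.Hall
import Cfsg.Agent.SOLV.PiSep

set_option autoImplicit false
open Cfsg

namespace Cfsg.Agent.S3200

/-- Let H be a finite group in which a Sylow 2-subgroup has an abelian complement (an abelian subgroup meeting it trivially whose product with it is all of H). Then H is solvable, and every subgroup and every quotient group of H again has a Sylow 2-subgroup with an abelian complement. -/
theorem result {H : Type*} [Group H] [Finite H]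
    (S : Sylow 2 H) (C : Subgroup H) (hC : IsMulCommutative ↥C) (hSC : Subgroup.IsComplement' (S : Subgroup H) C) :
    Group.IsSolvable H ∧
    (∀ L : Subgroup H, ∃ (P : Sylow 2 ↥L) (D : Subgroup ↥L), IsMulCommutative ↥D ∧ Subgroup.IsComplement' (P : Subgroup ↥L) D) ∧
    (∀ (N : Subgroup H) [N.Normal], ∃ (P : Sylow 2 (H ⧸ N)) (D : Subgroup (H ⧸ N)),
      IsMulCommutative ↥D ∧ Subgroup.IsComplement' (P : Subgroup (H ⧸ N)) D) := by
  obtain ⟨k, hk⟩ := IsPGroup.iff_card.1 S.isPGroup'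
  have hi : C.index = 2 ^ k := by rw [hSC.index_eq_card, hk]
  haveI hs := Cfsg.Agent.S3824.result C hC ⟨k, hi⟩
  have hH : Cfsg.IsPiHall ({2}ᶜ : Set ℕ) C := by
    refine CL.isPiHall_iff.2 ⟨?_, by rw [compl_compl, hi]; exact CL.isPiNum_of_mem Nat.prime_two (Set.mem_singleton 2) k⟩
    rw [← hSC.symm.index_eq_card]
    exact (CL.isPiHall_iff.1 (CL.isPiHall_sylow S)).2
  refine ⟨hs, fun L => ?_, fun N _ => ?_⟩
  · obtain ⟨P⟩ : Nonempty (Sylow 2 L) := inferInstance
    obtain ⟨D, hD⟩ := (CL.isPiSeparable_of_isSolvable ({2}ᶜ : Set ℕ) L).exists_isPiHall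
    refine ⟨P, D, ?_, CL.IsPiHall.isComplement' (CL.isPiHall_sylow P) hD⟩
    obtain ⟨g, hg⟩ := (CL.isPiSeparable_of_isSolvable ({2}ᶜ : Set ℕ) H).exists_le_conj hH
      (K := D.map L.subtype) (by
        rw [Subgroup.card_map_of_injective L.subtype_injective]; exact (CL.isPiHall_iff.1 hD).1)
      (Or.inl inferInstance)
    refine ⟨⟨fun a b => Subtype.ext (Subtype.ext ?_)⟩⟩
    obtain ⟨x, hx, h1⟩ := hg ⟨a, a.2, rfl⟩
    obtain ⟨y, hy, h2⟩ := hg ⟨b, b.2, rfl⟩
    change L.subtype a * L.subtype b = L.subtype b * L.subtype a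
    rw [← h1, ← h2]
    exact (Commute.map (congrArg Subtype.val (mul_comm' (⟨x, hx⟩ : C) ⟨y, hy⟩) : Commute x y)
      (MulAut.conj g)).eq
  · obtain ⟨P⟩ : Nonempty (Sylow 2 (H ⧸ N)) := inferInstance
    exact ⟨P, C.map (QuotientGroup.mk' N), inferInstance, CL.IsPiHall.isComplement'
      (CL.isPiHall_sylow P) (CL.IsPiHall.map hH (QuotientGroup.mk'_surjective N))⟩

end Cfsg.Agent.S3200
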