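import Cfsg.Statements.S3219
import Cfsg.Agent.PERM.TwoS10
import Cfsg.Agent.S1187

set_option autoImplicit false
open Cfsg

namespace Cfsg.Agent.S3219


/-- Let G be a finite doubly transitive permutation group on a set Ω in which the stabilizer of two points is isomorphic to the alternating group A₄. Then Ω has 6 points and G ≅ A₆, or Ω has 15 points and G ≅ A₇, or Ω has 16 points and G is isomorphic to the group of all affine transformations of the affine plane over the field with 4 elements, or G = C_G(J)O(G) for some involution J of G, where O(G) is the largest normal subgroup of G of odd order. -/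
theorem result {G : Type*} [Group G] [Finite G] {Ω : Type*} [Fintype Ω] [MulAction G Ω] [FaithfulSMul G Ω]
    (h2 : MulAction.IsMultiplyPretransitive G Ω 2) (a b : Ω) (hab : a ≠ b)
    (e : ↥(MulAction.stabilizer G a ⊓ MulAction.stabilizer G b) ≃* ↥(alternatingGroup (Fin 4))) :
    (Fintype.card Ω = 6 ∧ Nonempty (G ≃* ↥(alternatingGroup (Fin 6)))) ∨ (Fintype.card Ω = 15 ∧ Nonempty (G ≃* ↥(alternatingGroup (Fin 7)))) ∨
      (Fintype.card Ω = 16 ∧ ∃ (F : Type) (_ : Field F) (_ : Fintype F), Fintype.card F = 4 ∧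
        Nonempty (G ≃* ((Fin 2 → F) ≃ᵃ[F] (Fin 2 → F)))) ∨
      (∃ J : G, orderOf J = 2 ∧ Subgroup.centralizer ({J} : Set G) ⊔ Cfsg.oddCore G = ⊤) := by
  obtain ⟨t, v, ρ, h, hc⟩ := CL.TwoS.setup alternatingGroup.index_eq_two
    (Cfsg.Agent.S2119.result 4 (by norm_num) (by norm_num)) CL.TwoS.mdl4 h2 hab e
  rw [← Nat.card_eq_fintype_card]
  rcases Nat.mod_two_eq_zero_or_one (Nat.card Ω) with he | ho
  · rcases hc with ⟨z, hx⟩ | ⟨y, hy⟩
    · exact .inr (.inr (.inl (h.agl4 hx he)))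
    · obtain ⟨f | f, c⟩ := h.evenY hy he <;> rw [f] at c
      · exact .inl ⟨by omega, h.alt6 (by omega) rfl⟩
      · exact (h.not_28 hy f (by omega) rfl).elim
  have ho := Nat.odd_iff.2 ho
  rcases hc with ⟨z, hx⟩ | ⟨y, hy⟩
  · by_cases hz : ∃ g, g * t * g⁻¹ = z
    · obtain ⟨g, hg⟩ := hz
      exact (h.oddX2 hx ho (g := g⁻¹) (by rw [← hg]; group)).elim
    exact .inr (.inr (.inr ⟨z, (h.oddX1 hx ho hz).1,
      Cfsg.Agent.S1187.centralizer_sup_oddCore (h.oddX1 hx ho hz)⟩))
  · rcases h.oddY hy ho with ⟨M, _, h1, h2⟩ | ⟨⟨e⟩⟩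
    · exact (h.not_regular_odd hy rfl h1 h2).elim
    · exact .inr (.inl ⟨(h.card_of_alt7 e).1 rfl, ⟨e⟩⟩)

end Cfsg.Agent.S3219
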