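import Cfsg.Statements.S3222
import Cfsg.Agent.REC.Basic
import Cfsg.Agent.CHAR.D8Centralizer
import Cfsg.Agent.CHAR.Burnside
import Cfsg.Agent.SPOR.TTSym
import Cfsg.Agent.INV.DQRecog
import Cfsg.Agent.FGS.ClassSize

set_option autoImplicit false
open Cfsg

namespace Cfsg.Agent.S3222

open Subgroup Equiv

abbrev H0 : Type := Multiplicative (ZMod 2) × Perm (Fin 4)

instance instDecH0 : DecidableEq H0 := instDecidableEqProd
instance instFinH0 : Fintype H0 := instFintypeProd _ _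

def τ : H0 := (Multiplicative.ofAdd 1, 1)
def z0 : H0 := (1, swap 0 1 * swap 2 3)
def v0 : H0 := (1, swap 0 2 * swap 1 3)
def w0 : H0 := (1, swap 0 1)
def f0 : H0 := v0 * w0
/-- conjugate to `z0` -/
def Zt (d : H0) : Prop := d = z0 ∨ d = v0 ∨ d = z0 * v0
/-- conjugate to `w0` -/
def Wt (d : H0) : Prop := d.1 = 1 ∧ d * d = 1 ∧ d ≠ 1 ∧ ¬ Zt d
/-- the class of `t` inside the centraliser -/
def P0 (d : H0) : Prop := d = τ ∨ Wt (τ * d)

instance (d : H0) : Decidable (Zt d) := by unfold Zt; infer_instance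
instance (d : H0) : Decidable (Wt d) := by unfold Wt; infer_instance
instance (d : H0) : Decidable (P0 d) := by unfold P0; infer_instance

theorem d1 : ∀ d : H0, (∀ e, e * d = d * e) → d ≠ 1 → d = τ := by decide +kernel
theorem d2 : (Finset.univ.filter fun d : H0 => d * z0 = z0 * d).card = 16 := by decide +kernel
theorem d3 : ∀ a b : H0, a * z0 = z0 * a → b * z0 = z0 * b →
    a * b * a⁻¹ * b⁻¹ = 1 ∨ a * b * a⁻¹ * b⁻¹ = z0 := by decide +kernel
theorem d4 : ∀ d : H0, d * d = 1 → d = 1 ∨ d = τ ∨ Zt d ∨ Zt (τ * d) ∨ Wt d ∨ Wt (τ * d) := by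
  decide +kernel
theorem d5 : ∀ d : H0, Zt d → ∃ c, c * d * c⁻¹ = z0 := by decide +kernel
theorem d6 : ∀ d : H0, Wt d → ∃ c, c * d * c⁻¹ = w0 := by decide +kernel
theorem d7 : ∀ d : H0, τ * d = d * τ ∧ τ * (τ * d) = d := by decide +kernel
theorem d8 : ∀ d : H0, d.1 = 1 → ∃ a b : H0, d = a * a * (b * b) ∨ d = a * a * (b * b) * w0 := by
  decide +kernel
theorem d9 : ∀ d : H0, d.1 = 1 ∨ (τ * d).1 = 1 := by decide +kernel
theorem d10 : (Finset.univ.filter fun d : H0 => d * z0 = z0 * d ∧ d.1 = 1).card = 8 := by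
  decide +kernel
theorem d11 : ∀ d : H0, d * z0 = z0 * d → d.1 = 1 →
    ∃ k : Fin 4, d = (v0 * w0) ^ (k : ℕ) ∨ d = (v0 * w0) ^ (k : ℕ) * w0 := by decide +kernel
theorem d12 : (Finset.univ.filter P0).card = 7 := by decide +kernel
/-- a commuting pair -/
def Pr (a b : H0) : Prop := P0 a ∧ P0 b ∧ a ≠ τ ∧ b ≠ τ ∧ a ≠ b ∧ a * b = b * a
instance (a b : H0) : Decidable (Pr a b) := by unfold Pr; infer_instance
theorem d13a : ∀ a b : H0, Pr a b → ∀ d, P0 d → d * a = a * d → d = τ ∨ d = a ∨ d = b := by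
  decide +kernel
theorem d13b : ∀ a b : H0, Pr a b → ∀ d, P0 d → d = τ ∨ d = a ∨ d = b ∨
    d * a * d = a * d * a ∧ d * b * d = b * d * b := by decide +kernel
theorem d14 : ∀ d : H0, d * z0 = z0 * d → d * τ = τ * d ∧ d * (τ * z0) = τ * z0 * d := by
  decide +kernel
theorem d13c : ∀ a b : H0, Pr a b →
    ∃ c, P0 c ∧ c * a ≠ a * c ∧ ∃ d, P0 d ∧ d * a ≠ a * d ∧ b = c * d * c := by decide +kernel

/-- twisting automorphism -/
def σ : H0 →* H0 := MonoidHom.mk'
  (fun d => (d.1 * (if Perm.sign d.2 = 1 then 1 else Multiplicative.ofAdd 1), d.2)) (by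
    rintro ⟨a, b⟩ ⟨c, d⟩
    simp only [Prod.mk_mul_mk, map_mul, Prod.mk.injEq, and_true]
    rcases Int.units_eq_one_or (Perm.sign b) with h | h <;>
      rcases Int.units_eq_one_or (Perm.sign d) with h' | h' <;> simp only [h, h'] <;>
      revert a c <;> decide)

theorem σ1 : ∀ d, σ (σ d) = d := by decide +kernel
theorem σ2 : σ τ = τ ∧ σ z0 = z0 ∧ σ w0 = τ * w0 := by decide +kernel

variable {G : Type*} [Group G]

/-- a model of the centraliser of `t` in which the centraliser of `z0` is visible -/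
structure Mdl (t : G) (f : H0 →* G) : Prop where
  inj : Function.Injective f
  cent : ∀ g, g * t = t * g ↔ ∃ d, f d = g
  ht : f τ = t
  cz : ∀ g, g * f z0 = f z0 * g → g * t = t * g
  n1 : ¬ IsConj t (f z0)
  n2 : ¬ IsConj t (f (τ * z0))
  n3 : ¬ IsConj (f z0) (f (τ * z0))

theorem Mdl.twist {t : G} {f : H0 →* G} (h : Mdl t f) : Mdl t (f.comp σ) := by
  have hb : Function.Bijective σ := Function.Involutive.bijective σ1
  refine ⟨h.inj.comp hb.1, fun g => ?_, by simp [σ2, h.ht], by simpa [σ2] using h.cz,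
    by simpa [σ2] using h.n1, by simpa [σ2] using h.n2, by simpa [σ2] using h.n3⟩
  rw [h.cent]
  exact ⟨fun ⟨d, hd⟩ => ⟨σ d, by simp [σ1, hd]⟩, fun ⟨d, hd⟩ => ⟨σ d, hd⟩⟩

theorem Mdl.conj {t : G} {f : H0 →* G} (h : Mdl t f) (g : G) :
    Mdl (g * t * g⁻¹) ((MulAut.conj g).toMonoidHom.comp f) := by
  have key : ∀ a b : G, IsConj (g * a * g⁻¹) (g * b * g⁻¹) → IsConj a b := fun a b hab =>
    ((isConj_iff.2 ⟨g, rfl⟩).trans hab).trans (isConj_iff.2 ⟨g, rfl⟩).symm
  have kc : ∀ x a : G, x * (g * a * g⁻¹) = g * a * g⁻¹ * x ↔ g⁻¹ * x * g * a = a * (g⁻¹ * x * g) :=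
    fun x a => ⟨fun h => by
      calc _ = g⁻¹ * (x * (g * a * g⁻¹)) * g := by group
        _ = _ := by rw [h]; group, fun h => by
      calc _ = g * (g⁻¹ * x * g * a) * g⁻¹ := by group
        _ = _ := by rw [h]; group⟩
  refine ⟨(MulAut.conj g).injective.comp h.inj, fun x => ?_, by simp [h.ht], fun x hx => ?_,
    fun h' => h.n1 (key _ _ h'), fun h' => h.n2 (key _ _ h'), fun h' => h.n3 (key _ _ h')⟩
  · rw [kc, h.cent]
    refine exists_congr fun d => ⟨fun hd => ?_, fun hd => ?_⟩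
    · simp [hd, mul_assoc]
    · rw [← hd]; simp [mul_assoc]
  · exact (kc _ _).2 (h.cz _ ((kc _ _).1 hx))

section
set_option linter.unusedSectionVars false
variable {t : G} {f : H0 →* G} (h : Mdl t f)
include h

omit h in
theorem isConj_of {a b c : H0} (e : c * a * c⁻¹ = b) : IsConj (f a) (f b) :=
  isConj_iff.2 ⟨f c, by rw [← e]; simp⟩

theorem Mdl.conjZ {d : H0} (hd : Zt d) : IsConj (f d) (f z0) :=
  let ⟨_, hc⟩ := d5 d hd; isConj_of hc

theorem Mdl.conjTZ {d : H0} (hd : Zt (τ * d)) : IsConj (f d) (f (τ * z0)) := by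
  obtain ⟨c, hc⟩ := d5 _ hd
  refine isConj_of (c := c) ?_
  rw [← hc, ← mul_assoc c, ← (d7 c).1, mul_assoc τ, mul_assoc τ, (d7 _).2]

theorem Mdl.conjW {d : H0} (hd : Wt d) : IsConj (f d) (f w0) :=
  let ⟨_, hc⟩ := d6 d hd; isConj_of hc

theorem Mdl.conjTW {d : H0} (hd : Wt (τ * d)) : IsConj (f d) (f (τ * w0)) := by
  obtain ⟨c, hc⟩ := d6 _ hd
  refine isConj_of (c := c) ?_
  rw [← hc, ← mul_assoc c, ← (d7 c).1, mul_assoc τ, mul_assoc τ, (d7 _).2]

theorem Mdl.sq_of_conj {a d : H0} (ha : a * a = 1) (ha1 : a ≠ 1) (hc : IsConj (f a) (f d)) :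
    d * d = 1 ∧ d ≠ 1 := by
  refine ⟨h.inj ?_, ?_⟩
  · rw [map_mul, map_one]
    exact CL.Iso.isConj_mul_self (by rw [← map_mul, ha, map_one]) hc
  · rintro rfl
    rw [map_one, isConj_one_left, ← map_one f] at hc
    exact ha1 (h.inj hc)

theorem Mdl.not_both (h1 : IsConj t (f w0)) (h2 : IsConj t (f (τ * w0))) : False := by
  obtain ⟨g, hg⟩ := isConj_iff.1 h1.symm
  obtain ⟨d, hd⟩ := (h.cent (g * f z0 * g⁻¹)).1 (by
    rw [← hg]
    calc _ = g * (f z0 * f w0) * g⁻¹ := by group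
      _ = g * (f w0 * f z0) * g⁻¹ := by rw [← map_mul, ← map_mul]; congr 3; decide
      _ = _ := by group)
  have hc : IsConj (f z0) (f d) := isConj_iff.2 ⟨g, hd.symm⟩
  obtain ⟨h3, h4⟩ := h.sq_of_conj (by decide) (by decide) hc
  rcases d4 d h3 with e | e | e | e | e | e
  · exact h4 e
  · exact h.n1 (by rw [e, h.ht] at hc; exact hc.symm)
  · obtain ⟨c, hc⟩ := d5 d e
    have h5 := h.cz (f c * g) (by
      have := congrArg f hc
      rw [map_mul, map_mul, map_inv, hd] at this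
      calc _ = f c * (g * f z0 * g⁻¹) * (f c)⁻¹ * (f c * g) := by group
        _ = _ := by rw [this])
    have h6 : f c * t = t * f c := (h.cent _).2 ⟨c, rfl⟩
    have h7 : g * t = t * g := by
      apply mul_left_cancel (a := f c)
      rw [← mul_assoc, h5, ← mul_assoc, ← mul_assoc, h6]
    have h8 : f w0 = t := by
      calc f w0 = g⁻¹ * (g * f w0 * g⁻¹) * g := by group
        _ = g⁻¹ * (t * g) := by rw [hg, mul_assoc]
        _ = t := by rw [← h7]; group
    exact absurd (h.inj (h8.trans h.ht.symm)) (by decide)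
  · exact h.n3 (hc.trans (h.conjTZ e))
  · exact h.n1 (h1.trans ((h.conjW e).symm.trans hc.symm))
  · exact h.n1 (h2.trans ((h.conjTW e).symm.trans hc.symm))

theorem Mdl.cls (h1 : ¬ IsConj t (f w0)) (h2 : IsConj t (f (τ * w0))) (d : H0) :
    IsConj t (f d) ↔ P0 d := by
  constructor
  · intro hc
    obtain ⟨h3, h4⟩ := h.sq_of_conj (a := τ) (by decide) (by decide) (h.ht.symm ▸ hc)
    rcases d4 d h3 with e | e | e | e | e | e
    · exact absurd e h4
    · exact Or.inl e
    · exact absurd (hc.trans (h.conjZ e)) h.n1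
    · exact absurd (hc.trans (h.conjTZ e)) h.n2
    · exact absurd (hc.trans (h.conjW e)) h1
    · exact Or.inr e
  · rintro (rfl | e)
    · rw [h.ht]
    · exact h2.trans (h.conjTW e).symm

theorem Mdl.card_cent : Nat.card (centralizer ({t} : Set G)) = 48 := by
  have : centralizer ({t} : Set G) = f.range := by
    ext x; rw [mem_centralizer_singleton_iff, h.cent]; rfl
  rw [this, ← Nat.card_congr (MonoidHom.ofInjective h.inj).toEquiv, Nat.card_eq_fintype_card]
  decide +kernel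

theorem Mdl.mem_map {x : G} : x ∈ (centralizer ({z0} : Set H0)).map f ↔ x * f z0 = f z0 * x := by
  constructor
  · rintro ⟨d, hd, rfl⟩
    rw [← map_mul, ← map_mul, mem_centralizer_singleton_iff.1 hd]
  · intro hx
    obtain ⟨d, rfl⟩ := (h.cent x).1 (h.cz x hx)
    exact ⟨d, mem_centralizer_singleton_iff.2 (h.inj (by simpa using hx)), rfl⟩

omit h in
theorem card_map_of_filter (hf : Function.Injective f) (S : Subgroup H0) (p : H0 → Prop)
    [DecidablePred p] (hp : ∀ d, d ∈ S ↔ p d) :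
    Nat.card (S.map f) = (Finset.univ.filter p).card := by
  rw [← Nat.card_congr (S.equivMapOfInjective f hf).toEquiv, ← Fintype.card_subtype,
    ← Nat.card_eq_fintype_card]
  exact Nat.card_congr (Equiv.subtypeEquivRight hp)

theorem Mdl.core [Finite G] : oddCore G = ⊥ := by
  have hz : ∀ d, Zt d → ∀ k ∈ oddCore G, k * f d = f d * k → k ∈ (⊥ : Subgroup G) := by
    intro d hd k hk hc
    obtain ⟨c, hc'⟩ := isConj_iff.1 (h.conjZ hd)
    have h1 : c * k * c⁻¹ ∈ (centralizer ({z0} : Set H0)).map f := h.mem_map.2 (by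
      rw [← hc']
      calc _ = c * (k * f d) * c⁻¹ := by group
        _ = _ := by rw [hc]; group)
    have h2 : IsPGroup 2 ((centralizer ({z0} : Set H0)).map f) := IsPGroup.of_card (n := 4)
      ((card_map_of_filter h.inj _ _ fun d => mem_centralizer_singleton_iff).trans d2)
    have h3 := CL.SylowAux.eq_one_of_mem_of_odd h2 h1 (by
      rw [CL.Iso.orderOf_conj']
      exact CL.Rec.odd_orderOf_of_mem CL.Rec.odd_card_oddCore hk)
    rw [mem_bot]
    simpa using h3
  have ho : ∀ d, Zt d → orderOf (f d) = 2 := fun d hd => by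
    rw [orderOf_injective f h.inj]
    exact orderOf_eq_prime (by rcases hd with rfl | rfl | rfl <;> decide)
      (by rcases hd with rfl | rfl | rfl <;> decide)
  rw [eq_bot_iff]
  refine CL.Rec.odd_le_of_four CL.Rec.odd_card_oddCore (ho z0 (by decide)) (ho v0 (by decide))
    (fun e => absurd (h.inj e) (by decide)) (by rw [← map_mul, ← map_mul]; congr 1; decide)
    (by rw [normalizer_eq_top]; trivial) (by rw [normalizer_eq_top]; trivial)
    (hz _ (by decide)) (hz _ (by decide)) (by rw [← map_mul]; exact hz _ (by decide))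

theorem Mdl.card_le [Finite G] (P : Sylow 2 G)
    (hP : (P : Subgroup G) = (centralizer ({z0} : Set H0)).map f) (K : Subgroup G)
    (hK : K.index = 2) (htK : t ∉ K) (hw : f w0 ∈ K) (h2 : IsConj t (f (τ * w0))) :
    Nat.card G ≤ 720 := by
  have hKn : K.Normal := normal_of_index_eq_two hK
  have hKm : ∀ d, f d ∈ K ↔ d.1 = 1 := by
    have h1 : ∀ d : H0, d.1 = 1 → f d ∈ K := fun d hd => by
      obtain ⟨a, b, rfl | rfl⟩ := d8 d hd <;> simp only [map_mul]
      · exact mul_mem (mul_self_mem_of_index_two hK _) (mul_self_mem_of_index_two hK _)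
      · exact mul_mem (mul_mem (mul_self_mem_of_index_two hK _)
          (mul_self_mem_of_index_two hK _)) hw
    refine fun d => ⟨fun hd => (d9 d).resolve_right fun h' => htK ?_, h1 d⟩
    have := h1 _ h'
    rw [map_mul, h.ht] at this
    simpa using mul_mem this (inv_mem hd)
  have h1 : ¬ IsConj t (f w0) := fun hc => by
    obtain ⟨c, hc⟩ := isConj_iff.1 hc.symm
    exact htK (hc ▸ hKn.conj_mem _ hw c)
  -- `z` is conjugate to `w` in `K`
  obtain ⟨g, hgK, hg⟩ : ∃ g ∈ K, g * f (τ * w0) * g⁻¹ = t := by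
    obtain ⟨g, hg⟩ := isConj_iff.1 h2.symm
    by_cases hgK : g ∈ K
    · exact ⟨g, hgK, hg⟩
    · refine ⟨t * g, (mul_mem_iff_of_index_two hK).2 (by tauto), ?_⟩
      calc _ = t * (g * f (τ * w0) * g⁻¹) * t⁻¹ := by group
        _ = t := by rw [hg]; group
  obtain ⟨d, hd⟩ := (h.cent (g * f (τ * w0 * z0) * g⁻¹)).1 (by
    rw [← hg]
    calc _ = g * (f (τ * w0 * z0) * f (τ * w0)) * g⁻¹ := by group
      _ = g * (f (τ * w0) * f (τ * w0 * z0)) * g⁻¹ := by
        rw [← map_mul, ← map_mul]; congr 3; decide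
      _ = _ := by group)
  have hd2 : P0 d := (h.cls h1 h2 d).1
    (((h.cls h1 h2 (τ * w0 * z0)).2 (by decide)).trans (isConj_iff.2 ⟨g, hd.symm⟩))
  have hd3 : Wt (τ * d) := hd2.resolve_left fun e => by
    rw [e, h.ht, ← hg] at hd
    exact absurd (h.inj (mul_left_cancel (mul_right_cancel hd))) (by decide)
  obtain ⟨c, hcK, hc⟩ : ∃ c ∈ K, c * f z0 * c⁻¹ = f w0 := by
    obtain ⟨c, hc⟩ := d6 _ hd3
    have e1 : g * f z0 * g⁻¹ = f (τ * d) := by
      rw [map_mul, h.ht, hd, ← hg]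
      calc _ = g * (f (τ * w0) * f (τ * w0 * z0)) * g⁻¹ := by
            rw [← map_mul]; congr 3; decide
        _ = _ := by group
    obtain ⟨c', hc1, hc2⟩ : ∃ c' : H0, c'.1 = 1 ∧ c' * (τ * d) * c'⁻¹ = w0 := by
      rcases d9 c with e | e
      · exact ⟨c, e, hc⟩
      · refine ⟨τ * c, e, ?_⟩
        calc _ = τ * (c * (τ * d) * c⁻¹) * τ⁻¹ := by group
          _ = _ := by rw [hc]; decide
    refine ⟨f c' * g, mul_mem ((hKm _).2 hc1) hgK, ?_⟩
    rw [← hc2, map_mul, map_mul, ← e1, map_inv]; group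
  have hzK : f z0 ∈ K := (hKm _).2 rfl
  have hvK : f v0 ∈ K := (hKm _).2 rfl
  have hcard8 : Nat.card (centralizer ({⟨f z0, hzK⟩} : Set K)) = 2 * 4 := by
    rw [show 2 * 4 = 8 from rfl, ← d10, ← card_map_of_filter h.inj
      (centralizer {z0} ⊓ (MonoidHom.fst _ _).ker) _ (fun d => by
        rw [mem_inf, mem_centralizer_singleton_iff, MonoidHom.mem_ker]; rfl),
      Nat.card_congr (equivMapOfInjective _ K.subtype K.subtype_injective).toEquiv]
    congr 3
    ext x
    constructor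
    · rintro ⟨y, hy, rfl⟩
      obtain ⟨e, he, he'⟩ := h.mem_map.2 (congrArg Subtype.val (mem_centralizer_singleton_iff.1 hy))
      exact ⟨e, ⟨he, (hKm e).1 (he' ▸ y.2)⟩, he'⟩
    · rintro ⟨e, he, rfl⟩
      exact ⟨⟨f e, (hKm e).2 he.2⟩, mem_centralizer_singleton_iff.2 (Subtype.ext
        (h.mem_map.1 ⟨e, he.1, rfl⟩)), rfl⟩
  have hfK : f f0 ∈ K := (hKm _).2 rfl
  have ho4 : orderOf (⟨f f0, hfK⟩ : K) = 4 := by
    rw [← orderOf_coe, orderOf_injective f h.inj]
    exact orderOf_eq_prime_pow (p := 2) (n := 1) (by decide) (by decide)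
  obtain ⟨e⟩ := CL.DQ.subgroup_dihedral (by norm_num) (centralizer ({⟨f z0, hzK⟩} : Set K))
    ⟨f f0, hfK⟩ ⟨f w0, hw⟩
    (mem_centralizer_singleton_iff.2 (Subtype.ext (by
      simp only [coe_mul, ← map_mul]; congr 1; decide)))
    (mem_centralizer_singleton_iff.2 (Subtype.ext (by
      simp only [coe_mul, ← map_mul]; congr 1; decide))) ho4
    (Subtype.ext (by simp only [coe_mul, ← map_mul, coe_one]; rw [← map_one f]; congr 1; decide))
    (Subtype.ext (by simp only [coe_mul, coe_inv, ← map_inv, ← map_mul]; congr 1; decide))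
    (by
      rintro ⟨k, hk⟩
      have h3 : f0 ^ k = w0 := h.inj (by simpa using congrArg Subtype.val hk)
      have h4 : f0 * w0 = w0 * f0 := by rw [← h3]; exact (Commute.self_zpow f0 k).eq
      exact absurd h4 (by decide)) hcard8
  have hno : ∀ M : Subgroup K, M.index ≠ 2 := by
    intro M hM
    have hMn : M.Normal := normal_of_index_eq_two hM
    have hz : (⟨f z0, hzK⟩ : K) ∈ M := by
      have := mul_self_mem_of_index_two hM ⟨f f0, hfK⟩
      convert this using 1
      exact Subtype.ext (by simp only [coe_mul, ← map_mul]; congr 1; decide)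
    have hwM : (⟨f w0, hw⟩ : K) ∈ M := by
      convert hMn.conj_mem _ hz ⟨c, hcK⟩ using 1
      exact Subtype.ext hc.symm
    have hv : (⟨f v0, hvK⟩ : K) ∈ M := by
      convert hMn.conj_mem _ hz ⟨f (1, swap 1 2), (hKm _).2 rfl⟩ using 1
      exact Subtype.ext (by simp only [coe_mul, coe_inv, ← map_inv, ← map_mul]; congr 1; decide)
    refine CL.FusInv.not_le_of_index_two (P := centralizer ({⟨f z0, hzK⟩} : Set K)) ?_ hM ?_
    · have e1 := (centralizer ({⟨f z0, hzK⟩} : Set K)).index_mul_card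
      have e2 := (P : Subgroup G).index_mul_card
      have e3 := K.index_mul_card
      have e4 : Nat.card (P : Subgroup G) = 16 := by
        rw [hP]
        exact (card_map_of_filter h.inj _ _ fun d => mem_centralizer_singleton_iff).trans d2
      have e5 := P.not_dvd_index
      rw [hcard8] at e1
      rw [e4] at e2
      rw [hK] at e3
      omega
    · intro x hx
      obtain ⟨e, he, he'⟩ := h.mem_map.2 (congrArg Subtype.val (mem_centralizer_singleton_iff.1 hx))
      obtain ⟨k, hk | hk⟩ := d11 e (mem_centralizer_singleton_iff.1 he) ((hKm e).1 (he' ▸ x.2))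
      · convert pow_mem (mul_mem hv hwM) k using 1
        exact Subtype.ext (by simp [← he', hk])
      · convert mul_mem (pow_mem (mul_mem hv hwM) k) hwM using 1
        exact Subtype.ext (by simp [← he', hk])
  obtain ⟨-, hc, -⟩ := CL.Char.D8.main hno (t := ⟨f z0, hzK⟩) (by
    rw [← orderOf_coe, orderOf_injective f h.inj]
    exact orderOf_eq_prime (by decide) (by decide)) e
  have e3 := K.index_mul_card
  rw [hK] at e3
  omega

set_option maxHeartbeats 200000 in
theorem Mdl.transfer [Finite G] (ht : orderOf t = 2) (P : Sylow 2 G)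
    (hP : (P : Subgroup G) = (centralizer ({z0} : Set H0)).map f) (hw : ¬ IsConj t (f w0)) :
    ∃ K : Subgroup G, K.index = 2 ∧ t ∉ K := by
  have hcP : Nat.card (P : Subgroup G) = 2 ^ 4 := by
    rw [hP]
    exact (card_map_of_filter h.inj _ _ fun d => mem_centralizer_singleton_iff).trans d2
  obtain ⟨D, hD, hD'⟩ : ∃ D : Subgroup H0, D ≤ centralizer {z0} ∧
      ∀ d, d ∈ D ↔ d * z0 = z0 * d ∧ d.1 = 1 :=
    ⟨centralizer {z0} ⊓ (MonoidHom.fst _ _).ker, inf_le_left, fun d => by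
      rw [mem_inf, mem_centralizer_singleton_iff, MonoidHom.mem_ker]; rfl⟩
  have hodd := CL.Iso.sylow_two_odd_index P
  refine CL.Iso.thompson_transfer_inv (M := D.map f) hodd ?_ ?_ ht ?_
  · have e0 : D.map f ≤ P := by rw [hP]; exact map_mono hD
    have e1 := relIndex_mul_index e0
    have e2 := (D.map f).index_mul_card
    have e3 := (P : Subgroup G).index_mul_card
    rw [card_map_of_filter h.inj _ _ hD', d10, ← e1] at e2
    rw [hcP, ← e2] at e3
    have e4 : (P : Subgroup G).index ≠ 0 := index_ne_zero_of_finite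
    apply Nat.eq_of_mul_eq_mul_right (Nat.pos_of_ne_zero e4)
    omega
  · rw [hP]; exact ⟨τ, mem_centralizer_singleton_iff.2 (by decide), h.ht⟩
  · rintro g ⟨d, hd, e⟩
    have hc : IsConj t (f d) := isConj_iff.2 ⟨g, e.symm⟩
    have hd1 : d.1 = 1 := ((hD' d).1 hd).2
    obtain ⟨h3, h4⟩ := h.sq_of_conj (a := τ) (by decide) (by decide) (h.ht.symm ▸ hc)
    rcases d4 d h3 with e | e | e | e | e | e
    · exact h4 e
    · exact absurd (e ▸ hd1) (by decide)
    · exact h.n1 (hc.trans (h.conjZ e))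
    · exact h.n2 (hc.trans (h.conjTZ e))
    · exact hw (hc.trans (h.conjW e))
    · exact absurd (e.1.symm.trans (by rw [Prod.fst_mul, hd1])) (by decide)

open Classical in
theorem Mdl.exists_X {s : G} (hs : IsConj s t) (h1 : ¬ IsConj t (f w0))
    (h2 : IsConj t (f (τ * w0))) :
    ((Finset.univ.filter P0).image f).card = 7 ∧
      ∀ y, y ∈ (Finset.univ.filter P0).image f ↔ IsConj s y ∧ y * t = t * y := by
  refine ⟨by rw [Finset.card_image_of_injective _ h.inj, d12], fun y => ?_⟩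
  simp only [Finset.mem_image, Finset.mem_filter, Finset.mem_univ, true_and]
  constructor
  · rintro ⟨d, hd, rfl⟩
    exact ⟨hs.trans ((h.cls h1 h2 d).2 hd), (h.cent _).2 ⟨d, rfl⟩⟩
  · rintro ⟨hy, hc⟩
    obtain ⟨d, rfl⟩ := (h.cent _).1 hc
    exact ⟨d, (h.cls h1 h2 d).1 (hs.symm.trans hy), rfl⟩

theorem Mdl.exists_mdl (h1 : ¬ IsConj t (f w0)) (h2 : IsConj t (f (τ * w0))) {x : G}
    (hx : IsConj t x) : ∃ f' : H0 →* G, Mdl x f' ∧ ¬ IsConj x (f' w0) ∧ IsConj x (f' (τ * w0)) := by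
  obtain ⟨g, rfl⟩ := isConj_iff.1 hx
  refine ⟨_, h.conj g, fun hc => h1 ?_, ?_⟩
  · exact (hx.trans hc).trans (isConj_iff.2 ⟨g, rfl⟩).symm
  · exact (hx.symm.trans h2).trans (isConj_iff.2 ⟨g, rfl⟩)

theorem Mdl.triple (h1 : ¬ IsConj t (f w0)) (h2 : IsConj t (f (τ * w0))) {a b : G}
    (ha : IsConj t a) (hb : IsConj t b) (hat : a * t = t * a) (hbt : b * t = t * b) (ha1 : a ≠ t)
    (hb1 : b ≠ t) (hab : a ≠ b) (hc : a * b = b * a) :
    (∀ d, IsConj t d → d * t = t * d → d * a = a * d → d = t ∨ d = a ∨ d = b) ∧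
    (∀ d, IsConj t d → d * t = t * d → d ≠ t → d ≠ a → d ≠ b →
      d * a * d = a * d * a ∧ d * b * d = b * d * b) ∧
    ∃ c d, IsConj t c ∧ IsConj t d ∧ c * t = t * c ∧ d * t = t * d ∧ c * a ≠ a * c ∧
      d * a ≠ a * d ∧ b = c * d * c := by
  obtain ⟨a, rfl⟩ := (h.cent _).1 hat
  obtain ⟨b, rfl⟩ := (h.cent _).1 hbt
  have pr : Pr a b := ⟨(h.cls h1 h2 _).1 ha, (h.cls h1 h2 _).1 hb, fun e => ha1 (e ▸ h.ht),
    fun e => hb1 (e ▸ h.ht), fun e => hab (e ▸ rfl), h.inj (by simpa using hc)⟩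
  have e1 := d13a a b pr
  have e2 := d13b a b pr
  obtain ⟨c, e3, e5, d, e4, e6, e7⟩ := d13c a b pr
  refine ⟨fun x hx hxt hxa => ?_, fun x hx hxt k1 k2 k3 => ?_, f c, f d, (h.cls h1 h2 _).2 e3,
    (h.cls h1 h2 _).2 e4, (h.cent _).2 ⟨c, rfl⟩, (h.cent _).2 ⟨d, rfl⟩,
    fun e => e5 (h.inj (by simpa using e)), fun e => e6 (h.inj (by simpa using e)), by simp [e7]⟩
  · obtain ⟨x, rfl⟩ := (h.cent _).1 hxt
    rcases e1 x ((h.cls h1 h2 _).1 hx) (h.inj (by simpa using hxa)) with rfl | rfl | rfl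
    exacts [Or.inl h.ht, Or.inr (Or.inl rfl), Or.inr (Or.inr rfl)]
  · obtain ⟨x, rfl⟩ := (h.cent _).1 hxt
    obtain ⟨k4, k5⟩ := (((e2 x ((h.cls h1 h2 _).1 hx)).resolve_left
      (fun e => k1 (e ▸ h.ht))).resolve_left (fun e => k2 (e ▸ rfl))).resolve_left
      (fun e => k3 (e ▸ rfl))
    exact ⟨by simpa using congrArg f k4, by simpa using congrArg f k5⟩

theorem Mdl.iso [Finite G] (hG : Nat.card G ≤ 720) (h1 : ¬ IsConj t (f w0))
    (h2 : IsConj t (f (τ * w0))) : Nonempty (G ≃* Perm (Fin 6)) := by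
  classical
  have := Fintype.ofFinite G
  set a1 := f (τ * (1, swap 0 1)) with ha1
  set a2 := f (τ * (1, swap 1 2)) with ha2
  set a3 := f (τ * (1, swap 2 3)) with ha3
  have c1 : IsConj t a1 := (h.cls h1 h2 _).2 (by decide)
  have c2 : IsConj t a2 := (h.cls h1 h2 _).2 (by decide)
  have c3 : IsConj t a3 := (h.cls h1 h2 _).2 (by decide)
  have t1 : a1 * t = t * a1 := (h.cent _).2 ⟨_, rfl⟩
  have t2 : a2 * t = t * a2 := (h.cent _).2 ⟨_, rfl⟩
  have t3 : a3 * t = t * a3 := (h.cent _).2 ⟨_, rfl⟩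
  have n1 : a1 ≠ t := fun e => absurd (h.inj (e.trans h.ht.symm)) (by decide)
  have n3 : a3 ≠ t := fun e => absurd (h.inj (e.trans h.ht.symm)) (by decide)
  have n13 : a1 ≠ a3 := fun e => absurd (h.inj e) (by decide)
  have m13 : a1 * a3 = a3 * a1 := by rw [ha1, ha3, ← map_mul, ← map_mul]; congr 1; decide
  have m12 : a1 * a2 ≠ a2 * a1 := by
    rw [ha1, ha2, ← map_mul, ← map_mul]; exact fun e => absurd (h.inj e) (by decide)
  obtain ⟨f1, k1, k1a, k1b⟩ := h.exists_mdl h1 h2 c1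
  obtain ⟨f2, k2, k2a, k2b⟩ := h.exists_mdl h1 h2 c2
  obtain ⟨f3, k3, k3a, k3b⟩ := h.exists_mdl h1 h2 c3
  obtain ⟨x0, y0⟩ := h.exists_X (IsConj.refl t) h1 h2
  obtain ⟨x1, y1⟩ := k1.exists_X c1 k1a k1b
  obtain ⟨x2, y2⟩ := k2.exists_X c2 k2a k2b
  obtain ⟨x3, y3⟩ := k3.exists_X c3 k3a k3b
  generalize (Finset.univ.filter P0).image f1 = X1 at x1 y1
  generalize (Finset.univ.filter P0).image f2 = X2 at x2 y2
  generalize (Finset.univ.filter P0).image f3 = X3 at x3 y3
  have x02 : ((Finset.univ.filter P0).image f ∩ X2).card ≤ 3 := by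
    have : (Finset.univ.filter P0).image f ∩ X2 ⊆ (Finset.univ.filter fun d : H0 =>
        P0 d ∧ d * (τ * (1, swap 1 2)) = (τ * (1, swap 1 2)) * d).image f := by
      intro y hy
      obtain ⟨hy1, hy2⟩ := Finset.mem_inter.1 hy
      obtain ⟨d, hd, rfl⟩ := Finset.mem_image.1 hy1
      refine Finset.mem_image.2 ⟨d, Finset.mem_filter.2 ⟨Finset.mem_univ _,
        (Finset.mem_filter.1 hd).2, h.inj ?_⟩, rfl⟩
      rw [map_mul f d, map_mul f _ d]
      exact ((y2 _).1 hy2).2
    refine (Finset.card_le_card this).trans (Finset.card_image_le.trans ?_)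
    decide +kernel
  generalize (Finset.univ.filter P0).image f = X0 at x0 y0 x02
  obtain ⟨p0, -, -⟩ := h.triple h1 h2 c1 c3 t1 t3 n1 n3 n13 m13
  obtain ⟨p0', -, -⟩ := h.triple h1 h2 c3 c1 t3 t1 n3 n1 n13.symm m13.symm
  obtain ⟨p1, q1, -⟩ := k1.triple k1a k1b (c1.symm.trans c3) c1.symm m13.symm t1.symm n13.symm
    n1.symm n3 t3
  obtain ⟨-, -, e1, e2, r1, r2, r3, r4, r5, r6, r7⟩ := k3.triple k3a k3b c3.symm
    (c3.symm.trans c1) t3.symm m13 n3.symm n13 n1.symm t1.symm
  have h3 : ({t, a1, a3} : Finset G).card ≤ 3 := Finset.card_le_three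
  have i01 : X0 ∩ X1 ⊆ {t, a1, a3} := fun y hy => by
    obtain ⟨u1, u2⟩ := Finset.mem_inter.1 hy
    simpa using p0 y ((y0 _).1 u1).1 ((y0 _).1 u1).2 ((y1 _).1 u2).2
  have i3 : (X0 ∪ X1) ∩ X3 ⊆ {t, a1, a3} := fun y hy => by
    obtain ⟨u1, u2⟩ := Finset.mem_inter.1 hy
    rcases Finset.mem_union.1 u1 with u1 | u1
    · have := p0' y ((y0 _).1 u1).1 ((y0 _).1 u1).2 ((y3 _).1 u2).2
      simp only [Finset.mem_insert, Finset.mem_singleton]; tauto
    · have := p1 y (c1.symm.trans ((y1 _).1 u1).1) ((y1 _).1 u1).2 ((y3 _).1 u2).2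
      simp only [Finset.mem_insert, Finset.mem_singleton]; tauto
  have u01 := Finset.card_union_add_card_inter X0 X1
  have u3 := Finset.card_union_add_card_inter (X0 ∪ X1) X3
  have l1 := Finset.card_le_card i01
  have l3 := Finset.card_le_card i3
  have hD : (Finset.univ.filter (IsConj t)).card ≤ 15 := by
    have e1 : (Finset.univ.filter (IsConj t)).card = (centralizer ({t} : Set G)).index := by
      rw [← CL.Char.card_isConj_eq_index t, ← Fintype.card_subtype, Nat.card_eq_fintype_card]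
    have e2 := (centralizer ({t} : Set G)).index_mul_card
    rw [h.card_cent] at e2
    omega
  have hU : X0 ∪ X1 ∪ X3 = Finset.univ.filter (IsConj t) := by
    refine Finset.eq_of_subset_of_card_le (fun y hy => ?_) (by omega)
    simp only [Finset.mem_union, y0, y1, y3] at hy
    simp only [Finset.mem_filter, Finset.mem_univ, true_and]
    tauto
  obtain ⟨b, hb1, hb2, hb0⟩ : ∃ b, b ∈ X1 ∧ b ∈ X2 ∧ b ∉ X0 := by
    by_contra! hcon
    have s1 : X2 ⊆ (X0 ∩ X2) ∪ (X3 \ X0) := fun y hy => by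
      have : y ∈ X0 ∪ X1 ∪ X3 := by rw [hU]; simpa using ((y2 y).1 hy).1
      simp only [Finset.mem_union, Finset.mem_inter, Finset.mem_sdiff] at this ⊢
      have := hcon y
      tauto
    have s2 : (X3 \ X0).card ≤ 4 := by
      have s3 : ({t, a1, a3} : Finset G) ⊆ X3 ∩ X0 := by
        intro y hy
        simp only [Finset.mem_insert, Finset.mem_singleton] at hy
        simp only [Finset.mem_inter, y0, y3]
        rcases hy with rfl | rfl | rfl
        · exact ⟨⟨IsConj.refl _, t3.symm⟩, IsConj.refl _, rfl⟩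
        · exact ⟨⟨c1, m13⟩, c1, t1⟩
        · exact ⟨⟨c3, rfl⟩, c3, t3⟩
      have s4 : ({t, a1, a3} : Finset G).card = 3 := by
        rw [Finset.card_insert_of_notMem (by simp [n1.symm, n3.symm]), Finset.card_pair n13]
      have s5 := Finset.card_le_card s3
      have s6 := Finset.card_sdiff_add_card_inter X3 X0
      omega
    have s7 : X2 = (X0 ∩ X2) ∪ (X3 \ X0) :=
      Finset.eq_of_subset_of_card_le s1 ((Finset.card_union_le _ _).trans (by omega))
    have s8 : ∀ e, IsConj a3 e → e * a3 = a3 * e → e * t ≠ t * e → Commute e a2 := by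
      intro e he1 he2 he3
      have : e ∈ X2 := by
        rw [s7]
        exact Finset.mem_union_right _ (Finset.mem_sdiff.2 ⟨(y3 e).2 ⟨c3.trans he1, he2⟩,
          fun u => he3 ((y0 e).1 u).2⟩)
      exact ((y2 e).1 this).2
    refine m12 ?_
    rw [r7]
    exact (((s8 e1 r1 r3 r5).mul_left (s8 e2 r2 r4 r6)).mul_left (s8 e1 r1 r3 r5)).eq
  obtain ⟨cb, b1⟩ := (y1 b).1 hb1
  have b2 := ((y2 b).1 hb2).2
  have hbt : b * t ≠ t * b := fun e => hb0 ((y0 b).2 ⟨cb, e⟩)
  obtain ⟨b3, b4⟩ := q1 b (c1.symm.trans cb) b1 (fun e => hbt (e ▸ t1)) (fun e => hbt (e ▸ t3))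
    (fun e => hbt (e ▸ rfl))
  have ht2 : t * t = 1 := by rw [← h.ht, ← map_mul, ← map_one f]; congr 1
  have b12 : a1 * a2 * a1 = a2 * a1 * a2 := by
    simp only [ha1, ha2, ← map_mul]; congr 1; decide
  have b23 : a2 * a3 * a2 = a3 * a2 * a3 := by
    simp only [ha3, ha2, ← map_mul]; congr 1; decide
  obtain ⟨φ, hφ⟩ := CL.exists_perm_hom_of_braid 5 ![a1, a2, a3, b, t]
    (fun i => by
      fin_cases i
      exacts [CL.Iso.isConj_mul_self ht2 c1, CL.Iso.isConj_mul_self ht2 c2,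
        CL.Iso.isConj_mul_self ht2 c3, CL.Iso.isConj_mul_self ht2 cb, ht2])
    (fun i j hij => by
      fin_cases i <;> fin_cases j <;> simp at hij ⊢
      exacts [m13, b1.symm, t1, b2.symm, t2, t3])
    (fun i j hij => by
      fin_cases i <;> fin_cases j <;> simp at hij ⊢
      exacts [b12, b23, b3.symm, b4])
  have hinj : Function.Injective φ :=
    CL.TT.injective_perm_of_five_le (by norm_num) (a := 0) (b := 1) (c := 2) (d := 3) (by decide)
      (by decide) (by
        have u1 := hφ 0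
        have u2 := hφ 2
        simp only [Matrix.cons_val] at u1 u2
        rw [show swap (0 : Fin 6) 1 = swap (Fin.castSucc 0) (Fin.succ 0) from rfl, u1,
          show swap (2 : Fin 6) 3 = swap (Fin.castSucc 2) (Fin.succ 2) from rfl, u2, ha1, ha3,
          ← map_mul, ← map_one f]
        exact fun e => absurd (h.inj e) (by decide))
  refine ⟨(MulEquiv.ofBijective φ (hinj.bijective_of_nat_card_le ?_)).symm⟩
  rw [Nat.card_perm]
  simpa [Nat.factorial] using hG

end

/-- Let G be a finite group of even order such that (1) some involution t lying in the centre of a Sylow 2-subgroup of G has C_G(t) ≅ Z₂ × S₄, and (2) every Sylow 2-subgroup S of G satisfies C_G(S′) = S, where S′ is the derived subgroup of S. Then G = C_G(t) if G is solvable, and G ≅ S₆ otherwise. -/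
theorem result {G : Type*} [Group G] [Finite G] (hev : Even (Nat.card G))
    (t : G) (ht : orderOf t = 2) (T : Sylow 2 G) (htT : t ∈ (T : Subgroup G)) (htc : ∀ s ∈ (T : Subgroup G), s * t = t * s)
    (e : ↥(Subgroup.centralizer ({t} : Set G)) ≃* (Multiplicative (ZMod 2) × Equiv.Perm (Fin 4)))
    (h2 : ∀ S : Sylow 2 G, Subgroup.centralizer ((⁅(S : Subgroup G), (S : Subgroup G)⁆ : Subgroup G) : Set G) = (S : Subgroup G)) :
    (Group.IsSolvable G → Subgroup.centralizer ({t} : Set G) = ⊤) ∧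
      (¬ Group.IsSolvable G → Nonempty (G ≃* Equiv.Perm (Fin 6))) := by
  obtain ⟨f, hf, hfC⟩ := CL.Rec.exists_cent_model (H := H0) e
  have ht1 := CL.Iso.ne_one_of_orderOf_two ht
  have ht0 : f τ = t := by
    obtain ⟨d, rfl⟩ := (hfC t).1 rfl
    have h1 : ∀ e, e * d = d * e := fun e => hf (by
      rw [map_mul, map_mul]; exact (hfC _).2 ⟨e, rfl⟩)
    rw [d1 d h1 fun h => ht1 (by rw [h, map_one])]
  have hcS : Nat.card ((centralizer ({z0} : Set H0)).map f) = 2 ^ 4 :=
    (card_map_of_filter hf _ _ fun d => mem_centralizer_singleton_iff).trans d2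
  have hC48 : Nat.card (centralizer ({t} : Set G)) = 48 := by
    rw [Nat.card_congr e.toEquiv, Nat.card_eq_fintype_card]; decide +kernel
  have hodd : ¬ 2 ∣ ((centralizer ({z0} : Set H0)).map f).index := by
    have h1 : (T : Subgroup G) ≤ centralizer {t} := fun s hs =>
      mem_centralizer_singleton_iff.2 (htc s hs)
    have h2 : ¬ 2 ∣ (centralizer ({t} : Set G)).index := fun h =>
      T.not_dvd_index (h.trans (index_dvd_of_le h1))
    have h3 := (centralizer ({t} : Set G)).index_mul_card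
    have h4 := ((centralizer ({z0} : Set H0)).map f).index_mul_card
    rw [hC48] at h3
    rw [hcS] at h4
    omega
  obtain ⟨P, hP⟩ : ∃ P : Sylow 2 G, (P : Subgroup G) = (centralizer ({z0} : Set H0)).map f :=
    ⟨(IsPGroup.of_card hcS).toSylow hodd, rfl⟩
  have hcomm : ∀ a ∈ (P : Subgroup G), ∀ b ∈ (P : Subgroup G),
      a * b * a⁻¹ * b⁻¹ = 1 ∨ a * b * a⁻¹ * b⁻¹ = f z0 := by
    rw [hP]
    rintro _ ⟨a, ha, rfl⟩ _ ⟨b, hb, rfl⟩
    rcases d3 a b (mem_centralizer_singleton_iff.1 ha) (mem_centralizer_singleton_iff.1 hb) with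
      h | h
    · left; simpa using congrArg f h
    · right; simpa using congrArg f h
  have hCz : ∀ g, g * f z0 = f z0 * g → g ∈ (P : Subgroup G) := by
    intro g hg
    rw [← h2 P]
    have h1 : ⁅(P : Subgroup G), (P : Subgroup G)⁆ ≤ centralizer {g} :=
      commutator_le.2 fun a ha b hb => by
        rw [mem_centralizer_singleton_iff, commutatorElement_def]
        rcases hcomm a ha b hb with h | h <;> rw [h]
        · simp
        · exact hg.symm
    exact fun x hx => mem_centralizer_singleton_iff.1 (h1 hx)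
  have hPt : ∀ g ∈ (P : Subgroup G), g * t = t * g := by
    rw [hP]; rintro _ ⟨d, -, rfl⟩; exact (hfC _).2 ⟨d, rfl⟩
  have hPm : ∀ d, d * z0 = z0 * d → f d ∈ (P : Subgroup G) := fun d hd =>
    hP ▸ ⟨d, mem_centralizer_singleton_iff.2 hd, rfl⟩
  have hN : normalizer ((P : Subgroup G) : Set G) ≤ P := by
    intro n hn
    refine hCz n ?_
    have h1 : n * f z0 * n⁻¹ = n * f v0 * n⁻¹ * (n * f w0 * n⁻¹) * (n * f v0 * n⁻¹)⁻¹ *
        (n * f w0 * n⁻¹)⁻¹ := by
      rw [show z0 = v0 * w0 * v0⁻¹ * w0⁻¹ by decide]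
      simp only [map_mul, map_inv]; group
    rcases hcomm _ ((mem_normalizer_iff.1 hn _).1 (hPm v0 (by decide))) _
      ((mem_normalizer_iff.1 hn _).1 (hPm w0 (by decide))) with h | h
    · rw [← h1, mul_inv_eq_one, mul_eq_left, ← map_one f] at h
      exact absurd (hf h) (by decide)
    · rw [← h1, mul_inv_eq_iff_eq_mul] at h
      exact h
  have hnc : ∀ a b : H0, (∀ d, d * z0 = z0 * d → d * a = a * d) →
      (∀ d, d * z0 = z0 * d → d * b = b * d) → a ≠ b → ¬ IsConj (f a) (f b) := by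
    intro a b ha hb hab hc
    obtain ⟨g, hg⟩ := isConj_iff.1 hc
    have key : ∀ a : H0, (∀ d, d * z0 = z0 * d → d * a = a * d) →
        f a ∈ centralizer ((P : Subgroup G) : Set G) := by
      rw [hP]
      rintro a ha _ ⟨d, hd, rfl⟩
      rw [← map_mul, ← map_mul, ha d (mem_centralizer_singleton_iff.1 hd)]
    obtain ⟨n, hn, e⟩ := P.conj_eq_normalizer_conj_of_mem_centralizer (f a) g⁻¹ (key a ha)
      (by rw [inv_inv, hg]; exact key b hb)
    rw [inv_inv, hg, mul_assoc, ← key a ha n (hN hn), inv_mul_cancel_left] at e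
    exact hab (hf e).symm
  have M : Mdl t f := by
    refine ⟨hf, hfC, ht0, fun g hg => hPt g (hCz g hg), ?_, ?_, ?_⟩
    · rw [← ht0]; exact hnc τ z0 (fun d hd => (d14 d hd).1) (fun d hd => hd) (by decide)
    · rw [← ht0]; exact hnc τ _ (fun d hd => (d14 d hd).1) (fun d hd => (d14 d hd).2) (by decide)
    · exact hnc z0 _ (fun d hd => hd) (fun d hd => (d14 d hd).2) (by decide)
  by_cases hiso : IsIsolatedInvolution t
  · have h1 := CL.Rec.cent_sup_core_of_isolated hiso
    rw [M.core, sup_bot_eq] at h1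
    refine ⟨fun _ => h1, fun h => absurd ?_ h⟩
    refine CL.Char.isSolvable_of_card_dvd_pow_mul_pow (p := 2) (q := 3) (a := 4) (b := 1)
      (by norm_num) (by norm_num) ?_
    rw [← card_top, ← h1, hC48]; norm_num
  suffices h : Nonempty (G ≃* Perm (Fin 6)) by
    refine ⟨fun hs => ?_, fun _ => h⟩
    obtain ⟨e⟩ := h
    exact absurd (Group.isSolvable_of_surjective (f := e.toMonoidHom) e.surjective)
      (Perm.not_isSolvable _ (by simp; norm_num))
  have hP' : (P : Subgroup G) = (centralizer ({z0} : Set H0)).map (f.comp σ) := by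
    ext x
    rw [hP, M.mem_map, M.twist.mem_map]
    simp [σ2]
  have main : ∀ f : H0 →* G, Mdl t f → (P : Subgroup G) = (centralizer ({z0} : Set H0)).map f →
      ∀ K : Subgroup G, K.index = 2 → t ∉ K → f w0 ∈ K → Nonempty (G ≃* Perm (Fin 6)) := by
    intro f M hP K hK htK hw
    have hKn : K.Normal := normal_of_index_eq_two hK
    have h1 : ¬ IsConj t (f w0) := fun hc => by
      obtain ⟨c, hc⟩ := isConj_iff.1 hc.symm
      exact htK (hc ▸ hKn.conj_mem _ hw c)
    have h2 : IsConj t (f (τ * w0)) := by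
      obtain ⟨g, hg1, hg2⟩ : ∃ g : G, Commute t (g * t * g⁻¹) ∧ g * t * g⁻¹ ≠ t := by
        by_contra! h
        exact hiso ⟨ht, h⟩
      obtain ⟨d, hd⟩ := (M.cent _).1 hg1.symm.eq
      have hc : IsConj t (f d) := isConj_iff.2 ⟨g, hd.symm⟩
      obtain ⟨h3, h4⟩ := M.sq_of_conj (a := τ) (by decide) (by decide) (M.ht.symm ▸ hc)
      rcases d4 d h3 with e | e | e | e | e | e
      · exact absurd e h4
      · exact absurd (by rw [← hd, e, M.ht]) hg2
      · exact absurd (hc.trans (M.conjZ e)) M.n1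
      · exact absurd (hc.trans (M.conjTZ e)) M.n2
      · exact absurd (hc.trans (M.conjW e)) h1
      · exact hc.trans (M.conjTW e)
    exact M.iso (M.card_le P hP K hK htK hw h2) h1 h2
  obtain ⟨K, hK, htK⟩ : ∃ K : Subgroup G, K.index = 2 ∧ t ∉ K := by
    by_cases hw : IsConj t (f w0)
    · exact M.twist.transfer ht P hP' fun h => M.not_both hw (by simpa [σ2] using h)
    · exact M.transfer ht P hP hw
  by_cases hw : f w0 ∈ K
  · exact main f M hP K hK htK hw
  · refine main _ M.twist hP' K hK htK ?_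
    rw [MonoidHom.comp_apply, σ2.2.2, map_mul, ht0]
    exact (mul_mem_iff_of_index_two hK).2 (by tauto)

end Cfsg.Agent.S3222
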