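import Cfsg.Statements.S3252
import Mathlib
import Cfsg.Agent.PERM.CycZ5

set_option autoImplicit false
open Cfsg

namespace Cfsg.Agent.S3252

/-- Let G be a finite non-solvable group that is the product G = AB of a cyclic subgroup A and a subgroup B all of whose Sylow subgroups are cyclic. Then the quotient of G by its largest solvable normal subgroup is isomorphic to PGL₂(p) for some prime p > 3. -/
theorem result {G : Type*} [Group G] [Finite G] (hG : ¬ Group.IsSolvable G)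
    (A B : Subgroup G) (hA : IsCyclic ↥A) (hB : ∀ (q : ℕ) [Fact q.Prime] (Q : Sylow q ↥B), IsCyclic ↥(Q : Subgroup ↥B))
    (hAB : ∀ g : G, ∃ a ∈ A, ∃ b ∈ B, g = a * b)
    (R : Subgroup G) [hR : R.Normal] (hRs : Group.IsSolvable ↥R) (hRmax : ∀ N : Subgroup G, N.Normal → Group.IsSolvable ↥N → N ≤ R) :
    ∃ (F : Type) (_ : Field F) (_ : Fintype F) (p : ℕ), p.Prime ∧ 3 < p ∧ Fintype.card F = p ∧
      Nonempty ((G ⧸ R) ≃* (GL (Fin 2) F ⧸ Subgroup.center (GL (Fin 2) F))) := by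
  obtain ⟨a, rfl⟩ := CL.MC.exists_eq_zpowers A
  obtain ⟨F, _, _, p, hp, h3, hF, φ, hφ, hk⟩ := CL.CycZ.red _ G a B rfl
    ⟨⟨fun q hq Q => have := Fact.mk hq; hB q Q⟩, fun g => by
      obtain ⟨_, ⟨i, rfl⟩, b, hb, e⟩ := hAB g
      exact ⟨i, b, hb, e⟩⟩ hG
  have e : R = φ.ker := by
    refine le_antisymm ((Subgroup.map_eq_bot_iff R).1 ?_) (hRmax _ inferInstance hk)
    have := hR.map φ hφ
    have := Group.isSolvable_of_surjective (φ.subgroupMap_surjective R)
    exact CL.CycZ.eq_bot_of_solv (by omega)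
  exact ⟨F, _, _, p, hp, h3, hF, ⟨(QuotientGroup.quotientMulEquivOfEq e).trans
    (QuotientGroup.quotientKerEquivOfSurjective φ hφ)⟩⟩

end Cfsg.Agent.S3252
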