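import Cfsg.Statements.S3254
import Cfsg.Agent.BLK.D1Three

set_option autoImplicit false
open Cfsg

namespace Cfsg.Agent.S3254

/-- Let p > 3 be a prime and G a finite non-abelian simple group acting faithfully and transitively on a set Ω of 3p points, such that the normalizer of a Sylow p-subgroup of G has order 2p. If the action is primitive then p = 5 and G ≅ A₆; if it is imprimitive then p = 2^m + 1 for some m and G ≅ PSL₂(2^m). -/
theorem result {G : Type*} [Group G] [Finite G] [IsSimpleGroup G] (hG : ¬ IsMulCommutative G)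
    (p : ℕ) (hp : p.Prime) (hp3 : 3 < p) {Ω : Type*} [Fintype Ω] [MulAction G Ω] [FaithfulSMul G Ω]
    (htr : MulAction.IsPretransitive G Ω) (hΩ : Fintype.card Ω = 3 * p)
    (P : Sylow p G) (hN : Nat.card ↥(Subgroup.normalizer ((P : Subgroup G) : Set G)) = 2 * p) :
    (MulAction.IsPreprimitive G Ω → p = 5 ∧ Nonempty (G ≃* ↥(alternatingGroup (Fin 6)))) ∧
      (¬ MulAction.IsPreprimitive G Ω → ∃ (F : Type) (_ : Field F) (_ : Fintype F) (m : ℕ), Fintype.card F = 2 ^ m ∧ p = 2 ^ m + 1 ∧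
        Nonempty (G ≃* Matrix.ProjectiveSpecialLinearGroup (Fin 2) F)) := by
  classical
  have : Fact p.Prime := ⟨hp⟩
  have hΩ' : Nat.card Ω = 3 * p := by rw [Nat.card_eq_fintype_card, hΩ]
  have : Nonempty Ω := Fintype.card_pos_iff.1 (by omega)
  obtain ⟨a₀⟩ : Nonempty Ω := inferInstance
  have hpd : p ∣ Nat.card Ω := hΩ' ▸ dvd_mul_left p 3
  have hd : p ∣ Nat.card G :=
    hpd.trans (MulAction.index_stabilizer_of_transitive G a₀ ▸ Subgroup.index_dvd_card _)
  have h5 : 5 ≤ p := by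
    have : p ≠ 4 := by rintro rfl; norm_num at hp
    omega
  obtain ⟨x, χ, δ, Y, h⟩ := CL.D1T.exists_E2 h5 P hd hN
    (fun K hK h1 => hK.eq_bot_or_eq_top.resolve_right fun e => h1 (by rwa [e, Subgroup.card_top]))
    fun hn => by
      rcases hn.eq_bot_or_eq_top with e | e
      · have h2 := P.dvd_card_of_dvd_card hd
        rw [e, Subgroup.card_bot] at h2
        exact hp.not_dvd_one h2
      · have h3 : IsPGroup p G := (e ▸ P.2).of_equiv Subgroup.topEquiv
        have : Nontrivial G := IsSimpleGroup.toNontrivial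
        have := h3.center_nontrivial
        rw [CL.Small.center_eq_bot hG] at this
        exact not_nontrivial _ this
  refine ⟨fun hprim => ?_, fun hn => ?_⟩
  · have h2 := h.two_le
    rcases h.perm_cases Ω hpd hΩ'.le with h1 | ⟨hδ, d, R, h1, h3, h4, h6⟩ | ⟨h1, h3, h4, -, h6⟩
    · exact absurd hprim (h.not_prim Ω hΩ' h1)
    · rcases d with _ | _ | _ | d
      · exact (h.not_two Ω hΩ' hδ (by omega) fun g => by rw [h6, h3 rfl]; simp).elim
      · exact h.rank_three Ω hΩ' hδ (by omega) (h4 rfl).1 (h4 rfl).2 h6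
      · exact absurd hprim (h.not_prim Ω hΩ' (by omega))
      · rw [mul_add, mul_add, mul_add] at h1; omega
    · exact (h.not_exc Ω hΩ' h1 h3 h4 h6).elim
  · obtain ⟨m, F, _, _, hm, hF, ⟨φ⟩⟩ := h.iso (h.deg_of_not_prim Ω hΩ' hn)
    exact ⟨F, _, _, m, hF, hm, ⟨φ.trans (CL.GL2.pslEquivEven (CL.GL2.two_eq_zero_of_even
      (hF ▸ dvd_pow_self 2 (by rintro rfl; omega))))⟩⟩

end Cfsg.Agent.S3254
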