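import Cfsg.Statements.S3262
import Cfsg.Agent.PERM.TwoS9
import Cfsg.Agent.S1187

set_option autoImplicit false
open Cfsg

namespace Cfsg.Agent.S3262


/-- Let G be a finite doubly transitive permutation group on a set Ω with no regular normal subgroup, in which the stabilizer of two points is isomorphic to the alternating group A₅. Then either Ω has 7 points and G ≅ A₇, or Ω has 12 points and G is isomorphic to the Mathieu group M₁₁. -/
theorem result {G : Type*} [Group G] [Finite G] {Ω : Type*} [Fintype Ω] [MulAction G Ω] [FaithfulSMul G Ω]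
    (h2 : MulAction.IsMultiplyPretransitive G Ω 2) (a b : Ω) (hab : a ≠ b)
    (hnr : ∀ N : Subgroup G, N.Normal → MulAction.IsPretransitive ↥N Ω → (∀ x : Ω, MulAction.stabilizer ↥N x = ⊥) → False)
    (e : ↥(MulAction.stabilizer G a ⊓ MulAction.stabilizer G b) ≃* ↥(alternatingGroup (Fin 5))) :
    (Fintype.card Ω = 7 ∧ Nonempty (G ≃* ↥(alternatingGroup (Fin 7)))) ∨ (Fintype.card Ω = 12 ∧ Cfsg.Spor.IsoM11 G) := by
  obtain ⟨t, v, ρ, h, hc⟩ := CL.TwoS.setup alternatingGroup.index_eq_two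
    (Cfsg.Agent.S2119.result 5 (by norm_num) (by norm_num)) CL.TwoS.mdl5 h2 hab e
  have nr : ∀ M : Subgroup G, M.Normal → M ≠ ⊥ → (∀ x ∈ M, ∀ y ∈ M, x * y = y * x) → False :=
    fun M _ h1 h2 => hnr M inferInstance (h.regular h1 h2).1 fun x =>
      (Subgroup.eq_bot_iff_forall _).2 fun r hr => Subtype.ext ((h.regular h1 h2).2 x r r.2 hr)
  rw [← Nat.card_eq_fintype_card]
  rcases Nat.mod_two_eq_zero_or_one (Nat.card Ω) with he | ho
  · rcases hc with ⟨z, hx⟩ | ⟨y, hy⟩
    · exact absurd (h.evenX hx he (.inr rfl)).1 (by norm_num)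
    · exact .inr (h.m11 hy he rfl)
  have ho := Nat.odd_iff.2 ho
  rcases hc with ⟨z, hx⟩ | ⟨y, hy⟩
  · exfalso
    by_cases hz : ∃ g, g * t * g⁻¹ = z
    · obtain ⟨g, hg⟩ := hz
      exact h.oddX2 hx ho (g := g⁻¹) (by rw [← hg]; group)
    have := Cfsg.Agent.S1187.centralizer_sup_oddCore (h.oddX1 hx ho hz)
    by_cases hO : oddCore G = ⊥
    · rw [hO, sup_bot_eq] at this
      have c : ∀ g, g * z = z * g := fun g => CL.TwoS.mem_cent.1 (this ▸ Subgroup.mem_top g)
      refine nr (Subgroup.center G) inferInstance (fun e => hx.hz.1 ?_) fun x hx y _ =>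
        (Subgroup.mem_center_iff.1 hx y).symm
      exact Subgroup.mem_bot.1 (e ▸ Subgroup.mem_center_iff.2 c)
    · obtain ⟨M, -, h1⟩ := CL.InvT.exists_abelian_normal_le (oddCore G) hO
        (Cfsg.Agent.S0205.result (Nat.coprime_two_right.1 (CL.coprime_card_pPrimeCore 2 G)))
      exact nr M h1.1 h1.2.1 h1.2.2
  · rcases h.oddY hy ho with ⟨M, h1⟩ | ⟨⟨e⟩⟩
    · exact (nr M h1.1 h1.2.1 h1.2.2).elim
    · exact .inl ⟨(h.card_of_alt7 e).2 rfl, ⟨e⟩⟩

end Cfsg.Agent.S3262
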