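import Cfsg.Statements.S3269
import Mathlib
import Cfsg.Agent.S0218
import Cfsg.Agent.INV.ZStarElt
import Cfsg.Agent.INV.ZStarCor
import Cfsg.Agent.SOLV.Basic

set_option autoImplicit false
open Cfsg

namespace Cfsg.Agent.S3269

theorem exists_inv {T : Type*} [Group T] [Finite T] (hT : IsPGroup 2 T) {N : Subgroup T}
    (hN : N ≠ ⊥) : ∃ e ∈ N, orderOf e = 2 := by
  have hNp : IsPGroup 2 N := hT.to_subgroup N
  have : Nontrivial N := (Subgroup.nontrivial_iff_ne_bot N).mpr hN
  obtain ⟨k, hk⟩ := IsPGroup.iff_card.mp hNp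
  have h2 : 2 ∣ Nat.card N := by
    rw [hk]
    refine dvd_pow_self 2 ?_
    rintro rfl
    exact absurd (Finite.one_lt_card (α := N)) (by omega)
  obtain ⟨e, he⟩ := exists_prime_orderOf_dvd_card' 2 h2
  exact ⟨e, e.2, by rw [Subgroup.orderOf_coe, he]⟩

open scoped IsMulCommutative in
theorem key {T : Type*} [Group T] [Finite T] (hT : IsPGroup 2 T) (Q R : Subgroup T)
    (hc : ∀ a ∈ Q, ∀ b ∈ R, a * b = b * a) (hi : Q ⊓ R = ⊥) (hs : Q ⊔ R = ⊤)
    (z : T) (hzQ : z ∈ Q) (hz : orderOf z = 2) (hzu : ∀ e ∈ Q, orderOf e = 2 → e = z)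
    (a b : T) (ha : a ∈ Q) (hb : b ∈ Q) (hab : a * b ≠ b * a)
    (hR : ∀ r ∈ R, orderOf r = 2 → ∀ s ∈ R, r * s = s * r) :
    (∀ t : T, orderOf t = 2 → t ∈ Subgroup.center T) ∧
      ∃ w : T, orderOf w = 2 ∧ ∀ φ : T ≃* T, φ w = w := by
  classical
  have hRQ : R ≤ Subgroup.normalizer (Q : Set T) := by
    refine le_trans ?_ (Subgroup.centralizer_le_normalizer _)
    intro r hr
    rw [Subgroup.mem_centralizer_iff]
    exact fun q hq => hc q hq r hr
  have hQR : Q ≤ Subgroup.normalizer (R : Set T) := by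
    refine le_trans ?_ (Subgroup.centralizer_le_normalizer _)
    intro r hr
    rw [Subgroup.mem_centralizer_iff]
    exact fun q hq => (hc r hr q hq).symm
  have hdec : ∀ t : T, ∃ q ∈ Q, ∃ r ∈ R, q * r = t := fun t =>
    (CL.mem_sup_of_le_normalizer hQR).mp (hs ▸ Subgroup.mem_top t)
  have hQn : Q.Normal := by
    rw [← Subgroup.normalizer_eq_top_iff, eq_top_iff, ← hs]
    exact sup_le Subgroup.le_normalizer hRQ
  have hzc : ∀ q ∈ Q, q * z = z * q := by
    intro q hq
    have h1 := hzu (q * z * q⁻¹) (Q.mul_mem (Q.mul_mem hq hzQ) (Q.inv_mem hq))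
      (by rw [CL.Iso.orderOf_conj', hz])
    calc q * z = q * z * q⁻¹ * q := by group
      _ = z * q := by rw [h1]
  have hcen : ∀ t : T, orderOf t = 2 → t ∈ Subgroup.center T := by
    intro t ht
    obtain ⟨q, hq, r, hr, rfl⟩ := hdec t
    have h1 : q * q * (r * r) = 1 := by
      rw [← CL.Iso.mul_self_of_orderOf_two ht]
      calc q * q * (r * r) = q * (q * r) * r := by group
        _ = q * (r * q) * r := by rw [hc q hq r hr]
        _ = _ := by group
    have h2 : q * q = 1 := by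
      have : q * q ∈ Q ⊓ R := ⟨Q.mul_mem hq hq, by
        rw [eq_inv_of_mul_eq_one_left h1]; exact R.inv_mem (R.mul_mem hr hr)⟩
      rwa [hi, Subgroup.mem_bot] at this
    have h3 : r * r = 1 := by rwa [h2, one_mul] at h1
    refine Subgroup.mul_mem _ ?_ ?_
    · by_cases hq1 : q = 1
      · rw [hq1]; exact one_mem _
      rw [hzu q hq (CL.Iso.orderOf_two_of h2 hq1), Subgroup.mem_center_iff]
      intro g
      obtain ⟨x, hx, y, hy, rfl⟩ := hdec g
      rw [mul_assoc, ← hc z hzQ y hy, ← mul_assoc, hzc x hx, mul_assoc]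
    · by_cases hr1 : r = 1
      · rw [hr1]; exact one_mem _
      rw [Subgroup.mem_center_iff]
      intro g
      obtain ⟨x, hx, y, hy, rfl⟩ := hdec g
      rw [mul_assoc, ← hR r hr (CL.Iso.orderOf_two_of h3 hr1) y hy, ← mul_assoc, hc x hx r hr,
        mul_assoc]
  refine ⟨hcen, ?_⟩
  let P : T → Prop := fun d => orderOf d = 2 ∧ ∃ N : Subgroup T, N.Normal ∧
    Nat.card N = Nat.card Q ∧ d ∈ N ∧ ∀ e ∈ N, orderOf e = 2 → e = d
  have hPφ : ∀ (φ : T ≃* T) d, P d → P (φ d) := by
    rintro φ d ⟨h1, N, hN, h2, h3, h4⟩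
    refine ⟨by rw [MulEquiv.orderOf_eq, h1], N.map φ.toMonoidHom, hN.map _ φ.surjective,
      by rw [← h2]; exact Subgroup.card_map_of_injective φ.injective, ⟨d, h3, rfl⟩, ?_⟩
    rintro _ ⟨e, he, rfl⟩ ho
    have : orderOf e = 2 := by rw [← ho]; exact (MulEquiv.orderOf_eq φ e).symm
    rw [h4 e he this]; rfl
  have hPz : P z := ⟨hz, Q, hQn, rfl, hzQ, hzu⟩
  have hPd : ∀ d, P d → d = z ∨ d ∈ R := by
    rintro d ⟨h1, N, hN, h2, h3, h4⟩
    by_cases hNR : N ⊓ R = ⊥
    · left
      have hNR' : R ⊔ N = ⊤ := by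
        apply Subgroup.eq_top_of_card_eq
        rw [CL.card_sup_of_disjoint (Subgroup.le_normalizer_of_normal) (by rw [inf_comm, hNR]), h2,
          mul_comm, ← CL.card_sup_of_disjoint hQR hi, hs, Subgroup.card_top]
      obtain ⟨x, hx, r, hr, hxr⟩ := (CL.mem_sup_of_le_normalizer'
        (H := N) (K := R) Subgroup.le_normalizer_of_normal).mp
          (show a ∈ N ⊔ R by rw [sup_comm, hNR']; trivial)
      have h5 : N ⊓ Q ≠ ⊥ := by
        intro h
        have : a * b * a⁻¹ * b⁻¹ ∈ N ⊓ Q := by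
          refine ⟨?_, Q.mul_mem (Q.mul_mem (Q.mul_mem ha hb) (Q.inv_mem ha)) (Q.inv_mem hb)⟩
          have h6 : a * b * a⁻¹ * b⁻¹ = x * (b * x⁻¹ * b⁻¹) := by
            rw [← hxr]
            calc x * r * b * (x * r)⁻¹ * b⁻¹ = x * (r * b) * r⁻¹ * x⁻¹ * b⁻¹ := by group
              _ = x * (b * r) * r⁻¹ * x⁻¹ * b⁻¹ := by rw [hc b hb r hr]
              _ = _ := by group
          rw [h6]
          exact N.mul_mem hx (hN.conj_mem _ (N.inv_mem hx) b)
        rw [h, Subgroup.mem_bot] at this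
        apply hab
        calc a * b = a * b * a⁻¹ * b⁻¹ * (b * a) := by group
          _ = b * a := by rw [this, one_mul]
      obtain ⟨e, he, ho⟩ := exists_inv hT h5
      rw [← h4 e he.1 ho, hzu e he.2 ho]
    · obtain ⟨e, he, ho⟩ := exists_inv hT hNR
      right
      rw [← h4 e he.1 ho]; exact he.2
  have := Fintype.ofFinite (Subgroup.center T)
  let D : Finset (Subgroup.center T) := Finset.univ.filter fun d => P d
  let z' : Subgroup.center T := ⟨z, hcen z hz⟩
  have hzD : z' ∈ D := by simp [D, z', hPz]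
  have hzR : z ∉ R := by
    intro h
    have : z ∈ Q ⊓ R := ⟨hzQ, h⟩
    rw [hi, Subgroup.mem_bot] at this
    exact CL.Iso.ne_one_of_orderOf_two hz this
  refine ⟨((∏ d ∈ D, d : Subgroup.center T) : T), ?_, ?_⟩
  · apply CL.Iso.orderOf_two_of
    · have : (∏ d ∈ D, d) * (∏ d ∈ D, d) = 1 := by
        rw [← Finset.prod_mul_distrib]
        refine Finset.prod_eq_one fun d hd => Subtype.ext ?_
        exact CL.Iso.mul_self_of_orderOf_two (Finset.mem_filter.mp hd).2.1
      exact congrArg Subtype.val this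
    · rw [← Finset.mul_prod_erase D _ hzD]
      have h1 : (∏ d ∈ D.erase z', d) ∈ R.subgroupOf (Subgroup.center T) := by
        refine Subgroup.prod_mem _ fun d hd => ?_
        rw [Finset.mem_erase] at hd
        rcases hPd d (Finset.mem_filter.mp hd.2).2 with h | h
        · exact absurd (Subtype.ext h) hd.1
        · exact h
      intro h
      apply hzR
      rw [Subgroup.coe_mul] at h
      rw [show z = (z' : T) from rfl, eq_inv_of_mul_eq_one_left h]
      exact R.inv_mem h1
  · intro φ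
    have h1 : Subgroup.centerCongr φ (∏ d ∈ D, d) = ∏ d ∈ D, d := by
      rw [map_prod]
      refine Finset.prod_equiv (Subgroup.centerCongr φ).toEquiv (fun d => ?_) (fun _ _ => rfl)
      simp only [D, Finset.mem_filter, Finset.mem_univ, true_and]
      refine ⟨fun h => hPφ φ _ h, fun h => ?_⟩
      have := hPφ φ.symm _ h
      have h2 : φ.symm ((Subgroup.centerCongr φ).toEquiv d : T) = d := φ.symm_apply_apply _
      rwa [h2] at this
    exact congrArg Subtype.val h1

/-- Let G be a finite group whose Sylow 2-subgroup S is an internal direct product Q × R with Q generalized quaternion (of order at least 8) and R a subgroup all of whose involutions are central in R. Then G is not simple. In particular no finite simple group has a Sylow 2-subgroup that is a direct product of one or more generalized quaternion groups. -/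
theorem result {G : Type*} [Group G] [Finite G]
    (S : Sylow 2 G) (Q R : Subgroup G) (hQR : Cfsg.IsInternalDirectProduct Q R (S : Subgroup G))
    (n : ℕ) (hn : 1 ≤ n) (eQ : ↥Q ≃* QuaternionGroup (2 ^ n))
    (hR : ∀ r ∈ R, orderOf r = 2 → ∀ s ∈ R, r * s = s * r) :
    ¬ IsSimpleGroup G := by
  intro hG
  obtain ⟨hQS, hRS, hc, hi, hs⟩ := hQR
  obtain ⟨m, rfl⟩ : ∃ m, n = m + 1 := ⟨n - 1, by omega⟩
  obtain ⟨⟨z₀, hz₀⟩, hzu⟩ := Nat.card_eq_one_iff_exists.mp (Cfsg.Agent.S0218.result m)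
  have h0 : NeZero (2 ^ (m + 1)) := ⟨by positivity⟩
  have hab₀ : (QuaternionGroup.a 1 * QuaternionGroup.xa 0 : QuaternionGroup (2 ^ (m + 1))) ≠
      QuaternionGroup.xa 0 * QuaternionGroup.a 1 := by
    rw [QuaternionGroup.a_mul_xa, QuaternionGroup.xa_mul_a]
    intro h
    have h1 : ((2 : ℕ) : ZMod (2 * 2 ^ (m + 1))) = 0 := by
      have := QuaternionGroup.xa.inj h
      push_cast
      linear_combination -this
    rw [ZMod.natCast_eq_zero_iff] at h1
    have := Nat.le_of_dvd two_pos h1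
    have : 1 ≤ 2 ^ m := Nat.one_le_two_pow
    rw [pow_succ] at *
    omega
  let ι : QuaternionGroup (2 ^ (m + 1)) →* S :=
    (Subgroup.inclusion hQS).comp eQ.symm.toMonoidHom
  have hι : Function.Injective ι := (Subgroup.inclusion_injective hQS).comp eQ.symm.injective
  have hιQ : ∀ x, ι x ∈ Q.subgroupOf S := fun x => (eQ.symm x).2
  have hab : ι (QuaternionGroup.a 1) * ι (QuaternionGroup.xa 0) ≠
      ι (QuaternionGroup.xa 0) * ι (QuaternionGroup.a 1) := by
    rw [← map_mul, ← map_mul]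
    exact fun h => hab₀ (hι h)
  obtain ⟨hcen, w, hw, hwφ⟩ := key S.isPGroup' (Q.subgroupOf S) (R.subgroupOf S)
    (fun a ha b hb => Subtype.ext (hc a ha b hb))
    (by rw [Subgroup.subgroupOf, Subgroup.subgroupOf, ← Subgroup.comap_inf, hi]
        exact Subgroup.bot_subgroupOf _)
    (by rw [← Subgroup.subgroupOf_sup hQS hRS, hs, Subgroup.subgroupOf_self])
    (ι z₀) (hιQ _) (by rw [orderOf_injective ι hι, hz₀])
    (fun e he ho => by
      have h1 : ι (eQ ⟨e, he⟩) = e := by
        simp only [ι, MonoidHom.comp_apply, MulEquiv.coe_toMonoidHom, MulEquiv.symm_apply_apply]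
        rfl
      have h2 := hzu ⟨eQ ⟨e, he⟩, by rw [← orderOf_injective ι hι, h1, ho]⟩
      exact h1.symm.trans (congrArg ι (congrArg Subtype.val h2)))
    _ _ (hιQ _) (hιQ _) hab
    (fun r hr ho s hs => Subtype.ext (hR r hr (by rw [Subgroup.orderOf_coe, ho]) s hs))
  have hna : ¬ IsMulCommutative G := fun h =>
    hab (Subtype.ext (h.is_comm.comm _ _))
  have hw' : orderOf (w : G) = 2 := by rw [Subgroup.orderOf_coe, hw]
  refine CL.BS.not_isolated_of_simple hna (w : G)
    (CL.Iso.isolatedInvolution_of_sylow S hw' fun g hg => ?_)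
  have hC : ∀ t : S, orderOf t = 2 → (t : G) ∈ Subgroup.centralizer (S : Set G) := by
    intro t ht
    rw [Subgroup.mem_centralizer_iff]
    intro s hs
    exact congrArg Subtype.val (Subgroup.mem_center_iff.mp (hcen t ht) ⟨s, hs⟩)
  obtain ⟨k, hk, hk'⟩ := S.conj_eq_normalizer_conj_of_mem_centralizer (w : G) g⁻¹ (hC w hw)
    (by
      rw [inv_inv]
      exact hC ⟨_, hg⟩ (by rw [← Subgroup.orderOf_coe, CL.Iso.orderOf_conj', hw']))
  rw [inv_inv] at hk'
  rw [hk']
  have := congrArg Subtype.val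
    (hwφ ((S : Subgroup G).normalizerMonoidHom ⟨k⁻¹, Subgroup.inv_mem _ hk⟩))
  refine Eq.trans ?_ this
  change _ = k⁻¹ * (w : G) * k⁻¹⁻¹
  rw [inv_inv]

end Cfsg.Agent.S3269
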