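import Cfsg.Statements.S3279
import Cfsg.Agent.INV.ZStarElt

set_option autoImplicit false
open Cfsg

namespace Cfsg.Agent.S3279

open CL.MSS CL.Iso

variable {G : Type*} [Group G]

/-- at most three involutions commute with `x` -/
def Three (x : G) : Prop :=
  ∀ z u : G, orderOf z = 2 → orderOf u = 2 → Commute z x → Commute u x → z ≠ x →
    u = x ∨ u = z ∨ u = x * z

theorem three_of_card [Finite G] {x : G} (hx : orderOf x = 2)
    (h3 : Nat.card {u : ↥(Subgroup.centralizer ({x} : Set G)) // orderOf u = 2} ≤ 3) : Three x := by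
  classical
  intro z u hz hu hzx hux hne
  by_contra hcon
  push Not at hcon
  have hxx := mul_self_of_orderOf_two hx
  have hzz := mul_self_of_orderOf_two hz
  have hxz : orderOf (x * z) = 2 := by
    apply orderOf_two_of
    · rw [← pow_two, hzx.symm.mul_pow, pow_two, pow_two, hxx, hzz, one_mul]
    · intro h
      apply hne
      rw [eq_inv_of_mul_eq_one_right h, inv_eq_of_mul_self hxx]
  have h1 : x ≠ x * z := fun h => ne_one_of_orderOf_two hz (by simpa using h.symm)
  have h2 : z ≠ x * z := fun h => ne_one_of_orderOf_two hx (by simpa using h.symm)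
  let f : {u : ↥(Subgroup.centralizer ({x} : Set G)) // orderOf u = 2} → G := fun u => u.1.1
  have hf : Function.Injective f := fun a b h => Subtype.ext (Subtype.ext h)
  have hsub : ({u, x, z, x * z} : Set G) ⊆ Set.range f := by
    have key : ∀ v : G, orderOf v = 2 → Commute v x → v ∈ Set.range f := fun v hv hc =>
      ⟨⟨⟨v, Subgroup.mem_centralizer_singleton_iff.mpr hc⟩, by rwa [← Subgroup.orderOf_coe]⟩, rfl⟩
    rintro v (rfl | rfl | rfl | rfl)
    exacts [key _ hu hux, key _ hx (Commute.refl _), key _ hz hzx,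
      key _ hxz ((Commute.refl x).mul_left hzx)]
  have h4 := Set.ncard_le_ncard hsub
  rw [Set.ncard_range_of_injective hf, Set.ncard_insert_of_notMem (by simp [hcon]),
    Set.ncard_insert_of_notMem (by simp [hne.symm, h1]), Set.ncard_pair h2] at h4
  omega

theorem Three.conj {x : G} (h : Three x) (g : G) : Three (g * x * g⁻¹) := by
  intro z u hz hu hzx hux hne
  have e : ∀ v : G, Commute v (g * x * g⁻¹) → Commute (g⁻¹ * v * g⁻¹⁻¹) x := by
    intro v hv
    have := hv.map (MulAut.conj g⁻¹).toMonoidHom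
    simpa [mul_assoc] using this
  have e2 : ∀ v : G, v = g * (g⁻¹ * v * g⁻¹⁻¹) * g⁻¹ := fun v => by group
  rcases h _ _ (by rw [orderOf_conj', hz]) (by rw [orderOf_conj', hu]) (e z hzx) (e u hux)
    (fun h1 => hne (by rw [e2 z, h1])) with h1 | h1 | h1
  · left; rw [e2 u, h1]
  · right; left; rw [e2 u, h1, ← e2]
  · right; right; rw [e2 u, h1]; group

theorem two_central [Finite G] [IsSimpleGroup G] (hG : ¬ IsMulCommutative G) {x : G}
    (hx : orderOf x = 2) (h3 : Three x) :
    ∃ S : Sylow 2 G, (S : Subgroup G) ≤ Subgroup.centralizer ({x} : Set G) := by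
  have hxx := mul_self_of_orderOf_two hx
  obtain ⟨T, hT, hxT⟩ := exists_sylIn_ge (H := Subgroup.centralizer ({x} : Set G))
    (CL.SylowAux.isPGroup_zpowers_two hxx)
    (Subgroup.zpowers_le.mpr (Subgroup.mem_centralizer_singleton_iff.mpr rfl))
  replace hxT : x ∈ T := hxT (Subgroup.mem_zpowers x)
  obtain ⟨S, hS⟩ := hT.pgroup.exists_le_sylow
  by_contra hcon
  push Not at hcon
  have hTS : (S : Subgroup G) ⊓ Subgroup.centralizer ({x} : Set G) = T :=
    hT.max _ (S.2.to_le inf_le_left) (le_inf hS hT.le) inf_le_right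
  have hlt : T < S := lt_of_le_of_ne hS (fun h => hcon S (h ▸ hT.le))
  obtain ⟨y, ⟨hyS, hyN⟩, hyT⟩ := SetLike.exists_of_lt (lt_inf_normalizer_of_lt S.2 hlt)
  have hZ := inf_centralizer_ne_bot S.2 S.2 Subgroup.le_normalizer (ne_bot_of_gt hlt)
  obtain ⟨z, ⟨hzS, hzC⟩, hz⟩ := CL.SylowAux.exists_mem_orderOf_eq_two_of_even
    (even_iff_two_dvd.mpr (dvd_card_of_isPGroup_le (S.2.to_le inf_le_left) hZ le_rfl))
  have hzz := mul_self_of_orderOf_two hz
  have hzx : Commute z x := (hzC x (hS hxT)).symm
  have hnc : ¬ IsConj z x := by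
    intro h
    obtain ⟨g, rfl⟩ := isConj_iff.mp h
    apply hcon (g • S)
    rw [sylow_coe_smul, ← cj_centralizer_singleton]
    exact cj_mono g fun s hs => Subgroup.mem_centralizer_singleton_iff.mpr (hzC s hs)
  have hne : z ≠ x := fun h => hnc (h ▸ IsConj.refl _)
  have hy : y * x * y⁻¹ = x * z := by
    have h1 : y * x * y⁻¹ ∈ T := (Subgroup.mem_normalizer_iff.mp hyN x).mp hxT
    rcases h3 z _ hz (by rw [orderOf_conj', hx]) hzx
      (Subgroup.mem_centralizer_singleton_iff.mp (hT.le h1)) hne with h | h | h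
    · exfalso
      apply hyT
      rw [← hTS]
      exact ⟨hyS, Subgroup.mem_centralizer_singleton_iff.mpr (mul_inv_eq_iff_eq_mul.mp h)⟩
    · exact absurd (isConj_iff.mpr ⟨y, h⟩).symm hnc
    · exact h
  have hnc2 : ¬ IsConj z (x * z) := fun h => hnc (h.trans (isConj_iff.mpr ⟨y, hy⟩).symm)
  have hall : ∀ u, IsConj z u → Commute u z := by
    intro u hu
    have huu := isConj_mul_self hzz hu
    have hu2 : orderOf u = 2 := by
      obtain ⟨g, rfl⟩ := isConj_iff.mp hu
      rw [orderOf_conj', hz]
    rcases Nat.even_or_odd (orderOf (x * u)) with ⟨m, hm⟩ | hodd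
    swap
    · obtain ⟨k, hk⟩ := conj_of_odd hxx huu hodd
      exact absurd (hu.trans (isConj_iff.mpr ⟨_, hk⟩).symm) hnc
    have hpos := orderOf_pos (x * u)
    have hw : (x * u) ^ m ≠ 1 := pow_ne_one_of_lt_orderOf (by omega) (by omega)
    have hww : (x * u) ^ m * (x * u) ^ m = 1 := by rw [← pow_add, ← hm, pow_orderOf_eq_one]
    have hxw : Commute x ((x * u) ^ m) :=
      commute_of_inverts_of_mul_self (inverts_pow (left_inverts_mul hxx huu) m) hww
    have huw : Commute u ((x * u) ^ m) :=
      commute_of_inverts_of_mul_self (inverts_pow (right_inverts_mul hxx huu) m) hww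
    rcases h3 z _ hz (orderOf_two_of hww hw) hzx hxw.symm hne with h | h | h
    · rw [h] at huw
      rcases h3 z u hz hu2 hzx huw hne with h | h | h
      · exact absurd (h ▸ hu) hnc
      · rw [h]
      · exact absurd (h ▸ hu) hnc2
    · rwa [h] at huw
    · rw [h] at huw
      have h4 := h3.conj y
      rw [hy] at h4
      rcases h4 z u hz hu2 (hzx.mul_right (Commute.refl z)) huw
        (fun h => hnc2 (h ▸ IsConj.refl _)) with h | h | h
      · exact absurd (h ▸ hu) hnc2
      · rw [h]
      · rw [mul_assoc, hzz, mul_one] at h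
        exact absurd (h ▸ hu) hnc
  have h5 : Subgroup.normalClosure ({z} : Set G) ≤ Subgroup.centralizer ({z} : Set G) := by
    rw [Subgroup.normalClosure, Subgroup.closure_le]
    intro u hu
    obtain ⟨_, rfl, h⟩ := Group.mem_conjugatesOfSet_iff.mp hu
    exact Subgroup.mem_centralizer_singleton_iff.mpr (hall u h)
  rcases (Subgroup.normalClosure_normal (s := ({z} : Set G))).eq_bot_or_eq_top with h | h
  · exact ne_one_of_orderOf_two hz
      (by rw [← Subgroup.mem_bot, ← h]; exact Subgroup.subset_normalClosure rfl)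
  · rw [h] at h5
    apply CL.BS.not_isolated_of_simple hG z
    refine ⟨hz, fun g _ => ?_⟩
    rw [Subgroup.mem_centralizer_singleton_iff.mp (h5 (Subgroup.mem_top g))]
    group

/-- Let G be a finite simple group and x an involution of G whose centralizer contains at most three involutions. Then C_G(x) contains a Sylow 2-subgroup of G, and all involutions of G are conjugate. -/
theorem result {G : Type*} [Group G] [Finite G] [IsSimpleGroup G] (x : G) (hx : orderOf x = 2)
    (h3 : Nat.card {u : ↥(Subgroup.centralizer ({x} : Set G)) // orderOf u = 2} ≤ 3) :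
    (∃ S : Sylow 2 G, (S : Subgroup G) ≤ Subgroup.centralizer ({x} : Set G)) ∧
      ∀ u v : G, orderOf u = 2 → orderOf v = 2 → IsConj u v := by
  by_cases hG : IsMulCommutative G
  · obtain ⟨S⟩ : Nonempty (Sylow 2 G) := inferInstance
    refine ⟨⟨S, fun y _ => Subgroup.mem_centralizer_singleton_iff.mpr (hG.is_comm.comm y x)⟩,
      fun u v hu hv => ?_⟩
    have : IsCyclic G := by
      have h1 := CL.BS.card_eq_two_of_simple_of_isolated (z := x) ⟨hx, fun g _ => by
        rw [hG.is_comm.comm g x]; group⟩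
      exact isCyclic_of_prime_card (p := 2) h1
    rw [CL.SylowAux.eq_of_isCyclic_of_orderOf_eq_two hu hv]
  have h3' := three_of_card hx h3
  obtain ⟨S, hS⟩ := two_central hG hx h3'
  refine ⟨⟨S, hS⟩, ?_⟩
  have key : ∀ u : G, orderOf u = 2 → IsConj x u := by
    intro u hu
    obtain ⟨g, hg⟩ := CL.SylowAux.exists_conj_mem_sylow_of_pow (n := 1) S (x := u)
      (by rw [pow_one, ← hu, pow_orderOf_eq_one])
    refine IsConj.trans ?_ (isConj_iff.mpr ⟨g, rfl⟩).symm
    set v := g * u * g⁻¹
    have hv : orderOf v = 2 := by rw [orderOf_conj', hu]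
    by_contra hnc
    have hne : v ≠ x := fun h => hnc (h ▸ IsConj.refl _)
    have hvx : Commute v x := Subgroup.mem_centralizer_singleton_iff.mp (hS hg)
    have h1 : IsConj x (x * v) := by
      by_contra h1
      apply CL.BS.not_isolated_of_simple hG x
      refine ⟨hx, fun h hc => ?_⟩
      rcases h3' v _ hv (by rw [orderOf_conj', hx]) hvx hc.symm hne with h2 | h2 | h2
      · exact h2
      · exact absurd (isConj_iff.mpr ⟨h, h2⟩) hnc
      · exact absurd (isConj_iff.mpr ⟨h, h2⟩) h1
    apply CL.BS.not_isolated_of_simple hG v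
    apply isolatedInvolution_of_sylow S hv
    intro h hh
    rcases h3' v _ hv (by rw [orderOf_conj', hv]) hvx
      (Subgroup.mem_centralizer_singleton_iff.mp (hS hh)) hne with h2 | h2 | h2
    · exact absurd (isConj_iff.mpr ⟨h, h2⟩).symm hnc
    · exact h2
    · exact absurd (h1.trans (isConj_iff.mpr ⟨h, h2⟩).symm) hnc
  exact fun u v hu hv => (key u hu).symm.trans (key v hv)

end Cfsg.Agent.S3279
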