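import Cfsg.Statements.S3290
import Cfsg.Agent.INV.Bic.Fus
import Cfsg.Agent.S0482
import Cfsg.Agent.INV.RankTwo2
import Cfsg.Agent.CLAS.U3Syl
import Cfsg.Agent.PLOC.Fusion

set_option autoImplicit false
open Cfsg

namespace Cfsg.Agent.S3290


/-- Let G be a finite simple group of even order whose Sylow 2-subgroups are bicyclic (a product of two cyclic subgroups: every element is a power of x times a power of y for two fixed elements). Then G has order 2, or G is isomorphic to PSL₂(q), PSL₃(q) or PSU₃(q) for an odd prime power q, to the alternating group of degree 7, or G is a simple group of the order of the Mathieu group of degree 11. -/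
theorem result {G : Type*} [Group G] [Finite G] [IsSimpleGroup G] (P : Sylow 2 G) (hb : ∃ x y : ↥(P : Subgroup G), ∀ g : ↥(P : Subgroup G), ∃ i j : ℤ, g = x ^ i * y ^ j) (h2 : 2 ∣ Nat.card G) : Nat.card G = 2 ∨ (∃ (K : Type) (_ : Field K) (_ : Fintype K) (q : ℕ), Fintype.card K = q ∧ Odd q ∧ (Nonempty (G ≃* Matrix.ProjectiveSpecialLinearGroup (Fin 2) K) ∨ Nonempty (G ≃* Matrix.ProjectiveSpecialLinearGroup (Fin 3) K))) ∨ (∃ (K : Type) (_ : Field K) (_ : Fintype K) (q : ℕ), Fintype.card K = q ^ 2 ∧ Odd q ∧ Nonempty (G ≃* Cfsg.PSU 3 K q)) ∨ Nonempty (G ≃* alternatingGroup (Fin 7)) ∨ Cfsg.IsM11 G := by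
  by_cases hG : IsMulCommutative G
  · left
    have hp : (Nat.card G).Prime := by
      let _ : CommGroup G := { (inferInstance : Group G) with mul_comm := mul_comm' }
      exact IsSimpleGroup.prime_card
    exact ((Nat.prime_dvd_prime_iff_eq Nat.prime_two hp).1 h2).symm
  right
  obtain ⟨x, y, hxy⟩ := hb
  have hb : CL.Bic.BicOn ⊤ x y := ⟨trivial, trivial, fun g _ => hxy g⟩
  have hper := CL.AbS.isPerfect_of_simple hG
  have hrk : Cfsg.PRankLE 2 2 G := by
    by_contra hh
    refine CL.Bic.hyperfocal_ne P.isPGroup' (CL.Fus.isSaturated_group_of_sylIn (CL.Fus.sylIn_top P)) hb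
      (CL.Three.not_prankLE_sylow hh P) ?_
    rw [CL.Fus.hyperfocal_group (CL.Fus.sylIn_top P), (CL.Tr.pResidual_eq_top_iff_sylow_le_commutator P).2
      (by rw [hper.commutator_eq_top]; exact le_top), inf_top_eq]
  rcases Cfsg.Agent.S0482.result hG hrk with ⟨F, _, _, h1, -, e⟩ | ⟨F, _, _, h1, e⟩ | h | ⟨F, _, _, h1, ⟨e⟩⟩ | h | h
  · exact Or.inl ⟨F, _, _, _, rfl, h1, Or.inl e⟩
  · exact Or.inl ⟨F, _, _, _, rfl, h1, Or.inr e⟩
  · exact Or.inr (Or.inl h)
  · exfalso
    have hF : Fintype.card F = 4 ^ 2 := h1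
    have : CharP F 2 := charP_of_card_eq_prime_pow (f := 4) (by rw [h1]; norm_num)
    obtain ⟨j⟩ := CL.U3.nonempty_sylow_PSU hF 2 (P.mapSurjective (f := e.toMonoidHom) e.surjective)
    let f : (P : Subgroup G) →* Multiplicative F := (CL.U3.S.aHom.comp j.toMonoidHom).comp
      ((P : Subgroup G).equivMapOfInjective e.toMonoidHom e.injective).toMonoidHom
    have hf : Function.Surjective f := (CL.U3.S.aHom_surjective.comp j.surjective).comp (MulEquiv.surjective _)
    have h4 := hb.gen2.relIndex_le (B := f.ker) le_top fun m _ => by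
      rw [MonoidHom.mem_ker, map_mul]
      exact congrArg Multiplicative.ofAdd (CharTwo.add_self_eq_zero (f m).toAdd)
    rw [Subgroup.relIndex_top_right, Subgroup.index_ker, MonoidHom.range_eq_top.2 hf, Subgroup.card_top,
      Nat.card_congr Multiplicative.toAdd, Nat.card_eq_fintype_card, h1] at h4
    omega
  · exact Or.inr (Or.inr (Or.inl h))
  · exact Or.inr (Or.inr (Or.inr h))

end Cfsg.Agent.S3290
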