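import Cfsg.Statements.S3307
import Cfsg.Agent.INV.GW.Cor
import Cfsg.Agent.S3099
import Cfsg.Agent.CLAS.SLBasic

set_option autoImplicit false
open Cfsg

namespace Cfsg.Agent.S3307

open Subgroup CL CL.GW CL.FusInv CL.MSS

theorem quiet_of_quaternion {G : Type*} [Group G] [Finite G] {S : Subgroup G} {n : ℕ}
    (hS : IsPGroup 2 S) (e : S ≃* QuaternionGroup (2 ^ (n + 2))) : Quiet S := by
  have h0 : NeZero (2 ^ (n + 2)) := ⟨by positivity⟩
  have ho : orderOf ((e.symm (.a 1) : S) : G) = 2 * 2 ^ (n + 2) := by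
    rw [orderOf_coe, MulEquiv.orderOf_eq, QuaternionGroup.orderOf_a_one]
  refine quiet_of_cyclic_index_two hS (e.symm (.a 1)).2 ?_ fun y hy hyo => ?_
  · rw [ho, Nat.card_congr e.toEquiv, Nat.card_eq_fintype_card, QuaternionGroup.card]
    ring
  · obtain ⟨z, hz⟩ := e.symm.surjective ⟨y, hy⟩
    have hy' : y = e.symm z := by rw [hz]
    rw [ho, hy', orderOf_coe, MulEquiv.orderOf_eq] at hyo
    rcases z with i | i
    · refine ⟨i.val, ?_⟩
      change ((e.symm (.a 1) : S) : G) ^ ((i.val : ℕ) : ℤ) = y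
      rw [zpow_natCast, ← coe_pow, ← map_pow, QuaternionGroup.a_one_pow, ZMod.natCast_zmod_val, hy']
    · rw [QuaternionGroup.orderOf_xa] at hyo
      have : 0 < 2 ^ n := by positivity
      rw [pow_succ, pow_succ] at hyo
      omega

theorem inv_unique {G : Type*} [Group G] {S : Subgroup G} (e : S ≃* QuaternionGroup 2) {a b : G}
    (ha : a ∈ S) (hb : b ∈ S) (h1 : a * a = 1) (h2 : b * b = 1) (h3 : a ≠ 1) (h4 : b ≠ 1) :
    a = b := by
  have key : ∀ x y : QuaternionGroup 2, x * x = 1 → y * y = 1 → x ≠ 1 → y ≠ 1 → x = y := by decide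
  have := key (e ⟨a, ha⟩) (e ⟨b, hb⟩)
    (by rw [← map_mul, e.map_eq_one_iff]; exact Subtype.ext h1)
    (by rw [← map_mul, e.map_eq_one_iff]; exact Subtype.ext h2)
    (fun h => h3 (congrArg Subtype.val (e.map_eq_one_iff.1 h)))
    (fun h => h4 (congrArg Subtype.val (e.map_eq_one_iff.1 h)))
  exact congrArg Subtype.val (e.injective this)

/-- Let G be a finite nonsolvable group whose Sylow 2-subgroups are generalized quaternion and in which any two distinct Sylow 2-subgroups intersect in a cyclic group. Then the Sylow 2-subgroups are quaternion of order 8, and G has a normal subgroup G₁ of odd index containing O(G) (the largest normal subgroup of odd order) with G₁/O(G) isomorphic to SL(2,q) for some prime power q > 3 with q ≡ 3 or 5 mod 8. -/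
theorem result {G : Type*} [Group G] [Finite G] (hns : ¬ Group.IsSolvable G)
    (hQ : ∀ S : Sylow 2 G, ∃ n : ℕ, Nonempty (↥(S : Subgroup G) ≃* QuaternionGroup (2 ^ (n + 1))))
    (hC : ∀ S T : Sylow 2 G, S ≠ T → IsCyclic ↥((S : Subgroup G) ⊓ (T : Subgroup G))) :
    (∀ S : Sylow 2 G, Nonempty (↥(S : Subgroup G) ≃* QuaternionGroup 2)) ∧
    ∃ (G₁ : Subgroup G) (_ : G₁.Normal) (_ : ((Cfsg.oddCore G).subgroupOf G₁).Normal),
      Odd G₁.index ∧ Cfsg.oddCore G ≤ G₁ ∧
      ∃ (F : Type) (_ : Field F) (_ : Fintype F), (Fintype.card F % 8 = 3 ∨ Fintype.card F % 8 = 5) ∧ 3 < Fintype.card F ∧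
        Nonempty (↥G₁ ⧸ (Cfsg.oddCore G).subgroupOf G₁ ≃* Matrix.SpecialLinearGroup (Fin 2) F) := by
  have h8 : ∀ S : Sylow 2 G, Nonempty ((S : Subgroup G) ≃* QuaternionGroup 2) := by
    intro S
    obtain ⟨n, ⟨e⟩⟩ := hQ S
    rcases n with _ | n
    · exact ⟨e⟩
    refine absurd (isSolvable_of_hasNPC (hasNPC_of_quiet S fun E hE _ g hg hgo => ?_)) hns
    by_cases hgS : g • S = S
    · exact centralizer_le (SetLike.coe_subset_coe.2 hE) (quiet_of_quaternion S.isPGroup' e g
        (Sylow.smul_eq_iff_mem_normalizer.1 hgS) hgo)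
    · have := hC _ _ hgS
      have : IsCyclic E := isCyclic_of_le (H' := ((g • S : Sylow 2 G) : Subgroup G) ⊓ S)
        (le_inf (by rw [sylow_coe_smul, ← cj_eq_of_mem_normalizer hg]; exact cj_mono g hE) hE)
      exact quiet_of_isCyclic (S.isPGroup'.to_le hE) g hg hgo
  refine ⟨h8, ?_⟩
  have hc8 : ∀ S : Sylow 2 G, Nat.card (S : Subgroup G) = 8 := fun S => by
    obtain ⟨e⟩ := h8 S
    rw [Nat.card_congr e.toEquiv, Nat.card_eq_fintype_card, QuaternionGroup.card]
  obtain ⟨X, hXn, hX, hX1⟩ := exists_perfect_normal hns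
  have hXs := not_isSolvable_of_perfect hX hX1
  have hrank : ∀ Y : Subgroup G, PRankLE 2 1 Y := by
    intro Y
    by_contra h0
    obtain ⟨V, -, hV⟩ := Four.not_prankLE_two_one_iff.1 h0
    obtain ⟨S, hS⟩ := (Four.isPGroup hV).exists_le_sylow
    obtain ⟨e⟩ := h8 S
    obtain ⟨a, ha, b, hb, a1, b1, hab⟩ := Four.exists_pair hV
    exact hab (inv_unique e (hS ha) (hS hb) (Four.mul_self_of_mem hV ha)
      (Four.mul_self_of_mem hV hb) a1 b1)
  obtain ⟨S⟩ : Nonempty (Sylow 2 G) := inferInstance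
  have hT := sylIn_inf_normal S X
  have hT8 : Nat.card ↥((S : Subgroup G) ⊓ X) = 8 := by
    have h1 : Nat.card ↥((S : Subgroup G) ⊓ X) ∣ 2 ^ 3 :=
      (card_dvd_of_le inf_le_left).trans (hc8 S).dvd
    have hnc : ¬ IsCyclic ↥((S : Subgroup G) ⊓ X) := fun hc =>
      hXs (isSolvable_of_hasNPC (hasNPC_of_isCyclic hT.toSylow
        (isCyclic_of_surjective _ (subgroupOfEquivOfLe hT.le).symm.surjective)))
    obtain ⟨k, hk, h2⟩ := (Nat.dvd_prime_pow Nat.prime_two).1 h1
    interval_cases k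
    · have := Finite.card_le_one_iff_subsingleton.1 h2.le
      exact absurd isCyclic_of_subsingleton hnc
    · exact absurd (isCyclic_of_prime_card (p := 2) h2) hnc
    · have h3 := (not_isCyclic_iff_exponent_eq_prime Nat.prime_two h2).1 hnc
      exact absurd (Four.not_prankLE_two_one_iff.2 ⟨_, le_top, ⟨h2, h3⟩⟩) (not_not.2 (hrank ⊤))
    · exact h2
  have hSX : (S : Subgroup G) ≤ X :=
    inf_eq_left.1 (eq_of_le_of_card_ge inf_le_left (by rw [hT8, hc8]))
  have hXc : ∃ m, Odd m ∧ Nat.card X = 8 * m := by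
    refine ⟨(S : Subgroup G).relIndex X, Nat.not_even_iff_odd.1 fun h0 =>
      (sylIn_sylow S hSX).not_dvd_relIndex h0.two_dvd, ?_⟩
    rw [← hc8 S, ← GW.card_inf_mul_relIndex (S : Subgroup G) X, inf_eq_left.2 hSX]
  obtain ⟨m, hm, hXm⟩ := hXc
  have hO : oddCore X = (oddCore G).subgroupOf X := by
    change pPrimeCore 2 X = (pPrimeCore 2 G).subgroupOf X
    rw [← PComp.opOf_subgroupOf, PComp.opOf_eq_inf_of_isSubnormal hXn.isSubnormal,
      inf_subgroupOf_right]
  have hq : ∃ m', Odd m' ∧ Nat.card (X ⧸ oddCore X) = 8 * m' := by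
    have h1 := card_eq_card_quotient_mul_card_subgroup (oddCore X)
    have h2 : Odd (Nat.card (oddCore X)) := Nat.coprime_two_right.1 (PComp.pPrimeCore_coprime 2)
    rw [hXm] at h1
    obtain ⟨m', hm'⟩ := (Nat.Coprime.pow_left 3 (Nat.coprime_two_left.2 h2)).dvd_of_dvd_mul_right
      (Dvd.intro _ h1)
    refine ⟨m', hm.of_dvd_nat ⟨Nat.card (oddCore X), ?_⟩, hm'⟩
    rw [hm'] at h1
    linarith
  obtain ⟨m', hm', hq⟩ := hq
  rcases Cfsg.Agent.S3099.result (isPerfect_iff.2 hX) (hrank X) (by rw [hXm]; exact ⟨4 * m, by ring⟩)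
    with ⟨F, _, _, h1, h2, ⟨e⟩⟩ | ⟨h1, ⟨e⟩, -⟩
  · refine ⟨X ⊔ oddCore G, inferInstance, inferInstance, ?_, le_sup_right, F, _, _, ?_, h2,
      ⟨((QuotientGroup.quotientInfEquivProdNormalQuotient X (oddCore G)).symm.trans
        (QuotientGroup.quotientMulEquivOfEq hO.symm)).trans e⟩⟩
    · exact Nat.not_even_iff_odd.1 fun h0 => S.not_dvd_index
        (h0.two_dvd.trans (index_dvd_of_le (hSX.trans le_sup_left)))
    · rw [Nat.card_congr e.toEquiv, SL.card_SL_two, Nat.card_eq_fintype_card] at hq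
      generalize Fintype.card F = q at *
      by_contra h3
      have h4 : q % 8 = 1 ∨ q % 8 = 7 := by
        rw [Nat.odd_iff] at h1
        omega
      have h5 : 16 ∣ q ^ 2 - 1 := by
        refine (Nat.modEq_iff_dvd' (Nat.one_le_pow _ _ (by omega))).1 ?_
        rw [Nat.ModEq, Nat.pow_mod]
        have : q % 16 = 1 ∨ q % 16 = 7 ∨ q % 16 = 9 ∨ q % 16 = 15 := by omega
        rcases this with h | h | h | h <;> rw [h]
      have h6 := h5.mul_left q
      rw [hq] at h6
      rw [Nat.odd_iff] at hm'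
      omega
  · exfalso
    have h2 := card_eq_card_quotient_mul_card_subgroup (center (X ⧸ oddCore X))
    have h3 := two_mul_nat_card_alternatingGroup (α := Fin 7)
    rw [Nat.card_perm, Nat.card_eq_fintype_card (α := Fin 7), Fintype.card_fin,
      show Nat.factorial 7 = 5040 from rfl] at h3
    rw [Nat.card_congr e.toEquiv, h1, hq] at h2
    rw [Nat.odd_iff] at hm'
    omega

end Cfsg.Agent.S3307
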