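import Cfsg.Statements.S3309
import Cfsg.Agent.INV.ZStarCor
import Cfsg.Agent.INV.ZStarElt
import Cfsg.Agent.INV.ThompsonTransfer
import Cfsg.Agent.INV.SylowAux
import Cfsg.Agent.INV.AbPSL2
import Cfsg.Agent.PLOC.Fusion

set_option autoImplicit false
open Cfsg

namespace Cfsg.Agent.S3309

/-- The model of the Sylow subgroup. -/
abbrev K := Multiplicative (ZMod 2) × DihedralGroup 4

/-- The central square. -/
def z : K := (1, DihedralGroup.r 2)

/-- A central non-square. -/
def c : K := (Multiplicative.ofAdd 1, 1)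

/-- Two maps to the group of order two whose kernels are dihedral. -/
def φ (b : Bool) : K →* Multiplicative (ZMod 2) := MonoidHom.mk' (fun x => match b, x.2 with
  | true, DihedralGroup.sr _ => x.1 * Multiplicative.ofAdd 1
  | _, _ => x.1) (by revert b; decide +kernel)

theorem f1 : ∀ y : K, y * y = 1 → (∀ k, k * y = y * k) ∨ ∃ b, φ b y = 1 := by decide +kernel

set_option synthInstance.maxSize 4000 in
theorem f2 : ∀ b, ∀ y y₁ y₂ : K, y * y = 1 → y₁ * y₁ = 1 → y₂ * y₂ = 1 → φ b y = 1 → φ b y₁ = 1 →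
    φ b y₂ = 1 → y = 1 ∨ y₁ = 1 ∨ y₂ = 1 ∨ y = z ∨ y₁ = z ∨ y₂ = z ∨
      ∃ k, k * y * k⁻¹ = y₁ ∨ k * y * k⁻¹ = y₂ ∨ k * y₁ * k⁻¹ = y₂ := by decide +kernel

theorem f3 (α : K ≃* K) {x : K} (hx : ∀ k, k * x = x * k) : α (α x) = x := by
  have h1 : ∀ y : K, y * y = 1 ∨ y * y = z := by decide +kernel
  have h2 : ∀ y : K, (∀ k, k * y = y * k) → y = 1 ∨ y = z ∨ y = c ∨ y = c * z := by decide +kernel
  have h3 : α z = z := by
    have : α z = α (1, DihedralGroup.r 1) * α (1, DihedralGroup.r 1) := by rw [← map_mul]; rfl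
    exact this ▸ (h1 _).resolve_left fun e => absurd
      ((map_eq_one_iff _ α.injective).1 (this.trans e)) (by decide)
  have h4 : α c = c ∨ α c = c * z := by
    rcases h2 (α c) fun k => by
      obtain ⟨k, rfl⟩ := α.surjective k
      rw [← map_mul, ← map_mul]
      exact congrArg α (by revert k; decide +kernel) with h | h | h
    · exact absurd ((map_eq_one_iff _ α.injective).1 h) (by decide)
    · exact absurd (α.injective (h.trans h3.symm)) (by decide)
    · exact h
  have h5 : c * z * z = c := by decide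
  rcases h2 x hx with rfl | rfl | rfl | rfl <;> rcases h4 with h | h <;>
    simp only [map_one, map_mul, h3, h, h5]

/-- A finite group whose Sylow 2-subgroups are isomorphic to the direct product of a group of order 2 and the dihedral group of order 8 is not a non-abelian simple group. -/
theorem result {G : Type*} [Group G] [Finite G] (S : Sylow 2 G) (hS : Nonempty (↥(S : Subgroup G) ≃* Multiplicative (ZMod 2) × DihedralGroup 4))
    [IsSimpleGroup G] (hG : ¬ IsMulCommutative G) : False := by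
  obtain ⟨e⟩ := hS
  let f : K →* G := (S : Subgroup G).subtype.comp e.symm.toMonoidHom
  have hf : Function.Injective f := (Subgroup.subtype_injective _).comp e.symm.injective
  have hr : ∀ s ∈ (S : Subgroup G), ∃ k, f k = s := fun s hs => ⟨e ⟨s, hs⟩, by simp [f]⟩
  have hm : ∀ k, f k ∈ (S : Subgroup G) := fun k => (e.symm k).2
  have hB : ∀ x y : K, (∀ k, k * x = x * k) → (∀ k, k * y = y * k) → IsConj (f x) (f y) →
      x = y := fun x y hx hy h => by
    obtain ⟨g, hg⟩ := isConj_iff.1 h
    have key : ∀ x : K, (∀ k, k * x = x * k) → (S : Subgroup G) ≤ Subgroup.centralizer {f x} :=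
      fun x hx s hs => by
        obtain ⟨k, rfl⟩ := hr s hs
        rw [Subgroup.mem_centralizer_singleton_iff, ← map_mul, ← map_mul, hx]
    obtain ⟨h, h1, h2⟩ := CL.Tr.burnside_fusion S {f x} {f y}
      ((key x hx).trans (Subgroup.centralizer_le_normalizer _))
      ((key y hy).trans (Subgroup.centralizer_le_normalizer _)) g fun a => by
        rw [Set.mem_singleton_iff, Set.mem_singleton_iff, ← hg, mul_left_inj, mul_right_inj]
    set n := h * g with hn
    have h3 : n * f x * n⁻¹ = f y := by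
      rw [hn, ← (h1 (f y)).1 rfl, ← hg]; group
    let α : K ≃* K := (e.symm.trans ((S : Subgroup G).normalizerMonoidHom ⟨n, h2⟩)).trans e
    have h4 : ∀ k, f (α k) = n * f k * n⁻¹ := fun k => by simp [f, α]; rfl
    have h5 : n ^ 2 ∈ Subgroup.centralizer {f x} := by
      rw [Subgroup.mem_centralizer_singleton_iff, ← mul_inv_eq_iff_eq_mul]
      conv_rhs => rw [← f3 α hx, h4, h4]
      rw [pow_two]
      group
    obtain ⟨a, m, h6, h7⟩ := Nat.exists_eq_two_pow_mul_odd (orderOf_pos n).ne'
    have h8 := key x hx (CL.SylowAux.mem_sylow_of_mem_normalizer S (x := n ^ m) (n := a)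
      (by rw [← pow_mul, mul_comm, ← h7, pow_orderOf_eq_one]) (pow_mem h2 m))
    obtain ⟨j, rfl⟩ := h6
    rw [pow_succ, pow_mul, Subgroup.mul_mem_cancel_left _ (pow_mem h5 j),
      Subgroup.mem_centralizer_singleton_iff, ← mul_inv_eq_iff_eq_mul, h3] at h8
    exact (hf h8).symm
  have hT : ∀ b (u : K), u * u = 1 → ∃ y, φ b y = 1 ∧ IsConj (f u) (f y) := fun b u hu => by
    obtain ⟨g, y, h1, h2⟩ := CL.ThompsonTransfer.exists_conj_mem (CL.AbS.index_ne_two hG) S
      (Q := (φ b).ker.map f) (by rintro _ ⟨k, -, rfl⟩; exact hm k) (by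
        rw [show (S : Subgroup G) = Subgroup.map f ⊤ from le_antisymm
          (fun s hs => (hr s hs).imp fun k hk => ⟨trivial, hk⟩) (by rintro _ ⟨k, -, rfl⟩; exact hm k),
          Subgroup.relIndex_map_map_of_injective _ _ hf, Subgroup.relIndex_top_right,
          Subgroup.index_ker]
        simpa using Subgroup.card_subgroup_dvd_card (φ b).range) (u := f u)
      (by rw [← map_mul, hu, map_one])
    exact ⟨y, h1, isConj_iff.2 ⟨g, h2.symm⟩⟩
  have hsq : ∀ u y : K, u * u = 1 → IsConj (f u) (f y) → y * y = 1 := fun u y hu h => hf (by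
    obtain ⟨g, hg⟩ := isConj_iff.1 h
    rw [map_mul, ← hg, conj_mul, ← map_mul, hu, map_one, mul_one, mul_inv_cancel])
  have hone : ∀ u : K, IsConj (f u) (f 1) → u = 1 := fun u h => hf (by
    rw [map_one] at h ⊢; exact isConj_one_left.1 h)
  have hk : ∀ k u : K, IsConj (f u) (f (k * u * k⁻¹)) := fun k u =>
    isConj_iff.2 ⟨f k, by rw [map_mul, map_mul, map_inv]⟩
  have hz : ∀ k, k * z = z * k := by decide +kernel
  have hc : ∀ k, k * c = c * k := by decide +kernel
  have hcz : ∀ k, k * (c * z) = c * z * k := by decide +kernel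
  refine CL.BS.not_isolated_of_simple hG (f z) (CL.Iso.isolatedInvolution_of_sylow S
    ((orderOf_injective f hf z).trans (orderOf_eq_prime (by decide) (by decide))) fun g hg => ?_)
  obtain ⟨y, hy⟩ := hr _ hg
  have h1 : IsConj (f z) (f y) := isConj_iff.2 ⟨g, hy.symm⟩
  rw [← hy]
  obtain h | ⟨b, hb⟩ := f1 y (hsq z y (by decide) h1)
  · rw [hB z y hz h h1]
  obtain ⟨y₁, h2, h3⟩ := hT b c (by decide)
  obtain ⟨y₂, h4, h5⟩ := hT b (c * z) (by decide)
  rcases f2 b y y₁ y₂ (hsq z y (by decide) h1) (hsq c _ (by decide) h3) (hsq _ _ (by decide) h5)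
    hb h2 h4 with rfl | rfl | rfl | rfl | rfl | rfl | ⟨k, rfl | rfl | rfl⟩
  · exact absurd (hone _ h1) (by decide)
  · exact absurd (hone _ h3) (by decide)
  · exact absurd (hone _ h5) (by decide)
  · rfl
  · exact absurd (hB _ _ hc hz h3) (by decide)
  · exact absurd (hB _ _ hcz hz h5) (by decide)
  · exact absurd (hB _ _ hz hc ((h1.trans (hk k y)).trans h3.symm)) (by decide)
  · exact absurd (hB _ _ hz hcz ((h1.trans (hk k y)).trans h5.symm)) (by decide)
  · exact absurd (hB _ _ hc hcz ((h3.trans (hk k y₁)).trans h5.symm)) (by decide)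

end Cfsg.Agent.S3309
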