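import Cfsg.Statements.S3313
import Cfsg.Agent.SPOR.A10.JTop

set_option autoImplicit false
open Cfsg

namespace Cfsg.Agent.S3313

theorem quot_equiv {G : Type*} [Group G] (C K : Subgroup G) (Q : Subgroup C) [Q.Normal]
    (hKC : K ⊔ Q.map C.subtype = C) (hKQ : K ⊓ Q.map C.subtype = ⊥) :
    Nonempty ((C ⧸ Q) ≃* K) := by
  have hKC' : K ≤ C := le_sup_left.trans hKC.le
  let f : K →* C ⧸ Q := (QuotientGroup.mk' Q).comp (Subgroup.inclusion hKC')
  have hf : Function.Bijective f := by
    refine ⟨(injective_iff_map_eq_one f).2 fun k hk => Subtype.ext (Subgroup.mem_bot.1 (hKQ.le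
      ⟨k.2, Subgroup.inclusion hKC' k, (QuotientGroup.eq_one_iff _).1 hk, rfl⟩)), fun y => ?_⟩
    obtain ⟨y, rfl⟩ := QuotientGroup.mk'_surjective Q y
    have : C ≤ (f.range.comap (QuotientGroup.mk' Q)).map C.subtype := hKC.ge.trans (sup_le
      (fun k hk => ⟨⟨k, hKC' hk⟩, ⟨⟨k, hk⟩, rfl⟩, rfl⟩) (Subgroup.map_mono fun q hq =>
        ⟨1, by rw [map_one]; exact ((QuotientGroup.eq_one_iff _).2 hq).symm⟩))
    obtain ⟨y', h, e⟩ := this y.2
    rwa [show y' = y from Subtype.ext e] at h
  exact ⟨(MulEquiv.ofBijective f hf).symm⟩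

/-- The order of a simple group with the involution pattern of the Hall–Janko group. Let G be a non-abelian finite simple group with exactly two conjugacy classes of involutions, represented by z and t, such that: F*(C_G(z)) is an extraspecial 2-group; Q = O₂(C_G(z)) has order 32 and C_G(z) is the semidirect product of Q by a subgroup isomorphic to A₅; every involution of Q is conjugate to z and every other involution of C_G(z) is conjugate to t; C_G(t) is an internal direct product V × B with V a four-group containing t and B ≅ A₅; every involution of B is conjugate to z and every other involution of C_G(t) is conjugate to t. Then |G| = 604800. -/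
theorem result {G : Type*} [Group G] [Finite G]
    [IsSimpleGroup G] (hna : ¬ IsMulCommutative G) (z t : G) (hz : orderOf z = 2) (ht : orderOf t = 2)
    (hzt : ¬ IsConj z t) (hcl : ∀ x : G, orderOf x = 2 → IsConj x z ∨ IsConj x t)
    (hex : Cfsg.IsExtraspecial 2 ↥(Cfsg.generalizedFittingSubgroup ↥(Subgroup.centralizer ({z} : Set G))))
    (hQ : Nat.card ↥(Cfsg.pCore 2 ↥(Subgroup.centralizer ({z} : Set G))) = 32)
    (K : Subgroup G) (hK : Nonempty (↥K ≃* alternatingGroup (Fin 5)))
    (hKC : K ⊔ (Cfsg.pCore 2 ↥(Subgroup.centralizer ({z} : Set G))).map (Subgroup.centralizer ({z} : Set G)).subtype = Subgroup.centralizer ({z} : Set G))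
    (hKQ : K ⊓ (Cfsg.pCore 2 ↥(Subgroup.centralizer ({z} : Set G))).map (Subgroup.centralizer ({z} : Set G)).subtype = ⊥)
    (hQz : ∀ x ∈ (Cfsg.pCore 2 ↥(Subgroup.centralizer ({z} : Set G))).map (Subgroup.centralizer ({z} : Set G)).subtype, orderOf x = 2 → IsConj x z)
    (hCz : ∀ x ∈ Subgroup.centralizer ({z} : Set G), orderOf x = 2 →
      x ∉ (Cfsg.pCore 2 ↥(Subgroup.centralizer ({z} : Set G))).map (Subgroup.centralizer ({z} : Set G)).subtype → IsConj x t)
    (V B : Subgroup G) (hVB : Cfsg.IsInternalDirectProduct V B (Subgroup.centralizer ({t} : Set G)))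
    (hV : Nat.card ↥V = 4) (hV2 : ∀ v ∈ V, v ^ 2 = 1) (htV : t ∈ V) (hB : Nonempty (↥B ≃* alternatingGroup (Fin 5)))
    (hBz : ∀ x ∈ B, orderOf x = 2 → IsConj x z)
    (hCt : ∀ x ∈ Subgroup.centralizer ({t} : Set G), orderOf x = 2 → x ∉ B → IsConj x t) :
    Nat.card G = 604800 := by
  have h1 : Cfsg.generalizedFittingSubgroup (Subgroup.centralizer ({z} : Set G)) =
      Cfsg.pCore 2 (Subgroup.centralizer ({z} : Set G)) :=
    le_antisymm (CL.le_pCore hex.1.1) ((CL.pCore_le_fittingSubgroup 2).trans le_sup_right)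
  rw [h1] at hex
  obtain ⟨e⟩ := hK
  obtain ⟨e'⟩ := quot_equiv _ K _ hKC hKQ
  obtain ⟨g, -, h⟩ := CL.A10.typ2 (CL.A10.typ_of (CL.A10.exists_mdl_of_simple hz hex hQ
    (e'.trans e))) ⟨z, t, hz, ht, hzt⟩
  exact h.card2

end Cfsg.Agent.S3313
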