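import Cfsg.Statements.S3332
import Mathlib
import Cfsg.Agent.SIG.SFMethodEnd
import Cfsg.Agent.S1221

set_option autoImplicit false
open Cfsg

namespace Cfsg.Agent.S3332

/-- Let G be a finite group of 2-rank at least 4 with O_{2'}(G) = 1 whose Sylow 2-subgroup S has a normal abelian subgroup of rank at least 3 that is its own centralizer in S. If the centralizer of every involution of G is solvable, then O_{2'}(C_G(t)) = 1 for every involution t of G. -/
theorem result {G : Type*} [Group G] [Finite G]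
    (hrank : ¬ Cfsg.PRankLE 2 3 G) (hO : Cfsg.oddCore G = ⊥) (S : Sylow 2 G)
    (A : Subgroup G) (hAS : A ≤ S) (hAn : (A.subgroupOf S).Normal) (hAc : IsMulCommutative A)
    (hAself : (S : Subgroup G) ⊓ Subgroup.centralizer (A : Set G) = A) (hA3 : ¬ Cfsg.PRankLE 2 2 A)
    (hsol : ∀ t : G, orderOf t = 2 → Group.IsSolvable (Subgroup.centralizer ({t} : Set G))) :
    ∀ t : G, orderOf t = 2 → Cfsg.oddCore (Subgroup.centralizer ({t} : Set G)) = ⊥ := by
  intro t ht
  have hL : ∀ t : G, orderOf t = 2 → Cfsg.pLayerOf 2 (Subgroup.centralizer ({t} : Set G)) = ⊥ :=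
    fun t ht => CL.PComp.pLayerOf_eq_bot_iff.2 fun K hK =>
      hK.not_isSolvable (CL.Comp.isSolvable_of_le hK.le (hsol t ht))
  have e := Subgroup.subgroupOfEquivOfLe hAS
  have hAc' : IsMulCommutative ↥(A.subgroupOf (S : Subgroup G)) :=
    ⟨⟨fun a b => e.injective (by rw [map_mul, map_mul]; exact hAc.1.1 _ _)⟩⟩
  have hA3' : ¬ Cfsg.PRankLE 2 2 ↥(A.subgroupOf (S : Subgroup G)) := by
    intro h
    refine hA3 fun B hB hp => ?_
    have h1 := h (B.map e.symm.toMonoidHom) (Subgroup.map_isMulCommutative B _) (by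
      rintro _ ⟨b, hb, rfl⟩
      rw [← map_pow, hp b hb, map_one])
    rwa [Subgroup.card_map_of_injective e.symm.injective] at h1
  obtain ⟨V, h1, h2, h3⟩ := CL.SFM.exists_normal_big_of_scn hAn hAc' hA3'
  have := CL.SFM.core_eq_bot (CL.SFM.isEqCSF_two hL) hL
    (fun _ h => CL.SFM.good_of_normal_big S h3 h1 h2 h) hO
    (fun H hH => Cfsg.Agent.S1221.result H hH) ht
  exact (Subgroup.map_eq_bot_iff_of_injective _ (Subgroup.subtype_injective _)).1 this

end Cfsg.Agent.S3332
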