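import Mathlib
import Cfsg.Statements.S3701
import Cfsg.Agent.PERM.OddCube

set_option autoImplicit false
open Cfsg

namespace Cfsg.Agent.S3701

open CL.Odd Equiv

def pa : Perm (Fin 9) := swap 0 1 * swap 1 2
def pb : Perm (Fin 9) := swap 3 4 * swap 4 5
def pc : Perm (Fin 9) := swap 6 7 * swap 7 8
def pu : Perm (Fin 9) := swap 0 1 * swap 3 4
def pv : Perm (Fin 9) := swap 0 1 * swap 6 7
def pt (x : V3) : Perm (Fin 9) := pa ^ x.1.val * pb ^ x.2.1.val * pc ^ x.2.2.val
def pr (i : Fin 4) : Perm (Fin 9) :=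
  if i = 0 then 1 else if i = 1 then pu else if i = 2 then pv else pu * pv

theorem pt_add : ∀ x y, pt (x + y) = pt x * pt y := by decide +kernel
theorem pt_conj : ∀ i x, pr i * pt x * (pr i)⁻¹ = pt (sgn4 i x) := by decide +kernel
theorem pt_inj : ∀ x y, pt x = pt y → x = y := by decide +kernel
theorem pr_mul : ∀ i j, ∃ k, pr i * pr j = pt 0 * pr k := by decide +kernel

def pf : PreFrame (Perm (Fin 9)) V3 (Fin 4) where
  τ := pt
  N := Subgroup.closure {pa, pb, pc, pu, pv}
  r := pr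
  σ := sgn4
  τ_add := pt_add
  τ_inj := pt_inj
  τ_mem x := by
    refine mul_mem (mul_mem (pow_mem ?_ _) (pow_mem ?_ _)) (pow_mem ?_ _) <;>
      exact Subgroup.subset_closure (by simp)
  r_mem i := by
    have hu : pu ∈ Subgroup.closure {pa, pb, pc, pu, pv} := Subgroup.subset_closure (by simp)
    have hv : pv ∈ Subgroup.closure {pa, pb, pc, pu, pv} := Subgroup.subset_closure (by simp)
    unfold pr; split_ifs
    exacts [one_mem _, hu, hv, mul_mem hu hv]
  rconj := pt_conj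
  cover := cover_closure pt_add pt_conj (fun i j => (pr_mul i j).imp fun _ h => ⟨0, h⟩)
    ⟨0, 0, by decide +kernel⟩ (by
      rintro s (rfl | rfl | rfl | rfl | rfl)
      exacts [⟨0, (1, 0, 0), by decide +kernel⟩, ⟨0, (0, 1, 0), by decide +kernel⟩,
        ⟨0, (0, 0, 1), by decide +kernel⟩, ⟨1, 0, by decide +kernel⟩, ⟨2, 0, by decide +kernel⟩])
  σ_inj := sgn4_inj

/-- Let H₀ ≤ Sym(9) be generated by the 3-cycles (1 2 3), (4 5 6), (7 8 9) and the involutions (1 2)(4 5), (1 2)(7 8) (a group of order 108, elementary abelian of order 27 extended by a four-group). Let G be a finite group with a subgroup H ≅ H₀, and T ≤ H of order 27 (a Sylow 3-subgroup of H) with N_G(T) = H and C_G(t) ≤ H for every t ≠ 1 in T. Then G = H. -/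
theorem result {G : Type*} [Group G] [Finite G] (H : Subgroup G)
    (hH : Nonempty (↥H ≃* ↥(Subgroup.closure ({Equiv.swap (0 : Fin 9) 1 * Equiv.swap 1 2, Equiv.swap (3 : Fin 9) 4 * Equiv.swap 4 5, Equiv.swap (6 : Fin 9) 7 * Equiv.swap 7 8,
        Equiv.swap (0 : Fin 9) 1 * Equiv.swap 3 4, Equiv.swap (0 : Fin 9) 1 * Equiv.swap 6 7} : Set (Equiv.Perm (Fin 9))))))
    (T : Subgroup G) (hTH : T ≤ H) (hT : Nat.card T = 27) (hN : Subgroup.normalizer (T : Set G) = H)
    (hC : ∀ t ∈ T, t ≠ 1 → Subgroup.centralizer ({t} : Set G) ≤ H) : H = ⊤ := by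
  obtain ⟨e⟩ := hH
  let P : PreFrame G V3 (Fin 4) := pf.transport H e
  have hodd : ∀ h ∈ H, h ^ 27 = 1 → h ∈ P.T := fun h hh h3 =>
    P.mem_T_of_pow (n := 27) (sgn4_pow (by decide)) hh h3
  have hpow : ∀ t ∈ T, t ^ 27 = 1 := fun t ht => by
    have := pow_card_eq_one' (x := (⟨t, ht⟩ : T))
    rw [hT] at this; exact congrArg Subtype.val this
  have hPT : T = P.T := Subgroup.eq_of_le_of_card_ge (fun t ht => hodd t (hTH ht) (hpow t ht))
    (by rw [hT, P.card_T]; simp)
  subst hPT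
  exact three_cubed (P.frame hN.le hC fun t ht h hh hc => hodd h hh (by
    obtain ⟨g, rfl⟩ := isConj_iff.mp hc
    rw [conj_pow, hpow t ht]; simp)) rfl

end Cfsg.Agent.S3701
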