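import Mathlib
import Cfsg.Statements.S3702
import Cfsg.Agent.PERM.OddAlt9
import Cfsg.Agent.SOLV.Core
import Cfsg.Agent.S3701

set_option autoImplicit false
open Cfsg

namespace Cfsg.Agent.S3702

open CL.Odd CL.Odd.M648 Equiv
open Cfsg.Agent.S3701 (pa pb pc pu pv pt pt_add pt_inj)

def pd : Perm (Fin 9) := swap 0 3 * swap 3 6 * (swap 1 4 * swap 4 7) * (swap 2 5 * swap 5 8)
def pw : Perm (Fin 9) := swap 0 3 * swap 1 4 * swap 2 5 * swap 6 7
def pr (i : Fin 24) : Perm (Fin 9) :=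
  (if i.val / 6 = 0 then 1 else if i.val / 6 = 1 then pu else if i.val / 6 = 2 then pv
    else pu * pv) * pd ^ (i.val % 6 / 2) * pw ^ (i.val % 2)

/-- table of values of `pr` -/
def tb (i : Fin 24) (x : Fin 9) : Fin 9 := Fin.ofNat 9 (79797275032491118652525546630030258742477872631662957464535458307243768996510293793884030377257197882640659126484004930987573763941839234965093172495722506359674065324008741529572624796180376653397561978560 / 9 ^ (9 * i.val + x.val))

theorem pr_apply : ∀ i x, pr i x = tb i x := by decide +kernel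

theorem pr_mul (i j : Fin 24) : pr i * pr j = pr (qm24 i j) := by
  have : ∀ i j x, tb i (tb j x) = tb (qm24 i j) x := by decide +kernel
  ext x; simp only [Perm.mul_apply, pr_apply, this]

theorem pt_conj (i : Fin 24) (x : V3) : pr i * pt x * (pr i)⁻¹ = pt (sig24 i x) := by
  have h : ∀ i y, tb i (pa y) = pt (sig24 i (1, 0, 0)) (tb i y) ∧
      tb i (pb y) = pt (sig24 i (0, 1, 0)) (tb i y) ∧
      tb i (pc y) = pt (sig24 i (0, 0, 1)) (tb i y) := by decide +kernel
  have hs : ∀ (a : ZMod 3) (y : V3), pt (a • y) = pt y ^ a.val := fun a y => by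
    rcases zmod3_cases a with rfl | rfl | rfl
    · rw [zero_smul]; simp [pt]
    · simp [ZMod.val_one]
    · rw [two_smul, pt_add, show (2 : ZMod 3).val = 2 from rfl, pow_two]
  have key : ∀ (g g' : Perm (Fin 9)), (∀ y, tb i (g y) = g' (tb i y)) →
      pr i * g * (pr i)⁻¹ = g' := fun g g' e => by
    rw [mul_inv_eq_iff_eq_mul]; ext y; simp only [Perm.mul_apply, pr_apply, e]
  have e : x = x.1 • (1, 0, 0) + x.2.1 • (0, 1, 0) + x.2.2 • (0, 0, 1) := by simp
  conv_rhs => rw [e]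
  simp only [sig24_add, sig24_smul, pt_add, hs]
  rw [← key pa _ fun y => (h i y).1, ← key pb _ fun y => (h i y).2.1,
    ← key pc _ fun y => (h i y).2.2]
  simp only [conj_pow, pt]; group

def pf : PreFrame (Perm (Fin 9)) V3 (Fin 24) where
  τ := pt
  N := Subgroup.closure {pa, pd, pu, pw}
  r := pr
  σ := sig24
  τ_add := pt_add
  τ_inj := pt_inj
  τ_mem x := by
    have ha : pa ∈ Subgroup.closure {pa, pd, pu, pw} := Subgroup.subset_closure (by simp)
    have hd : pd ∈ Subgroup.closure {pa, pd, pu, pw} := Subgroup.subset_closure (by simp)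
    refine mul_mem (mul_mem (pow_mem ha _) (pow_mem ?_ _)) (pow_mem ?_ _)
    · rw [show pb = pd * pa * pd⁻¹ by decide +kernel]
      exact mul_mem (mul_mem hd ha) (inv_mem hd)
    · rw [show pc = pd⁻¹ * pa * pd by decide +kernel]
      exact mul_mem (mul_mem (inv_mem hd) ha) hd
  r_mem i := by
    have hu : pu ∈ Subgroup.closure {pa, pd, pu, pw} := Subgroup.subset_closure (by simp)
    have hd : pd ∈ Subgroup.closure {pa, pd, pu, pw} := Subgroup.subset_closure (by simp)
    have hw : pw ∈ Subgroup.closure {pa, pd, pu, pw} := Subgroup.subset_closure (by simp)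
    have hv : pv ∈ Subgroup.closure {pa, pd, pu, pw} := by
      rw [show pv = pd⁻¹ * pu * pd by decide +kernel]
      exact mul_mem (mul_mem (inv_mem hd) hu) hd
    refine mul_mem (mul_mem ?_ (pow_mem hd _)) (pow_mem hw _)
    split_ifs
    exacts [one_mem _, hu, hv, mul_mem hu hv]
  rconj := pt_conj
  cover := cover_closure pt_add pt_conj
    (fun i j => ⟨qm24 i j, 0, by rw [pr_mul, show pt 0 = 1 by decide +kernel, one_mul]⟩)
    ⟨0, 0, by decide +kernel⟩ (by
      rintro s (rfl | rfl | rfl | rfl)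
      exacts [⟨0, (1, 0, 0), by decide +kernel⟩, ⟨2, 0, by decide +kernel⟩,
        ⟨6, 0, by decide +kernel⟩, ⟨1, 0, by decide +kernel⟩])
  σ_inj := sig24_inj

/-- the model is isomorphic to the permutation group -/
noncomputable def emb : M648 ≃* pf.N := MulEquiv.ofBijective
  (MonoidHom.mk' (fun p : M648 => (⟨pt p.1 * pr p.2, mul_mem (pf.τ_mem _) (pf.r_mem _)⟩ : pf.N))
    fun p q => Subtype.ext (by
      show pt (p.1 + sig24 p.2 q.1) * pr (qm24 p.2 q.2) = pt p.1 * pr p.2 * (pt q.1 * pr q.2)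
      rw [pt_add, ← pt_conj, ← pr_mul]; group))
  ⟨fun p q e => by
    have := pf.coset_inj (a₁ := (p.2, p.1)) (a₂ := (q.2, q.1)) (congrArg Subtype.val e)
    exact Prod.ext (congrArg Prod.snd this) (congrArg Prod.fst this),
  fun ⟨g, hg⟩ => by
    obtain ⟨i, x, rfl⟩ := pf.cover g hg
    exact ⟨mk x i, rfl⟩⟩

/-- the normal subgroup `3^3` of the model -/
theorem pCore_eq : pCore 3 M648 = proj.ker := by
  have hk : ∀ p : M648, p ∈ proj.ker ↔ p.2 = 0 := fun p =>
    ⟨fun h => congrArg Prod.snd (show mk 0 p.2 = mk 0 0 from h), fun h => by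
      show mk 0 p.2 = mk 0 0
      rw [h]⟩
  refine le_antisymm (sSup_le fun N ⟨hN, h3⟩ p hp => ?_) (CL.le_pCore fun p => ⟨1, ?_⟩)
  · by_contra hc
    have key : ∀ q ∈ N, q ^ 81 = 1 := fun q hq => by
      obtain ⟨k, hk⟩ := h3 ⟨q, hq⟩
      exact pow_eq_one_of_three (congrArg Subtype.val hk)
    rcases f_core p (fun e => hc ((hk p).mpr e)) with h | h
    · exact h (key _ hp)
    · exact h (key _ (N.mul_mem hp (hN.conj_mem _ (N.inv_mem hp) _)))
  · have : ∀ p : M648, p.2 = 0 → p ^ 3 ^ 1 = 1 := by decide +kernel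
    exact Subtype.ext (this _ ((hk _).mp p.2))

/-- Let K ≤ Sym(9) be generated by (1 2 3), (1 4 7)(2 5 8)(3 6 9), (1 2)(4 5) and (1 4)(2 5)(3 6)(7 8) (the normalizer in Alt(9) of the elementary abelian group generated by (1 2 3), (4 5 6), (7 8 9)). Let G be a finite group with a subgroup H ≅ K and J = O₃(H). If C_G(j) ≤ H for every j ≠ 1 in J and J is strongly closed in H with respect to G (a G-conjugate of an element of J lying in H lies in J), then G = H. -/
theorem result {G : Type*} [Group G] [Finite G] (H : Subgroup G)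
    (hH : Nonempty (↥H ≃* ↥(Subgroup.closure ({Equiv.swap (0 : Fin 9) 1 * Equiv.swap 1 2,
        Equiv.swap (0 : Fin 9) 3 * Equiv.swap 3 6 * (Equiv.swap (1 : Fin 9) 4 * Equiv.swap 4 7) * (Equiv.swap (2 : Fin 9) 5 * Equiv.swap 5 8),
        Equiv.swap (0 : Fin 9) 1 * Equiv.swap 3 4, Equiv.swap (0 : Fin 9) 3 * Equiv.swap 1 4 * Equiv.swap 2 5 * Equiv.swap 6 7} : Set (Equiv.Perm (Fin 9))))))
    (J : Subgroup G) (hJ : J = (Cfsg.pCore 3 ↥H).map H.subtype)
    (hC : ∀ j ∈ J, j ≠ 1 → Subgroup.centralizer ({j} : Set G) ≤ H) (hsc : Cfsg.IsStronglyClosed J H) : H = ⊤ := by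
  obtain ⟨e⟩ := hH
  let e' : M648 ≃* H := emb.trans e.symm
  let ι : M648 →* G := H.subtype.comp e'.toMonoidHom
  have hr : ι.range = H := by
    ext g
    exact ⟨fun ⟨p, hp⟩ => hp ▸ (e' p).2, fun hg => ⟨e'.symm ⟨g, hg⟩, by simp [ι]⟩⟩
  have hinj : Function.Injective ι := H.subtype_injective.comp e'.injective
  have hJ' : ∀ p, ι p ∈ J ↔ p.2 = 0 := fun p => by
    have hk : p ∈ pCore 3 M648 ↔ p.2 = 0 := by
      rw [pCore_eq]
      exact ⟨fun h => congrArg Prod.snd (show mk 0 p.2 = mk 0 0 from h), fun h => by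
        show mk 0 p.2 = mk 0 0
        rw [h]⟩
    rw [← hk, hJ, ← CL.map_pCore_equiv e']
    constructor
    · rintro ⟨_, ⟨q, hq, rfl⟩, h⟩
      rwa [← hinj h]
    · exact fun h => ⟨_, ⟨p, h, rfl⟩, rfl⟩
  rw [← hr]
  refine Alt9Hyp.range_eq_top ⟨hinj, fun x hx => hr ▸ hC _ ((hJ' _).mpr rfl) fun h => hx ?_,
    fun x g p h => (hJ' p).mp (h ▸ hsc.2 _ ((hJ' _).mpr rfl) g (h ▸ hr ▸ ⟨p, rfl⟩))⟩
  exact congrArg Prod.fst (hinj (h.trans (map_one ι).symm))

end Cfsg.Agent.S3702
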