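import Cfsg.Statements.S3339
import Cfsg.Agent.PERM.A9Main
import Cfsg.Agent.S3702

set_option autoImplicit false
open Cfsg

namespace Cfsg.Agent.S3339

open CL.Odd CL.Odd.M648 Equiv
open Cfsg.Agent.S3701 (pa pb pc pu pv pt pt_add pt_inj)
open Cfsg.Agent.S3702 (pd pw pr pt_conj pf emb)

theorem eq_one_of_fix {k : Perm (Fin 9)} (ha : k * pa = pa * k) (hb : k * pb = pb * k)
    (hc : k * pc = pc * k) (h0 : k 0 = 0) (h3 : k 3 = 3) (h6 : k 6 = 6) : k = 1 := by
  have key : ∀ {p : Perm (Fin 9)} {x}, k * p = p * k → k x = x → k (p x) = p x := fun {p x} e h => by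
    rw [← Perm.mul_apply, e, Perm.mul_apply, h]
  ext x
  fin_cases x
  exacts [congrArg _ h0, congrArg _ (key ha h0), congrArg _ (key ha (key ha h0)), congrArg _ h3,
    congrArg _ (key hb h3), congrArg _ (key hb (key hb h3)), congrArg _ h6, congrArg _ (key hc h6),
    congrArg _ (key hc (key hc h6))]

set_option synthInstance.maxSize 2000 in
theorem dec_axes : ∀ x : V3, (pt x).support.card = 3 → ∀ y : V3, (pt y).support.card = 3 →
    x ≠ y → x + y ≠ 0 → ∃ i, sig24 i (1, 0, 0) = x ∧ sig24 i (0, 1, 0) = y := by decide +kernel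

set_option synthInstance.maxSize 2000 in
theorem dec_vals : ∀ a, pa a ≠ a → ∀ b, pb b ≠ b → ∀ c, pa c = c → pb c = c → ∀ w, pt w a = a →
    pt w b = b → pt w c ≠ c → ∃ v, ∃ s ∈ ([1, swap 7 8] : List (Perm (Fin 9))),
      (pt v * s) 0 = a ∧ (pt v * s) 3 = b ∧ (pt v * s) 6 = c ∧ pt v * s * pc = pt w * (pt v * s) ∧
      pt v * s * pa = pa * (pt v * s) ∧ pt v * s * pb = pb * (pt v * s) := by decide +kernel

theorem exists_eq {g : Perm (Fin 9)} (h : ∀ x, ∃ y, g * pt x * g⁻¹ = pt y) :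
    ∃ i v, g = pr i * pt v ∨ g = pr i * pt v * swap 7 8 := by
  obtain ⟨x, hx⟩ := h (1, 0, 0)
  obtain ⟨y, hy⟩ := h (0, 1, 0)
  obtain ⟨w, hw⟩ := h (0, 0, 1)
  obtain ⟨i, rfl, rfl⟩ := dec_axes x (by rw [← hx, Perm.card_support_conj]; decide) y
    (by rw [← hy, Perm.card_support_conj]; decide) (fun e => by
      rw [e, ← hy, mul_left_inj, mul_right_inj] at hx; exact absurd hx (by decide)) fun e => by
      have := congrArg pt e
      rw [pt_add, ← hx, ← hy, conj_mul, show pt 0 = 1 by decide, conj_eq_one_iff] at this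
      exact absurd this (by decide)
  obtain ⟨k, rfl⟩ : ∃ k, g = pr i * k := ⟨(pr i)⁻¹ * g, by simp⟩
  have key : ∀ {p q}, pr i * k * p * (pr i * k)⁻¹ = pr i * q * (pr i)⁻¹ → k * p = q * k := fun e => by
    rwa [mul_inv_rev, ← mul_assoc, mul_left_inj, mul_assoc, mul_assoc, mul_right_inj, ← mul_assoc,
      mul_inv_eq_iff_eq_mul] at e
  have ha : k * pa = pa * k := key (hx.trans (pt_conj i _).symm)
  have hb : k * pb = pb * k := key (hy.trans (pt_conj i _).symm)
  have hc : k * pc = pt (sig24 (qi24 i) w) * k := key (hw.trans (by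
    rw [pt_conj, ← sig24_mul, (by decide +kernel : ∀ i w, sig24 (qm24 i (qi24 i)) w = w)]))
  have ap : ∀ {p q : Perm (Fin 9)} (x), k * p = q * k → (q (k x) = k x ↔ p x = x) := fun x e => by
    rw [← Perm.mul_apply, ← e, Perm.mul_apply, k.apply_eq_iff_eq]
  obtain ⟨v, s, hs, e0, e3, e6, ec, ea, eb⟩ := dec_vals (k 0) ((ap 0 ha).not.mpr (by decide)) (k 3)
    ((ap 3 hb).not.mpr (by decide)) (k 6) ((ap 6 ha).mpr (by decide)) ((ap 6 hb).mpr (by decide)) _
    ((ap 0 hc).mpr (by decide)) ((ap 3 hc).mpr (by decide)) ((ap 6 hc).not.mpr (by decide))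
  have c : ∀ {p q}, pt v * s * p = q * (pt v * s) → k * p = q * k →
      (pt v * s)⁻¹ * k * p = p * ((pt v * s)⁻¹ * k) := fun {p q} e e' => by
    rw [mul_assoc, e', eq_mul_inv_of_mul_eq e.symm]; group
  have := eq_one_of_fix (c ea ha) (c eb hb) (c ec hc) (by simp [← e0]) (by simp [← e3])
    (by simp [← e6])
  rw [inv_mul_eq_one] at this
  refine ⟨i, v, ?_⟩
  rw [← this, ← mul_assoc]
  simpa using hs

theorem mem_closure {g : Perm (Fin 9)} : g ∈ Subgroup.closure {pa, pb, pc} ↔ ∃ x, pt x = g := by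
  refine ⟨fun h => ?_, ?_⟩
  · induction h using Subgroup.closure_induction with
    | mem x hx =>
      rcases hx with rfl | rfl | rfl
      exacts [⟨(1, 0, 0), by decide⟩, ⟨(0, 1, 0), by decide⟩, ⟨(0, 0, 1), by decide⟩]
    | one => exact ⟨0, by decide⟩
    | mul _ _ _ _ a b => obtain ⟨x, rfl⟩ := a; obtain ⟨y, rfl⟩ := b; exact ⟨_, pt_add x y⟩
    | inv _ _ a =>
      obtain ⟨x, rfl⟩ := a
      exact ⟨-x, eq_inv_of_mul_eq_one_left (by rw [← pt_add, neg_add_cancel]; decide)⟩
  · rintro ⟨x, rfl⟩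
    exact mul_mem (mul_mem (pow_mem (Subgroup.subset_closure (by simp)) _)
      (pow_mem (Subgroup.subset_closure (by simp)) _)) (pow_mem (Subgroup.subset_closure (by simp)) _)

theorem N_eq : pf.N = alternatingGroup (Fin 9) ⊓
    Subgroup.normalizer (Subgroup.closure {pa, pb, pc} : Set (Perm (Fin 9))) := by
  have k : pf.N ≤ alternatingGroup (Fin 9) := (Subgroup.closure_le _).mpr (by
    rintro _ (rfl | rfl | rfl | rfl) <;> exact Perm.mem_alternatingGroup.mpr (by decide))
  refine le_antisymm (le_inf k fun g hg => Subgroup.mem_normalizer_fintype fun a ha => ?_)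
    fun g hg => ?_
  · obtain ⟨i, x, rfl⟩ := pf.cover g hg
    obtain ⟨y, rfl⟩ := mem_closure.mp ha
    have m := mem_closure.mpr ⟨x, rfl⟩
    rw [show pf.τ x * pf.r i * pt y * (pf.τ x * pf.r i)⁻¹ = pt x * (pr i * pt y * (pr i)⁻¹) * (pt x)⁻¹
      from by simp only [mul_inv_rev, mul_assoc]; rfl, pt_conj]
    exact mul_mem (mul_mem m (mem_closure.mpr ⟨_, rfl⟩)) (inv_mem m)
  · obtain ⟨i, v, e⟩ := exists_eq (g := g) fun x => (mem_closure.mp
      ((Subgroup.mem_normalizer_iff.mp hg.2 _).mp (mem_closure.mpr ⟨x, rfl⟩))).imp fun _ => Eq.symm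
    have m : pr i * pt v ∈ pf.N := mul_mem (pf.r_mem i) (pf.τ_mem v)
    rcases e with rfl | rfl
    · exact m
    · exact absurd (Perm.mem_alternatingGroup.mp
        (((alternatingGroup _).mul_mem_cancel_left (k m)).mp hg.1)) (by decide)

/-- A 3-local characterization of the alternating group of degree 9. Let G be a finite group and J ≤ G an elementary abelian subgroup of order 27 whose normalizer H = N_G(J) is isomorphic to the normalizer, in the alternating group of degree 9, of the subgroup generated by three disjoint 3-cycles. If O_{3'}(C_G(x)) = 1 for every element x of order 3 in H, then either G = H or G is isomorphic to the alternating group of degree 9. -/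
theorem result {G : Type*} [Group G] [Finite G]
    (J : Subgroup G) (hJcomm : IsMulCommutative J) (hJexp : ∀ a ∈ J, a ^ 3 = 1) (hJcard : Nat.card J = 27)
    (H : Subgroup G) (hH : H = Subgroup.normalizer (J : Set G))
    (J₀ : Subgroup (Equiv.Perm (Fin 9)))
    (hJ₀ : J₀ = Subgroup.closure {Equiv.swap (0 : Fin 9) 1 * Equiv.swap 1 2, Equiv.swap (3 : Fin 9) 4 * Equiv.swap 4 5, Equiv.swap (6 : Fin 9) 7 * Equiv.swap 7 8})
    (eH : H ≃* ↥(alternatingGroup (Fin 9) ⊓ Subgroup.normalizer (J₀ : Set (Equiv.Perm (Fin 9)))))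
    (hcores : ∀ x ∈ H, orderOf x = 3 → Cfsg.pPrimeCore 3 (Subgroup.centralizer ({x} : Set G)) = ⊥) :
    H = ⊤ ∨ Nonempty (G ≃* alternatingGroup (Fin 9)) := by
  subst hJ₀
  let e : M648 ≃* H := (emb.trans (MulEquiv.subgroupCongr N_eq)).trans eH.symm
  let ι : M648 →* G := H.subtype.comp e.toMonoidHom
  have hr : ι.range = H := by
    ext g
    exact ⟨fun ⟨p, hp⟩ => hp ▸ (e p).2, fun hg => ⟨e.symm ⟨g, hg⟩, by simp [ι]⟩⟩
  have hi : Function.Injective ι := H.subtype_injective.comp e.injective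
  have hJ : J0.map ι = J := by
    have a := Subgroup.map_comap_eq_self (f := ι) (H := J) (hr ▸ hH ▸ Subgroup.le_normalizer)
    refine (Subgroup.eq_of_le_of_card_ge (a ▸ Subgroup.map_mono (le_J0
      (fun p hp => hi (by rw [map_pow, hJexp _ hp, map_one])) (fun p hp q hq => hi (by
        rw [map_mul, map_mul]
        exact congrArg Subtype.val (hJcomm.is_comm.comm ⟨_, hp⟩ ⟨_, hq⟩))) ?_)) ?_).symm
    · rw [Subgroup.card_map_of_injective hi, card_J0, hJcard]
    · rw [← Subgroup.card_map_of_injective hi, a, hJcard]; norm_num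
  rw [← hr]
  refine A9Base.main ⟨hi, fun g hg => ?_⟩ fun x hx => hcores _ (hr ▸ ⟨_, rfl⟩) (orderOf_eq_prime
    (by rw [← map_pow, mk_cube, map_one]) fun e => hx (congrArg Prod.fst (hi (e.trans (map_one ι).symm))))
  rw [hr, hH, ← hJ]
  refine Subgroup.mem_normalizer_fintype ?_
  rintro _ ⟨p, hp, rfl⟩
  obtain ⟨y, hy⟩ := hg p.1
  exact ⟨_, mk_mem y, by rw [← hy, ← eq_mk_of hp.1]⟩

end Cfsg.Agent.S3339
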