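import Cfsg.Statements.S3343
import Cfsg.Agent.PERM.S9Frame
import Cfsg.Agent.S3702

set_option autoImplicit false
open Cfsg

namespace Cfsg.Agent.S3343

open CL.Odd CL.Odd.MO Equiv
open Cfsg.Agent.S3701 (pt pt_add)
open Cfsg.Agent.S3702 (pr)

/-- the permutations of the three blocks -/
def ps (w : W48) : Perm (Fin 9) := pr w.1 * if w.2 then swap 0 1 * swap 3 4 * swap 6 7 else 1

set_option maxRecDepth 100000 in
theorem ps_facts : (∀ w, inW 0 w → ∀ x, ps w * pt x = pt (sg w x) * ps w) ∧
    (∀ a, inW 0 a → ∀ b, inW 0 b → ps (wm a b) = ps a * ps b) ∧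
    ∀ w, inW 0 w → ∀ x, pt x * ps w = 1 → x = 0 ∧ w = (0, false) :=
  ⟨by decide +kernel, by decide +kernel, by decide +kernel⟩

/-- the embedding -/
def emb : U 0 →* Perm (Fin 9) := MonoidHom.mk' (fun p => pt p.1.1 * ps p.1.2) fun p q => by
  show pt (p.1.1 + sg p.1.2 q.1.1) * ps (wm p.1.2 q.1.2) = _
  rw [pt_add, ps_facts.2.1 _ p.2 _ q.2, mul_assoc, ← mul_assoc (pt (sg _ _)), ← ps_facts.1 _ p.2]
  simp only [mul_assoc]

theorem emb_inj : Function.Injective emb := (injective_iff_map_eq_one _).mpr fun p e =>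
  Subtype.ext (Prod.ext (ps_facts.2.2 _ p.2 _ e).1 (ps_facts.2.2 _ p.2 _ e).2)

set_option maxRecDepth 100000 in
theorem emb_range : emb.range = cz (emb (tau 0 cc)) := by
  refine Subgroup.eq_of_le_of_card_ge (by
    rintro _ ⟨p, rfl⟩
    exact (mem_cz_hom emb_inj).mpr (act_eq_iff.mp
      ((by decide +kernel : ∀ w, inW 0 w → sg w cc = cc) _ p.2))) (Eq.le ?_)
  have a := Perm.cycleType_of_pow_prime_eq_one (tau_cube' (ι := emb) cc)
  have b := Perm.sum_cycleType (emb (tau 0 cc))
  rw [a, Multiset.sum_replicate, show (emb (tau 0 cc)).support.card = 9 by decide +kernel,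
    smul_eq_mul] at b
  rw [← Nat.card_congr (MonoidHom.ofInjective emb_inj).toEquiv, card_U, Perm.nat_card_centralizer,
    a, show Multiset.card _ = 3 by omega]
  decide +kernel

/-- Let G be a finite group with an element x of order 3 whose centralizer is isomorphic to the centralizer in the symmetric group of degree 9 of a product of three disjoint 3-cycles, and let J ≤ C_G(x) be elementary abelian of order 27 normalizing no non-trivial subgroup of G of order prime to 3. Then either J is normal in G or G is isomorphic to the symmetric group of degree 9. -/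
theorem result {G : Type*} [Group G] [Finite G]
    (x : G) (hx : orderOf x = 3)
    (eC : Subgroup.centralizer ({x} : Set G) ≃*
      Subgroup.centralizer ({Equiv.swap (0 : Fin 9) 1 * Equiv.swap 1 2 * Equiv.swap 3 4 * Equiv.swap 4 5 * Equiv.swap 6 7 * Equiv.swap 7 8} : Set (Equiv.Perm (Fin 9))))
    (J : Subgroup G) (hJC : J ≤ Subgroup.centralizer ({x} : Set G)) (hJcomm : IsMulCommutative J)
    (hJexp : ∀ j ∈ J, j ^ 3 = 1) (hJcard : Nat.card J = 27)
    (hJsig : ∀ K : Subgroup G, (Nat.card K).Coprime 3 → (∀ j ∈ J, K.map (MulAut.conj j).toMonoidHom = K) → K = ⊥) :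
    J.Normal ∨ Nonempty (G ≃* Equiv.Perm (Fin 9)) := by
  let e := (((MonoidHom.ofInjective emb_inj).trans (MulEquiv.subgroupCongr emb_range)).trans
    (MulEquiv.subgroupCongr (congrArg cz (by decide +kernel)))).trans eC.symm
  let κ : U 0 →* G := (cz x).subtype.comp e.toMonoidHom
  have hr : κ.range = cz x := by
    ext g
    exact ⟨fun ⟨p, hp⟩ => hp ▸ (e p).2, fun hg => ⟨e.symm ⟨g, hg⟩, by simp [κ]⟩⟩
  have hi : Function.Injective κ := (cz x).subtype_injective.comp e.injective
  have hc : cz (κ (tau 0 cc)) = cz x := by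
    obtain ⟨p, hp⟩ := hr.ge (mem_cz'.mpr rfl : x ∈ cz x)
    have k : ∀ q, q * p = p * q := fun q => (mem_cz_hom hi).mp (hp ▸ hr.le ⟨q, rfl⟩)
    rw [← hp] at hx ⊢
    rcases (by decide +kernel : ∀ p : U 0, dd 0 * p = p * dd 0 → tau 0 (1, 0, 0) * p =
      p * tau 0 (1, 0, 0) → p = 1 ∨ p = tau 0 cc ∨ p = (tau 0 cc)⁻¹) p (k _) (k _) with rfl | rfl | rfl
    · simp at hx
    · rfl
    · rw [map_inv, A8.cz_inv]
  have hJ : (Js 0 0).map κ = J := by
    have a := Subgroup.map_comap_eq_self (f := κ) (H := J) (hr ▸ hJC)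
    refine (Subgroup.eq_of_le_of_card_ge (a ▸ Subgroup.map_mono (le_J
      (fun p hp => hi (by rw [map_pow, hJexp _ hp, map_one])) (fun p hp q hq => hi (by
        rw [map_mul, map_mul]
        exact congrArg Subtype.val (hJcomm.is_comm.comm ⟨_, hp⟩ ⟨_, hq⟩))) ?_)) ?_).symm
    · rw [Subgroup.card_map_of_injective hi, card_Js, hJcard]; rfl
    · rw [← Subgroup.card_map_of_injective hi, a, hJcard]; norm_num
  rw [← hJ]
  exact Pre.main ⟨hi, (hc.trans hr.symm).le, fun K a b => hJsig K
    ((Nat.Prime.coprime_iff_not_dvd Nat.prime_three).mpr a).symm fun j hj =>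
      Subgroup.mem_normalizer_iff_map_conj_eq.mp (b (hJ.ge hj))⟩

end Cfsg.Agent.S3343
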