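import Cfsg.Statements.S3366
import Mathlib
import Cfsg.Agent.PERM.T43M

set_option autoImplicit false
open Cfsg

namespace Cfsg.Agent.S3366

open CL MonoidAlgebra
open scoped ComplexConjugate commutatorElement

open Subgroup CL.T43

/-- Let X be a finite group with O₃(X) extraspecial of order 27 and exponent 3, X/O₃(X) isomorphic to SL(2,3), O₂(X) = 1, and a Sylow 3-subgroup of X containing an elementary abelian subgroup of order 27. Then X is isomorphic to the centralizer in PSp(4,3) of a 3-central element of order 3 (an element of order 3 in the centre of a Sylow 3-subgroup). -/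
theorem result {X : Type*} [Group X] [Finite X]
    (hR : Cfsg.IsExtraspecial 3 (Cfsg.pCore 3 X)) (hRcard : Nat.card (Cfsg.pCore 3 X) = 27)
    (hRexp : ∀ r ∈ Cfsg.pCore 3 X, r ^ 3 = 1)
    (e : X ⧸ Cfsg.pCore 3 X ≃* Matrix.SpecialLinearGroup (Fin 2) (ZMod 3))
    (hO2 : Cfsg.pCore 2 X = ⊥)
    (hE : ∃ E : Subgroup X, IsMulCommutative E ∧ (∀ a ∈ E, a ^ 3 = 1) ∧ Nat.card E = 27)
    (F : Type*) [Field F] [Fintype F] (hF : Fintype.card F = 3) :
    ∃ (c : Cfsg.PSp 2 F) (S : Sylow 3 (Cfsg.PSp 2 F)), orderOf c = 3 ∧ c ∈ (S : Subgroup (Cfsg.PSp 2 F)) ∧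
      c ∈ Subgroup.centralizer ((S : Subgroup (Cfsg.PSp 2 F)) : Set (Cfsg.PSp 2 F)) ∧
      Nonempty (X ≃* Subgroup.centralizer ({c} : Set (Cfsg.PSp 2 F))) := by
  obtain ⟨E, Ec, E3, hE⟩ := hE
  obtain ⟨f, hf, -⟩ := exists_shape hR hRcard hRexp e hO2 Ec E3 hE
  obtain ⟨f₂, hi, h1, h2⟩ := exists_cent hF
  have o : orderOf (f₂ (H2.u * H2.v * H2.x)) = 3 := by
    rw [orderOf_injective f₂ hi]
    exact orderOf_eq_prime (by decide +kernel) (by decide +kernel)
  obtain ⟨P, k1, k2, k3, k4⟩ := Tr.exists_sylowIn_ge (p := 3) (Q := zpowers (f₂ (H2.u * H2.v * H2.x)))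
    (H := f₂.range) (IsPGroup.of_card (n := 1) (by rw [Nat.card_zpowers, o]; rfl)) (zpowers_le.2 ⟨_, rfl⟩)
  refine ⟨_, k3.toSylow (by rw [← relIndex_mul_index k2, h2]; omega), o, k1 (mem_zpowers _),
    fun y hy => mem_centralizer_singleton_iff.1 (h1.le (k2 hy)),
    ⟨(MulEquiv.ofBijective f hf).symm.trans ((MonoidHom.ofInjective hi).trans (MulEquiv.subgroupCongr h1))⟩⟩

end Cfsg.Agent.S3366
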