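import Cfsg.Statements.S5523
import Cfsg.Agent.PERM.McL3M
import Cfsg.Agent.S2073
import Cfsg.Agent.FUS.CRTools

set_option autoImplicit false
open Cfsg

namespace Cfsg.Agent.S5523

open Subgroup CL CL.McL3 CL.Odd in

/-- A 3-local characterization of the McLaughlin group and its automorphism group with the centraliser condition imposed only at the centre of a Sylow 3-subgroup. Let G be a finite group, S a Sylow 3-subgroup, Z = Z(S), and J ≤ S elementary abelian of order 3^4. Write M₀ for the subgroup generated by the 3-elements of N_G(J), L₀ for the subgroup generated by the 3-elements of N_G(Z), and Q = O₃(N_G(Z)). Assume: (i) J ≤ M₀ and M₀/J is isomorphic to the alternating group of degree 6; (ii) Q is extraspecial of order 3^5 and exponent 3, Q ≤ L₀, and L₀/Q is isomorphic to SL(2,5); (iii) C_G(O₃(C_G(Z))) ≤ O₃(C_G(Z)). Then G is isomorphic to the McLaughlin group or to its full automorphism group. -/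
theorem result {G : Type*} [Group G] [Finite G]
    (S : Sylow 3 G) (Z : Subgroup G) (hZ : Z = (S : Subgroup G) ⊓ Subgroup.centralizer ((S : Subgroup G) : Set G))
    (J : Subgroup G) (hJS : J ≤ S) (hJcomm : IsMulCommutative J) (hJexp : ∀ a ∈ J, a ^ 3 = 1) (hJcard : Nat.card J = 3 ^ 4)
    (M₀ : Subgroup G) (hM₀ : M₀ = Subgroup.closure {g : G | g ∈ Subgroup.normalizer (J : Set G) ∧ ∃ k : ℕ, orderOf g = 3 ^ k})
    (hJM : J ≤ M₀) [hJn : (J.subgroupOf M₀).Normal] (eM : M₀ ⧸ J.subgroupOf M₀ ≃* alternatingGroup (Fin 6))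
    (L₀ : Subgroup G) (hL₀ : L₀ = Subgroup.closure {g : G | g ∈ Subgroup.normalizer (Z : Set G) ∧ ∃ k : ℕ, orderOf g = 3 ^ k})
    (Q : Subgroup G) (hQ : Q = (Cfsg.pCore 3 (Subgroup.normalizer (Z : Set G))).map (Subgroup.normalizer (Z : Set G)).subtype)
    (hQex : Cfsg.IsExtraspecial 3 Q) (hQcard : Nat.card Q = 3 ^ 5) (hQexp : ∀ a ∈ Q, a ^ 3 = 1)
    (hQL : Q ≤ L₀) [hQn : (Q.subgroupOf L₀).Normal] (eL : L₀ ⧸ Q.subgroupOf L₀ ≃* Matrix.SpecialLinearGroup (Fin 2) (ZMod 5))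
    (hiii : Subgroup.centralizer (((Cfsg.pCore 3 (Subgroup.centralizer (Z : Set G))).map (Subgroup.centralizer (Z : Set G)).subtype : Subgroup G) : Set G)
        ≤ (Cfsg.pCore 3 (Subgroup.centralizer (Z : Set G))).map (Subgroup.centralizer (Z : Set G)).subtype) :
    Nonempty (G ≃* Cfsg.Spor.McL) ∨ Nonempty (G ≃* MulAut Cfsg.Spor.McL) := by
  obtain ⟨π, sL, kL⟩ := exists_hom hQL eL
  obtain ⟨μ, sM, kM⟩ := exists_hom hJM eM
  clear eL eM hJn hQn
  subst hM₀ hL₀ hQ
  obtain ⟨z, z1, z3, rfl, zQ, QS, zS⟩ := pre S hZ hQex hQexp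
  obtain ⟨Qc, QZ⟩ := es hQex zQ z1 z3 fun q hq => zS q (QS hq)
  have le : pCoreOf 3 (centralizer (zpowers z : Set G)) ≤ pCoreOf 3 (Nm (zpowers z)) :=
    PComp.le_pCoreOf ((PComp.pCoreOf_le 3 _).trans (centralizer_le_normalizer _))
      ((Fus.le_normalizer_centralizer le_rfl).trans (PComp.normalizer_le_normalizer_pCoreOf 3 _))
      (PComp.pCoreOf_isPGroup 3 _)
  have H : HypL S _ _ z π := ⟨S.isPGroup', S.not_dvd_index, z1, z3, zS, zQ, QS, hQcard, hQexp, Qc,
      fun g hg => QZ g (le (hiii fun q hq => (hg q (le hq)).symm)) hg,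
      fun g hg q => Tr.conj_mem_of_mem_normalizer (PComp.le_normalizer_pCoreOf 3 _ hg.mem),
      fun l hl => mem_cz'.1 ((closure_le (cz z)).2 (fun g hg => hg.2.elim fun k h2 => mem_cz'.2
        ((NZ.of_mem z1 z3 (Tr.conj_mem_of_mem_normalizer hg.1 (mem_zpowers z))).three z1 z3
        (k := k) (h2 ▸ pow_orderOf_eq_one g))) hl),
      fun g k h1 h2 => subset_closure ⟨(NZ.of_comm h1).mem, three_ord h2⟩,
      fun g hg => O3_conj hg.mem, sL, kL⟩
  obtain ⟨N, hN, ⟨e⟩, hc⟩ := Hyp.main (μ := (alternatingGroup _).subtype.comp μ) ⟨H, hJS,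
      fun a ha b hb => congrArg Subtype.val (hJcomm.1.1 (⟨a, ha⟩ : J) ⟨b, hb⟩), hJexp, hJcard,
      O3_le _, fun g h1 k h2 => subset_closure ⟨h1, three_ord h2⟩, fun g hg => O3_conj hg,
      (rel_alt sM).1, fun m => ((rel_alt sM).2 m).trans (kM m)⟩
  rcases hN with rfl | hN
  exacts [Or.inl ⟨topEquiv.symm.trans e⟩, Or.inr (iso_aut hN e hc S2073.result)]

end Cfsg.Agent.S5523
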