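import Cfsg.Statements.S3367
import Cfsg.Agent.S5523

set_option autoImplicit false
open Cfsg

namespace Cfsg.Agent.S3367

open Subgroup CL CL.McL3 CL.Odd in

/-- A 3-local characterization of the McLaughlin group and its automorphism group. Let G be a finite group, S a Sylow 3-subgroup, Z = Z(S), and J ≤ S elementary abelian of order 3^4. Write M₀ for the subgroup generated by the 3-elements of N_G(J), L₀ for the subgroup generated by the 3-elements of N_G(Z), and Q = O₃(N_G(Z)). Assume: (i) J ≤ M₀ and M₀/J is isomorphic to the alternating group of degree 6; (ii) Q is extraspecial of order 3^5 and exponent 3, Q ≤ L₀, and L₀/Q is isomorphic to SL(2,5); (iii) for every non-identity x in J, C_G(O₃(C_G(x))) ≤ O₃(C_G(x)). Then G is isomorphic to the McLaughlin group or to its full automorphism group. -/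
theorem result {G : Type*} [Group G] [Finite G]
    (S : Sylow 3 G) (Z : Subgroup G) (hZ : Z = (S : Subgroup G) ⊓ Subgroup.centralizer ((S : Subgroup G) : Set G))
    (J : Subgroup G) (hJS : J ≤ S) (hJcomm : IsMulCommutative J) (hJexp : ∀ a ∈ J, a ^ 3 = 1) (hJcard : Nat.card J = 3 ^ 4)
    (M₀ : Subgroup G) (hM₀ : M₀ = Subgroup.closure {g : G | g ∈ Subgroup.normalizer (J : Set G) ∧ ∃ k : ℕ, orderOf g = 3 ^ k})
    (hJM : J ≤ M₀) [hJn : (J.subgroupOf M₀).Normal] (eM : M₀ ⧸ J.subgroupOf M₀ ≃* alternatingGroup (Fin 6))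
    (L₀ : Subgroup G) (hL₀ : L₀ = Subgroup.closure {g : G | g ∈ Subgroup.normalizer (Z : Set G) ∧ ∃ k : ℕ, orderOf g = 3 ^ k})
    (Q : Subgroup G) (hQ : Q = (Cfsg.pCore 3 (Subgroup.normalizer (Z : Set G))).map (Subgroup.normalizer (Z : Set G)).subtype)
    (hQex : Cfsg.IsExtraspecial 3 Q) (hQcard : Nat.card Q = 3 ^ 5) (hQexp : ∀ a ∈ Q, a ^ 3 = 1)
    (hQL : Q ≤ L₀) [hQn : (Q.subgroupOf L₀).Normal] (eL : L₀ ⧸ Q.subgroupOf L₀ ≃* Matrix.SpecialLinearGroup (Fin 2) (ZMod 5))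
    (hiii : ∀ x ∈ J, x ≠ 1 →
      Subgroup.centralizer (((Cfsg.pCore 3 (Subgroup.centralizer ({x} : Set G))).map (Subgroup.centralizer ({x} : Set G)).subtype : Subgroup G) : Set G)
        ≤ (Cfsg.pCore 3 (Subgroup.centralizer ({x} : Set G))).map (Subgroup.centralizer ({x} : Set G)).subtype) :
    Nonempty (G ≃* Cfsg.Spor.McL) ∨ Nonempty (G ≃* MulAut Cfsg.Spor.McL) := by
  refine S5523.result S Z hZ J hJS hJcomm hJexp hJcard M₀ hM₀ hJM eM L₀ hL₀ Q hQ hQex hQcard hQexp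
    hQL eL ?_
  obtain ⟨π, sL, kL⟩ := exists_hom hQL eL
  obtain ⟨μ, sM, kM⟩ := exists_hom hJM eM
  clear eL eM hJn hQn
  subst hM₀ hL₀ hQ
  obtain ⟨z, z1, z3, e, zQ, QS, zS⟩ := pre S hZ hQex hQexp
  rw [e, cent_zp]
  refine hiii z (by_contra fun zJ => ?_) z1
  have cz' : ∀ j ∈ J, z * j = j * z := fun j hj => (zS j (hJS hj)).symm
  have zM : z ∈ O3 (Nm J) := subset_closure ⟨Tr.mem_normalizer_of_conj_mem fun j hj => by
    rwa [cz' j hj, mul_inv_cancel_right], three_ord (k := 1) z3⟩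
  have Jc : ∀ a ∈ J, ∀ b ∈ J, a * b = b * a := fun a ha b hb =>
    congrArg Subtype.val (hJcomm.1.1 (⟨a, ha⟩ : J) ⟨b, hb⟩)
  have sj : Function.Surjective μ := fun x => (sM x).elim fun _ r => ⟨_, r.2⟩
  have n1 : ((centralizer (J : Set G)).subgroupOf (O3 (Nm J))).Normal :=
    Subgroup.normal_subgroupOf_of_le_normalizer (Fus.le_normalizer_centralizer (O3_le _))
  have := alternatingGroup.isSimpleGroup (α := Fin 6) (by simp)
  have MC : O3 (Nm J) ≤ centralizer (J : Set G) := fun m hm => by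
    obtain ⟨c, hc, r⟩ := ((n1.map μ sj).eq_bot_or_eq_top.resolve_left fun b => zJ ((kM z).1
      ⟨zM, b.le ⟨⟨z, zM⟩, fun j hj => (cz' j hj).symm, rfl⟩⟩)).ge (mem_top (μ ⟨m, hm⟩))
    exact (mul_mem_cancel_right (inv_mem (show (c : G) ∈ centralizer (J : Set G) from hc))).1
      fun j hj => Jc j hj _ ((kM (m * (c : G)⁻¹)).1
      (((show Rel μ m _ from ⟨hm, rfl⟩).mul (show Rel μ c _ from ⟨c.2, r⟩).inv).congr
        (mul_inv_cancel _)))
  obtain ⟨P, p1, p2, p3, p4⟩ := Tr.exists_sylowIn_ge (S.isPGroup'.to_le hJS) hJM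
  have cP := (card_729 p3 p2 (by
    rw [card_of_hom hJM sM kM, hJcard, nat_card_alternatingGroup, Nat.card_fin]; rfl)).2 p4
  have cS := (card_729 S.isPGroup' (H := O3 (Nm Z)) (fun s hs => subset_closure ⟨e ▸
    (NZ.of_comm (zS s hs)).mem, (S.isPGroup' ⟨s, hs⟩).elim fun k hk =>
      three_ord (k := k) (congrArg Subtype.val hk)⟩) (by
    rw [card_of_hom hQL sL kL, hQcard, TC.card_sl25]; rfl)).1
  obtain ⟨k, hk⟩ := exists_conj_le_of_isPGroup S.isPGroup' S.not_dvd_index p3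
  have e2 := eq_of_le_of_card_ge (show P.map (MulAut.conj k).toMonoidHom ≤ S by
    rintro _ ⟨x, hx, rfl⟩; exact hk x hx) (by rw [Tr.card_map_conj, cP]; exact cS)
  have := card_le_of_le (show J.map (MulAut.conj k).toMonoidHom ≤ Z by
    rintro _ ⟨x, hx, rfl⟩
    refine hZ.ge ⟨hk x (p1 hx), fun s hs => ?_⟩
    obtain ⟨y, hy, rfl⟩ := e2.ge hs
    rw [← map_mul, ← map_mul, MC (p2 hy) x hx])
  rw [Tr.card_map_conj, hJcard, e, card_zpowers_three z1 z3] at this
  omega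

end Cfsg.Agent.S3367
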