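import Cfsg.Statements.S3374

set_option autoImplicit false
open Cfsg

namespace Cfsg.Agent.S3374

open scoped Pointwise

/-- A non-trivial group acting without fixed points on a non-trivial group is a Frobenius
complement in the semidirect product. -/
theorem isFrobeniusComplement_range_inr {N G : Type*} [Group N] [Group G] [Nontrivial N]
    [Nontrivial G] (φ : G →* MulAut N) (hφ : ∀ g : G, ∀ n : N, φ g n = n → g = 1 ∨ n = 1) :
    Cfsg.IsFrobeniusComplement (SemidirectProduct.inr : G →* N ⋊[φ] G).range := by
  have hmem : ∀ x : N ⋊[φ] G, x ∈ (SemidirectProduct.inr : G →* N ⋊[φ] G).range ↔ x.left = 1 := by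
    intro x
    constructor
    · rintro ⟨g, rfl⟩
      rfl
    · intro hx
      exact ⟨x.right, SemidirectProduct.ext hx.symm rfl⟩
  refine ⟨?_, ?_, ?_⟩
  · obtain ⟨g, hg⟩ := exists_ne (1 : G)
    intro h
    have : SemidirectProduct.inr g ∈ (SemidirectProduct.inr : G →* N ⋊[φ] G).range := ⟨g, rfl⟩
    rw [h, Subgroup.mem_bot] at this
    exact hg (congrArg SemidirectProduct.right this)
  · obtain ⟨n, hn⟩ := exists_ne (1 : N)
    intro h
    have : SemidirectProduct.inl n ∈ (SemidirectProduct.inr : G →* N ⋊[φ] G).range := by
      rw [h]; trivial
    exact hn ((hmem _).mp this)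
  · intro g hg
    rw [eq_bot_iff]
    rintro x ⟨hx1, hx2⟩
    obtain ⟨y, hy, hxy⟩ := hx2
    have hy' : y.left = 1 := (hmem _).mp hy
    have hx' : x.left = 1 := (hmem _).mp hx1
    have h1 : g * y = x * g := by
      rw [← hxy]
      simp
    have h2 := congrArg SemidirectProduct.left h1
    simp only [SemidirectProduct.mul_left, hy', hx', map_one, mul_one, one_mul] at h2
    rcases hφ _ _ h2.symm with h | h
    · exact SemidirectProduct.ext hx' h
    · exact absurd ((hmem _).mpr h) hg

/-- A packed table of an embedding of `SL(2,5)` in `GL(2,11)`. -/
def tbl : ℕ := 0x177600000000000000000000a56200000000000000000000362800000000000000000000048a80a7000000000000000000000000a65200000000000000000000000029980000423a0000000000000000000000004517000020460000000000000000000000000000326800000000432a000000000000000000000000000038870000000069a600000000607200000000000000000000000000000000084a00000000000041570000000000006a960000000000005332000000000000701800000000000000008a070000000000000000240600000000000000006702000000000000000071080000000000000000a00a00000000000000002885000000000000000000000000000095610000000037a9000000000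0000000000000000000052400000000887300000000000000000000965100000000000000000000a119a8940000000000000000000091430000000000000000000066350000000000003a79000000000000a98400000000000000000000000000000000566300000000000059a5000000000000aa210000000000000000000000000254000094130000000000000000000000005a9500006441000000000000000000000000223900000000000000008783000000000000000063650000000000000000a2a1000000000000000023290000000000000000777400000000000000000000577a0000612600000000000000000000000027a8000000000000000000000000096700009982000000000000621600000000000000000000000000000000655800000000000012370000000000008142000000000000119a000000000000000000002a78000000000000000000001327000000000000000000001aa2256a0000000000000000000055860000000000000000000000000000069700000000841200000000265a00000000000000000000000000009336000000003348000000000000000098920000000000000000191a00000000000000005856000000000000000034380000000000000000444700000000000000000000688900000000000051250000000000007a6400000000000000000000000000000000037100000000000040a300000000521500000000000000000000000000008334000000007891000000008953000000000000000000000000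00005049000076a400000000000000000000000079810000000000000000000000009223000015690000000000000000000000009075000000000000000000000731859300000000000000000000165900000000000000000000a44500000000000000000000301400000000000000004a03000000000000000054090000000000000000970500000000000000003104000000000000000010010000000000000000000000000000000000000000000000000000000000000000a37049607520148001a0000000000000000000000000000000000000000073333555211139997444000000000000000000000000000000000000000000000000000000000000000000000000000000000000000000000000000082229aaa8666488847770000000000000000000000000000000000000000a7304690725018400a10000000000000000000000000000000000000000000000000000000000000000000000000000000000000000000000000000000000000000000000000000000000000000000000000000000000000000000000000000000000000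

/-- The entry number `k` of the image of the matrix with entries `a, b, c, d`. -/
def ent (a b c d : ZMod 5) (k : ℕ) : ZMod 11 :=
  ((tbl >>> (16 * (a.val + 5 * b.val + 25 * c.val + 125 * d.val) + 4 * k)) % 16 : ℕ)

theorem ent_mul : ∀ a b c d : ZMod 5, a * d - b * c = 1 → ∀ a' b' c' d' : ZMod 5,
    a' * d' - b' * c' = 1 →
    ent (a * a' + b * c') (a * b' + b * d') (c * a' + d * c') (c * b' + d * d') 0 =
      ent a b c d 0 * ent a' b' c' d' 0 + ent a b c d 1 * ent a' b' c' d' 2 ∧
    ent (a * a' + b * c') (a * b' + b * d') (c * a' + d * c') (c * b' + d * d') 1 =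
      ent a b c d 0 * ent a' b' c' d' 1 + ent a b c d 1 * ent a' b' c' d' 3 ∧
    ent (a * a' + b * c') (a * b' + b * d') (c * a' + d * c') (c * b' + d * d') 2 =
      ent a b c d 2 * ent a' b' c' d' 0 + ent a b c d 3 * ent a' b' c' d' 2 ∧
    ent (a * a' + b * c') (a * b' + b * d') (c * a' + d * c') (c * b' + d * d') 3 =
      ent a b c d 2 * ent a' b' c' d' 1 + ent a b c d 3 * ent a' b' c' d' 3 := by
  decide +kernel

set_option synthInstance.maxSize 1000 in
theorem ent_fpf : ∀ a b c d : ZMod 5, a * d - b * c = 1 → ∀ x y : ZMod 11,
    ent a b c d 0 * x + ent a b c d 1 * y = x → ent a b c d 2 * x + ent a b c d 3 * y = y →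
    (a = 1 ∧ b = 0 ∧ c = 0 ∧ d = 1) ∨ (x = 0 ∧ y = 0) := by
  decide +kernel

theorem ent_one : ent 1 0 0 1 0 = 1 ∧ ent 1 0 0 1 1 = 0 ∧ ent 1 0 0 1 2 = 0 ∧ ent 1 0 0 1 3 = 1 := by
  decide +kernel

/-- The embedding as a matrix-valued homomorphism. -/
def rho : Matrix.SpecialLinearGroup (Fin 2) (ZMod 5) →* Matrix (Fin 2) (Fin 2) (ZMod 11) where
  toFun g := !![ent (g 0 0) (g 0 1) (g 1 0) (g 1 1) 0, ent (g 0 0) (g 0 1) (g 1 0) (g 1 1) 1;
    ent (g 0 0) (g 0 1) (g 1 0) (g 1 1) 2, ent (g 0 0) (g 0 1) (g 1 0) (g 1 1) 3]
  map_one' := by
    obtain ⟨h0, h1, h2, h3⟩ := ent_one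
    ext i j
    fin_cases i <;> fin_cases j <;> simp [h0, h1, h2, h3]
  map_mul' g h := by
    have hg := g.det_coe
    have hh := h.det_coe
    rw [Matrix.det_fin_two] at hg hh
    obtain ⟨h0, h1, h2, h3⟩ := ent_mul _ _ _ _ hg _ _ _ _ hh
    ext i j
    fin_cases i <;> fin_cases j <;>
      simp [Matrix.mul_apply, Fin.sum_univ_two, h0, h1, h2, h3]

/-- The action on the plane over the field with eleven elements. -/
def act : Matrix.SpecialLinearGroup (Fin 2) (ZMod 5) →* MulAut (Multiplicative (Fin 2 → ZMod 11)) where
  toFun g :=
    { toFun := fun v => Multiplicative.ofAdd ((rho g).mulVec v.toAdd)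
      invFun := fun v => Multiplicative.ofAdd ((rho g⁻¹).mulVec v.toAdd)
      left_inv := fun v => by
        simp only [toAdd_ofAdd, Matrix.mulVec_mulVec, ← map_mul, inv_mul_cancel, map_one,
          Matrix.one_mulVec, ofAdd_toAdd]
      right_inv := fun v => by
        simp only [toAdd_ofAdd, Matrix.mulVec_mulVec, ← map_mul, mul_inv_cancel, map_one,
          Matrix.one_mulVec, ofAdd_toAdd]
      map_mul' := fun v w => by simp only [toAdd_mul, Matrix.mulVec_add, ofAdd_add] }
  map_one' := by
    ext v : 1
    simp only [map_one, Matrix.one_mulVec, ofAdd_toAdd, MulEquiv.coe_mk, Equiv.coe_fn_mk,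
      MulAut.one_apply]
  map_mul' g h := by
    ext v : 1
    simp only [map_mul, MulEquiv.coe_mk, Equiv.coe_fn_mk, MulAut.mul_apply, toAdd_ofAdd,
      Matrix.mulVec_mulVec]

/-- SL(2,5) occurs as a Frobenius complement: there is a finite group L with a subgroup H isomorphic to SL(2,5) which is a non-trivial proper subgroup meeting each conjugate gHg⁻¹ with g outside H trivially. -/
theorem result :
    ∃ (L : Type) (_ : Group L) (_ : Finite L) (H : Subgroup L),
      Cfsg.IsFrobeniusComplement H ∧ Nonempty (H ≃* Matrix.SpecialLinearGroup (Fin 2) (ZMod 5)) := by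
  have : Fact (1 < 11) := ⟨by norm_num⟩
  have : Nontrivial (Matrix.SpecialLinearGroup (Fin 2) (ZMod 5)) :=
    ⟨⟨1, ⟨!![1, 1; 0, 1], by decide⟩, fun h => by
      have := congrArg (fun g : Matrix.SpecialLinearGroup (Fin 2) (ZMod 5) => g 0 1) h
      revert this
      decide⟩⟩
  refine ⟨Multiplicative (Fin 2 → ZMod 11) ⋊[act] Matrix.SpecialLinearGroup (Fin 2) (ZMod 5),
    inferInstance, Finite.of_equiv _ SemidirectProduct.equivProd.symm,
    SemidirectProduct.inr.range, isFrobeniusComplement_range_inr act ?_,
    ⟨(MonoidHom.ofInjective SemidirectProduct.inr_injective).symm⟩⟩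
  intro g v hv
  have hg := g.det_coe
  rw [Matrix.det_fin_two] at hg
  have h1 : (rho g).mulVec v.toAdd = v.toAdd := congrArg Multiplicative.toAdd hv
  have h2 := congrFun h1 0
  have h3 := congrFun h1 1
  simp only [rho, MonoidHom.coe_mk, OneHom.coe_mk, Matrix.mulVec, dotProduct, Fin.sum_univ_two,
    Matrix.of_apply, Matrix.cons_val', Matrix.cons_val_zero, Matrix.cons_val_one,
    Matrix.cons_val_fin_one] at h2 h3
  rcases ent_fpf _ _ _ _ hg _ _ h2 h3 with ⟨a, b, c, d⟩ | ⟨a, b⟩
  · left
    ext i j
    fin_cases i <;> fin_cases j <;> simp [a, b, c, d]
  · right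
    apply Multiplicative.toAdd.injective
    ext i
    fin_cases i <;> simp [a, b]

end Cfsg.Agent.S3374
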