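import Cfsg.Statements.S3390
import Cfsg.Agent.INV.IndexTwo
import Cfsg.Agent.INV.DQRecog
import Cfsg.Agent.S3224
import Cfsg.Agent.SOLV.Basic

set_option autoImplicit false
open Cfsg

namespace Cfsg.Agent.S3390

open Subgroup MulAction

theorem exists_index_two_ext {G : Type*} [Group G] [Finite G] {S T : Subgroup G} (hS : Odd S.index)
    (hT : T.relIndex S = 2) (hf : ∀ x ∈ T, x ∈ S → ∀ g : G, g * x * g⁻¹ ∈ S → g * x * g⁻¹ ∈ T) :
    ∃ N : Subgroup G, N.index = 2 ∧ ∀ x ∈ S, x ∈ N ↔ x ∈ T := by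
  obtain ⟨ϕ, hϕ⟩ := CL.Iso.exists_sign_hom (M := T.subgroupOf S) hT
  have hle : S.focalSubgroupOf ≤ ϕ.ker := by
    rw [focalSubgroupOf_eq_closure, closure_le]
    rintro g ⟨x, hx, u, hg⟩
    have h1 : u * x⁻¹ * u⁻¹ ∈ S := by
      have := mul_mem (inv_mem hx) g.2
      rwa [hg, commutatorElement_def, mul_assoc x, mul_assoc x, inv_mul_cancel_left] at this
    have h2 : g = ⟨x, hx⟩ * ⟨_, h1⟩ := Subtype.ext (by rw [hg, commutatorElement_def]; simp [mul_assoc])
    rw [SetLike.mem_coe, MonoidHom.mem_ker, hϕ, h2, mul_mem_iff_of_index_two hT, mem_subgroupOf,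
      mem_subgroupOf]
    refine ⟨fun h => hf _ (inv_mem h) (inv_mem hx) u h1, fun h => ?_⟩
    have := hf _ h h1 u⁻¹ (by simpa [mul_assoc] using hx)
    simpa [mul_assoc] using this
  let V : G →* ℤˣ := (QuotientGroup.lift _ ϕ hle).comp S.transferFocal
  have hV : ∀ x : S, V x = ϕ x := fun x => by
    simp only [V, MonoidHom.comp_apply, transferFocal_eq_pow, map_pow, QuotientGroup.lift_mk]
    rcases Int.units_eq_one_or (ϕ x) with h | h <;> rw [h]
    · exact one_pow _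
    · exact hS.neg_one_pow
  obtain ⟨s, hs⟩ : ∃ s : S, s ∉ T.subgroupOf S := by
    by_contra h
    push Not at h
    have : T.subgroupOf S = ⊤ := eq_top_iff.mpr fun x _ => h x
    rw [relIndex, this, index_top] at hT
    omega
  refine ⟨V.ker, CL.Iso.index_ker_eq_two_of_sign V (x := s) (by rw [hV, Ne, hϕ]; exact hs),
    fun x hx => ?_⟩
  rw [MonoidHom.mem_ker, hV ⟨x, hx⟩, hϕ, mem_subgroupOf]

theorem half_le {H Ω : Type*} [Group H] [Finite H] [MulAction H Ω] (β : Ω)
    (hβ : stabilizer H β ≠ ⊥)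
    (h1 : ∀ h : H, h ≠ 1 → ∀ a ∈ orbit H β, ∀ b ∈ orbit H β, h • a = a → h • b = b → a = b) :
    Nat.card H ≤ 2 * {h : H | h ≠ 1 ∧ ∃ a ∈ orbit H β, h • a = a}.ncard := by
  classical
  let f : (H ⧸ stabilizer H β) × {t : stabilizer H β // t ≠ 1} →
      {h : H | h ≠ 1 ∧ ∃ a ∈ orbit H β, h • a = a} := fun p =>
    ⟨p.1.out * p.2.1 * p.1.out⁻¹, fun h => p.2.2 (Subtype.ext (by simpa using h)),
      p.1.out • β, mem_orbit _ _, by
        rw [mul_smul, inv_smul_smul, mul_smul, mem_stabilizer_iff.mp p.2.1.2]⟩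
  have hf : Function.Injective f := by
    rintro ⟨q, t⟩ ⟨q', t'⟩ h
    have e : q.out * t.1 * q.out⁻¹ = q'.out * t'.1 * q'.out⁻¹ := congrArg Subtype.val h
    have h2 := h1 _ (f (q, t)).2.1 (q.out • β) (mem_orbit _ _) (q'.out • β) (mem_orbit _ _)
      (by simp only [f]; rw [mul_smul, inv_smul_smul, mul_smul, mem_stabilizer_iff.mp t.1.2])
      (by simp only [f]; rw [e, mul_smul, inv_smul_smul, mul_smul, mem_stabilizer_iff.mp t'.1.2])
    obtain rfl : q = q' := by
      rw [← q.out_eq', ← q'.out_eq', QuotientGroup.eq, mem_stabilizer_iff, mul_smul, ← h2,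
        inv_smul_smul]
    exact Prod.ext rfl (Subtype.ext (Subtype.ext (by simpa using e)))
  have h2 := Nat.card_le_card_of_injective f hf
  rw [Nat.card_prod, Nat.card_coe_set_eq] at h2
  have h3 := card_eq_card_quotient_mul_card_subgroup (stabilizer H β)
  have h4 : Nat.card {t : stabilizer H β // t ≠ 1} + 1 = Nat.card (stabilizer H β) := by
    have := Fintype.ofFinite (stabilizer H β)
    have h3 : 0 < Fintype.card (stabilizer H β) := Fintype.card_pos
    simp only [Nat.card_eq_fintype_card, Fintype.card_subtype_compl, Fintype.card_unique]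
    omega
  have h5 := (one_lt_card_iff_ne_bot _).mpr hβ
  nlinarith

theorem two_orbits {H Ω : Type*} [Group H] [Finite H] [MulAction H Ω] (α β γ : Ω)
    (hα : ∀ h : H, h • α = α) (hβα : β ≠ α) (hγα : γ ≠ α)
    (hβ : stabilizer H β ≠ ⊥) (hγ : stabilizer H γ ≠ ⊥)
    (h3 : ∀ g : H, g ≠ 1 → ∀ a b c : Ω, g • a = a → g • b = b → g • c = c → a = b ∨ a = c ∨ b = c) :
    β ∈ orbit H γ := by
  by_contra hne
  have hn : ∀ δ, δ ≠ α → ∀ a ∈ orbit H δ, a ≠ α := by
    rintro δ hδ _ ⟨h, rfl⟩ h1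
    exact hδ (by rw [← hα h⁻¹, ← h1, inv_smul_smul])
  have h1 : ∀ h : H, h ≠ 1 → ∀ a b : Ω, a ≠ α → b ≠ α → h • a = a → h • b = b → a = b :=
    fun h hh a b ha hb e1 e2 =>
      ((h3 h hh a b α e1 e2 (hα h)).resolve_right (not_or.mpr ⟨ha, hb⟩))
  have hA := half_le β hβ fun h hh a ha b hb => h1 h hh a b (hn β hβα a ha) (hn β hβα b hb)
  have hB := half_le γ hγ fun h hh a ha b hb => h1 h hh a b (hn γ hγα a ha) (hn γ hγα b hb)
  set A := {h : H | h ≠ 1 ∧ ∃ a ∈ orbit H β, h • a = a}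
  set B := {h : H | h ≠ 1 ∧ ∃ a ∈ orbit H γ, h • a = a}
  have hd : Disjoint A B := Set.disjoint_left.mpr fun h ⟨hh, a, ha, e1⟩ ⟨_, b, hb, e2⟩ => by
    obtain rfl := h1 h hh a b (hn β hβα a ha) (hn γ hγα b hb) e1 e2
    exact hne ((orbit_eq_iff.mpr hb) ▸ mem_orbit_symm.mp ha)
  have h4 : (A ∪ B).ncard < Nat.card H := by
    rw [← Set.ncard_univ]
    exact Set.ncard_lt_ncard ⟨Set.subset_univ _, fun h => by
      rcases h (Set.mem_univ 1) with h | h <;> exact h.1 rfl⟩
  rw [Set.ncard_union_eq hd] at h4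
  omega

theorem dih {P Ω : Type*} [Group P] [Finite P] [MulAction P Ω] (hP : IsPGroup 2 P)
    (h3 : ∀ g : P, g ≠ 1 → ∀ a b c : Ω, g • a = a → g • b = b → g • c = c → a = b ∨ a = c ∨ b = c)
    (ω : Ω) (h0 : stabilizer P ω ≠ ⊥) (h1 : stabilizer P ω ≠ ⊤) (h2 : (stabilizer P ω).index ≠ 2) :
    Nat.card (stabilizer P ω) = 2 ∧
      ((∃ n : ℕ, Nonempty (P ≃* DihedralGroup n)) ∨ Cfsg.IsQuasiDihedral P) := by
  haveI := hP.isNilpotent
  have hnc : NormalizerCondition P := Group.normalizerCondition_of_isNilpotent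
  set T := stabilizer P ω with hT
  set N := normalizer (T : Set P) with hN
  obtain ⟨n, hnN, hnT⟩ := SetLike.exists_of_lt (hnc T (lt_top_iff_ne_top.mpr h1))
  have hfix : ∀ m ∈ N, ∀ t ∈ T, t • m • ω = m • ω := fun m hm t ht => by
    have := (mem_normalizer_iff''.mp hm t).mp ht
    rw [mem_stabilizer_iff, mul_smul, mul_smul, inv_smul_eq_iff] at this
    exact this
  obtain ⟨⟨t, ht⟩, ht1⟩ := ne_bot_iff_exists_ne_one.mp h0
  have ht1 : t ≠ 1 := fun h => ht1 (Subtype.ext h)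
  have hd : ∀ m ∈ N, n⁻¹ * m ∈ T ∨ m ∈ T := fun m hm => by
    rcases h3 t ht1 ω (n • ω) (m • ω) ht (hfix n hnN t ht) (hfix m hm t ht) with h | h | h
    · exact absurd h.symm hnT
    · exact Or.inr h.symm
    · left; rw [mem_stabilizer_iff, mul_smul, ← h, inv_smul_smul]
  have hi : T.relIndex N = 2 := relIndex_eq_two_iff_exists_notMem_and'.mpr
    ⟨n⁻¹, inv_mem hnN, by rwa [inv_mem_iff], hd⟩
  have hNt : N ≠ ⊤ := fun h => h2 (by rwa [h, relIndex_top_right] at hi)
  obtain ⟨y, hyN, hy⟩ := SetLike.exists_of_lt (hnc N (lt_top_iff_ne_top.mpr hNt))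
  have hc : ∀ x ∈ T, y * x * y⁻¹ ∈ N := fun x hx =>
    (mem_normalizer_iff.mp hyN x).mp (le_normalizer hx)
  have hc' : ∀ x ∈ T, y * x * y⁻¹ ∈ T → x = 1 := fun x hx hx' => by
    by_contra hx1
    rcases h3 (y * x * y⁻¹) (by simpa using hx1) ω (n • ω) (y • ω) hx' (hfix n hnN _ hx')
      (by rw [mul_smul, inv_smul_smul, mul_smul, mem_stabilizer_iff.mp hx]) with h | h | h
    · exact hnT h.symm
    · exact hy (le_normalizer h.symm)
    · refine hy ((mul_mem_cancel_left (inv_mem hnN)).mp (le_normalizer ?_))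
      rw [mem_stabilizer_iff, mul_smul, ← h, inv_smul_smul]
  have hu : ∀ x ∈ T, x ≠ 1 → x = t := fun x hx hx1 => by
    have h4 := (mul_mem_iff_of_index_two hi (a := ⟨_, hc _ (inv_mem ht)⟩) (b := ⟨_, hc _ hx⟩)).mpr
      (iff_of_false (fun h => ht1 (inv_eq_one.mp (hc' _ (inv_mem ht) h))) (fun h => hx1 (hc' _ hx h)))
    have h5 := hc' (t⁻¹ * x) (mul_mem (inv_mem ht) hx) (by simpa [mem_subgroupOf, mul_assoc] using h4)
    exact (inv_mul_eq_one.mp h5).symm
  have hT2 : Nat.card T = 2 := (Nat.card_eq_two_iff' 1).mpr ⟨⟨t, ht⟩,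
    fun h => ht1 (congrArg Subtype.val h), fun x hx => Subtype.ext (hu x x.2 fun h => hx (Subtype.ext h))⟩
  have hN4 : Nat.card N = 4 := by
    rw [← CL.card_inf_mul_relIndex T N, hi, inf_eq_left.mpr le_normalizer, hT2]
  have hto : orderOf t = 2 := by
    have h4 : orderOf t ∣ 2 := hT2 ▸ orderOf_dvd_natCard T ht
    exact ((Nat.dvd_prime Nat.prime_two).mp h4).resolve_left (by simpa using ht1)
  have hC : centralizer ({t} : Set P) = N := by
    ext g
    rw [mem_centralizer_singleton_iff]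
    constructor
    · intro h
      refine mem_normalizer_fintype fun x hx => ?_
      by_cases hx1 : x = 1
      · rw [hx1]; simp
      · rw [hu x hx hx1, h, mul_inv_cancel_right]; exact ht
    · intro h
      rw [← mul_inv_eq_iff_eq_mul]
      exact hu _ ((mem_normalizer_iff.mp h t).mp ht) (by simpa using ht1)
  refine ⟨hT2, ?_⟩
  rcases Cfsg.Agent.S3224.result hP t hto (hC ▸ hN4) with h | h | h
  · exact Or.inl h
  · exact Or.inr h
  · exact absurd (eq_top_of_card_eq N (hN4.trans h.symm)) hNt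

/-- Let G be a finite group acting faithfully and transitively on a finite set Ω with fixity 2 (every non-identity element fixes at most two points, and some fixes exactly two). Let α ∈ Ω and S a Sylow 2-subgroup of G. Then one of the following holds: the stabilizer S_α of α in S is trivial; S is dihedral or semidihedral and either |S_α| = 2 or |S : S_α| = 2; |S| ≥ 4, S has exactly one orbit of size 2 on Ω, every other S-orbit is regular, and G has a normal subgroup of index 2 or of index |S| which is a Frobenius group; or S ≤ G_α. -/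
theorem result {G : Type*} [Group G] [Finite G] {Ω : Type*} [Fintype Ω] [MulAction G Ω] [FaithfulSMul G Ω] (htr : MulAction.IsPretransitive G Ω)
    (hfix : ∀ g : G, g ≠ 1 → Nat.card (MulAction.fixedBy Ω g) ≤ 2) (hex : ∃ g : G, g ≠ 1 ∧ Nat.card (MulAction.fixedBy Ω g) = 2) (α : Ω) (S : Sylow 2 G) :
    (S : Subgroup G) ⊓ MulAction.stabilizer G α = ⊥ ∨
    (((∃ n : ℕ, Nonempty (↥(S : Subgroup G) ≃* DihedralGroup n)) ∨ Cfsg.IsQuasiDihedral ↥(S : Subgroup G)) ∧
       (Nat.card ↥((S : Subgroup G) ⊓ MulAction.stabilizer G α) = 2 ∨ ((S : Subgroup G) ⊓ MulAction.stabilizer G α).relIndex (S : Subgroup G) = 2)) ∨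
    (4 ≤ Nat.card (S : Subgroup G) ∧
       (∃ ω : Ω, Nat.card (MulAction.orbit ↥(S : Subgroup G) ω) = 2 ∧
          ∀ ω' : Ω, ω' ∉ MulAction.orbit ↥(S : Subgroup G) ω → Nat.card (MulAction.orbit ↥(S : Subgroup G) ω') = Nat.card (S : Subgroup G)) ∧
       ∃ N : Subgroup G, N.Normal ∧ (N.index = 2 ∨ N.index = Nat.card (S : Subgroup G)) ∧ (∃ H : Subgroup ↥N, Cfsg.IsFrobeniusComplement H)) ∨
    (S : Subgroup G) ≤ MulAction.stabilizer G α := by
  have h3 : ∀ g : G, g ≠ 1 → ∀ a b c : Ω, g • a = a → g • b = b → g • c = c →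
      a = b ∨ a = c ∨ b = c := by
    intro g hg a b c ha hb hc
    by_contra h
    push Not at h
    have h1 : ({a, b, c} : Set Ω) ⊆ fixedBy Ω g := by
      rintro x (rfl | rfl | rfl) <;> assumption
    have h2 := Set.ncard_le_ncard h1
    rw [Set.ncard_eq_three.mpr ⟨a, b, c, h.1, h.2.1, h.2.2, rfl⟩, ← Nat.card_coe_set_eq] at h2
    have := hfix g hg
    omega
  have h3S : ∀ g : (S : Subgroup G), g ≠ 1 → ∀ a b c : Ω, g • a = a → g • b = b → g • c = c →
      a = b ∨ a = c ∨ b = c := fun g hg => h3 g (fun h => hg (Subtype.ext h))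
  have hst : ∀ ω : Ω, stabilizer (S : Subgroup G) ω = ((S : Subgroup G) ⊓ stabilizer G ω).subgroupOf S :=
    fun ω => by ext x; simp [mem_subgroupOf]; rfl
  by_cases h0 : stabilizer (S : Subgroup G) α = ⊥
  · left
    rw [hst, subgroupOf_eq_bot] at h0
    exact h0.eq_bot_of_le inf_le_left
  by_cases h1 : stabilizer (S : Subgroup G) α = ⊤
  · right; right; right
    intro x hx
    exact (h1 ▸ mem_top _ : (⟨x, hx⟩ : (S : Subgroup G)) ∈ stabilizer _ α)
  right
  by_cases h2 : (stabilizer (S : Subgroup G) α).index = 2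
  swap
  · obtain ⟨h4, h5⟩ := dih S.isPGroup' h3S α h0 h1 h2
    rw [hst, Nat.card_congr (subgroupOfEquivOfLe inf_le_left).toEquiv] at h4
    exact Or.inl ⟨h5, Or.inl h4⟩
  have h2' : ((S : Subgroup G) ⊓ stabilizer G α).relIndex S = 2 := by rw [relIndex, ← hst, h2]
  obtain ⟨s, hs, hs'⟩ := index_eq_two_iff_exists_notMem_and'.mp h2
  haveI := normal_of_index_eq_two h2
  have hβ : ∀ g : (S : Subgroup G), ∀ t ∈ stabilizer (S : Subgroup G) α, t • g • α = g • α :=
    fun g t ht => by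
      have := this.conj_mem t ht g⁻¹
      rw [mem_stabilizer_iff, inv_inv, mul_smul, mul_smul, inv_smul_eq_iff] at this
      exact this
  obtain ⟨⟨t, ht⟩, ht1⟩ := ne_bot_iff_exists_ne_one.mp h0
  have ht1 : t ≠ 1 := fun h => ht1 (Subtype.ext h)
  have hcard := (stabilizer (S : Subgroup G) α).card_mul_index
  rw [h2] at hcard
  by_cases h4 : ∃ γ, γ ∉ orbit (S : Subgroup G) α ∧ stabilizer (S : Subgroup G) γ ≠ ⊥
  · left
    refine ⟨?_, Or.inr h2'⟩
    obtain ⟨γ, hγ, hγ0⟩ := h4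
    have hd : ∀ x ∈ stabilizer (S : Subgroup G) α, x ∈ stabilizer (S : Subgroup G) γ → x = 1 :=
      fun x hx hx' => by
        by_contra hx1
        rcases h3S x hx1 α (s • α) γ hx (hβ s x hx) hx' with h | h | h
        · exact hs h.symm
        · exact hγ (h ▸ mem_orbit_self _)
        · exact hγ (h ▸ mem_orbit _ _)
    by_cases h5 : (stabilizer (S : Subgroup G) γ).index = 2
    swap
    · exact (dih S.isPGroup' h3S γ hγ0 (fun h => ht1 (hd t ht (h ▸ mem_top _))) h5).2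
    obtain ⟨⟨y, hy⟩, hy1⟩ := ne_bot_iff_exists_ne_one.mp hγ0
    have hy1 : y ≠ 1 := fun h => hy1 (Subtype.ext h)
    have hu : ∀ x ∈ stabilizer (S : Subgroup G) α, x ≠ 1 → x = t⁻¹ := fun x hx hx1 =>
      eq_inv_of_mul_eq_one_left (hd _ (mul_mem hx ht) ((mul_mem_iff_of_index_two h5).mpr
        (iff_of_false (fun h => hx1 (hd x hx h)) (fun h => ht1 (hd t ht h)))))
    have hT2 : Nat.card (stabilizer (S : Subgroup G) α) = 2 := (Nat.card_eq_two_iff' 1).mpr
      ⟨⟨t⁻¹, inv_mem ht⟩, fun h => ht1 (inv_eq_one.mp (congrArg Subtype.val h)),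
        fun x hx => Subtype.ext (hu x x.2 fun h => hx (Subtype.ext h))⟩
    refine Or.inl ⟨2, CL.DQ.dihedral_of_card two_ne_zero t y (orderOf_eq_prime (by
      rw [pow_two]; nth_rewrite 1 [hu t ht ht1]; exact inv_mul_cancel t) ht1)
      (hd _ (mul_self_mem_of_index_two h2 y) (mul_mem hy hy))
      (hu _ (this.conj_mem t ht y) (by simpa using ht1))
      (fun h => hy1 (hd y (zpowers_le.mpr ht h) hy)) (by rw [← hcard, hT2])⟩
  right; left
  push Not at h4
  have hF : ∀ x ∈ (S : Subgroup G), ∀ ω : Ω, x • ω = ω → x • α = α := fun x hx ω h => by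
    by_cases hω : ω ∈ orbit (S : Subgroup G) α
    · obtain ⟨g, rfl⟩ := hω
      have h5 : g⁻¹ * ⟨x, hx⟩ * g ∈ stabilizer (S : Subgroup G) α := by
        rw [mem_stabilizer_iff, mul_smul, mul_smul, inv_smul_eq_iff]; exact h
      have := this.conj_mem _ h5 g
      simpa [mul_assoc] using this
    · have : (⟨x, hx⟩ : (S : Subgroup G)) ∈ stabilizer (S : Subgroup G) ω := h
      rw [h4 ω hω, mem_bot] at this
      rw [show x = 1 from congrArg Subtype.val this, one_smul]
  refine ⟨by have := (one_lt_card_iff_ne_bot _).mpr h0; omega, ⟨α, ?_, fun ω hω => ?_⟩, ?_⟩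
  · rw [Nat.card_coe_set_eq, ← index_stabilizer, h2]
  · rw [Nat.card_coe_set_eq, ← index_stabilizer, h4 ω hω, index_bot]
  obtain ⟨N, hN, hNS⟩ := exists_index_two_ext (CL.Iso.sylow_two_odd_index S) h2'
    (fun x hx _ g hg => ⟨hg, hF _ hg (g • α) (by
      rw [mul_smul, inv_smul_smul, mul_smul, mem_stabilizer_iff.mp hx.2])⟩)
  haveI hNn := normal_of_index_eq_two hN
  have hGN : stabilizer G α ≤ N := by
    intro y hy
    obtain ⟨a, m, hm, hy2⟩ := Nat.exists_eq_two_pow_mul_odd (orderOf_pos y).ne'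
    have h5 : IsPGroup 2 (zpowers (y ^ m)) := IsPGroup.of_card (n := a) (by
      rw [Nat.card_zpowers, orderOf_pow' _ hm.pos.ne', hy2, Nat.gcd_eq_right (Dvd.intro_left _ rfl),
        Nat.mul_div_cancel _ hm.pos])
    obtain ⟨R, hR⟩ := h5.exists_le_sylow
    obtain ⟨k, rfl⟩ := exists_smul_eq G S R
    have h6 : k⁻¹ * y ^ m * k ∈ (S : Subgroup G) := by
      have := hR (mem_zpowers _)
      rwa [Sylow.coe_subgroup_smul, mem_pointwise_smul_iff_inv_smul_mem, ← map_inv, MulAut.smul_def,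
        MulAut.conj_apply, inv_inv] at this
    have h7 := (hNS _ h6).mpr ⟨h6, hF _ h6 (k⁻¹ • α) (by
      rw [mul_smul, smul_inv_smul, mul_smul, mem_stabilizer_iff.mp (pow_mem hy m)])⟩
    have h8 : y ^ m ∈ N := by simpa [mul_assoc] using hNn.conj_mem _ h7 k
    obtain ⟨j, rfl⟩ := hm
    rw [pow_succ, pow_mul] at h8
    exact (mul_mem_cancel_left (pow_mem (sq_mem_of_index_two hN y) j)).mp h8
  have htG : (t : G) ≠ 1 := fun h => ht1 (Subtype.ext h)
  refine ⟨N, hNn, Or.inl hN, (stabilizer G α).subgroupOf N, ?_, ?_, ?_⟩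
  · exact ne_bot_iff_exists_ne_one.mpr ⟨⟨⟨t, hGN ht⟩, ht⟩, fun h =>
      htG (congrArg (fun x => x.1.1) h)⟩
  · intro h
    rw [subgroupOf_eq_top] at h
    refine htG (eq_of_smul_eq_smul (α := Ω) fun ω => ?_)
    obtain ⟨g, rfl⟩ := exists_smul_eq G α ω
    have := h (hNn.conj_mem _ (hGN ht) g⁻¹)
    rw [mem_stabilizer_iff, inv_inv, mul_smul, mul_smul, inv_smul_eq_iff] at this
    rw [this, one_smul]
  · intro g hg
    rw [eq_bot_iff]
    rintro x ⟨hx, hx'⟩
    by_contra hx1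
    obtain ⟨y, hy, rfl⟩ := (mem_smul_pointwise_iff_exists _ _ _).mp hx'
    have h5 := two_orbits (H := stabilizer G α) α (s • α) ((g : G) • α) (fun h => h.2) hs hg
      (ne_bot_iff_exists_ne_one.mpr ⟨⟨⟨t, ht⟩, hβ s t ht⟩, fun h => htG (congrArg (fun x => x.1.1) h)⟩)
      (ne_bot_iff_exists_ne_one.mpr ⟨⟨⟨_, hx⟩, by
        change ((g : G) * y * (g : G)⁻¹) • (g : G) • α = _
        rw [mul_smul, inv_smul_smul, mul_smul, show (y : G) • α = α from hy]⟩,
        fun h => hx1 (Subtype.ext (congrArg (fun x => x.1.1) h))⟩)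
      (fun g hg => h3 g (fun h => hg (Subtype.ext h)))
    obtain ⟨h, hh⟩ := h5
    have h6 : (s : G)⁻¹ * (h * g) ∈ N := hGN (by
      rw [mem_stabilizer_iff, mul_smul, inv_smul_eq_iff, mul_smul]; exact hh)
    rw [mul_mem_cancel_right (mul_mem (hGN h.2) g.2), inv_mem_iff, hNS _ s.2] at h6
    exact hs h6.2

end Cfsg.Agent.S3390
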