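import Cfsg.Statements.S3396
import Cfsg.Agent.FGS.CITSpec
import Cfsg.Agent.SPOR.GraphIso
set_option autoImplicit false
open Cfsg

namespace Cfsg.Agent.S3396

open CL CL.CITC Subgroup

/-- Let G be a finite group whose order has at least three distinct prime divisors, and suppose every nonidentity element of G has order a power of 2 or a prime other than 5. Then G is isomorphic to PSL₂(7) (here F is any field with 7 elements). In particular a finite group whose set of element orders is {1, 2, 3, 4, 7} is PSL₂(7). -/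
theorem result {G : Type*} [Group G] [Finite G]
    {F : Type*} [Field F] [Fintype F] (hF : Fintype.card F = 7)
    (h3 : 3 ≤ (Nat.card G).primeFactors.card)
    (hord : ∀ g : G, g ≠ 1 → (∃ k : ℕ, orderOf g = 2 ^ k) ∨ ((orderOf g).Prime ∧ orderOf g ≠ 5)) :
    Nonempty (G ≃* Matrix.ProjectiveSpecialLinearGroup (Fin 2) F) := by
  have h : Eppo G := fun g hg => (hord g hg).elim (fun ⟨k, hk⟩ => (isPrimePow_nat_iff _).2
    ⟨2, k, Nat.prime_two, Nat.pos_of_ne_zero (by rintro rfl; exact hg (orderOf_eq_one_iff.1 hk)),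
      hk.symm⟩) fun h => h.1.isPrimePow
  have h5 : ¬ 5 ∣ Nat.card G := fun h5 => by
    have := Fact.mk Nat.prime_five
    obtain ⟨g, hg⟩ := exists_prime_orderOf_dvd_card' 5 h5
    rcases hord g (by rintro rfl; simp at hg) with ⟨k, hk⟩ | h
    · exact absurd (Nat.prime_five.dvd_of_dvd_pow (hk ▸ hg.symm.dvd)) (by decide)
    · exact h.2 hg
  have h9 : ∀ g : G, ¬ 9 ∣ orderOf g := fun g h9 => by
    rcases hord g (by rintro rfl; simp at h9) with ⟨k, hk⟩ | h
    · exact absurd (Nat.prime_three.dvd_of_dvd_pow (hk ▸ dvd_trans (by decide) h9)) (by decide)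
    · rcases (Nat.dvd_prime h.1).1 h9 with h1 | h1
      · omega
      · exact absurd (h1 ▸ h.1) (by decide)
  have hQ : ¬ 5 ∣ Nat.card (G ⧸ pCore 2 G) := fun h => h5 (h.trans (card_quotient_dvd_card _))
  rcases h.struct (h.not_isSolvable h3) with ⟨K, _, _, h1 | h1, ⟨e⟩⟩ |
    ⟨K, _, _, ⟨h1, ⟨e⟩⟩ | ⟨h1, ⟨e⟩⟩⟩ | ⟨-, ⟨K, _, _, h1 | h1, ⟨e⟩⟩ | ⟨K, _, _, h1, ⟨e⟩⟩ | ⟨N, -, -, ⟨e⟩⟩⟩
  · exact absurd (card_psl2_even (n := 2) h1 e ▸ by decide) hQ
  · obtain ⟨g, hg⟩ := (spec_psl2_even (n := 3) (by decide) h1 e 9).2 (by decide)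
    obtain ⟨g, rfl⟩ := QuotientGroup.mk'_surjective _ g
    exact absurd (hg ▸ orderOf_map_dvd _ g) (h9 g)
  · exact absurd (card_suzuki (m := 1) h1 e ▸ by decide) hQ
  · exact absurd (card_suzuki (m := 2) h1 e ▸ by decide) hQ
  · exact ⟨e.trans (Graph.pslCongr (FiniteField.ringEquivOfCardEq (h1.trans hF.symm)))⟩
  · obtain ⟨g, hg⟩ := (spec_psl2_prime (h1 ▸ by decide) (by omega) e 9).2 (h1 ▸ by decide)
    exact absurd hg.symm.dvd (h9 g)
  · exact absurd (by rw [Nat.card_congr e.toEquiv, card_psl3_four h1]; decide) h5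
  · refine absurd (dvd_trans ?_ (card_subgroup_dvd_card N)) h5
    rw [Nat.card_congr e.toEquiv, nat_card_alternatingGroup]; simp [Nat.factorial]

end Cfsg.Agent.S3396
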