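import Cfsg.Statements.S3406
import Cfsg.Agent.PERM.NoFour
import Cfsg.Agent.S0252
import Cfsg.Agent.S0253
import Cfsg.Agent.S0254

set_option autoImplicit false
open Cfsg

namespace Cfsg.Agent.S3406


open Subgroup

/-- `n` is an element order -/
def Ord (G : Type*) [Group G] (n : ℕ) : Prop := ∃ g : G, orderOf g = n

/-- at most five element orders -/
def Few (G : Type*) [Group G] : Prop :=
  ∀ a b c d e f : ℕ, Ord G a → Ord G b → Ord G c → Ord G d → Ord G e → Ord G f →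
    ¬ [a, b, c, d, e, f].Nodup

theorem few_of {G : Type*} [Group G] [Finite G]
    (h5 : Nat.card (MulAction.orbitRel.Quotient (MulAut G) G) ≤ 5) : Few G := by
  classical
  intro a b c d e f ha hb hc hd he hf hn
  let φ : MulAction.orbitRel.Quotient (MulAut G) G → ℕ := Quotient.lift orderOf fun x y h => by
    obtain ⟨σ, rfl⟩ := MulAction.orbitRel_apply.1 h
    exact σ.orderOf_eq y
  have := Fintype.ofFinite (MulAction.orbitRel.Quotient (MulAut G) G)
  have h1 : [a, b, c, d, e, f].toFinset ⊆ Finset.univ.image φ := fun n hn => by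
    obtain ⟨g, rfl⟩ : Ord G n := by
      simp only [List.mem_toFinset, List.mem_cons, List.not_mem_nil, or_false] at hn
      rcases hn with rfl | rfl | rfl | rfl | rfl | rfl <;> assumption
    exact Finset.mem_image.2 ⟨Quotient.mk _ g, Finset.mem_univ _, rfl⟩
  have h2 := (Finset.card_le_card h1).trans Finset.card_image_le
  rw [List.toFinset_card_of_nodup hn, Finset.card_univ, ← Nat.card_eq_fintype_card] at h2
  simp only [List.length_cons, List.length_nil] at h2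
  omega

theorem ord_one {G : Type*} [Group G] : Ord G 1 := ⟨1, orderOf_one⟩

theorem ord_prime {G : Type*} [Group G] [Finite G] {p : ℕ} (hp : p.Prime) (h : p ∣ Nat.card G) :
    Ord G p :=
  have := Fact.mk hp
  exists_prime_orderOf_dvd_card' p h

theorem ord_two_mul {G : Type*} [Group G] [Finite G] {t : G} (ht : orderOf t = 2) {p : ℕ}
    (hp : p.Prime) (h2 : p ≠ 2) (h : p ∣ Nat.card (centralizer ({t} : Set G))) : Ord G (2 * p) := by
  obtain ⟨x, hx⟩ := ord_prime hp h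
  rw [← orderOf_coe] at hx
  refine ⟨t * x, ?_⟩
  rw [(show Commute t x from (mem_centralizer_singleton_iff.1 x.2).symm).orderOf_mul_eq_mul_orderOf_of_coprime
    (by rw [ht, hx]; exact (Nat.coprime_primes Nat.prime_two hp).2 h2.symm), ht, hx]

theorem psl2 {G F : Type*} [Group G] [Finite G] [Field F] [Fintype F] (h : Few G)
    (h4 : 4 ≤ Fintype.card F) (e : G ≃* Matrix.ProjectiveSpecialLinearGroup (Fin 2) F) :
    Fintype.card F = 4 ∨ Fintype.card F = 5 ∨ Fintype.card F = 7 ∨ Fintype.card F = 8 ∨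
      Fintype.card F = 9 := by
  obtain ⟨p, _, n, hp, hn⟩ := FiniteField.card' F
  have := Fact.mk hp
  have h1 := S2475.result (F := F) p h4
  rw [← CL.Spec.range_orderOf_congr e] at h1
  have h2 : ∀ m, m ∣ p ∨ m ∣ (Fintype.card F - 1) / Nat.gcd 2 (Fintype.card F - 1) ∨
      m ∣ (Fintype.card F + 1) / Nat.gcd 2 (Fintype.card F - 1) → Ord G m := fun m hm =>
    (Set.ext_iff.1 h1 m).2 hm
  have hpq : p ∣ Fintype.card F := hn ▸ dvd_pow_self p n.ne_zero
  have hp2 := hp.two_le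
  by_contra hq
  rcases Nat.even_or_odd (Fintype.card F) with hev | hodd
  · obtain rfl : p = 2 := ((Nat.prime_dvd_prime_iff_eq Nat.prime_two hp).1
      (Nat.prime_two.dvd_of_dvd_pow (hn ▸ even_iff_two_dvd.1 hev))).symm
    rw [CL.PGL2.gcd_two_of_even hev (by omega), Nat.div_one, Nat.div_one] at h2
    have h16 : 16 ≤ Fintype.card F := by
      rw [hn] at hq h4 ⊢
      generalize (n : ℕ) = k at hq h4 ⊢
      by_contra h0
      have : k < 4 := by
        by_contra h5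
        exact h0 (Nat.pow_le_pow_right (n := 2) (i := 4) two_pos (by omega))
      interval_cases k <;> simp at hq h4
    have h3 : ¬ 3 ∣ Fintype.card F := fun h => absurd (Nat.prime_three.dvd_of_dvd_pow (hn ▸ h))
      (by decide)
    obtain ⟨k, hk⟩ := hev
    generalize Fintype.card F = q at *
    obtain ⟨c, hc | hc⟩ : ∃ c, q - 1 = 3 * c ∨ q + 1 = 3 * c := by
      rcases (show q % 3 = 1 ∨ q % 3 = 2 by omega) with h0 | h0
      exacts [⟨q / 3, .inl (by omega)⟩, ⟨q / 3 + 1, .inr (by omega)⟩]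
    · refine h 1 2 3 c (q - 1) (q + 1) ord_one (h2 _ (.inl dvd_rfl)) (h2 _ (.inr (.inl ⟨c, hc⟩)))
        (h2 _ (.inr (.inl ⟨3, by omega⟩))) (h2 _ (.inr (.inl dvd_rfl))) (h2 _ (.inr (.inr dvd_rfl))) ?_
      simp
      omega
    · refine h 1 2 3 c (q - 1) (q + 1) ord_one (h2 _ (.inl dvd_rfl)) (h2 _ (.inr (.inr ⟨c, hc⟩)))
        (h2 _ (.inr (.inr ⟨3, by omega⟩))) (h2 _ (.inr (.inl dvd_rfl))) (h2 _ (.inr (.inr dvd_rfl))) ?_
      simp
      omega
  · rw [CL.PGL2.gcd_two_of_odd hodd] at h2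
    obtain ⟨a, ha⟩ := hodd
    rw [ha, show (2 * a + 1 - 1) / 2 = a by omega, show (2 * a + 1 + 1) / 2 = a + 1 by omega] at h2
    rw [ha] at hpq hq h4
    have p1 : ¬ p ∣ a := fun h0 => hp.not_dvd_one ((Nat.dvd_add_right (h0.mul_left 2)).1 hpq)
    have p2 : ¬ p ∣ a + 1 := fun h0 => hp.not_dvd_one ((Nat.dvd_add_right hpq).1
      (by rw [show 2 * a + 1 + 1 = 2 * (a + 1) by ring]; exact h0.mul_left 2))
    have p3 : p ≠ 2 := by rintro rfl; omega
    have p4 : a ≠ p := fun h0 => p1 (h0 ▸ dvd_rfl)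
    have p5 : a + 1 ≠ p := fun h0 => p2 (h0 ▸ dvd_rfl)
    rcases Nat.even_or_odd' a with ⟨c, hc | hc⟩
    · have p6 : c ≠ p := fun h0 => p1 ⟨2, by omega⟩
      refine h 1 2 c a (a + 1) p ord_one (h2 _ (.inr (.inl ⟨c, hc⟩)))
        (h2 _ (.inr (.inl ⟨2, by omega⟩))) (h2 _ (.inr (.inl dvd_rfl))) (h2 _ (.inr (.inr dvd_rfl)))
        (h2 _ (.inl dvd_rfl)) ?_
      simp
      omega
    · have p6 : c + 1 ≠ p := fun h0 => p2 ⟨2, by omega⟩
      refine h 1 2 (c + 1) a (a + 1) p ord_one (h2 _ (.inr (.inr ⟨c + 1, by omega⟩)))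
        (h2 _ (.inr (.inr ⟨2, by omega⟩))) (h2 _ (.inr (.inl dvd_rfl))) (h2 _ (.inr (.inr dvd_rfl)))
        (h2 _ (.inl dvd_rfl)) ?_
      simp
      omega

theorem not_suzuki {G : Type*} [Group G] [Finite G] (h : Few G) : ¬ Lie.IsoSuzuki G := by
  rintro ⟨F, _, _, m, hm, hF, ⟨e⟩⟩
  have h1 := fun n => (CL.CITC.spec_suzuki hm hF e n).2
  refine h 1 2 4 (2 ^ (2 * m + 1) - 1) (CL.Sz.kPlus m) (CL.Sz.kMinus m) ord_one
    (h1 _ (.inl (by decide))) (h1 _ (.inl dvd_rfl)) (h1 _ (.inr (.inl dvd_rfl)))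
    (h1 _ (.inr (.inr (.inl dvd_rfl)))) (h1 _ (.inr (.inr (.inr dvd_rfl)))) ?_
  obtain ⟨k, rfl⟩ : ∃ k, m = k + 1 := ⟨m - 1, by omega⟩
  have e1 : 2 ^ (2 * (k + 1) + 1) = 8 * (2 ^ k * 2 ^ k) := by ring
  have e2 : 2 ^ (k + 1 + 1) = 4 * 2 ^ k := by ring
  have e3 : 2 ^ k ≤ 2 ^ k * 2 ^ k := Nat.le_mul_self _
  have e4 : 1 ≤ 2 ^ k := Nat.one_le_two_pow
  unfold CL.Sz.kPlus CL.Sz.kMinus
  rw [e1, e2]
  generalize 2 ^ k * 2 ^ k = y at *
  generalize 2 ^ k = x at *
  simp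
  omega

theorem not_psl3 {G F : Type*} [Group G] [Finite G] [Field F] [Fintype F] (h : Few G)
    (hF : Fintype.card F = 4) (e : G ≃* Matrix.ProjectiveSpecialLinearGroup (Fin 3) F) : False := by
  have hc : Nat.card G = 20160 := by rw [Nat.card_congr e.toEquiv, CL.CITC.card_psl3_four hF]
  exact h 1 2 3 4 5 7 ord_one (ord_prime Nat.prime_two (by rw [hc]; norm_num))
    (ord_prime Nat.prime_three (by rw [hc]; norm_num))
    (CL.NoFour.exists_four (CL.NoFour.not_nf_psl3_even (CL.CITC.two_eq_zero_of_card (n := 2) hF) e))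
    (ord_prime Nat.prime_five (by rw [hc]; norm_num)) (ord_prime (by norm_num) (by rw [hc]; norm_num))
    (by decide)

theorem iso_psl2 {G : Type*} [Group G] [Finite G] [IsSimpleGroup G] (hG : ¬ IsMulCommutative G)
    (h : Few G) : ∃ (F : Type) (_ : Field F) (_ : Fintype F), 4 ≤ Fintype.card F ∧
      Nonempty (G ≃* Matrix.ProjectiveSpecialLinearGroup (Fin 2) F) := by
  by_cases hC : ∀ t : G, orderOf t = 2 → IsPGroup 2 (centralizer ({t} : Set G))
  · rcases CL.CIT.simple hG hC with ⟨F, _, _, -, ⟨e⟩⟩ | ⟨F, _, _, hF, ⟨e⟩⟩ | h1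
    · exact ⟨F, _, _, CL.TwoNil.three_lt_of_psl2 hG e, ⟨e⟩⟩
    · exact (not_psl3 h hF e).elim
    · exact absurd h1 (not_suzuki h)
  push Not at hC
  obtain ⟨t, ht, hC⟩ := hC
  obtain ⟨r, hr, hrC, hr2⟩ : ∃ r : ℕ, r.Prime ∧ r ∣ Nat.card (centralizer ({t} : Set G)) ∧ r ≠ 2 := by
    by_contra! h0
    exact hC (IsPGroup.of_card (Nat.eq_prime_pow_of_unique_prime_dvd Nat.card_pos.ne'
      fun {d} h1 h2 => h0 d h1 h2))
  obtain ⟨q, hq, hqG, hq2⟩ : ∃ q : ℕ, q.Prime ∧ q ∣ Nat.card G ∧ ¬ (q = 2 ∨ q = r) := by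
    by_contra! h0
    exact CL.PSL2E.not_solvable_of_simple hG
      (CL.Char.isSolvable_of_primes_subset_pair Nat.prime_two hr h0)
  obtain ⟨a, ha⟩ := hr.odd_of_ne_two hr2
  obtain ⟨b, hb⟩ := hq.odd_of_ne_two fun h0 => hq2 (.inl h0)
  have r2 := hr.two_le
  have q2 := hq.two_le
  have key : ∀ n, Ord G n → n = 1 ∨ n = 2 ∨ n = r ∨ n = q ∨ n = 2 * r := fun n hn => by
    by_contra h0
    refine h 1 2 r q (2 * r) n ord_one ⟨t, ht⟩
      (ord_prime hr (hrC.trans (card_subgroup_dvd_card _))) (ord_prime hq hqG)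
      (ord_two_mul ht hr hr2 hrC) hn ?_
    simp
    omega
  refine CL.NoFour.simple hG (CL.NoFour.nf_of_forall fun g hg => ?_) fun s hs =>
    CL.Char.isSolvable_of_primes_subset_pair Nat.prime_two hr fun p hp hpC => ?_
  · have := key 4 ⟨g, hg⟩
    omega
  · by_contra h0
    have := key _ (ord_two_mul hs hp (fun h1 => h0 (.inl h1)) hpC)
    have := hp.two_le
    omega

/-- A non-abelian finite simple group on whose elements the full automorphism group has at most five orbits is isomorphic to the alternating group of degree 5 or 6, to PSL(2, 7) or to PSL(2, 8). -/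
theorem result {G : Type*} [Group G] [Finite G] [IsSimpleGroup G] (hG : ¬ IsMulCommutative G)
    (h5 : Nat.card (MulAction.orbitRel.Quotient (MulAut G) G) ≤ 5) :
    Nonempty (G ≃* ↥(alternatingGroup (Fin 5))) ∨ Nonempty (G ≃* ↥(alternatingGroup (Fin 6))) ∨
      (∃ (F : Type) (_ : Field F) (_ : Fintype F), (Fintype.card F = 7 ∨ Fintype.card F = 8) ∧
        Nonempty (G ≃* Matrix.ProjectiveSpecialLinearGroup (Fin 2) F)) := by
  have h := few_of h5
  obtain ⟨F, _, _, h4, ⟨e⟩⟩ := iso_psl2 hG h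
  rcases psl2 h h4 e with h1 | h1 | h1 | h1 | h1
  · exact .inl ⟨e.trans (S0252.result h1).some⟩
  · exact .inl ⟨e.trans (S0253.result h1).some⟩
  · exact .inr (.inr ⟨F, _, _, .inl h1, ⟨e⟩⟩)
  · exact .inr (.inr ⟨F, _, _, .inr h1, ⟨e⟩⟩)
  · exact .inr (.inl ⟨e.trans (S0254.result h1).some⟩)

end Cfsg.Agent.S3406
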