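import Cfsg.Statements.S3413
import Cfsg.Agent.SPOR.Ord11c
import Cfsg.Agent.S4084
-- import your own Cfsg.Agent.* helpers here

set_option autoImplicit false
open Cfsg

namespace Cfsg.Agent.S3413

/-- Let H be a finite group whose commuting graph (vertices the non-identity elements, two joined when they commute) is isomorphic to that of the Mathieu group M_11: there is a bijection between the non-identity elements of H and of M_11 under which two elements commute exactly when their images do. Then H ≅ M_11. -/
theorem result {H : Type*} [Group H] [Finite H]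
    (f : {h : H // h ≠ 1} ≃ {g : ↥Cfsg.Spor.M11 // g ≠ 1})
    (hf : ∀ x y : {h : H // h ≠ 1}, (x : H) * y = y * x ↔ ((f x) : ↥Cfsg.Spor.M11) * (f y) = (f y) * (f x)) :
    Nonempty (H ≃* ↥Cfsg.Spor.M11) := by
  classical
  have : Fact (Nat.Prime 11) := ⟨by norm_num⟩
  have hM : Nat.card Spor.M11 = 7920 := by rw [CL.M12.M11_eq]; exact CL.M12.card_G11
  have := CL.Ord.isSimpleGroup_M11
  obtain ⟨T⟩ := CL.Ord.exists_T11 hM
  let e : H ≃ Spor.M11 := (Equiv.optionSubtypeNe 1).symm.trans
    (f.optionCongr.trans (Equiv.optionSubtypeNe 1))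
  have e1 : e 1 = 1 := by simp [e]
  have e2 : ∀ x (hx : x ≠ 1), e x = f ⟨x, hx⟩ := fun x hx => by simp [e, hx]
  have hH := (Nat.card_congr e).trans hM
  have := CL.Ord.simple_of_not_22 hH fun g hg => by
    refine ((S4084.result e (fun x y => ?_) (by norm_num) Nat.prime_two
      (by norm_num)).1 ⟨g, hg⟩).elim fun h hh => ?_
    swap
    · have := CL.Ord.orderOf_eq_of_cent T.C11 (g := h) (by simp [hh])
      omega
    by_cases hx : x = 1
    · simp [hx, e1]
    by_cases hy : y = 1
    · simp [hy, e1]
    rw [e2 x hx, e2 y hy]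
    exact hf ⟨x, hx⟩ ⟨y, hy⟩
  exact CL.Ord.iso_M11 hH

end Cfsg.Agent.S3413
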