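import Cfsg.Statements.S3427
import Cfsg.Agent.SPOR.Ord6048
import Cfsg.Agent.CHEV.SpecG2
import Cfsg.Agent.S1059
-- import your own Cfsg.Agent.* helpers here

set_option autoImplicit false
open Cfsg

namespace Cfsg.Agent.S3427

/-- Let F be the field with 2 elements and let M be the Chevalley group of type G₂ over F (a non-simple group of order 12096 whose derived subgroup, of index 2, is isomorphic to PSU(3, 3)). A finite group G is isomorphic to M if and only if G has the same set of element orders and the same order as M. -/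
theorem result {G : Type*} [Group G] [Finite G] {F : Type*} [Field F] [Fintype F] (hF : Fintype.card F = 2) :
    Nonempty (G ≃* ↥(Cfsg.Lie.chevG2.group F)) ↔
      (Set.range (orderOf : G → ℕ) = Set.range (orderOf : ↥(Cfsg.Lie.chevG2.group F) → ℕ) ∧ Nat.card G = Nat.card ↥(Cfsg.Lie.chevG2.group F)) := by
  refine ⟨fun ⟨e⟩ => ⟨?_, Nat.card_congr e.toEquiv⟩, fun ⟨h1, h2⟩ => ?_⟩
  · rw [← e.surjective.range_comp]
    exact congrArg _ (funext fun g => (e.orderOf_eq g).symm)
  have := CL.Chev.charP_of_natCard (F := F) (n := 1) Nat.prime_two (by rw [Nat.card_eq_fintype_card, hF]; rfl)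
  have h3 : Nat.card (Lie.chevG2.group F) = 12096 := S1059.result hF
  have : Finite (Lie.chevG2.group F) := Nat.finite_of_card_ne_zero (by omega)
  have h4 : ∀ q ∈ [2, 3], ∀ g : Lie.chevG2.group F, orderOf g ≠ 7 * q := fun q hq g hg => by
    have := CL.Chev.spec_G2_upper 2 hF g
    rw [hg] at this
    simp only [List.mem_cons, List.not_mem_nil, or_false] at hq
    rcases this with h | h | h | h | h | ⟨-, h⟩ | h
    on_goal 7 => replace h := h 3 (by norm_num)
    all_goals rcases hq with rfl | rfl <;> norm_num at h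
  have h5 : ∀ q ∈ [2, 3], ∀ g : G, orderOf g ≠ 7 * q := fun q hq g hg => by
    obtain ⟨x, hx⟩ : orderOf g ∈ Set.range (orderOf : Lie.chevG2.group F → ℕ) := h1 ▸ ⟨g, rfl⟩
    exact h4 q hq x (hx.trans hg)
  have := Fact.mk Nat.prime_three
  have := Fintype.ofFinite (GaloisField 3 2)
  have hK : Fintype.card (GaloisField 3 2) = 9 := by
    rw [← Nat.card_eq_fintype_card, GaloisField.card 3 2 (by norm_num)]; rfl
  obtain ⟨a⟩ := CL.Ord.iso_aut_U33 (h2.trans h3) (h5 2 (by simp)) (h5 3 (by simp)) hK
  obtain ⟨b⟩ := CL.Ord.iso_aut_U33 h3 (h4 2 (by simp)) (h4 3 (by simp)) hK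
  exact ⟨a.trans b.symm⟩

end Cfsg.Agent.S3427
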