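import Cfsg.Statements.S3466
import Mathlib
import Cfsg.Agent.PERM.SpecSp4Mod

set_option autoImplicit false
open Cfsg

namespace Cfsg.Agent.S3466

open CL.K CL.PM CL.CG CL.Spec

noncomputable def mul (a b : ℕ) : ℕ := mulC 3 4 8 32 0xff000000ff000000ff000000ff 0xffffffff 11 5 0x7070707070707070707070707070707 a b
noncomputable def add : ℕ → ℕ → ℕ := addC 3 11 5 0x7070707070707070707070707070707
def one : ℕ := 0x1000000000100000000010000000001
theorem ok : OK 3 4 8 255 32 0xff000000ff000000ff000000ff 0xffffffff 11 5 0x7070707070707070707070707070707 16 := ok_of_okB (by decide +kernel)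
theorem oneC_eq : oneC 4 8 = one := by decide +kernel
def L : List ℕ := [0x2000000000200000000000200000200, 0x10000000001000000000102020202]
def Li : List ℕ := [0x2000000000200000000000200000200, 0x2020202010000000001000000000100]
theorem units : allLt (fun i => unitB 3 4 8 255 32 0xff000000ff000000ff000000ff 0xffffffff 11 5 0x7070707070707070707070707070707 (lget L i) (lget Li i)) 2 = true := by
  decide +kernel
noncomputable def φ0 (g : GL (Fin 4) (ZMod 3)) : ℕ := code 8 g.1
theorem C0 : IsCode φ0 mul one := oneC_eq ▸ isCode_GL ok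
theorem mem_L : ∀ c ∈ L, Mem φ0 ⊤ c := fun c hc => by
  obtain ⟨j, hj, rfl⟩ := exists_lget_of_mem hc
  exact mem_of_unitB ok (allLt_iff.1 units j hj)
noncomputable def G : Subgroup (GL (Fin 4) (ZMod 3)) := gen φ0 L
theorem C : IsCode (fun g : G => code 8 (subRep G g)) mul one := oneC_eq ▸ isCode_subRep ok G
def MM : ℕ := 0xffffffffffffffffffffffffffffffff
def fA : ℕ → ℕ := fld 1 1 0xeb7f7fd5f6b7fafeab75bd35b5adac
def fP : ℕ → ℕ := fld 7 127 0xe9cf4e1c182edcb96ed59b15a9d2a54684f9d365ca9322345890e1c28301fbe78edd3a72e5c376ed9ab466c98af5cb96ad58ad52950992a548911a344890a0407cf1d3a70e1b3468c982c54a942848890203c78e1a3460b162850910203870c14284060c1020200000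
def fJ (s i : ℕ) : ℕ := fld 7 127 0x80da777ed679214cacfdd53d3a9b5fbda19a6cb3f32d438f0ddb766b27a88dbd3a3365c98f10ec382fde18e2e4bb562bd6ab504c2a5467cd992a4c88f1a286890e0bf7cf5e3b08e9cb76acd8b05cb562a509d2a4028d1203c00e9c3460b95284880f1a2c5080e14182eddf561cd83871b9b7763bdd7469a5cf265d953a7295ae36f89261d7b156b62799e0ba7ee664d6f7ed479175ddbb2ba8ad9ef5f538b4272596916235489831410a0353acce275069c3668c8aaf28495a92098797303509f167851b3220b07264428e180c4820c10001 (Nat.add (Nat.mul 120 s) i)
def fσ : ℕ → ℕ := fld 7 127 0x25dcc2356cca3ca5bccdd398d9314e0682d7f6a2362e7bb1d54d339fa63e35c44a762800c27ba816d2499cb21f3c3166847b22b83e8ef35972d663e041ac47c48578dca217608226ae91c5b21541528f28417456206af1323b7acb71c03ca15b85eb369b5256f7c671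
noncomputable def tf : ℕ := mkTree 128 MM (lmul mul L) fA fP 120 one
theorem chk : force tf (fun t => Nat.beq (fld 128 MM t 0) one && closedB mul L (fld 128 MM t) fJ 120 &&
    allN (fun k => force (fld 128 MM t k) (affB mul add one 3 6 4734)) 120) = true := by decide +kernel
theorem allCj : AllCj φ0 (gen φ0 L) (affB mul add one 3 6 4734) := by
  have h := chk
  rw [force_eq, Bool.and_eq_true, Bool.and_eq_true] at h
  exact C0.allCj_closed (by norm_num) h.1.1 h.1.2 h.2
def Wd : List (ℕ × List ℕ) := [
  (0x10000000001000000000102020202, [1]),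
  (0x100010000000001000000000001, [1, 1, 1, 0, 1, 0]),
  (0x20000000000020000020001010101, [1, 0])]
theorem wordsd : wordsB mul one L Wd = true := by decide +kernel
theorem chkO : (Wd.map fun c => affVal mul add one 3 6 c.1) = [5, 9, 12] := by decide +kernel
theorem upper (a : Aff (MatMod (subRep G)) G) : ∃ N ∈ [5, 9, 12], orderOf a ∣ N :=
  dvd_of_mask (S := 4734) _ 13 (by norm_num) (by decide)
    (aff_upper ok (by norm_num) C (by decide) allCj) a
theorem lower : ∀ k ∈ [5, 9, 12], ∃ a : Aff (MatMod (subRep G)) G, k ∣ orderOf a := fun k hk =>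
  (aff_lower ok (by norm_num) C0 C (mem_gen mem_L) wordsd chkO (by decide) k hk).imp fun _ h => h.symm.dvd
instance instNt : Nontrivial (MatMod (subRep G)) := nontrivial_matMod (by norm_num) (by norm_num) _
theorem spec : Set.range (orderOf : Aff (MatMod (subRep G)) G → ℕ) = {k | ∃ N ∈ [5, 9, 12], k ∣ N} :=
  range_eq_of_bounds upper lower (by decide)

/-- Let F be a finite field with q ≥ 3 elements such that q is not of the form 3^(2t+1) with t ≥ 1. Then PSp(4,F) is not determined by its set of element orders, not even up to finitely many groups: for every bound N there is a finite group of order greater than N with exactly the same set of element orders as PSp(4,F). -/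
theorem result {F : Type*} [Field F] [Fintype F] (h3 : 3 ≤ Fintype.card F) (hq : ∀ t : ℕ, 1 ≤ t → Fintype.card F ≠ 3 ^ (2 * t + 1)) (N : ℕ) :
    ∃ (H : Type) (_ : Group H) (_ : Fintype H), N < Fintype.card H ∧ Set.range (orderOf : H → ℕ) = Set.range (orderOf : Cfsg.PSp 2 F → ℕ) := by
  obtain ⟨k, hp, hk⟩ := FiniteField.card F (ringChar F)
  have := ringChar.charP F
  generalize ringChar F = p at *
  have := Fact.mk hp
  rw [spec_PSp4 hk]
  have : Fintype (GaloisField p (k * 2)) := Fintype.ofFinite _
  have hK : Fintype.card (GaloisField p (k * 2)) = (p ^ (k : ℕ)) ^ 2 := by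
    rw [← Nat.card_eq_fintype_card, GaloisField.card p _ (by simp), pow_mul]
  rcases lt_trichotomy p 3 with h | h | h
  · rw [← spec_two hK (by have := hp.two_le; omega)]
    exact unbdd_aff _ _ N
  · rcases Nat.even_or_odd (k : ℕ) with h2 | ⟨t, h2⟩
    · rw [← spec_three hK h h2]
      exact unbdd_aff _ _ N
    · have ht : t = 0 := by
        by_contra h0
        exact hq t (by omega) (by rw [hk, h, h2])
      have e : OmSp4 p (p ^ (k : ℕ)) = {k | ∃ N ∈ [5, 9, 12], k ∣ N} := by
        rw [h, h2, ht]
        ext n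
        simp only [OmSp4, List.mem_cons, List.not_mem_nil, or_false, exists_eq_or_imp, exists_eq_left,
          Set.mem_ofPred_eq]
        norm_num [hf]
        constructor
        · rintro (h | h | h | h | h)
          exacts [Or.inl h, Or.inr (Or.inr (h.trans (by norm_num))), Or.inr (Or.inr h),
            Or.inr (Or.inr (h.trans (by norm_num))), Or.inr (Or.inl h)]
        · tauto
      rw [e, ← spec]
      exact unbdd_aff _ _ N
  · rw [← spec_five hK h]
    exact unbdd_aff _ _ N

end Cfsg.Agent.S3466
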