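import Cfsg.Statements.S3489
import Mathlib
import Cfsg.Agent.PERM.CGSpec
import Cfsg.Agent.PERM.SpecPerm

set_option autoImplicit false
open Cfsg

namespace Cfsg.Agent.S3489

open CL.K CL.PM CL.CG CL.Spec

noncomputable def mul (a b : ℕ) : ℕ := mulC 7 4 15 60 0x7fff000000000007fff000000000007fff000000000007fff 0xfffffffffffffff 147 10 0x3e007c00f801f003e007c00f801f003e007c00f801f003e007c00f801f a b
noncomputable def add : ℕ → ℕ → ℕ := addC 7 147 10 0x3e007c00f801f003e007c00f801f003e007c00f801f003e007c00f801f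
def one : ℕ := 0x200000000000000000040000000000000000008000000000000000001
theorem ok : OK 7 4 15 32767 60 0x7fff000000000007fff000000000007fff000000000007fff 0xfffffffffffffff 147 10 0x3e007c00f801f003e007c00f801f003e007c00f801f003e007c00f801f 144 := ok_of_okB (by decide +kernel)
theorem oneC_eq : oneC 4 15 = one := by decide +kernel
def L : List ℕ := [0x40000000000c00000000000000000000000001000000000030000, 0x180008002000c000c0000005000800180030002000c000c0010006]
def Li : List ℕ := [0x180000000000200000000000000000000000006000000000008000, 0x600100028001000800080018003000600040030002000200100010004]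
theorem units : allLt (fun i => unitB 7 4 15 32767 60 0x7fff000000000007fff000000000007fff000000000007fff 0xfffffffffffffff 147 10 0x3e007c00f801f003e007c00f801f003e007c00f801f003e007c00f801f (lget L i) (lget Li i)) 2 = true := by
  decide +kernel
noncomputable def φ0 (g : GL (Fin 4) (ZMod 7)) : ℕ := code 15 g.1
theorem C0 : IsCode φ0 mul one := oneC_eq ▸ isCode_GL ok
theorem mem_L : ∀ c ∈ L, Mem φ0 ⊤ c := fun c hc => by
  obtain ⟨j, hj, rfl⟩ := exists_lget_of_mem hc
  exact mem_of_unitB ok (allLt_iff.1 units j hj)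
noncomputable def G : Subgroup (GL (Fin 4) (ZMod 7)) := gen φ0 L
theorem C : IsCode (fun g : G => code 15 (subRep G g)) mul one := oneC_eq ▸ isCode_subRep ok G
def MM : ℕ := 0xffffffffffffffffffffffffffffffffffffffffffffffffffffffffffff
def fA : ℕ → ℕ := fld 1 1 0x7cf5ba577f4fcdb7dab5ff45b6b5bf6aaf55b6ab7ab6b6d6d5adad6b6d54
def fP : ℕ → ℕ := fld 8 255 0xe4e3dfd8d5d4d1c9c7c4c3c2c1c0bebcbab8b7b6b5b5b2b2afacacababa8a6a5a5a4a3a2a1a09e9c9b9a9998979593929190908f8e8d8d8b89878685858483828180807e7d7d7c7c7b79787676757574737271706e6d6c6b6b6a6a696867666564646362626160605e5d5c5a5a5959585757565554535251514f4e4e4d4d4c4c4b4b4a494847464545444442424141403f3f3e3d3d3b3a3a3939373736363534343332302f2f2e2e2d2c2b2a2a29282827272625252423232120201f1f1e1d1d1c1b1b1a1a1918171616151514131312111110100f0e0e0d0d0c0b0b0a0a090808070606050404030302020101000000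
def fJ (s i : ℕ) : ℕ := fld 8 255 0xe1ef7256639535c4e88693d8eee9d73eed5470c581266ceca64febeaa133d3673bb34065e36ed5a3e7dadee6e5e458e27ea8bce0cfdf1724dddcdb4a91d99448c75214d6d42146d283d1d0cecdcccbca43c9b9c8bdc68e8bc3adc2b6c1c0bfbe1ebbba30b8aab70c12b5b4b2b1b0afae2dacaba9a72b97a509a4a2a09f9e9d9c889b9a999896615e9277908f8d8c8a891c877485058482807f7d7c7b7a797819767573716f6d5b6b6a696866296462605f5d5c0f5a595701555351504e4d004c4b494738454442413f3d3c3a390737363432312f2e2c2a032827252322201f1d1b1a1816151311100e0d0b0a08060402abd0eaedecebeebab4cb89ef79d975a7acb0cce0c9e7a5bbe685ceb2e4dde9d1e2dfd2cdafdce8e55dd65a597fa9e35cb7e14e9fd4db9ede767adab5c6d8b8b1d7c8c3d5d3c27d8acac1cf57bf7cbe8fa08c825fc7c0c5c43aa43937365034bdbc73b98d9da2ae9cb69bb364996298ad8096aaa8877ba69a92a3a1908442552853273c259795949320911f8e4d8b7188606f86786d83816b7e6a41693f687751667472706e166c15221367651163614c5e4b5b3d495856475452454f4418320d4a480b460a4331403e2f3b2e38232c35332a30062d2b04291d26241b211a1e1c0219171014120e0f000c080907050301 (Nat.add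 (Nat.mul 240 s) i)
def fσ : ℕ → ℕ := fld 8 255 0x2c87a125d8deaa3e7bd08d5d0ce0758996aca305339139cc7781661dd588d71f0edb03483bb84d3ce48a3643510b47c358d9d1400aa8902dc9279d3db460b9cd93ad5e95ed16c5b2a7096410e73a82546769a422e38418c74c4abd2a32d6a0c2c12b59e5a555995c301298797daeb3291174bc2831868e26387e3735a68b6bb50694dc19bb83739a175a61e2dd8c9cda524bba14626d4ea21aee70cf9780231b687cab1e9242b06c245b2feb56537f5fdf0d34c4d26a4f6550b7cec8570f1cca9b9ebeb6a96eb1e9d449e17a130444cbe800af2e02d3078f6320ea3f7178c6bf46c0412176856fec45729f0815efe601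
noncomputable def tf : ℕ := mkTree 240 MM (lmul mul L) fA fP 240 one
def Wd : List (ℕ × List ℕ) := [
  (0xc00000000000000000180000000000000000030000000000000000006, [0, 0]),
  (0x200180010001000200140028005000a00180030005000400080018000, [1, 1, 1, 0, 1, 0]),
  (0x40000000000c00000000000000000000000001000000000030000, [0]),
  (0x600080018002000c00100010001000400000010006000c00140010004, [1, 1]),
  (0xa00140008002000400180000002000600140028003000800100030000, [1, 1, 0, 1, 1, 0]),
  (0x200000028001000800180010000000200100028006000800180008002, [1, 0]),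
  (0x180008002000c000c0000005000800180030002000c000c0010006, [1]),
  (0xa000c0028003000600180030002000000080008002000400180018002, [1, 1, 0])]
theorem words : wordsB mul one L Wd = true := by decide +kernel
theorem chk : force tf (fun t => Nat.beq (fld 240 MM t 0) one && closedB mul L (fld 240 MM t) fJ 240 &&
    allN (fun k => force (fld 240 MM t k) fun c => inMask 5502 (ord mul one 12 c) &&
      (Nat.beq c one || Nat.beq (geo mul add one 12 c) 0)) 240) = true := by decide +kernel
theorem chkO : (Wd.map fun c => ord mul one 12 c.1) = [2, 3, 4, 5, 6, 8, 10, 12] := by decide +kernel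

attribute [local irreducible] tf MM fld mul code

theorem facts (g : G) : Nat.testBit 5502 (orderOf g) = true ∧
    (g ≠ 1 → ∀ v : MatMod (subRep G), nsum g v = 0) := by
  have h := chk
  simp only [force_eq, Bool.and_eq_true] at h
  obtain ⟨k, hk, e⟩ := (C0.complete_of_closed (by norm_num) (eq_of_beq h.1.1) h.1.2).sub g
  have h1 := allN_spec h.2 k hk
  have e' : code 15 (subRep G g) = fld 240 MM tf k := e
  simp only [← e', Bool.and_eq_true, Bool.or_eq_true] at h1
  have h2 := C.testBit_orderOf (by decide) h1.1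
  refine ⟨h2, fun hg => (nsum_eq_zero_iff_geo ok C (fuel := 12) ?_).2 (eq_of_beq
    (h1.2.resolve_left fun h3 => hg (C.inj ((eq_of_beq h3).trans C.map_one.symm))))⟩
  by_contra h3
  rw [Nat.testBit_lt_two_pow (lt_of_lt_of_le (by norm_num)
    (Nat.pow_le_pow_right two_pos (show 13 ≤ orderOf g by omega)))] at h2
  exact Bool.noConfusion h2

theorem ex : ∀ n ∈ [1, 2, 3, 4, 5, 6, 8, 10, 12], ∃ g : G, orderOf g = n := by
  intro n hn
  rcases List.mem_cons.1 hn with rfl | hn
  · exact ⟨1, orderOf_one⟩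
  rw [← chkO] at hn
  obtain ⟨c, hc, e⟩ := List.mem_map.1 hn
  have hm := (C0.mem_of_wordsB (mem_gen mem_L) words c.1 (List.mem_map_of_mem hc)).sub
  have hn0 : n ≠ 0 := by
    rw [chkO] at hn
    rintro rfl
    simp at hn
  exact ⟨_, C.orderOf_elt hm hn0 (by rw [e]; exact Nat.beq_refl n)⟩

theorem inv_eq {u : G} (hu : orderOf u = 2) : subRep G u = -1 := by
  have h := (MatMod_nsum_eq_zero_iff _ u).1 ((facts u).2 (by rintro rfl; simp at hu))
  rw [hu, Finset.sum_range_succ, Finset.sum_range_one, pow_zero, pow_one, map_one] at h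
  exact eq_neg_of_add_eq_zero_right h

theorem subRep_inj : Function.Injective (subRep G) := fun _ _ h => C.inj (congrArg (code 15) h)

theorem spec : Unbdd {n | n ∈ [1, 2, 3, 4, 5, 6, 7, 8, 9, 10, 12, 15, 21]} := by
  classical
  have : Fact (1 < 7) := ⟨by norm_num⟩
  obtain ⟨z, hz⟩ := ex 2 (by simp)
  have hzc : ∀ g, g * z = z * g := fun g => subRep_inj (by simp [inv_eq hz])
  have hzz : z * z = 1 := by rw [← sq, ← hz, pow_orderOf_eq_one]
  have hz1 : z ≠ 1 := by rintro rfl; simp at hz
  let W := negSub (FunMod G G (ZMod 3)) z hzc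
  have hmem : (FunMod.mk (Pi.single 1 1 - Pi.single z 1) : FunMod G G (ZMod 3)) ∈ W.sub := by
    refine FunMod.ext' fun x => ?_
    rw [FunMod.ev_smul, map_neg, FunMod.ev_mk, FunMod.ev_mk, smul_eq_mul,
      ← eq_inv_of_mul_eq_one_left hzz]
    have e1 : z * x = 1 ↔ x = z := by
      rw [mul_eq_one_iff_eq_inv', ← eq_inv_of_mul_eq_one_left hzz]
    have e2 : z * x = z ↔ x = 1 := by simp
    simp only [Pi.sub_apply, Pi.single_apply, e1, e2, neg_sub]
  have hodd : ∀ g : G, Odd (orderOf g) → nsum g (W.mkMod _ hmem) ≠ 0 := fun g hg =>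
    W.nsum_ne_zero hmem (FunMod_nsum_ne one_ne_zero g z fun h => by
      have := orderOf_dvd_of_mem_zpowers h
      rw [hz] at this
      exact (Nat.not_even_iff_odd.2 hg) (even_iff_two_dvd.2 this))
  have h3 : ∀ w : W.Mod, 3 • w = 0 := W.nsmul_eq_zero 3 (FunMod.nsmul_eq_zero 3 fun a => by
    rw [nsmul_eq_mul]; exact mul_eq_zero_of_left rfl a)
  have heven : ∀ g : G, 2 ∣ orderOf g → ∀ w : W.Mod, nsum g w = 0 := fun g hg w => by
    have h1 : g ^ (orderOf g / 2) = z := subRep_inj (by
      rw [inv_eq hz, inv_eq (orderOf_pow_orderOf_div (orderOf_pos g).ne' hg)])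
    refine nsum_eq_zero_of_fpf g (orderOf g / 2) (fun x hx => ?_) w
    rw [h1, smul_negSub] at hx
    have := h3 x
    rw [succ_nsmul, succ_nsmul, one_nsmul] at this
    rw [← this]
    nth_rw 2 [← hx]
    simp
  have h7 : ∀ v : MatMod (subRep G), 7 • v = 0 := MatMod.nsmul_eq_zero _ 7 rfl
  have hW : Nontrivial W.Mod := ⟨W.mkMod _ hmem, 0, fun h => hodd 1 (by simp) (by rw [h, nsum_zero])⟩
  have a3 : ∀ w : W.Mod, w ≠ 0 → addOrderOf w = 3 := fun w hw =>
    have := Fact.mk Nat.prime_three
    addOrderOf_eq_prime (h3 w) hw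
  have a7 : ∀ v : MatMod (subRep G), v ≠ 0 → addOrderOf v = 7 := fun v hv =>
    have := Fact.mk (by norm_num : Nat.Prime 7)
    addOrderOf_eq_prime (h7 v) hv
  have hord : ∀ a : Aff (MatMod (subRep G) × W.Mod) G, orderOf a = orderOf a.g *
      Nat.lcm (addOrderOf (nsum a.g a.v.1)) (addOrderOf (nsum a.g a.v.2)) := fun a => by
    rw [Aff.orderOf_eq, nsum_prod, Prod.addOrderOf]
  have hU := unbdd_aff (MatMod (subRep G) × W.Mod) G
  refine (congrArg Unbdd (Set.Subset.antisymm ?_ ?_)).mp hU
  · rintro _ ⟨a, rfl⟩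
    rw [hord]
    obtain ⟨h1, h2⟩ := facts a.g
    by_cases hg : a.g = 1
    · rw [hg, orderOf_one, nsum_one, nsum_one]
      by_cases hv : a.v.1 = 0 <;> by_cases hw : a.v.2 = 0
      · simp [hv, hw]
      · simp [hv, a3 _ hw]
      · simp [hw, a7 _ hv]
      · rw [a3 _ hw, a7 _ hv]; decide
    · rw [h2 hg, addOrderOf_zero, Nat.lcm_one_left]
      have hlt : orderOf a.g < 13 := by
        by_contra h3
        rw [Nat.testBit_lt_two_pow (lt_of_lt_of_le (by norm_num)
          (Nat.pow_le_pow_right two_pos (not_lt.1 h3)))] at h1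
        exact Bool.noConfusion h1
      have he := heven a.g
      by_cases hw : nsum a.g a.v.2 = 0
      · rw [hw, addOrderOf_zero]
        generalize orderOf a.g = n at h1 hlt
        interval_cases n <;> first | exact absurd h1 (by decide) | simp
      · have ho : ¬ 2 ∣ orderOf a.g := fun h => hw (he h _)
        rw [a3 _ hw]
        generalize orderOf a.g = n at h1 hlt ho
        interval_cases n <;> first | exact absurd h1 (by decide) | exact absurd (by decide) ho | simp
  · have k0 : ∀ n ∈ [1, 2, 3, 4, 5, 6, 8, 10, 12],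
        n ∈ Set.range (orderOf : Aff (MatMod (subRep G) × W.Mod) G → ℕ) := fun n hn => by
      obtain ⟨g, rfl⟩ := ex n hn
      exact ⟨_, Aff.orderOf_mk_zero g⟩
    have k1 : ∀ n ∈ [3, 5], n * 3 ∈ Set.range (orderOf : Aff (MatMod (subRep G) × W.Mod) G → ℕ) :=
      fun n hn => by
        simp only [List.mem_cons, List.not_mem_nil, or_false] at hn
        obtain ⟨g, hg⟩ := ex n (by rcases hn with rfl | rfl <;> simp)
        refine ⟨⟨(0, W.mkMod _ hmem), g⟩, ?_⟩
        rw [hord, nsum_zero, a3 _ (hodd g (by rw [hg]; rcases hn with rfl | rfl <;> decide)), hg]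
        simp
    obtain ⟨v, hv⟩ := exists_ne (0 : MatMod (subRep G))
    obtain ⟨w, hw⟩ := exists_ne (0 : W.Mod)
    have k21 : 21 ∈ Set.range (orderOf : Aff (MatMod (subRep G) × W.Mod) G → ℕ) :=
      ⟨⟨(v, w), 1⟩, by rw [hord, orderOf_one, nsum_one, nsum_one, a3 _ hw, a7 _ hv]; decide⟩
    intro n hn
    simp only [List.mem_cons, List.not_mem_nil, or_false, Set.mem_ofPred_eq] at hn
    rcases hn with rfl | rfl | rfl | rfl | rfl | rfl | rfl | rfl | rfl | rfl | rfl | rfl | rfl
    exacts [k0 _ (by simp), k0 _ (by simp), k0 _ (by simp), k0 _ (by simp), k0 _ (by simp),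
      k0 _ (by simp), mem_range_of_dvd k21 (by norm_num), k0 _ (by simp), k1 3 (by simp),
      k0 _ (by simp), k0 _ (by simp), k1 5 (by simp), k21]

/-- The alternating group of degree 10 is not determined by its set of element orders, not even up to finitely many groups: for every bound N there is a finite group of order greater than N with exactly the same set of element orders as the alternating group of degree 10. -/
theorem result (N : ℕ) : ∃ (H : Type) (_ : Group H) (_ : Fintype H), N < Fintype.card H ∧ Set.range (orderOf : H → ℕ) = Set.range (orderOf : alternatingGroup (Fin 10) → ℕ) := by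
  have := spec N
  rw [spec_A10]
  have e : ({1, 2, 3, 4, 5, 6, 7, 8, 9, 10, 12, 15, 21} : Set ℕ) =
      {n | n ∈ [1, 2, 3, 4, 5, 6, 7, 8, 9, 10, 12, 15, 21]} := by
    ext n
    simp
  rwa [e]

end Cfsg.Agent.S3489
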