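import Cfsg.Statements.S3496
import Cfsg.Agent.PERM.ExtPrim2
import Cfsg.Agent.PERM.GammaL1
import Cfsg.Agent.PERM.DerClass
import Cfsg.Agent.SOLV.Fitting
import Cfsg.Agent.S3495

set_option autoImplicit false
open Cfsg

namespace Cfsg.Agent.S3496

open MulAction CL CL.Perm Subgroup

/-- The soluble extremely primitive groups. Let a finite solvable group G act faithfully and primitively on a finite set Ω with p ^ d points (p prime), with non-trivial point stabilizers each acting primitively on every one of its orbits. Then there is a prime q such that every orbit of a point stabilizer G_α other than {α} has exactly q points, q divides p ^ d − 1 but no p ^ i − 1 with 0 < i < d, and G_α has a normal subgroup T of order q with G_α generated by T and one further element and the order of G_α dividing q·d (so G_α is cyclic of order q, or an extension of T by a cyclic group of order dividing d). -/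
theorem result {G : Type*} [Group G] [Finite G] {Ω : Type*} [Fintype Ω] [MulAction G Ω] [FaithfulSMul G Ω] [Group.IsSolvable G] (p d : ℕ) (hp : p.Prime) (hcard : Fintype.card Ω = p ^ d)
    (hprim : MulAction.IsPreprimitive G Ω) (hH : ∀ α : Ω, MulAction.stabilizer G α ≠ ⊥) (hep : ∀ (α : Ω) (ω : Ω), MulAction.IsPreprimitive (MulAction.stabilizer G α) (MulAction.orbit (MulAction.stabilizer G α) ω)) (α : Ω) :
    ∃ q : ℕ, q.Prime ∧ (∀ ω : Ω, ω ≠ α → Nat.card (MulAction.orbit (MulAction.stabilizer G α) ω) = q) ∧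
      q ∣ p ^ d - 1 ∧ (∀ i : ℕ, 0 < i → i < d → ¬ q ∣ p ^ i - 1) ∧
      ∃ T : Subgroup G, T ≤ MulAction.stabilizer G α ∧ MulAction.stabilizer G α ≤ Subgroup.normalizer (T : Set G) ∧ Nat.card T = q ∧
        (∃ h : G, MulAction.stabilizer G α = T ⊔ Subgroup.zpowers h) ∧ Nat.card (MulAction.stabilizer G α) ∣ q * d := by
  have hHn := (nontrivial_iff_ne_bot _).mpr (hH α)
  have : Nontrivial G := (stabilizer G α).subtype_injective.nontrivial
  obtain ⟨N, hN⟩ := exists_isMinNormal G
  obtain ⟨r, hr, hE⟩ := hN.exists_isElementaryAbelian_of_isSolvable inferInstance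
  have := hN.normal
  have := Fact.mk hr
  have hNt := isPretransitive_of_normal_of_ne_bot hprim N hN.ne_bot
  have hreg : ∀ ω : Ω, ∀ n ∈ N, n • ω = ω → n = 1 := fun ω n hn h =>
    ONS.regular_of_comm hprim N hN.ne_bot hE.1 hn h
  have hNc : Nat.card N = p ^ d := by
    rw [card_eq_of_regular N hNt (hreg α), Nat.card_eq_fintype_card, hcard]
  have hV := (Abelem.nontrivial_V_iff (hE := hE)).mpr hN.ne_bot
  obtain rfl : r = p := by
    have h1 := Abelem.card_eq_pow_finrank (hE := hE)
    rw [hNc] at h1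
    exact (Nat.prime_dvd_prime_iff_eq hr hp).mp
      (hr.dvd_of_dvd_pow (h1 ▸ dvd_pow_self r Module.finrank_pos.ne'))
  have hd := Abelem.finrank_eq_of_card (hE := hE) hNc
  obtain ⟨M, hM⟩ := exists_isMinNormal (stabilizer G α)
  obtain ⟨q, hq, hEM⟩ := hM.exists_isElementaryAbelian_of_isSolvable inferInstance
  have := hM.normal
  have := hEM.1
  have hC := ep_centralizer_eq hprim (hep α) M hM.ne_bot
  have hA : stabilizer G α ≤ normalizer (N : Set G) := (normalizer_eq_top N).ge.trans' le_top
  have hfaith : Function.Injective (Abelem.rep hE hA) := by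
    rw [injective_iff_map_eq_one]
    intro h hh
    exact Subtype.ext (eq_one_of_commute_of_transitive N hNt
      (fun m hm => (mem_centralizer_iff.mp ((Abelem.rep_eq_one_iff h).mp hh) m hm).symm) h.2)
  have hTn : stabilizer G α ≤ normalizer (M.map (stabilizer G α).subtype : Set G) := by
    have := M.le_normalizer_map (stabilizer G α).subtype
    rwa [normalizer_eq_top, ← MonoidHom.range_eq_map, range_subtype] at this
  obtain ⟨⟨C₁, _, χ, hC₁, hχ⟩, h2, C, _, ψ, hCc, hCd, hψ, hψ'⟩ :=
    GammaL1.exists_structure (Abelem.rep hE hA) M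
    (fun m hm n hn => by rw [← map_mul, ← map_mul, Abelem.comm_of_mem hEM hm hn]) (by
      intro W hW
      rw [← Abelem.toSubgroup_eq_bot_iff, ← Abelem.toSubgroup_eq_self_iff]
      refine (S3495.result hprim hH hep N hE.1 r hr hE.2 hNt (fun ω => eq_bot_iff.mpr fun n hn =>
        Subtype.ext (hreg ω n n.2 hn)) α (M.map (stabilizer G α).subtype)
        (fun h => hM.ne_bot ((map_eq_bot_iff_of_injective _ (subtype_injective _)).mp h))
        (map_subtype_le _) hTn).2 _ (Abelem.toSubgroup_le W) (MSS.le_normalizer_of_cj_le ?_)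
      rintro _ ⟨m, hm, rfl⟩
      rw [MSS.cj_le_iff_forall]
      rintro _ ⟨w, hw, rfl⟩
      exact ⟨_, hW m hm w hw, rfl⟩)
  have hMq : Nat.card M = q := by
    have : IsCyclic M := isCyclic_of_injective χ ((injective_iff_map_eq_one _).mpr fun m hm =>
      Subtype.ext (hfaith ((hχ m hm).trans (map_one _).symm)))
    have := hM.nontrivial
    rw [← IsCyclic.exponent_eq_card]
    exact (hq.eq_one_or_self_of_dvd _ (Monoid.exponent_dvd_of_forall_pow_eq_one fun m : M =>
      Subtype.ext (hEM.2 m.1 m.2))).resolve_left Monoid.one_lt_exponent.ne'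
  have hker : ψ.ker = M := le_antisymm (fun h hh => hC ▸ mem_centralizer_iff.mpr fun m hm =>
    hfaith (by rw [map_mul, map_mul, hψ h hh m hm])) hψ'
  refine ⟨q, hq, fun ω hω => ?_, ?_, fun i hi hid hdvd => ?_, M.map (stabilizer G α).subtype,
    map_subtype_le _, hTn, by rw [card_map_of_injective (subtype_injective _), hMq], ?_, ?_⟩
  · rw [← hMq, ← ep_ncard_orbit hprim (hep α) M hM.ne_bot hω, Nat.card_coe_set_eq]
  · rw [← hMq, ← hcard, ← Nat.card_eq_fintype_card]
    exact ep_card_dvd hprim (hep α) M hM.ne_bot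
  · refine hid.not_ge (hd ▸ h2 i hi fun m hm => ?_)
    obtain ⟨k, hk⟩ := hdvd
    rw [← map_pow, show r ^ i = q * k + 1 by have := pow_pos hr.pos i; omega, pow_succ, pow_mul,
      hEM.2 m hm, one_pow, one_mul]
  · obtain ⟨⟨_, h, rfl⟩, hh⟩ := IsCyclic.exists_generator (α := ψ.range)
    refine ⟨h, le_antisymm (fun x hx => ?_) (sup_le (map_subtype_le _) (zpowers_le_of_mem h.2))⟩
    obtain ⟨k, hk⟩ := hh ⟨ψ ⟨x, hx⟩, _, rfl⟩
    have h3 : ⟨x, hx⟩ * (h ^ k)⁻¹ ∈ ψ.ker := by
      rw [MonoidHom.mem_ker, map_mul, map_inv, map_zpow, mul_inv_eq_one]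
      exact (congrArg Subtype.val hk).symm
    rw [hker] at h3
    have h4 : x = x * ((h : G) ^ k)⁻¹ * (h : G) ^ k := by simp
    rw [h4]
    exact mul_mem_sup ⟨_, h3, rfl⟩ ⟨k, rfl⟩
  · rw [← ψ.ker.card_mul_index, index_ker, hker, hMq, ← hd, ← hCd]
    exact mul_dvd_mul_left _ (card_subgroup_dvd_card _)

end Cfsg.Agent.S3496
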