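import Cfsg.Statements.S3497
import Cfsg.Agent.PERM.ExtPrim2
import Cfsg.Agent.SOLV.Fitting

set_option autoImplicit false
open Cfsg

namespace Cfsg.Agent.S3497

open MulAction CL CL.Perm Subgroup

/-- Restrictions on the point stabilizer of an extremely primitive group. Let a finite group G act faithfully and primitively on a finite set Ω with point stabilizers H = G_α whose order is neither 1 nor a prime, each acting primitively on every one of its orbits. Then H has trivial center, the Fitting subgroup F(H) is an elementary abelian p-group for some prime p, and if F(H) ≠ 1 has order p ^ e then p ^ e divides the number of points minus one and H / F(H) embeds in GL_e(p) (there is a homomorphism from H to GL_e(p) with kernel exactly F(H)). -/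
theorem result {G : Type*} [Group G] [Finite G] {Ω : Type*} [Fintype Ω] [MulAction G Ω] [FaithfulSMul G Ω] (hprim : MulAction.IsPreprimitive G Ω) (hep : ∀ (α : Ω) (ω : Ω), MulAction.IsPreprimitive (MulAction.stabilizer G α) (MulAction.orbit (MulAction.stabilizer G α) ω)) (α : Ω)
    (hH1 : MulAction.stabilizer G α ≠ ⊥) (hHp : ¬ (Nat.card (MulAction.stabilizer G α)).Prime) :
    Subgroup.center (MulAction.stabilizer G α) = ⊥ ∧
    IsMulCommutative (Cfsg.fittingSubgroup (MulAction.stabilizer G α)) ∧
    ∃ p e : ℕ, p.Prime ∧ Nat.card (Cfsg.fittingSubgroup (MulAction.stabilizer G α)) = p ^ e ∧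
      (∀ x ∈ Cfsg.fittingSubgroup (MulAction.stabilizer G α), x ^ p = 1) ∧
      (Cfsg.fittingSubgroup (MulAction.stabilizer G α) ≠ ⊥ →
        p ^ e ∣ Fintype.card Ω - 1 ∧
        ∃ φ : MulAction.stabilizer G α →* GL (Fin e) (ZMod p), φ.ker = Cfsg.fittingSubgroup (MulAction.stabilizer G α)) := by
  have hZ : center (stabilizer G α) = ⊥ := by
    by_contra hZ
    have := (nontrivial_iff_ne_bot _).mpr hZ
    obtain ⟨p, hp, hd⟩ := Nat.exists_prime_and_dvd
      (Finite.one_lt_card (α := center (stabilizer G α))).ne'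
    have := Fact.mk hp
    obtain ⟨z, hz⟩ := exists_prime_orderOf_dvd_card' p hd
    have hn : (zpowers (z : stabilizer G α)).Normal :=
      normal_of_le_center ((zpowers_le_of_mem z.2))
    have h1 := ep_centralizer_eq hprim (hep α) (zpowers (z : stabilizer G α)) (by
      rw [Ne, zpowers_eq_bot, OneMemClass.coe_eq_one]
      rintro rfl
      exact hp.one_lt.ne (orderOf_one.symm.trans hz))
    rw [centralizer_eq_top_iff_subset.mpr (zpowers_le_of_mem z.2)] at h1
    apply hHp
    rwa [← card_top, h1, Nat.card_zpowers, orderOf_coe, hz]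
  refine ⟨hZ, ?_⟩
  by_cases hF : fittingSubgroup (stabilizer G α) = ⊥
  · rw [hF]
    exact ⟨inferInstance, 2, 0, Nat.prime_two, by simp, by simp, fun h => (h rfl).elim⟩
  obtain ⟨M, hM, hMF⟩ := exists_isMinNormal_le _ hF
  have := isNilpotent_fittingSubgroup (stabilizer G α)
  obtain ⟨p, hp, hE⟩ := hM.exists_isElementaryAbelian_of_isSolvable (isSolvable_of_le hMF inferInstance)
  have := hM.normal
  have := hE.1
  have := Fact.mk hp
  have hC := ep_centralizer_eq hprim (hep α) M hM.ne_bot
  have hFM : fittingSubgroup (stabilizer G α) = M :=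
    le_antisymm (hC ▸ hM.fittingSubgroup_le_centralizer) hMF
  rw [hFM]
  have hcard := Abelem.card_eq_pow_finrank (hE := hE)
  refine ⟨hE.1, p, _, hp, hcard, hE.2, fun _ => ⟨?_, ?_⟩⟩
  · rw [← hcard, ← Nat.card_eq_fintype_card]
    exact ep_card_dvd hprim (hep α) M hM.ne_bot
  · obtain ⟨φ, hφ⟩ := exists_hom_GL (E := ⊤) hE hcard (normalizer_eq_top M).ge
    refine ⟨φ.comp topEquiv.symm.toMonoidHom, ?_⟩
    ext x
    rw [← MonoidHom.comap_ker, hφ, hC]
    rfl

end Cfsg.Agent.S3497
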