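import Cfsg.Statements.S3501
import Cfsg.Agent.PERM.DerClass

set_option autoImplicit false
open Cfsg

namespace Cfsg.Agent.S3501

open MulAction CL.ONS CL.Perm

/-- Let a finite group G act faithfully and primitively on a finite set Ω with at least two points, and suppose G is not almost simple (it has no non-abelian simple normal subgroup with trivial centralizer). Then the derangements of G form a single conjugacy class if and only if G is sharply 2-transitive (2-transitive, and no non-identity element fixes two points). -/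
theorem result {G : Type*} [Group G] [Finite G] {Ω : Type*} [Fintype Ω] [MulAction G Ω] [FaithfulSMul G Ω] (hΩ : 2 ≤ Fintype.card Ω) (hprim : MulAction.IsPreprimitive G Ω) (hnas : ¬ ∃ T : Subgroup G, T.Normal ∧ IsSimpleGroup T ∧ ¬ IsMulCommutative T ∧ Subgroup.centralizer (T : Set G) = ⊥) :
    Nat.card {c : ConjClasses G // ∃ g : G, ConjClasses.mk g = c ∧ ∀ ω : Ω, g • ω ≠ ω} = 1 ↔ (MulAction.IsMultiplyPretransitive G Ω 2 ∧ ∀ g : G, g ≠ 1 → ∀ a b : Ω, a ≠ b → g • a = a → g • b ≠ b) := by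
  have : Nontrivial Ω := Fintype.one_lt_card_iff_nontrivial.mp hΩ
  constructor
  · intro h
    have hsub := (Nat.card_eq_one_iff_unique.mp h).1
    have hconj : ∀ x y : G, (∀ ω : Ω, x • ω ≠ ω) → (∀ ω : Ω, y • ω ≠ ω) → IsConj x y := by
      intro x y hx hy
      have := hsub.elim ⟨ConjClasses.mk x, x, rfl, hx⟩ ⟨ConjClasses.mk y, y, rfl, hy⟩
      exact ConjClasses.mk_eq_mk_iff_isConj.mp (congrArg Subtype.val this)
    obtain ⟨N, hNn, hN, hc⟩ : ∃ N : Subgroup G, N.Normal ∧ N ≠ ⊥ ∧ IsMulCommutative N := by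
      by_contra hna
      obtain ⟨x, y, z, hx, hy, -, hxy, -⟩ := exists_three_derangements hprim hnas hna
      exact hxy (hconj x y hx hy)
    have ht := isPretransitive_of_normal_of_ne_bot hprim N hN
    have hder : ∀ n ∈ N, n ≠ 1 → ∀ ω : Ω, n • ω ≠ ω := fun n hn h1 ω h =>
      h1 (regular_of_comm hprim N hN hc hn h)
    obtain ⟨⟨n₀, hn₀⟩, hn₁⟩ := (Subgroup.ne_bot_iff_exists_ne_one).mp hN
    have hn₁' : n₀ ≠ 1 := fun h => hn₁ (Subtype.ext h)
    have hD : ∀ g : G, (∀ ω : Ω, g • ω ≠ ω) → g ∈ N := by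
      intro g hg
      obtain ⟨c, rfl⟩ := isConj_iff.mp (hconj n₀ g (hder n₀ hn₀ hn₁') hg)
      exact hNn.conj_mem _ hn₀ _
    refine ⟨?_, fun g hg a b hab ha hb => hg ?_⟩
    · obtain ⟨a⟩ : Nonempty Ω := inferInstance
      apply two_transitive_of_stabilizer a
      intro b c hb hc'
      obtain ⟨n, rfl⟩ := ht.exists_smul_eq a b
      obtain ⟨n', rfl⟩ := ht.exists_smul_eq a c
      exact (isConj_iff_of_regular N hc ht (fun n hn h => regular_of_comm hprim N hN hc hn h)
        n.2 n'.2).mp (hconj _ _ (hder n n.2 fun h => hb (by change (n : G) • a = a; rw [h, one_smul]))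
          (hder n' n'.2 fun h => hc' (by change (n' : G) • a = a; rw [h, one_smul])))
    · exact regular_of_comm hprim N hN hc (two_point_le_of_derang_le N hD hab ⟨ha, hb⟩) ha
  · rintro ⟨h2, hs⟩
    obtain ⟨a⟩ : Nonempty Ω := inferInstance
    rw [Nat.card_eq_one_iff_unique]
    constructor
    · refine ⟨fun ⟨_, x, rfl, hx⟩ ⟨_, y, rfl, hy⟩ => Subtype.ext ?_⟩
      exact ConjClasses.mk_eq_mk_iff_isConj.mpr (isConj_of_sharply_two h2
        (fun g a b hab ha hb => by_contra fun h => hs g h a b hab ha hb) (a := a) hx hy)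
    · obtain ⟨x, hx⟩ := CL.exists_forall_smul_ne_of_isPretransitive G Ω
      exact ⟨⟨_, x, rfl, hx⟩⟩

end Cfsg.Agent.S3501
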