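import Cfsg.Statements.S3520
import Cfsg.Agent.PERM.DerClass

set_option autoImplicit false
open Cfsg

namespace Cfsg.Agent.S3520

open MulAction CL.ONS CL.Perm

/-- Let a finite group G act faithfully and primitively on a finite set Ω with at least two points, suppose G is not almost simple (no non-abelian simple normal subgroup with trivial centralizer), and suppose the derangements of G form exactly two conjugacy classes. Then either Ω has 3 points and G has order 3; or G has a non-trivial abelian normal subgroup N acting regularly, every non-identity element of G fixes at most one point (so, when n > 3, G is a Frobenius group with kernel N), the number n of points is odd and a point stabilizer has order (n − 1)/2; or G is 2-transitive with a non-trivial abelian regular normal subgroup and some non-identity element fixes at least two points (a non-Frobenius 2-transitive affine group). -/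
theorem result {G : Type*} [Group G] [Finite G] {Ω : Type*} [Fintype Ω] [MulAction G Ω] [FaithfulSMul G Ω] (hΩ : 2 ≤ Fintype.card Ω) (hprim : MulAction.IsPreprimitive G Ω) (hnas : ¬ ∃ T : Subgroup G, T.Normal ∧ IsSimpleGroup T ∧ ¬ IsMulCommutative T ∧ Subgroup.centralizer (T : Set G) = ⊥)
    (hκ : Nat.card {c : ConjClasses G // ∃ g : G, ConjClasses.mk g = c ∧ ∀ ω : Ω, g • ω ≠ ω} = 2) (α : Ω) :
    (Fintype.card Ω = 3 ∧ Nat.card G = 3) ∨
    ((∃ N : Subgroup G, N.Normal ∧ N ≠ ⊥ ∧ IsMulCommutative N ∧ ∀ ω : Ω, MulAction.stabilizer N ω = ⊥) ∧ (∀ g : G, g ≠ 1 → Nat.card (MulAction.fixedBy Ω g) ≤ 1) ∧ ¬ 2 ∣ Fintype.card Ω ∧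
        2 * Nat.card (MulAction.stabilizer G α) = Fintype.card Ω - 1) ∨
    ((∃ N : Subgroup G, N.Normal ∧ N ≠ ⊥ ∧ IsMulCommutative N ∧ ∀ ω : Ω, MulAction.stabilizer N ω = ⊥) ∧ MulAction.IsMultiplyPretransitive G Ω 2 ∧ ∃ g : G, g ≠ 1 ∧ 2 ≤ Nat.card (MulAction.fixedBy Ω g)) := by
  have : Nontrivial Ω := Fintype.one_lt_card_iff_nontrivial.mp hΩ
  obtain ⟨c₁, c₂, hc12, hc⟩ := Nat.card_eq_two_iff.mp hκ
  have hthree : ∀ x y z : G, (∀ ω : Ω, x • ω ≠ ω) → (∀ ω : Ω, y • ω ≠ ω) → (∀ ω : Ω, z • ω ≠ ω) →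
      IsConj x y ∨ IsConj x z ∨ IsConj y z := by
    intro x y z hx hy hz
    have key : ∀ (w : G) (hw : ∀ ω : Ω, w • ω ≠ ω),
        ConjClasses.mk w = c₁.1 ∨ ConjClasses.mk w = c₂.1 := by
      intro w hw
      have : (⟨ConjClasses.mk w, w, rfl, hw⟩ :
        {c : ConjClasses G // ∃ g : G, ConjClasses.mk g = c ∧ ∀ ω : Ω, g • ω ≠ ω}) ∈
          ({c₁, c₂} : Set _) := hc ▸ Set.mem_univ _
      rcases this with h | h
      · exact Or.inl (congrArg Subtype.val h)
      · exact Or.inr (congrArg Subtype.val h)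
    simp only [← ConjClasses.mk_eq_mk_iff_isConj]
    rcases key x hx with h1 | h1 <;> rcases key y hy with h2 | h2 <;>
      rcases key z hz with h3 | h3 <;> simp [h1, h2, h3]
  obtain ⟨N, hNn, hN, hcomm⟩ : ∃ N : Subgroup G, N.Normal ∧ N ≠ ⊥ ∧ IsMulCommutative N := by
    by_contra hna
    obtain ⟨x, y, z, hx, hy, hz, hxy, hxz, hyz⟩ := exists_three_derangements hprim hnas hna
    rcases hthree x y z hx hy hz with h | h | h <;> contradiction
  have ht := isPretransitive_of_normal_of_ne_bot hprim N hN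
  have hreg : ∀ a : Ω, ∀ n ∈ N, n • a = a → n = 1 := fun a n hn h =>
    regular_of_comm hprim N hN hcomm hn h
  have haff : ∃ N : Subgroup G, N.Normal ∧ N ≠ ⊥ ∧ IsMulCommutative N ∧
      ∀ ω : Ω, MulAction.stabilizer N ω = ⊥ := by
    refine ⟨N, hNn, hN, hcomm, fun ω => ?_⟩
    rw [eq_bot_iff]
    intro n hn
    exact Subtype.ext (hreg ω n n.2 hn)
  right
  by_cases h2 : IsMultiplyPretransitive G Ω 2
  · right
    refine ⟨haff, h2, ?_⟩
    by_contra hcon
    push Not at hcon
    apply hc12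
    obtain ⟨_, x, rfl, hx⟩ := c₁
    obtain ⟨_, y, rfl, hy⟩ := c₂
    refine Subtype.ext (ConjClasses.mk_eq_mk_iff_isConj.mpr
      (isConj_of_sharply_two h2 (fun g a b hab ha hb => by_contra fun h => ?_) (a := α) hx hy))
    have h1 := hcon g h
    have : Nontrivial (fixedBy Ω g) := ⟨⟨⟨a, ha⟩, ⟨b, hb⟩, fun e => hab (congrArg Subtype.val e)⟩⟩
    have := Finite.one_lt_card (α := fixedBy Ω g)
    omega
  left
  obtain ⟨b, c, hb, hc', hbc⟩ : ∃ b c : Ω, b ≠ α ∧ c ≠ α ∧ ¬ ∃ g : G, g • α = α ∧ g • b = c := by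
    by_contra h
    push Not at h
    exact h2 (two_transitive_of_stabilizer α h)
  have hder : ∀ n : N, n • α ≠ α → ∀ ω : Ω, (n : G) • ω ≠ ω := fun n h1 ω h =>
    h1 (by change (n : G) • α = α; rw [hreg ω n n.2 h, one_smul])
  obtain ⟨n₁, rfl⟩ := ht.exists_smul_eq α b
  obtain ⟨n₂, rfl⟩ := ht.exists_smul_eq α c
  have hn12 : ¬ IsConj (n₁ : G) n₂ := by
    rwa [isConj_iff_of_regular N hcomm ht (hreg α) n₁.2 n₂.2]
  have hall : ∀ g : G, (∀ ω : Ω, g • ω ≠ ω) → IsConj (n₁ : G) g ∨ IsConj (n₂ : G) g := fun g hg =>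
    (hthree _ _ g (hder n₁ hb) (hder n₂ hc') hg).resolve_left hn12
  have hD : ∀ g : G, (∀ ω : Ω, g • ω ≠ ω) → g ∈ N := by
    intro g hg
    rcases hall g hg with h | h
    · obtain ⟨c, rfl⟩ := isConj_iff.mp h
      exact hNn.conj_mem _ n₁.2 _
    · obtain ⟨c, rfl⟩ := isConj_iff.mp h
      exact hNn.conj_mem _ n₂.2 _
  have hs : ∀ g : G, ∀ a b : Ω, a ≠ b → g • a = a → g • b = b → g = 1 := fun g a b hab ha hb =>
    hreg a g (two_point_le_of_derang_le N hD hab ⟨ha, hb⟩) ha
  have horb : ∀ b : Ω, b ≠ α → (orbit (stabilizer G α) b).ncard = Nat.card (stabilizer G α) := by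
    intro b hb
    rw [← index_stabilizer]
    have : stabilizer (stabilizer G α) b = ⊥ := by
      rw [eq_bot_iff]
      intro g hg
      exact Subtype.ext (hs g α b hb.symm g.2 hg)
    rw [this, Subgroup.index_bot]
  have hcard : 2 * Nat.card (stabilizer G α) = Fintype.card Ω - 1 := by
    have h1 : orbit (stabilizer G α) (n₁ • α) ∪ orbit (stabilizer G α) (n₂ • α) = {α}ᶜ := by
      apply Set.Subset.antisymm
      · rintro y (⟨g, rfl⟩ | ⟨g, rfl⟩) h
        · exact hb (smul_left_cancel (g : G) (h.trans g.2.symm))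
        · exact hc' (smul_left_cancel (g : G) (h.trans g.2.symm))
      · intro y hy
        obtain ⟨n, rfl⟩ := ht.exists_smul_eq α y
        rcases hall n (hder n hy) with h | h
        · obtain ⟨g, h1, h3⟩ := (isConj_iff_of_regular N hcomm ht (hreg α) n₁.2 n.2).mp h
          exact Or.inl ⟨⟨g, h1⟩, h3⟩
        · obtain ⟨g, h1, h3⟩ := (isConj_iff_of_regular N hcomm ht (hreg α) n₂.2 n.2).mp h
          exact Or.inr ⟨⟨g, h1⟩, h3⟩
    have h3 : Disjoint (orbit (stabilizer G α) (n₁ • α)) (orbit (stabilizer G α) (n₂ • α)) := by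
      rcases orbit.eq_or_disjoint (G := stabilizer G α) (n₁ • α) (n₂ • α) with h | h
      · obtain ⟨g, hg⟩ : n₂ • α ∈ orbit (stabilizer G α) (n₁ • α) := h ▸ mem_orbit_self _
        exact absurd ⟨g, g.2, hg⟩ hbc
      · exact h
    have h4 := Set.ncard_union_eq h3
    rw [h1, horb _ hb, horb _ hc', Set.ncard_compl, Set.ncard_singleton,
      Nat.card_eq_fintype_card] at h4
    omega
  refine ⟨haff, fun g hg => ?_, by omega, hcard⟩
  rw [Finite.card_le_one_iff_subsingleton]
  exact ⟨fun x y => Subtype.ext (by_contra fun h => hg (hs g x y h x.2 y.2))⟩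

end Cfsg.Agent.S3520
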