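import Cfsg.Statements.S3554

set_option autoImplicit false
open Cfsg

namespace Cfsg.Agent.S3554


/-- Let G act faithfully and transitively on a finite set and suppose G has a non-trivial cyclic normal subgroup. Then some element of G of prime order fixes no point. -/
theorem result {G Ω : Type*} [Group G] [Finite G] [MulAction G Ω] [FaithfulSMul G Ω] [Finite Ω]
    (htrans : MulAction.IsPretransitive G Ω) (C : Subgroup G) (hC : C.Normal) (hC1 : C ≠ ⊥) (hcyc : IsCyclic ↥C) :
    ∃ g : G, (orderOf g).Prime ∧ ∀ ω : Ω, g • ω ≠ ω := by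
  obtain ⟨c, hc⟩ := IsCyclic.exists_generator (α := C)
  have hcard : Nat.card C ≠ 1 := by
    intro h
    exact hC1 (Subgroup.eq_bot_of_card_eq C h)
  obtain ⟨p, hp, hpd⟩ := Nat.exists_prime_and_dvd hcard
  haveI := Fact.mk hp
  obtain ⟨g, hg⟩ := exists_prime_orderOf_dvd_card' p hpd
  have hgo : orderOf (g : G) = p := by rw [Subgroup.orderOf_coe]; exact hg
  refine ⟨g, hgo ▸ hp, fun ω hω => ?_⟩
  obtain ⟨m, hm⟩ := hc g
  have hm' : (c : G) ^ m = g := by
    have := congrArg Subtype.val hm
    simpa using this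
  have key : ∀ h : G, (h⁻¹ * g * h) • ω = ω := by
    intro h
    have hmem : h⁻¹ * c * h ∈ C := by
      have := hC.conj_mem c c.2 h⁻¹
      simpa using this
    obtain ⟨k, hk⟩ := hc ⟨_, hmem⟩
    have hk' : (c : G) ^ k = h⁻¹ * c * h := by
      have := congrArg Subtype.val hk
      simpa using this
    have : h⁻¹ * g * h = (g : G) ^ k := by
      rw [← hm', ← zpow_mul, mul_comm m k, zpow_mul, hk']
      have := @conj_zpow G _ m h⁻¹ c
      simpa using this.symm
    rw [this]
    exact MulAction.mem_stabilizer_iff.mp (Subgroup.zpow_mem _ (MulAction.mem_stabilizer_iff.mpr hω) k)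
  have h1 : (g : G) = 1 := by
    apply FaithfulSMul.eq_of_smul_eq_smul (α := Ω)
    intro x
    obtain ⟨h, rfl⟩ := htrans.exists_smul_eq ω x
    have := key h
    rw [mul_smul, mul_smul, inv_smul_eq_iff] at this
    rw [this, one_smul]
  rw [h1, orderOf_one] at hgo
  exact hp.one_lt.ne hgo

end Cfsg.Agent.S3554
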