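import Cfsg.Statements.S3555
import Cfsg.Agent.PERM.Derange

set_option autoImplicit false
open Cfsg

namespace Cfsg.Agent.S3555

open MulAction Finset
open scoped Pointwise

theorem two_point_trivial {G Ω : Type*} [Group G] [Finite G] [MulAction G Ω] [FaithfulSMul G Ω]
    [Finite Ω] [IsPretransitive G Ω] (hinv : ∀ g : G, (∀ ω : Ω, g • ω ≠ ω) → g * g = 1)
    (g : G) (a b : Ω) (hab : a ≠ b) (ha : g • a = a) (hb : g • b = b) : g = 1 := by
  classical
  have := Fintype.ofFinite G
  have := Fintype.ofFinite Ω
  have : Nonempty Ω := ⟨a⟩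
  set f : G → ℕ := fun g => #{x : Ω | g • x = x} with hf
  have hf' : ∀ g, Nat.card (fixedBy Ω g) = f g := by
    intro g
    rw [Nat.card_eq_fintype_card, Fintype.card_subtype]
    rfl
  have h1 : ∑ g, f g = Fintype.card G := by
    have := CL.Perm.burnside_sum G Ω
    rw [(CL.Perm.card_orbits_eq_one_iff G Ω).mpr inferInstance, one_mul] at this
    simpa [hf'] using this
  set D : Finset G := {g | ∀ ω : Ω, g • ω ≠ ω} with hD
  have hA : ∀ a b : Ω, #{d ∈ D | d • a = b} + (if a = b then #{g : G | g • a = a} else 0) ≤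
      #{g : G | g • a = a ∧ g • b = b} := by
    intro a b
    split_ifs with h
    · subst h
      have : ({d ∈ D | d • a = a} : Finset G) = ∅ := by
        rw [filter_eq_empty_iff]
        intro d hd
        exact (mem_filter.mp hd).2 a
      simp [this]
    · rw [add_zero]
      rcases ({d ∈ D | d • a = b} : Finset G).eq_empty_or_nonempty with h0 | ⟨d₀, h0⟩
      · simp [h0]
      have hsw : ∀ d ∈ ({d ∈ D | d • a = b} : Finset G), d • a = b ∧ d • b = a := by
        intro d hd
        rw [mem_filter] at hd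
        refine ⟨hd.2, ?_⟩
        rw [← hd.2, ← mul_smul, hinv d (mem_filter.mp hd.1).2, one_smul]
      apply card_le_card_of_injOn (fun d => d₀ * d)
      · intro d hd
        simp only [coe_filter, mem_univ, true_and, Set.mem_ofPred_eq, mul_smul]
        rw [(hsw d hd).1, (hsw d hd).2, (hsw d₀ h0).1, (hsw d₀ h0).2]
        exact ⟨rfl, rfl⟩
      · intro x _ y _ h
        exact mul_left_cancel h
  have hB : ∀ a : Ω, ∑ b, #{d ∈ D | d • a = b} = #D := fun a =>
    (card_eq_sum_card_fiberwise (f := fun d => d • a) (t := univ) (by simp)).symm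
  have hC : ∑ a : Ω, #{g : G | g • a = a} = ∑ g, f g := by
    simp only [hf, card_filter]
    exact sum_comm
  have hE : ∑ a : Ω, ∑ b : Ω, #{g : G | g • a = a ∧ g • b = b} = ∑ g, f g * f g := by
    simp only [hf, card_filter, sum_mul_sum]
    rw [sum_comm]
    conv_lhs => enter [2, b]; rw [sum_comm]
    rw [sum_comm]
    apply sum_congr rfl
    intro g _
    rw [sum_comm]
    apply sum_congr rfl
    intro x _
    apply sum_congr rfl
    intro y _
    by_cases h1 : g • x = x <;> by_cases h2 : g • y = y <;> simp [h1, h2]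
  have h2 : Fintype.card Ω * #D + Fintype.card G ≤ ∑ g, f g * f g := by
    rw [← hE, ← h1, ← hC]
    calc _ = ∑ a : Ω, ∑ b : Ω, (#{d ∈ D | d • a = b} +
          (if a = b then #{g : G | g • a = a} else 0)) := by
          simp only [sum_add_distrib, hB, sum_ite_eq, mem_univ, if_true, sum_const, card_univ,
            smul_eq_mul]
      _ ≤ _ := sum_le_sum fun a _ => sum_le_sum fun b _ => hA a b
  set n := Fintype.card Ω with hn
  have hfn : ∀ g, f g ≤ n := fun g => card_le_univ _
  have hfD : ∀ g ∈ D, f g = 0 := by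
    intro g hg
    simp only [hf, card_eq_zero, filter_eq_empty_iff]
    exact fun x _ => (mem_filter.mp hg).2 x
  have hfD' : ∀ g, g ∉ D → 1 ≤ f g := by
    intro g hg
    simp only [hD, mem_filter, mem_univ, true_and, not_forall, not_not] at hg
    obtain ⟨x, hx⟩ := hg
    exact card_pos.mpr ⟨x, by simpa using hx⟩
  have h3 : ∑ g, ((f g : ℤ) - 1) * (n - f g) = Fintype.card G - ∑ g, (f g : ℤ) * f g := by
    have : ∀ g, ((f g : ℤ) - 1) * (n - f g) = (n + 1) * f g - n - f g * f g := fun g => by ring
    simp only [this, sum_sub_distrib, ← mul_sum, sum_const, card_univ]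
    have h1' : ∑ g, (f g : ℤ) = Fintype.card G := by exact_mod_cast h1
    rw [h1']
    simp
    ring
  rw [← sum_filter_add_sum_filter_not _ (· ∈ D)] at h3
  have h4 : ∑ g ∈ univ.filter (· ∈ D), ((f g : ℤ) - 1) * (n - f g) = - (n * #D) := by
    rw [sum_congr rfl (g := fun _ => - (n : ℤ))]
    · simp [mul_comm]
    · intro g hg
      rw [hfD g (mem_filter.mp hg).2]
      simp
  have hnn : ∀ g ∈ univ.filter (fun g => ¬ g ∈ D), 0 ≤ ((f g : ℤ) - 1) * (n - f g) := by
    intro g hg
    have h5 := hfD' g (mem_filter.mp hg).2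
    have h6 := hfn g
    apply mul_nonneg <;> omega
  have h2' : (n : ℤ) * #D + Fintype.card G ≤ ∑ g, (f g : ℤ) * f g := by exact_mod_cast h2
  have h5 : ∑ g ∈ univ.filter (fun g => ¬ g ∈ D), ((f g : ℤ) - 1) * (n - f g) = 0 :=
    le_antisymm (by linarith) (sum_nonneg hnn)
  have hgD : g ∉ D := fun h => (mem_filter.mp h).2 a ha
  have h6 := (sum_eq_zero_iff_of_nonneg hnn).mp h5 g (by simpa using hgD)
  have h7 : 1 < f g := one_lt_card.mpr ⟨a, by simpa using ha, b, by simpa using hb, hab⟩
  have h8 : f g = n := by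
    rcases mul_eq_zero.mp h6 with h | h <;> omega
  have h9 : ({x : Ω | g • x = x} : Finset Ω) = univ := (card_eq_iff_eq_univ _).mp h8
  apply FaithfulSMul.eq_of_smul_eq_smul (α := Ω)
  intro x
  have : x ∈ ({x : Ω | g • x = x} : Finset Ω) := by rw [h9]; exact mem_univ x
  rw [one_smul]
  simpa using this


/-- Let G act faithfully and transitively on a finite set and suppose every element of G fixing no point is an involution. Then either G is an elementary abelian 2-group, or G is a Frobenius group whose Frobenius kernel is an elementary abelian 2-group: G has a Frobenius complement H, and the elements lying in no conjugate of H, together with the identity, pairwise commute and square to the identity. -/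
theorem result {G Ω : Type*} [Group G] [Finite G] [MulAction G Ω] [FaithfulSMul G Ω] [Finite Ω]
    (htrans : MulAction.IsPretransitive G Ω) (hinv : ∀ g : G, (∀ ω : Ω, g • ω ≠ ω) → orderOf g = 2) :
    (IsMulCommutative G ∧ ∀ g : G, g ^ 2 = 1) ∨
    (∃ H : Subgroup G, Cfsg.IsFrobeniusComplement H ∧
      (∀ x ∈ Cfsg.frobeniusKernel H, x ^ 2 = 1) ∧
      ∀ x ∈ Cfsg.frobeniusKernel H, ∀ y ∈ Cfsg.frobeniusKernel H, x * y = y * x) := by
  have hinv' : ∀ g : G, (∀ ω : Ω, g • ω ≠ ω) → g * g = 1 := by
    intro g hg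
    have := pow_orderOf_eq_one g
    rwa [hinv g hg, pow_two] at this
  have key := two_point_trivial (G := G) (Ω := Ω) hinv'
  rcases isEmpty_or_nonempty Ω with hΩ | ⟨⟨a⟩⟩
  · have := hinv 1 (fun x => isEmptyElim x)
    simp at this
  have hcomm : ∀ x y : G, (x = 1 ∨ ∀ ω : Ω, x • ω ≠ ω) → (y = 1 ∨ ∀ ω : Ω, y • ω ≠ ω) →
      x * y = y * x := by
    rintro x y (rfl | hx) (rfl | hy)
    · rfl
    · simp
    · simp
    by_cases hxy : x = y
    · rw [hxy]
    have hx2 := hinv' x hx
    have hy2 := hinv' y hy
    have hd : ∀ ω : Ω, (x * y) • ω ≠ ω := by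
      intro ω hω
      have h1 : y • ω = x • ω := by
        have := congrArg (x • ·) hω
        simp only [← mul_smul, ← mul_assoc, hx2, one_mul] at this
        exact this
      have h2 : (x * y) • (y • ω) = y • ω := by
        rw [← mul_smul, mul_assoc, hy2, mul_one, h1]
      have := key (x * y) ω (y • ω) (hy ω).symm hω h2
      apply hxy
      rw [← mul_right_inj x, hx2, this]
    have h3 := hinv' _ hd
    have hxi : x⁻¹ = x := inv_eq_of_mul_eq_one_right hx2
    have hyi : y⁻¹ = y := inv_eq_of_mul_eq_one_right hy2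
    rw [← inv_eq_of_mul_eq_one_right h3, mul_inv_rev, hxi, hyi]
  have hmem : ∀ g x : G, x ∈ MulAut.conj g • stabilizer G a ↔ x • g • a = g • a := by
    intro g x
    rw [Subgroup.mem_pointwise_smul_iff_inv_smul_mem, mem_stabilizer_iff]
    simp [mul_smul, inv_smul_eq_iff]
  by_cases hbot : stabilizer G a = ⊥
  · left
    have hall : ∀ g : G, g = 1 ∨ ∀ ω : Ω, g • ω ≠ ω := by
      intro g
      by_cases hg : g = 1
      · exact Or.inl hg
      · right
        intro ω hω
        obtain ⟨h, rfl⟩ := htrans.exists_smul_eq a ω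
        rw [← hmem, hbot] at hω
        simp at hω
        exact hg hω
    refine ⟨⟨⟨fun x y => hcomm x y (hall x) (hall y)⟩⟩, fun g => ?_⟩
    rcases hall g with rfl | hg
    · simp
    · rw [pow_two, hinv' g hg]
  · right
    have hker : ∀ x ∈ Cfsg.frobeniusKernel (stabilizer G a), x = 1 ∨ ∀ ω : Ω, x • ω ≠ ω := by
      rintro x (hx | hx)
      · exact Or.inl hx
      · right
        intro ω hω
        obtain ⟨h, rfl⟩ := htrans.exists_smul_eq a ω
        exact hx h ((hmem _ _).mpr hω)
    refine ⟨stabilizer G a, ⟨hbot, ?_, ?_⟩, ?_, fun x hx y hy => hcomm x y (hker x hx) (hker y hy)⟩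
    · intro htop
      apply hbot
      rw [eq_bot_iff]
      intro g _
      rw [Subgroup.mem_bot]
      apply FaithfulSMul.eq_of_smul_eq_smul (α := Ω)
      intro x
      obtain ⟨h, rfl⟩ := htrans.exists_smul_eq a x
      have : g * h ∈ stabilizer G a := htop ▸ Subgroup.mem_top _
      have h2 : h ∈ stabilizer G a := htop ▸ Subgroup.mem_top _
      rw [← mul_smul, this, one_smul, h2]
    · intro g hg
      rw [eq_bot_iff]
      intro x hx
      rw [Subgroup.mem_bot]
      exact key x a (g • a) (fun h => hg h.symm) hx.1 ((hmem _ _).mp hx.2)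
    · intro x hx
      rcases hker x hx with rfl | h
      · simp
      · rw [pow_two, hinv' x h]

end Cfsg.Agent.S3555
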