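import Cfsg.Statements.S3556
import Cfsg.Agent.PERM.DerClass

set_option autoImplicit false
open Cfsg

namespace Cfsg.Agent.S3556

open MulAction Subgroup CL.ONS CL.Perm CL.SPow

/-- Let G act faithfully and primitively on a finite set with at least two points, and suppose that for some fixed prime p every element of G fixing no point has order a power of p. Then G is of affine type (it has a regular normal subgroup that is an elementary abelian r-group for some prime r) or almost simple (it has a non-abelian simple normal subgroup with trivial centralizer). -/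
theorem result {G Ω : Type*} [Group G] [Finite G] [MulAction G Ω] [FaithfulSMul G Ω] [Finite Ω]
    (hprim : MulAction.IsPreprimitive G Ω) (hΩ : 2 ≤ Nat.card Ω) (p : ℕ) (hp : p.Prime)
    (hder : ∀ g : G, (∀ ω : Ω, g • ω ≠ ω) → ∃ k : ℕ, orderOf g = p ^ k) :
    (∃ (N : Subgroup G) (r : ℕ), r.Prime ∧ N.Normal ∧ Cfsg.IsElementaryAbelian r N ∧
      MulAction.IsPretransitive N Ω ∧ ∀ a : Ω, MulAction.stabilizer N a = ⊥) ∨
    (∃ T : Subgroup G, T.Normal ∧ IsSimpleGroup ↥T ∧ ¬ IsMulCommutative ↥T ∧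
      Subgroup.centralizer (T : Set G) = ⊥) := by
  classical
  have : Nontrivial Ω := Finite.one_lt_card_iff_nontrivial.mp hΩ
  obtain ⟨a, b, hab⟩ := exists_pair_ne Ω
  have htop : (⊤ : Subgroup G) ≠ ⊥ := by
    intro h
    obtain ⟨g, hg⟩ := exists_smul_eq G a b
    have : g ∈ (⊥ : Subgroup G) := h ▸ mem_top g
    rw [mem_bot.mp this, one_smul] at hg
    exact hab hg
  obtain ⟨N, hNn, hN, -, hmin⟩ := exists_minimal_normal_le (⊤ : Subgroup G) htop
  by_cases hnab : IsMulCommutative N
  · obtain ⟨r, hr, hr'⟩ := elementary_of_minimal_normal_of_comm N hN hmin hnab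
    exact Or.inl ⟨N, r, hr, hNn, ⟨hnab, hr'⟩, isPretransitive_of_normal_of_ne_bot hprim N hN,
      fun ω => eq_bot_iff.mpr fun x hx => Subtype.ext (regular_of_comm hprim N hN hnab x.2 hx)⟩
  right
  by_contra hnas
  obtain ⟨T, _, _, m, E, h1, hT, hm, hE, h4⟩ := ons_core hprim a N hN hmin hnab
  have : Nonempty (Fin m) := ⟨⟨0, hm⟩⟩
  obtain ⟨s, hs⟩ : ∃ s : T, ∀ k, s ^ p ^ k ≠ 1 := by
    by_contra h
    push Not at h
    have := Fact.mk hp
    have h2 : IsPGroup p T := h
    have := h2.center_nontrivial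
    obtain ⟨z, hz⟩ := exists_ne (1 : center T)
    exact hz (Subtype.ext (eq_one_of_forall_comm hT (mem_center_iff.mp z.2)))
  have hs1 : s ≠ 1 := fun e => hs 0 (by simp [e])
  have key : ∀ (x : Fin m → T) (j : Fin m), x j = s → (∀ y, y⁻¹ * x * y ∉ E.R a) → False := by
    intro x j hx h
    obtain ⟨k, hk⟩ := hder _ (E.forall_smul_ne hprim a h)
    have h2 := pow_orderOf_eq_one (E.f x)
    rw [hk, ← map_pow, map_eq_one_iff _ E.inj] at h2
    exact hs k (by simpa [hx] using congrFun h2 j)
  by_cases hC : centralizer (N : Set G) = ⊥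
  swap
  · refine key (Pi.mulSingle ⟨0, hm⟩ s) ⟨0, hm⟩ (by simp) fun y hy => hs1 ?_
    rw [E.R_eq_bot hprim (hE ▸ hC), mem_bot] at hy
    simpa [mul_assoc, inv_mul_eq_one] using congrFun hy ⟨0, hm⟩
  have hm2 : 2 ≤ m := by
    by_contra h
    obtain rfl : m = 1 := by omega
    exact hnas ⟨N, hNn, hE ▸ E.isSimpleGroup_range, hnab, hC⟩
  rcases h4 with ⟨K, hK, hK'⟩ | ⟨k, c, hk, -, hc, hc'⟩
  · let i : Fin m := ⟨0, by omega⟩
    let j : Fin m := ⟨1, by omega⟩
    have hij : i ≠ j := by simp [i, j]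
    obtain ⟨d, hd⟩ := CL.exists_forall_conj_notMem (hK i)
    refine key (Pi.mulSingle i d * Pi.mulSingle j s) j (by simp [hij.symm]) fun y hy => ?_
    have := (hK' _).mp hy i
    simp [hij] at this
    exact hd _ this
  · let i : Fin m := ⟨0, by omega⟩
    obtain ⟨⟨j, hj⟩, hji⟩ : ∃ j : {j // c j = c i}, j ≠ ⟨i, rfl⟩ := by
      have : Nontrivial {j // c j = c i} := Finite.one_lt_card_iff_nontrivial.mp (by rw [hc]; omega)
      exact exists_ne _
    have hji' : j ≠ i := fun h => hji (Subtype.ext h)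
    refine key (Pi.mulSingle i s) i (by simp) fun y hy => hs1 ?_
    simpa [hji', mul_assoc, inv_mul_eq_one] using (hc' _).mp hy i j hj.symm

end Cfsg.Agent.S3556
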