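import Cfsg.Statements.S3557
import Cfsg.Agent.ORD.TwoClosed

set_option autoImplicit false
open Cfsg

open CL.Ord.TC Subgroup MulAction
namespace Cfsg.Agent.S3557

/-- Let G act faithfully and transitively on a finite set with 2p² points, p a prime, and suppose G is 2-closed: every permutation of the set which, on each ordered pair of points, agrees with some element of G, is itself induced by an element of G. Then some element of G of prime order fixes no point. -/
theorem result {G Ω : Type*} [Group G] [Finite G] [MulAction G Ω] [FaithfulSMul G Ω] [Finite Ω]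
    (htrans : MulAction.IsPretransitive G Ω) (p : ℕ) (hp : p.Prime) (hcard : Nat.card Ω = 2 * p ^ 2)
    (hcl : ∀ σ : Equiv.Perm Ω, (∀ a b : Ω, ∃ g : G, σ a = g • a ∧ σ b = g • b) → ∃ g : G, ∀ a : Ω, σ a = g • a) :
    ∃ g : G, (orderOf g).Prime ∧ ∀ ω : Ω, g • ω ≠ ω := by
  have := Fact.mk hp
  obtain ⟨P⟩ : Nonempty (Sylow p G) := inferInstance
  have hpos : 0 < p ^ 2 := pow_pos hp.pos 2
  obtain ⟨α⟩ : Nonempty Ω := (Nat.card_pos_iff.1 (by omega)).1
  have hd := pow_dvd_index P (k := 2) (hcard ▸ dvd_mul_left _ _)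
  have fin : ∀ z : (P : Subgroup G), z ∈ center (P : Subgroup G) → z ^ p = 1 →
      (∀ ω : Ω, z ∉ orbKer (P : Subgroup G) ω) → ∃ g : G, (orderOf g).Prime ∧ ∀ ω : Ω, g • ω ≠ ω :=
    fun z h1 h2 h3 => ⟨z, by
      rw [orderOf_coe, orderOf_eq_prime h2 fun e => h3 α (e ▸ one_mem _)]; exact hp,
      fun ω => ne_of_central h1 (h3 ω) (mem_orbit_self ω)⟩
  have hP : (⊤ : Subgroup (P : Subgroup G)) ≠ ⊥ := fun e => by
    have h1 := (hd α).trans (index_dvd_card _)
    rw [← card_top, e, card_bot, Nat.dvd_one] at h1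
    nlinarith [hp.two_le]
  have fin' : (∀ ω : Ω, orbKer (P : Subgroup G) ω = ⊥) →
      ∃ g : G, (orderOf g).Prime ∧ ∀ ω : Ω, g • ω ≠ ω := fun h => by
    obtain ⟨z, -, h1, h2⟩ := CL.PN.exists_mem_center_orderOf_eq P.2 _ hP
    refine fin z h1 (orderOf_dvd_iff_pow_eq_one.1 h2.dvd) fun ω e => hp.ne_one ?_
    rw [h ω, mem_bot] at e
    rw [← h2, e, orderOf_one]
  have hle : ∀ ω : Ω, (stabilizer (P : Subgroup G) ω).index = (orbit (P : Subgroup G) ω).ncard :=
    fun ω => index_stabilizer _ _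
  have hu : (Set.univ : Set Ω).ncard = 2 * p ^ 2 := by rw [Set.ncard_univ, hcard]
  by_cases h2 : p = 2
  · subst h2
    refine fin' fun ω => eq_bot_iff.2 fun x hx => Subtype.ext (eq_of_smul_eq_smul (α := Ω) fun a => ?_)
    have h1 := Nat.le_of_dvd (Nat.pos_of_ne_zero index_ne_zero_of_finite)
      (pow_dvd_index P (k := 3) (hcard ▸ by norm_num) ω)
    have h3 : orbit (P : Subgroup G) ω = Set.univ :=
      Set.eq_of_subset_of_ncard_le (Set.subset_univ _) (by rw [hu, ← hle]; omega)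
    exact (mem_orbKer.1 hx a (h3 ▸ Set.mem_univ a)).trans (one_smul G a).symm
  have hi : ∀ ω : Ω, (stabilizer (P : Subgroup G) ω).index = p ^ 2 := fun ω => by
    obtain ⟨k, hk⟩ := P.2.index (stabilizer (P : Subgroup G) ω)
    have h1 := (Nat.pow_dvd_pow_iff_le_right hp.one_lt).1 (hk ▸ hd ω)
    have h3 : p ^ k ≤ 2 * p ^ 2 := by
      rw [← hk, hle, ← hu]; exact Set.ncard_le_ncard (Set.subset_univ _)
    have h4 : k < 3 := by
      by_contra h4
      have := Nat.pow_le_pow_right hp.pos (not_lt.1 h4)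
      have := hp.two_le
      have : 3 ≤ p := by omega
      nlinarith [pow_succ p 2]
    rw [hk, show k = 2 by omega]
  obtain ⟨β, -, hβ⟩ := Set.exists_mem_notMem_of_ncard_lt_ncard (s := orbit (P : Subgroup G) α)
    (t := Set.univ) (by rw [hu, ← hle, hi]; omega)
  have hdis : Disjoint (orbit (P : Subgroup G) α) (orbit (P : Subgroup G) β) :=
    Set.disjoint_left.2 fun ω h1 h3 => hβ (orbit_eq_iff.2 h1 ▸ orbit_eq_iff.2 h3 ▸ mem_orbit_self β)
  have hcov : orbit (P : Subgroup G) α ∪ orbit (P : Subgroup G) β = Set.univ :=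
    Set.eq_of_subset_of_ncard_le (Set.subset_univ _) (by
      rw [hu, Set.ncard_union_eq hdis, ← hle, ← hle, hi, hi]; omega)
  have hor : ∀ ω, ω ∈ orbit (P : Subgroup G) α ∨ ω ∈ orbit (P : Subgroup G) β :=
    fun ω => (hcov ▸ Set.mem_univ ω : ω ∈ orbit (P : Subgroup G) α ∪ orbit (P : Subgroup G) β)
  have c1 : ∀ ω, ω ∈ orbit (P : Subgroup G) β ↔ ω ∉ orbit (P : Subgroup G) α := fun ω =>
    ⟨fun h h' => Set.disjoint_left.1 hdis h' h, (hor ω).resolve_left⟩
  have c2 : ∀ ω, ω ∈ orbit (P : Subgroup G) α ↔ ω ∉ orbit (P : Subgroup G) β := fun ω =>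
    ⟨fun h h' => Set.disjoint_left.1 hdis h h', (hor ω).resolve_right⟩
  have hk : ∀ ω : Ω, orbKer (P : Subgroup G) ω = orbKer (P : Subgroup G) α ∨
      orbKer (P : Subgroup G) ω = orbKer (P : Subgroup G) β := fun ω =>
    (hor ω).imp (fun h => by ext; rw [mem_orbKer, mem_orbKer, orbit_eq_iff.2 h])
      fun h => by ext; rw [mem_orbKer, mem_orbKer, orbit_eq_iff.2 h]
  by_cases h0 : orbKer (P : Subgroup G) α = ⊥
  · have h1 : orbKer (P : Subgroup G) β = ⊥ :=
      by_contra fun h => orbKer_ne_bot P hcl c1 (hi α) (hi β) h h0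
    exact fin' fun ω => (hk ω).elim (·.trans h0) (·.trans h1)
  obtain ⟨x, x1, x2, x3⟩ := CL.PN.exists_mem_center_orderOf_eq P.2 _ h0
  obtain ⟨y, y1, y2, y3⟩ := CL.PN.exists_mem_center_orderOf_eq P.2 _
    (orbKer_ne_bot P hcl c2 (hi β) (hi α) h0)
  have hint : ∀ z, z ∈ orbKer (P : Subgroup G) α → z ∈ orbKer (P : Subgroup G) β → orderOf z ≠ p :=
    fun z h1 h3 e => hp.ne_one (by
      rw [← e, show z = 1 from Subtype.ext (eq_of_smul_eq_smul (α := Ω) fun a =>
        ((hor a).elim (mem_orbKer.1 h1 a) (mem_orbKer.1 h3 a)).trans (one_smul G a).symm),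
        orderOf_one])
  refine fin (x * y) (mul_mem x2 y2) ?_ fun ω e => ?_
  · rw [Commute.mul_pow (mem_center_iff.1 y2 x), orderOf_dvd_iff_pow_eq_one.1 x3.dvd,
      orderOf_dvd_iff_pow_eq_one.1 y3.dvd, mul_one]
  · rcases hk ω with h | h <;> rw [h] at e
    · exact hint y ((mul_mem_cancel_left x1).1 e) y1 y3
    · exact hint x x1 ((mul_mem_cancel_right y1).1 e) x3

end Cfsg.Agent.S3557
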