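import Cfsg.Statements.S3579
import Cfsg.Agent.PERM.Pq.Main

set_option autoImplicit false
open Cfsg

namespace Cfsg.Agent.S3579

/-- Let G act faithfully and transitively on a finite set with 2pq points, where p and q are distinct odd primes. Then G contains an element of prime order fixing no point (G is not elusive). -/
theorem result {G Ω : Type*} [Group G] [Finite G] [MulAction G Ω] [FaithfulSMul G Ω] [Finite Ω]
    (htrans : MulAction.IsPretransitive G Ω) (p q : ℕ) (hp : p.Prime) (hq : q.Prime) (hp2 : p ≠ 2) (hq2 : q ≠ 2)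
    (hpq : p ≠ q) (hcard : Nat.card Ω = 2 * p * q) :
    ∃ g : G, (orderOf g).Prime ∧ ∀ ω : Ω, g • ω ≠ ω := by
  rcases lt_or_gt_of_ne hpq with h | h
  · exact CL.Pq.main htrans hq hp hp2 h (by rw [hcard]; ring)
  · exact CL.Pq.main htrans hp hq hq2 h hcard

end Cfsg.Agent.S3579
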