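import Cfsg.Statements.S3600
import Cfsg.Agent.FGS.CITFive
import Cfsg.Agent.TECH.SL2Nat
import Cfsg.Agent.PERM.SmallPres
import Cfsg.Agent.PERM.SpecPerm
set_option autoImplicit false
open Cfsg

namespace Cfsg.Agent.S3600

open CL CL.CITC CL.Push CL.TC Subgroup Matrix
open scoped MatrixGroups

/-- The affine map `x ↦ a x + v` as a matrix of degree three. -/
def affM {F : Type*} [Field F] (a : SL(2, F)) (v : Fin 2 → F) : SL(3, F) :=
  ⟨!![a 0 0, a 0 1, v 0; a 1 0, a 1 1, v 1; 0, 0, 1], by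
    simpa [det_fin_three] using (det_fin_two _).symm.trans a.det_coe⟩

theorem coe_affM {F : Type*} [Field F] (a : SL(2, F)) (v : Fin 2 → F) :
    (affM a v : Matrix (Fin 3) (Fin 3) F) = !![a 0 0, a 0 1, v 0; a 1 0, a 1 1, v 1; 0, 0, 1] := rfl

theorem affM_mul {F : Type*} [Field F] (a b : SL(2, F)) (v w : Fin 2 → F) :
    affM (a * b) (v + (a : Matrix (Fin 2) (Fin 2) F) *ᵥ w) = affM a v * affM b w := by
  ext i j
  fin_cases i <;> fin_cases j <;> 
    simp [coe_affM, mul_apply, add_comm, Fin.sum_univ_three, vecHead, vecTail]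

theorem exists_section {G : Type*} [Group G] [Finite G] (h : IsCIT G) {ρ : G →* alternatingGroup (Fin 5)}
    (hρ : Function.Surjective ρ) (hK : IsPGroup 2 ρ.ker) :
    ∃ s : alternatingGroup (Fin 5) →* G, ∀ a, ρ (s a) = a := by
  have := Fact.mk Nat.prime_five
  have h1 : ∀ x : G, ∀ p, p.Prime → p ≠ 2 → orderOf (ρ x) = p → x ^ p = 1 := fun x p hp hp2 hx => by
    obtain ⟨k, hk⟩ := hK ⟨x ^ p, by rw [MonoidHom.mem_ker, map_pow, ← hx, pow_orderOf_eq_one]⟩
    by_cases ho : Odd (orderOf x)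
    · exact orderOf_eq_one_iff.1 (Nat.Coprime.eq_one_of_dvd ((Nat.coprime_two_right.2
        (ho.of_dvd_nat (orderOf_pow_dvd p))).pow_right k) (orderOf_dvd_of_pow_eq_one (congrArg Subtype.val hk)))
    · exact absurd (isCIT_iff.1 h x (even_iff_two_dvd.1 (Nat.not_odd_iff_even.1 ho)) p hp
        (hx ▸ orderOf_map_dvd ρ x)) hp2
  obtain ⟨x, hx⟩ := hρ a5x
  obtain ⟨y, hy⟩ := hρ a5y
  obtain ⟨d, hd, h2⟩ := CIT.IsCIT.exists_invol_coset h hK (H := ⊤) (normalizer_eq_top _).ge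
    (mem_top (x * y)) (fun h2 => a5xy_ne (by
      rw [MSS.oP_top] at h2
      have h3 := mem_map_of_mem ρ h2
      rcases ((inferInstance : (pCore 2 G).Normal).map ρ hρ).eq_bot_or_eq_top with h4 | h4
      · rwa [h4, mem_bot, map_mul, hx, hy] at h3
      · obtain ⟨k, hk⟩ := ((isPGroup_pCore 2 G).map ρ).exists_card_eq
        rw [h4, card_top, card_a5] at hk
        exact absurd (Nat.prime_three.dvd_of_dvd_pow (hk ▸ by decide : 3 ∣ 2 ^ k)) (by decide)))
    (by rw [MonoidHom.mem_ker, ← sq, map_pow, map_mul, hx, hy, a5xy_pow])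
  have h3 : ρ (d * x) = a5x := by rw [map_mul, hd, one_mul, hx]
  obtain ⟨s, h4, h5⟩ := exists_hom_A5
    (h1 (d * x) 3 Nat.prime_three (by decide) (h3 ▸ orderOf_eq_prime a5x_pow (by decide)))
    (h1 y 5 Nat.prime_five (by decide) (hy ▸ orderOf_eq_prime a5y_pow (by decide)))
    (by rwa [sq, mul_assoc d])
  refine ⟨s, DFunLike.congr_fun (MonoidHom.eq_of_eqOn_dense a5_gen (f := ρ.comp s) (g := .id _) ?_)⟩
  rintro _ (rfl | rfl)
  exacts [(congrArg ρ h4).trans h3, (congrArg ρ h5).trans hy]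


/-- A finite group is critical with respect to a set Ω of natural numbers when its set of element orders is Ω while no proper section has Ω as its set of element orders. A finite group critical with respect to {1, 2, 3, 4, 5} (the set of element orders of the alternating group of degree 6) is isomorphic either to the alternating group of degree 6 or to the affine group F² ⋊ SL(2,F) over the field F with four elements (realised as the matrices of SL(3,F) with last row (0, 0, 1)). -/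
theorem result {G : Type*} [Group G] [Finite G]
    (hcrit : Set.range (orderOf : G → ℕ) = ({1, 2, 3, 4, 5} : Set ℕ) ∧
      ∀ (H : Subgroup G) (N : Subgroup ↥H) [N.Normal], (H ≠ ⊤ ∨ N ≠ ⊥) → Set.range (orderOf : (↥H ⧸ N) → ℕ) ≠ ({1, 2, 3, 4, 5} : Set ℕ)) :
    Nonempty (G ≃* alternatingGroup (Fin 6)) ∨
      ∃ (F : Type) (_ : Field F) (_ : Fintype F), Fintype.card F = 4 ∧
        Nonempty (G ≃* ↥(Subgroup.closure {M : Matrix.SpecialLinearGroup (Fin 3) F |
          (M : Matrix (Fin 3) (Fin 3) F) 2 0 = 0 ∧ (M : Matrix (Fin 3) (Fin 3) F) 2 1 = 0 ∧ (M : Matrix (Fin 3) (Fin 3) F) 2 2 = 1})) := by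
  obtain ⟨h0, h1 | ⟨F, _, _, hF, ⟨e⟩⟩⟩ := struct_of_five (G := G) fun n =>
    (Set.ext_iff.1 hcrit.1 n).trans (by simp; omega)
  · exact .inl h1
  refine .inr ⟨F, inferInstance, inferInstance, hF, ?_⟩
  have : CharP F 2 := (CharP.charP_iff_prime_eq_zero Nat.prime_two).2 (two_eq_zero_of_card (n := 2) hF)
  obtain ⟨f⟩ := Agent.S0252.result hF
  obtain ⟨hE, k, V, h1, -, h2⟩ := h0.higman (isPGroup_pCore 2 G) le_rfl hF e
  obtain ⟨i⟩ : Nonempty (Fin k) := by_contra fun hk => by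
    have := not_nonempty_iff.1 hk
    rw [iSup_of_empty] at h2
    have h3 := Spec.range_orderOf_congr (((QuotientGroup.quotientMulEquivOfEq h2.symm).trans
      QuotientGroup.quotientBot).symm.trans (e.trans f))
    simpa using Set.ext_iff.1 (hcrit.1.symm.trans (h3.trans Spec.spec_A5)) 4
  obtain ⟨hVQ, _, h3⟩ := h1 i
  generalize V i = U at *
  obtain ⟨ρ', ψ, h4, h5⟩ := actsAs_iff.1 h3
  let ρ : G →* SL(2, F) := ρ'.comp topEquiv.symm.toMonoidHom
  have hρ : Function.Surjective ρ := (MonoidHom.range_eq_top.1 h4).comp topEquiv.symm.surjective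
  have hact : ∀ g, ∀ x ∈ U, ψ (g * x * g⁻¹) = ρ g • ψ x := fun g => h5.act ⟨g, mem_top g⟩
  have hQ : pCore 2 G ≤ ρ.ker := fun q hq => (h5.eq_one_iff ⟨q, mem_top q⟩).2 fun x hx =>
    commutatorElement_eq_one_iff_mul_comm.2
      (congrArg Subtype.val (hE.1.is_comm.comm ⟨x, hVQ hx⟩ ⟨q, hq⟩))
  let ε : SL(2, F) ≃* alternatingGroup (Fin 5) := Spec.psl2EquivCharTwo.symm.trans f
  have hK : pCore 2 G = ρ.ker := eq_of_le_of_card_ge hQ (by
    have h6 : ρ.ker.index = (pCore 2 G).index := by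
      rw [index_ker, MonoidHom.range_eq_top.2 hρ, card_top, Nat.card_congr ε.toEquiv]
      exact (Nat.card_congr (e.trans f).toEquiv).symm
    have h7 := ρ.ker.card_mul_index.trans (pCore 2 G).card_mul_index.symm
    rw [h6] at h7
    exact (Nat.eq_of_mul_eq_mul_right (Nat.pos_of_ne_zero index_ne_zero_of_finite) h7).le)
  obtain ⟨s', hs'⟩ := exists_section h0 (ρ := ε.toMonoidHom.comp ρ) (ε.surjective.comp hρ)
    (by rw [MonoidHom.ker_comp_of_injective _ _ ε.injective, ← hK]; exact isPGroup_pCore 2 G)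
  let s : SL(2, F) →* G := s'.comp ε.toMonoidHom
  have hs : ∀ a, ρ (s a) = a := fun a => ε.injective (hs' (ε a))
  have hU : ∀ u ∈ U, ρ u = 1 := fun u hu => hQ (hVQ hu)
  have hmul : ∀ g h : G, g * h * (s (ρ (g * h)))⁻¹ =
      g * (s (ρ g))⁻¹ * (s (ρ g) * (h * (s (ρ h))⁻¹) * (s (ρ g))⁻¹) := fun g h => by
    simp only [map_mul]; group
  let H : Subgroup G :=
    { carrier := {g | g * (s (ρ g))⁻¹ ∈ U}
      one_mem' := by simp
      mul_mem' := fun {g h} hg hh => by
        show _ ∈ U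
        rw [hmul]; exact mul_mem hg (Normal.conj_mem inferInstance _ hh _)
      inv_mem' := fun {g} hg => by
        simpa [mul_assoc] using Normal.conj_mem inferInstance _ (inv_mem hg) g⁻¹ }
  have hH : ∀ u ∈ U, ∀ a, u * s a ∈ H := fun u hu a => by
    show _ ∈ U
    simpa [hU u hu, hs] using hu
  have hT : H = ⊤ := by_contra fun hT => hcrit.2 H ⊥ (.inl hT) (by
    rw [Spec.range_orderOf_congr QuotientGroup.quotientBot]
    refine Set.Subset.antisymm ?_ ?_
    · rintro _ ⟨g, rfl⟩; exact hcrit.1 ▸ ⟨g, orderOf_coe g⟩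
    have h6 : ∀ n ∈ ({1, 2, 3, 5} : Set ℕ), n ∈ Set.range (orderOf : H → ℕ) := fun n hn => by
      obtain ⟨a, rfl⟩ := Spec.spec_A5 ▸ hn
      refine ⟨⟨_, hH 1 (one_mem U) (ε.symm a)⟩, ?_⟩
      rw [orderOf_mk, one_mul, orderOf_injective s (Function.LeftInverse.injective hs), ε.symm.orderOf_eq]
    suffices h : 4 ∈ Set.range (orderOf : H → ℕ) by
      rintro _ (rfl | rfl | rfl | rfl | rfl)
      exacts [h6 _ (by simp), h6 _ (by simp), h6 _ (by simp), h, h6 _ (by simp)]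
    let a : SL(2, F) := ⟨!![0, 1; 1, 0], by simp [det_fin_two, CharTwo.neg_eq]⟩
    have ha' : (a : Matrix (Fin 2) (Fin 2) F) = !![0, 1; 1, 0] := rfl
    have ha : a * a = 1 := by ext i j; fin_cases i <;> fin_cases j <;> simp [ha']
    obtain ⟨u, hu, h7⟩ := h5.surj ![1, 0]
    have h8 : (u * s a) ^ 2 = u * (s a * u * (s a)⁻¹) := by
      rw [← map_inv, inv_eq_of_mul_eq_one_right ha, sq]; group
    have h9 : s a * u * (s a)⁻¹ ∈ U := Normal.conj_mem inferInstance _ hu _
    refine ⟨⟨_, hH u hu a⟩, ?_⟩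
    rw [orderOf_mk]
    refine orderOf_eq_prime_pow (p := 2) (n := 1) (fun h10 => ?_) ?_
    · have h11 := h5.add _ hu _ h9
      rw [← h8, show (u * s a) ^ 2 = 1 from h10, h5.one, hact _ _ hu, h7, hs] at h11
      simpa [ha', Matrix.SpecialLinearGroup.smul_def] using congrFun h11 0
    · rw [sq 2, pow_mul, h8]; exact hE.2 _ (hVQ (mul_mem hu h9)))
  have hδ : ∀ g : G, g * (s (ρ g))⁻¹ ∈ U := fun g => (hT ▸ mem_top g : g ∈ H)
  let δ : G → Fin 2 → F := fun g => ψ (g * (s (ρ g))⁻¹)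
  have hδm : ∀ g h, δ (g * h) = δ g + (ρ g : Matrix (Fin 2) (Fin 2) F) *ᵥ δ h := fun g h => by
    simp only [δ]
    rw [hmul, h5.add _ (hδ g) _ (Normal.conj_mem inferInstance _ (hδ h) _), hact _ _ (hδ h), hs]; rfl
  let Φ : G →* SL(3, F) := MonoidHom.mk' (fun g => affM (ρ g) (δ g)) fun g h => by
    rw [hδm, map_mul, affM_mul]
  have hΦ : Function.Injective Φ := (injective_iff_map_eq_one Φ).2 fun g hg => by
    have h6 : ∀ i j, Φ g i j = (1 : SL(3, F)) i j := fun i j => by rw [hg]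
    have h7 : ρ g = 1 := by
      ext i j
      fin_cases i <;> fin_cases j
      exacts [h6 0 0, h6 0 1, h6 1 0, h6 1 1]
    have h8 : δ g = 0 := by
      ext i; fin_cases i
      exacts [h6 0 2, h6 1 2]
    simpa [h7] using (h5.ker _ (hδ g)).1 h8
  refine ⟨(MonoidHom.ofInjective hΦ).trans (MulEquiv.subgroupCongr (le_antisymm ?_ ?_))⟩
  · rintro _ ⟨g, rfl⟩
    exact subset_closure ⟨rfl, rfl, rfl⟩
  · rw [closure_le]
    rintro M ⟨h6, h7, h8⟩
    let a : SL(2, F) := ⟨!![M 0 0, M 0 1; M 1 0, M 1 1], by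
      simpa [det_fin_two, h6, h7, h8] using (det_fin_three _).symm.trans M.det_coe⟩
    obtain ⟨u, hu, h9⟩ := h5.surj ![M 0 2, M 1 2]
    have h10 : ρ (u * s a) = a := by rw [map_mul, hU u hu, one_mul, hs]
    refine ⟨u * s a, ?_⟩
    show affM _ (ψ _) = M
    rw [h10, mul_inv_cancel_right, h9]
    ext i j
    fin_cases i <;> fin_cases j
    exacts [rfl, rfl, rfl, rfl, rfl, rfl, h6.symm, h7.symm, h8.symm]

end Cfsg.Agent.S3600
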