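import Cfsg.Statements.S3626
import Mathlib
import Cfsg.Agent.PERM.SpecSp4Mod
import Cfsg.Agent.S1159

set_option autoImplicit false
open Cfsg

namespace Cfsg.Agent.S3626

open CL.Spec CL.CG CL.GL2 Matrix MatrixGroups

theorem unbdd_prod (G : Type*) [Group G] [Finite G] {L : Type*} [Group L]
    (h : Unbdd (Set.range (orderOf : L → ℕ))) : Unbdd (Set.range (orderOf : G × L → ℕ)) := by
  intro N
  obtain ⟨H, _, _, hN, hH⟩ := h N
  obtain ⟨G', _, _, ⟨e⟩⟩ := exists_type_zero G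
  refine ⟨G' × H, inferInstance, inferInstance, ?_, by
    rw [range_orderOf_prod, range_orderOf_prod, hH, range_orderOf_congr e]⟩
  rw [Fintype.card_prod]
  exact hN.trans_le (Nat.le_mul_of_pos_left _ Fintype.card_pos)

section
variable (K : Type*) [Field K] [Fact (Nat.Prime 3)] [CharP K 3]

/-- the tensor product of the natural module with its Frobenius twist -/
noncomputable abbrev rho : SL(2, K) →* Matrix (Fin 2 × Fin 2) (Fin 2 × Fin 2) K :=
  rho2 (RingHom.id K) (iterateFrobenius K 3 1)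

/-- `PSL₂(q) × 2` -/
def pmH : Subgroup (GL (Fin 2 × Fin 2) K) where
  carrier := {x | ∃ g, x.1 = rho K g ∨ x.1 = -rho K g}
  one_mem' := ⟨1, Or.inl (map_one _).symm⟩
  mul_mem' := by
    rintro x y ⟨g, hg | hg⟩ ⟨h, hh | hh⟩
    · exact ⟨g * h, Or.inl (by rw [Units.val_mul, hg, hh, _root_.map_mul])⟩
    · exact ⟨g * h, Or.inr (by rw [Units.val_mul, hg, hh, _root_.map_mul, mul_neg])⟩
    · exact ⟨g * h, Or.inr (by rw [Units.val_mul, hg, hh, _root_.map_mul, neg_mul])⟩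
    · exact ⟨g * h, Or.inl (by rw [Units.val_mul, hg, hh, _root_.map_mul, neg_mul_neg])⟩
  inv_mem' := by
    rintro x ⟨g, hg | hg⟩
    · exact ⟨g⁻¹, Or.inl (Units.inv_eq_of_mul_eq_one_right (by
        rw [hg, ← _root_.map_mul, mul_inv_cancel, map_one]))⟩
    · exact ⟨g⁻¹, Or.inr (Units.inv_eq_of_mul_eq_one_right (by
        rw [hg, neg_mul_neg, ← _root_.map_mul, mul_inv_cancel, map_one]))⟩

variable {K} [Fintype K] {m : ℕ} (hK : Fintype.card K = 3 ^ (2 * m + 1))
include hK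

theorem upper (a : AffM (pmH K)) : orderOf a ∣ 6 ∨ orderOf a ∣ 9 ∨ orderOf a ∣ 3 ^ (2 * m + 1) - 1 ∨
    orderOf a ∣ (3 ^ (2 * m + 1) + 1) / 2 := by
  obtain ⟨c, hc⟩ : ∃ c, 3 ^ (2 * m + 1) = 8 * c + 3 := ⟨3 ^ (2 * m + 1) / 8, by
    have : 3 ^ (2 * m + 1) % 8 = 3 := by rw [pow_succ, pow_mul, Nat.mul_mod, Nat.pow_mod]; simp
    omega⟩
  obtain ⟨g, hg⟩ := a.g.2
  obtain ⟨l, h0, ht⟩ := exists_add_inv (algebraMap K (AlgebraicClosure K) g.1.trace)
  have key : ∀ n, IsScal (g.1 ^ n) → rho K g ^ n = 1 := fun n h => by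
    rw [← map_pow]
    exact (rho2_ker _ _).2 h
  have key2 : ∀ n, Even n → rho K g ^ n = 1 → a.g.1.1 ^ n = 1 := fun n hn h => by
    rcases hg with hg | hg <;> rw [hg]
    · exact h
    · rw [hn.neg_pow, h]
  by_cases hl : l = l⁻¹
  · obtain ⟨e, he, h1, h2⟩ := sl2_unip _ g h0 ht.symm hl
    have h3 := pow_isScal_double h1 h2 (left_ne_zero_of_mul_eq_one he)
    rw [ringChar.eq K 3] at h3
    have h4 := key _ h3
    rcases hg with hg | hg
    · exact Or.inr (Or.inl (affM_dvd (p := 3) a (hg ▸ h4)))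
    · rcases affM_cases 3 a with h | ⟨v, hv, h⟩
      · exact Or.inl (h ▸ orderOf_dvd_of_val (key2 6 (by decide) (by
          rw [show 6 = 3 * 2 from rfl, pow_mul, h4, one_pow])))
      · have h5 := pow_mulVec_eig (h.trans (one_smul K v).symm) 3
        rw [hg, Odd.neg_pow (by decide), h4, neg_mulVec, one_mulVec, one_pow, one_smul] at h5
        have h6 : ((3 : ℕ) : K) = 0 := CharP.cast_eq_zero K 3
        refine absurd (funext fun i => ?_) hv
        have h7 : -v i = v i := congrFun h5 i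
        push_cast at h6
        change v i = 0
        linear_combination h6 * v i + h7
  · have h3 := pow_eq_or_of_trace _ (p := 3) (k := 2 * m + 1) h0 ht.symm (by
      rw [← hK, FiniteField.pow_card])
    rw [hc] at h3 ⊢
    rcases affM_cases 3 a with h | ⟨v, hv, h⟩
    · rw [h]
      rcases h3 with h3 | h3
      · refine Or.inr (Or.inr (Or.inl (orderOf_dvd_of_val (key2 _ ⟨4 * c + 1, by omega⟩ (key _
          (sl2_isScal _ g h0 ht.symm hl (by rw [mul_comm, pow_mul, h3, one_pow])))))))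
      · refine Or.inr (Or.inr (Or.inr (orderOf_dvd_of_val (key2 _ ⟨2 * c + 1, by omega⟩ (key _
          (sl2_isScal _ g h0 ht.symm hl (by rw [← h3]; congr 1; omega)))))))
    · have h4 : l ^ 8 = 1 := by
        obtain ⟨h1, h2⟩ := fixed_map (algebraMap K (AlgebraicClosure K)) hv h
        have hs := split_rho2 (p := 3) (algebraMap K (AlgebraicClosure K)) 0 1 h0 hl ht.symm
        rw [← id_eq_frob] at hs
        have h5 : ∃ x ∈ {x | ∃ s ∈ iterateFrobenius _ 3 0 '' {l, l⁻¹},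
            ∃ t ∈ iterateFrobenius _ 3 1 '' {l, l⁻¹}, x = s * t}, x ^ 2 = 1 := by
          rcases hg with hg | hg <;> rw [hg] at h2
          · exact ⟨1, hs.one_mem h1 h2, one_pow 2⟩
          · obtain ⟨ι, _, E, b, e1, e2⟩ := hs
            have hs' : Split ((-rho K g).map (algebraMap K (AlgebraicClosure K))) {x | -x ∈ _} :=
              ⟨ι, inferInstance, E, fun i => -b i, e1, fun i => ⟨by
                rw [Set.mem_ofPred_eq, neg_neg]; exact (e2 i).1, by
                rw [Matrix.map_neg _ (map_neg _), mul_neg, (e2 i).2, neg_smul]⟩⟩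
            exact ⟨-1, hs'.one_mem h1 h2, neg_one_sq⟩
        obtain ⟨_, ⟨_, ⟨s, hs, rfl⟩, _, ⟨t, ht', rfl⟩, rfl⟩, e⟩ := h5
        simp only [iterateFrobenius_def, pow_zero, pow_one] at e
        rcases hs with rfl | rfl <;> rcases ht' with h | h <;> rw [h] at e <;> field_simp at e
        · linear_combination e
        · linear_combination (-s ^ 4 - 1) * e
        · linear_combination (l ^ 4 + 1) * e
        · linear_combination -e
      have h5 : l ^ (2 * 2) = 1 := by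
        rcases h3 with h3 | h3
        · rw [show 8 * c + 3 - 1 = 8 * c + 2 by omega, pow_add, pow_mul, h4, one_pow, one_mul] at h3
          rw [pow_mul, h3, one_pow]
        · rwa [add_assoc, pow_add, pow_mul, h4, one_pow, one_mul] at h3
      exact Or.inl (affM_dvd (p := 3) a (key2 2 even_two (key _ (sl2_isScal _ g h0 ht.symm hl h5))))

theorem lower {n : ℕ} (hn : n ∣ 6 ∨ n ∣ 9 ∨ n ∣ 3 ^ (2 * m + 1) - 1 ∨ n ∣ (3 ^ (2 * m + 1) + 1) / 2) :
    n ∈ Set.range (orderOf : AffM (pmH K) → ℕ) := by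
  have key : ∀ {N}, n ∣ N → (∃ x : AffM (pmH K), N ∣ orderOf x) →
      n ∈ Set.range (orderOf : AffM (pmH K) → ℕ) :=
    fun h ⟨x, hx⟩ => mem_range_of_dvd ⟨x, rfl⟩ (h.trans hx)
  have h3 : (3 : K) = 0 := by exact_mod_cast CharP.cast_eq_zero K 3
  have hev : ∀ M, (-1 : K) ^ M = 1 → 2 ∣ M := fun M h => by
    rcases Nat.even_or_odd M with h1 | h1
    · exact h1.two_dvd
    · rw [h1.neg_one_pow] at h
      exact absurd (by linear_combination h3 + h : (1 : K) = 0) one_ne_zero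
  have neg : ∀ (g : SL(2, K)) N, (∀ M, (-1 : K) ^ M • rho K g ^ M = 1 → N ∣ M) →
      ∃ x : AffM (pmH K), N ∣ orderOf x := fun g N h => by
    let x : pmH K := ⟨-(rho K).toHomUnits g, g, Or.inr rfl⟩
    refine ⟨⟨0, x⟩, h _ ?_⟩
    rw [Aff.orderOf_mk_zero, ← smul_pow, neg_smul, one_smul]
    exact congrArg (fun y : pmH K => y.1.1) (pow_orderOf_eq_one x)
  have h1 : ∀ n : ℕ, (rho K (uu K) ^ n) (0, 0) (1, 1) = n * n ∧ (rho K (uu K) ^ n) (0, 0) (0, 0) = 1 :=
    fun n => by rw [← map_pow, rho2_apply, uu_pow]; simp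
  have hodd : ∃ c, 3 ^ (2 * m + 1) = 4 * c + 3 := ⟨3 ^ (2 * m + 1) / 4, by
    have : 3 ^ (2 * m + 1) % 4 = 3 := by rw [pow_succ, pow_mul, Nat.mul_mod, Nat.pow_mod]; simp
    omega⟩
  rcases hn with h | h | h | h
  · refine key h (neg (uu K) 6 fun M hM => ?_)
    have a1 := congrFun (congrFun hM (0, 0)) (0, 0)
    have a2 := congrFun (congrFun hM (0, 0)) (1, 1)
    rw [Matrix.smul_apply, (h1 M).2, smul_eq_mul, mul_one, one_apply_eq] at a1
    rw [Matrix.smul_apply, (h1 M).1, a1, one_smul, one_apply_ne (by decide), mul_self_eq_zero] at a2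
    exact (show Nat.Coprime 2 3 by norm_num).mul_dvd_of_dvd_of_dvd (hev M a1)
      ((CharP.cast_eq_zero_iff K 3 M).1 a2)
  · refine key h (affM_lower_sq (p := 3) (H := pmH K) ⟨(rho K).toHomUnits (uu K), uu K, Or.inl rfl⟩
      ((map_pow _ _ _).symm.trans (by rw [uu_pow_char, map_one])) (fun h => ?_) fun h => ?_)
    · have h' : ∑ i ∈ Finset.range 3, rho K (uu K) ^ i = 0 := h
      have := congrFun (congrFun h' (0, 0)) (1, 1)
      rw [Matrix.sum_apply, Finset.sum_congr rfl fun n _ => (h1 n).1] at this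
      simp only [Finset.sum_range_succ, Finset.sum_range_zero, Matrix.zero_apply] at this
      push_cast at this
      exact one_ne_zero (α := K) (by linear_combination 2 * h3 - this)
    · have := (h1 1).1
      rw [pow_one, show rho K (uu K) = 1 from h] at this
      simp at this
  · obtain ⟨a, ha, h2⟩ := exists_orderOf_units (F := K)
    refine key h (neg (dg a ha) _ fun M hM => ?_)
    rw [rho2_dg, diagonal_pow] at hM
    have a1 : (-1) ^ M * (a * a ^ 3) ^ M = 1 := by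
      simpa [frobenius_def] using congrFun (congrFun hM (0, 0)) (0, 0)
    have a2 : (-1) ^ M * (a⁻¹ * a ^ 3) ^ M = 1 := by
      simpa [frobenius_def] using congrFun (congrFun hM (1, 0)) (1, 0)
    rw [show a⁻¹ * a ^ 3 = a ^ 2 by field_simp, ← pow_mul] at a2
    rw [show a * a ^ 3 = (a ^ 2) ^ 2 by ring, pow_right_comm, ← pow_mul a] at a1
    have a3 : a ^ (2 * M) = 1 := by linear_combination a1 - a ^ (2 * M) * a2
    rw [a3, mul_one] at a2
    obtain ⟨c, hc⟩ := hodd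
    obtain ⟨r, rfl⟩ := hev M a2
    rw [h2, hK, hc, show 4 * c + 3 - 1 = 2 * (2 * c + 1) by omega] at a3
    rw [hc, show 4 * c + 3 - 1 = 2 * (2 * c + 1) by omega]
    exact Nat.mul_dvd_mul_left 2 ((Nat.coprime_two_right.2 ⟨c, rfl⟩).dvd_of_dvd_mul_left
      (Nat.dvd_of_mul_dvd_mul_left two_pos a3))
  · have h4 : (3 ^ (2 * m + 1) + 1) / 2 ∈
        Set.range (orderOf : ProjectiveSpecialLinearGroup (Fin 2) K → ℕ) := by
      obtain ⟨c, hc⟩ := hodd
      rw [spec_PSL2, hK, Nat.gcd_eq_right (show 2 ∣ 3 ^ (2 * m + 1) + 1 by omega)]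
      exact Or.inr (Or.inr dvd_rfl)
    obtain ⟨x, hx⟩ := h4
    induction x using QuotientGroup.induction_on with | H g => ?_
    let y : pmH K := ⟨(rho K).toHomUnits g, g, Or.inl rfl⟩
    refine key h ⟨⟨0, y⟩, ?_⟩
    rw [Aff.orderOf_mk_zero, ← hx, orderOf_psl2_dvd_iff]
    refine (rho2_ker (iterateFrobenius K 3 1) (g ^ _)).1 ?_
    rw [map_pow]
    exact congrArg (fun y : pmH K => y.1.1) (pow_orderOf_eq_one y)

end

/-- Let R be the small Ree group over the field with q = 3^(2m+1) ≥ 27 elements. Then there are finite groups of arbitrarily large order with exactly the same set of element orders as R × R × R. -/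
theorem result {K : Type*} [Field K] [Fintype K] {m : ℕ} (hm : 1 ≤ m) (hK : Fintype.card K = 3 ^ (2 * m + 1)) (N : ℕ) :
    ∃ (H : Type) (_ : Group H) (_ : Fintype H), N < Fintype.card H ∧
      Set.range (orderOf : H → ℕ) = Set.range (orderOf : ↥(Cfsg.Lie.twistedG2 K (3 ^ m)) × ↥(Cfsg.Lie.twistedG2 K (3 ^ m)) × ↥(Cfsg.Lie.twistedG2 K (3 ^ m)) → ℕ) := by
  classical
  have : Fact (Nat.Prime 3) := ⟨Nat.prime_three⟩
  have : CharP K 3 := by
    obtain ⟨n, hq, hn⟩ := FiniteField.card K (ringChar K)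
    have : ringChar K = 3 := (Nat.prime_dvd_prime_iff_eq hq Nat.prime_three).1 (hq.dvd_of_dvd_pow
      (n := 2 * m + 1) (by rw [← hK, hn]; exact dvd_pow_self _ n.ne_zero))
    exact this ▸ ringChar.charP K
  have hR := Cfsg.Agent.S1159.result hm hK
  have h := unbdd_prod (Cfsg.Lie.twistedG2 K (3 ^ m)) (unbdd_prod (Cfsg.Lie.twistedG2 K (3 ^ m))
    (unbdd_aff (MatMod (subRep (pmH K))) (pmH K))) N
  have key : ∀ {n}, n ∈ Set.range (orderOf : AffM (pmH K) → ℕ) →
      n ∈ Set.range (orderOf : Cfsg.Lie.twistedG2 K (3 ^ m) → ℕ) := by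
    rintro _ ⟨a, rfl⟩
    exact (hR _).2 (by have := upper hK a; tauto)
  have e : Set.range (orderOf : Cfsg.Lie.twistedG2 K (3 ^ m) × Cfsg.Lie.twistedG2 K (3 ^ m) ×
      Aff (MatMod (subRep (pmH K))) (pmH K) → ℕ) = Set.range (orderOf : Cfsg.Lie.twistedG2 K (3 ^ m) ×
      Cfsg.Lie.twistedG2 K (3 ^ m) × Cfsg.Lie.twistedG2 K (3 ^ m) → ℕ) := by
    refine Set.Subset.antisymm ?_ ?_
    · rw [range_orderOf_prod, range_orderOf_prod, range_orderOf_prod, range_orderOf_prod]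
      rintro _ ⟨x, hx, _, ⟨y, hy, z, hz, rfl⟩, rfl⟩
      exact ⟨x, hx, _, ⟨y, hy, z, key hz, rfl⟩, rfl⟩
    · have mk : ∀ {x y z n}, x ∈ Set.range (orderOf : Cfsg.Lie.twistedG2 K (3 ^ m) → ℕ) →
          y ∈ Set.range (orderOf : Cfsg.Lie.twistedG2 K (3 ^ m) → ℕ) →
          z ∈ Set.range (orderOf : AffM (pmH K) → ℕ) → n ∣ Nat.lcm x (Nat.lcm y z) →
          n ∈ Set.range (orderOf : Cfsg.Lie.twistedG2 K (3 ^ m) × Cfsg.Lie.twistedG2 K (3 ^ m) ×
            Aff (MatMod (subRep (pmH K))) (pmH K) → ℕ) := by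
        rintro _ _ _ n ⟨x, rfl⟩ ⟨y, rfl⟩ ⟨z, rfl⟩ hn
        exact mem_range_of_dvd ⟨(x, y, z), by rw [Prod.orderOf_mk, Prod.orderOf_mk]⟩ hn
      have split : ∀ x : Cfsg.Lie.twistedG2 K (3 ^ m),
          orderOf x ∈ Set.range (orderOf : AffM (pmH K) → ℕ) ∨ orderOf x ∣
            Nat.lcm (3 ^ (2 * m + 1) - 3 ^ (m + 1) + 1) (3 ^ (2 * m + 1) + 3 ^ (m + 1) + 1) := fun x => by
        rcases (hR _).1 ⟨x, rfl⟩ with h | h | h | h | h | h
        exacts [Or.inl (lower hK (by tauto)), Or.inl (lower hK (by tauto)), Or.inl (lower hK (by tauto)),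
          Or.inl (lower hK (by tauto)), Or.inr (h.trans (Nat.dvd_lcm_left _ _)),
          Or.inr (h.trans (Nat.dvd_lcm_right _ _))]
      rintro _ ⟨⟨x, y, z⟩, rfl⟩
      rw [Prod.orderOf_mk, Prod.orderOf_mk]
      rcases split x with hx | hx
      · exact mk ⟨y, rfl⟩ ⟨z, rfl⟩ hx (by rw [Nat.lcm_comm, Nat.lcm_assoc])
      rcases split y with hy | hy
      · exact mk ⟨x, rfl⟩ ⟨z, rfl⟩ hy (by rw [Nat.lcm_comm (orderOf y)])
      rcases split z with hz | hz
      · exact mk ⟨x, rfl⟩ ⟨y, rfl⟩ hz dvd_rfl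
      refine mk ((hR (3 ^ (2 * m + 1) - 3 ^ (m + 1) + 1)).2 (by simp))
        ((hR (3 ^ (2 * m + 1) + 3 ^ (m + 1) + 1)).2 (by simp)) ⟨1, orderOf_one⟩ ?_
      rw [Nat.lcm_one_right]
      exact Nat.lcm_dvd hx (Nat.lcm_dvd hy hz)
  rwa [e] at h

end Cfsg.Agent.S3626
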