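import Cfsg.Statements.S3641
import Cfsg.Agent.FGS.SylowNum
import Cfsg.Agent.INV.SmallPSL
import Cfsg.Agent.S2475
import Cfsg.Agent.S0732
import Cfsg.Agent.SOLV.MinNormal
import Cfsg.Agent.SOLV.Fitting

set_option autoImplicit false
open Cfsg

namespace Cfsg.Agent.S3641

section
open Subgroup MulAction CL CL.Zass CL.SN Pointwise

theorem inf_norm {G : Type*} [Group G] {p : ℕ} {P : Subgroup G} (hP : IsPGroup p P)
    (Q : Sylow p G) : P ⊓ normalizer ((Q : Subgroup G) : Set G) = P ⊓ Q :=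
  hP.inf_normalizer_sylow Q

theorem ker_of_pgroup {H Ω : Type*} [Group H] [Finite H] [MulAction H Ω] [FaithfulSMul H Ω]
    {p : ℕ} [hp : Fact p.Prime] (hΩ : Nat.card Ω = p + 1) {a : Ω} {F : Subgroup H}
    (hF : IsPGroup p F) (h1 : F ≠ ⊥) (hfix : ∀ u ∈ F, u • a = a)
    (hn : ∀ h : H, h • a = a → ∀ u ∈ F, h * u * h⁻¹ ∈ F) :
    Ker a F ∧ Nat.card F = p := by
  have : Finite Ω := Nat.finite_of_card_ne_zero (by omega)
  have hp2 := hp.out.two_le
  have hfree : ∀ u ∈ F, ∀ y : Ω, y ≠ a → u • y = y → u = 1 := by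
    intro u hu y hy e
    obtain ⟨k, hk⟩ := hF ⟨u, hu⟩
    have h1 := CL.Perm.card_fixedBy_modEq (α := Ω) (p := p) (k := k) (g := u)
      (congrArg Subtype.val hk)
    have h2 : 1 < (MulAction.fixedBy Ω u).ncard :=
      (Set.one_lt_ncard_iff (Set.toFinite _)).mpr ⟨y, a, e, hfix u hu, hy⟩
    have h3 := Set.ncard_le_card (MulAction.fixedBy Ω u)
    rw [Nat.card_coe_set_eq, hΩ] at h1
    have h4 : p ∣ p + 1 - (MulAction.fixedBy Ω u).ncard :=
      (Nat.modEq_iff_dvd' (by omega)).mp h1.symm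
    have h5 := Nat.eq_zero_of_dvd_of_lt h4 (by omega)
    have h6 := (Set.eq_univ_iff_ncard (MulAction.fixedBy Ω u)).mpr (by omega)
    exact eq_of_smul_eq_smul (α := Ω) fun x => by
      rw [one_smul]
      exact (h6 ▸ Set.mem_univ x : x ∈ MulAction.fixedBy Ω u)
  have hc : Nat.card {z : Ω // z ≠ a} = p := by
    have := Set.ncard_add_ncard_compl ({a} : Set Ω)
    rw [Set.ncard_singleton, ← Nat.card_coe_set_eq] at this
    change Nat.card ↥({a} : Set Ω)ᶜ = _
    omega
  have hinj : ∀ y (hy : y ≠ a), Function.Injective (fun u : F => (⟨(u : H) • y, fun e =>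
      hy (MulAction.injective (u : H) (e.trans (hfix u u.2).symm))⟩ : {z : Ω // z ≠ a})) := by
    intro y hy u v e
    have := hfree _ (F.mul_mem (F.inv_mem v.2) u.2) y hy (by
      rw [mul_smul, inv_smul_eq_iff]
      exact congrArg Subtype.val e)
    exact Subtype.ext (inv_mul_eq_one.mp this).symm
  have hcard : Nat.card F = p := by
    obtain ⟨y⟩ : Nonempty {z : Ω // z ≠ a} := (Nat.card_pos_iff.mp (by omega)).1
    have hle := Nat.card_le_card_of_injective _ (hinj y.1 y.2)
    obtain ⟨n, hn0, hn⟩ := hF.nontrivial_iff_card.mp ((nontrivial_iff_ne_bot F).mpr h1)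
    have : p ∣ Nat.card F := hn ▸ dvd_pow_self p hn0.ne'
    have := Nat.le_of_dvd Nat.card_pos this
    omega
  refine ⟨⟨hfix, hn, fun y z hy hz => ?_, hfree⟩, hcard⟩
  have hf := (Nat.bijective_iff_injective_and_card _).mpr ⟨hinj y hy, hcard.trans hc.symm⟩
  obtain ⟨u, hu⟩ := hf.2 ⟨z, hz⟩
  exact ⟨u, u.2, congrArg Subtype.val hu⟩

section
variable {H Ω : Type*} [Group H] [MulAction H Ω]

theorem sylow_two (hZ : Z2 H Ω) {a b : Ω} (hab : a ≠ b)
    (hd : Nat.card (St H a b) = 8 ∨ Nat.card (St H a b) = 16)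
    (hH : Nat.card H = 306 * Nat.card (St H a b)) : Nat.card (Sylow 2 H) = 153 := by
  have := hZ.finiteG
  have : Fact (Nat.Prime 2) := ⟨Nat.prime_two⟩
  have hD : IsPGroup 2 (St H a b) := by
    rcases hd with h | h
    · exact IsPGroup.of_card (n := 3) h
    · exact IsPGroup.of_card (n := 4) h
  obtain ⟨T, hT⟩ := hD.exists_le_sylow
  have hTc : Nat.card T = 2 * Nat.card (St H a b) := by
    rcases hd with h | h
    · rw [h, CL.Small.card_sylow_eq_of_factor T (a := 4) (m := 153) (by rw [hH, h]; norm_num)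
        (by norm_num)]; rfl
    · rw [h, CL.Small.card_sylow_eq_of_factor T (a := 5) (m := 153) (by rw [hH, h]; norm_num)
        (by norm_num)]; rfl
  have hd0 : 0 < Nat.card (St H a b) := Nat.card_pos
  have hTi : (T : Subgroup H).index = 153 := by
    have := (T : Subgroup H).card_mul_index
    rw [hTc, hH] at this
    refine Nat.eq_of_mul_eq_mul_left (show 0 < 2 * Nat.card (St H a b) by omega) ?_
    rw [this]; ring
  have hN : IsPGroup 2 (normalizer ((T : Subgroup H) : Set H)) := by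
    rintro ⟨y, hy⟩
    have hyab : y • a ≠ y • b := (MulAction.injective y).ne hab
    have hle : St H (y • a) (y • b) ≤ T := by
      intro g hg
      have : y⁻¹ * g * y ∈ St H a b := by
        refine mem_St.mpr ⟨?_, ?_⟩
        · rw [mul_smul, mul_smul, (mem_St.mp hg).1, inv_smul_smul]
        · rw [mul_smul, mul_smul, (mem_St.mp hg).2, inv_smul_smul]
      have h2 := (mem_normalizer_iff.mp hy _).mp (hT this)
      simpa [mul_assoc] using h2
    have r1 : (St H a b).relIndex T = 2 := by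
      have := card_mul_relIndex_of_le hT
      rw [hTc] at this
      exact Nat.eq_of_mul_eq_mul_left hd0 (by rw [this]; ring)
    have r2 : (St H (y • a) (y • b)).relIndex T = 2 := by
      have := card_mul_relIndex_of_le hle
      rw [hTc, hZ.card_St_eq hyab hab] at this
      exact Nat.eq_of_mul_eq_mul_left hd0 (by rw [this]; ring)
    have hne : St H a b ⊓ St H (y • a) (y • b) ≠ ⊥ := by
      intro h
      have := relIndex_inf_le (H := St H a b) (K := St H (y • a) (y • b)) (L := T)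
      rw [h, relIndex_bot_left, r1, r2, hTc] at this
      omega
    obtain ⟨⟨x, hx⟩, hx1⟩ := (ne_bot_iff_exists_ne_one).mp hne
    have hx1' : x ≠ 1 := fun h => hx1 (Subtype.ext h)
    have ha := hZ.eq_or_eq_of_fixed hx1' hab (mem_St.mp hx.1).1 (mem_St.mp hx.1).2
      (mem_St.mp hx.2).1
    have hb := hZ.eq_or_eq_of_fixed hx1' hab (mem_St.mp hx.1).1 (mem_St.mp hx.1).2
      (mem_St.mp hx.2).2
    have hy2 : y * y ∈ St H a b := by
      refine mem_St.mpr ?_
      rw [mul_smul, mul_smul]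
      rcases ha with ha | ha <;> rcases hb with hb | hb
      · exact absurd (ha.trans hb.symm) hyab
      · rw [ha, hb]; exact ⟨ha, hb⟩
      · rw [ha, hb, ha]; exact ⟨rfl, rfl⟩
      · exact absurd (ha.trans hb.symm) hyab
    obtain ⟨k, hk⟩ := hD ⟨_, hy2⟩
    refine ⟨k + 1, Subtype.ext ?_⟩
    have := congrArg Subtype.val hk
    simp only [SubmonoidClass.coe_pow, OneMemClass.coe_one] at this ⊢
    rw [pow_succ', pow_mul, sq, this]
  rw [card_sylow_eq_index T, (T.is_maximal' hN le_normalizer), hTi]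

theorem sylow_three (hZ : Z2 H Ω) (hΩ : Nat.card Ω = 18) {a b : Ω}
    (hd : Nat.card (St H a b) = 8 ∨ Nat.card (St H a b) = 16)
    (hH : Nat.card H = 306 * Nat.card (St H a b)) {r : H} (hr : orderOf r = 9)
    (hn : Nat.card (Sylow 3 H) ∣ 136) : Nat.card (Sylow 3 H) = 136 := by
  have := hZ.finiteG
  have := hZ.finite
  have : Fact (Nat.Prime 3) := ⟨Nat.prime_three⟩
  have hRc : Nat.card (zpowers r) = 9 := by rw [Nat.card_zpowers, hr]
  have hP : IsPGroup 3 (zpowers r) := IsPGroup.of_card (n := 2) hRc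
  obtain ⟨R, hR⟩ := hP.exists_le_sylow
  have hR9 : Nat.card R = 9 := by
    rcases hd with h | h
    · exact CL.Small.card_sylow_eq_of_factor R (a := 2) (m := 272) (by rw [hH, h]; norm_num)
        (by norm_num)
    · exact CL.Small.card_sylow_eq_of_factor R (a := 2) (m := 544) (by rw [hH, h]; norm_num)
        (by norm_num)
  have hRe : zpowers r = R := eq_of_le_of_card_ge hR (by rw [hR9, hRc])
  have hr2 : ∀ x : Ω, (r ^ 2) • x ≠ x := by
    intro x hx
    have h1 : orderOf (r ^ 2) = 9 := by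
      rw [Nat.Coprime.orderOf_pow, hr]
      rw [hr]; norm_num
    have h2 : orderOf (r ^ 2) ∣ Nat.card (stabilizer H x) :=
      orderOf_dvd_natCard _ (mem_stabilizer_iff.mpr hx)
    have := hZ.isPretransitive
    have h3 := (stabilizer H x).card_mul_index
    rw [index_stabilizer_of_transitive, hΩ, hH] at h3
    rw [h1] at h2
    rcases hd with h | h <;> rw [h] at h3 <;> omega
  have hC : Nat.card (centralizer ((R : Subgroup H) : Set H)) ∣ 18 := by
    have := card_dvd_ncard_of_free (centralizer ((R : Subgroup H) : Set H)) (Set.univ : Set Ω)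
      (fun _ _ _ _ => trivial) (fun c hc x _ hx => by
        have hcr : r * c = c * r := mem_centralizer_iff.mp hc r (hR (mem_zpowers r))
        have e1 : c • r • x = r • x := by rw [← mul_smul, ← hcr, mul_smul, hx]
        have e2 : c • r • r • x = r • r • x := by rw [← mul_smul, ← hcr, mul_smul, e1]
        have n1 : x ≠ r • x := fun h => hr2 x (by rw [sq, mul_smul, ← h, ← h])
        have n2 : x ≠ r • r • x := fun h => hr2 x (by rw [sq, mul_smul, ← h])
        exact hZ.sharp c n1 n2 ((MulAction.injective r).ne n1) hx e1 e2)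
    rwa [Set.ncard_univ, hΩ] at this
  have hA : Nat.card (MulAut R) = 6 := by
    have : IsCyclic R := by rw [← hRe]; infer_instance
    rw [IsCyclic.card_mulAut, hR9]; decide
  have h1 := CL.Small.relIndex_centralizer_dvd_card_mulAut (R : Subgroup H)
  have h2 := CL.Small.card_centralizer_mul_relIndex (R : Subgroup H)
  have hN : Nat.card (normalizer ((R : Subgroup H) : Set H)) ∣ 108 := by
    rw [← h2]
    exact Nat.mul_dvd_mul hC (hA ▸ h1)
  have h3 := CL.Small.card_sylow_mul_card_normalizer R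
  have h4 := CL.Small.card_sylow_mod (G := H) (p := 3)
  have hle := Nat.le_of_dvd (by norm_num) hN
  generalize Nat.card (Sylow 3 H) = n at *
  generalize Nat.card (normalizer ((R : Subgroup H) : Set H)) = m at *
  have : n ∈ Nat.divisors 136 := Nat.mem_divisors.mpr ⟨hn, by norm_num⟩
  have e : Nat.divisors 136 = {1, 2, 4, 8, 17, 34, 68, 136} := by decide
  rw [e] at this
  simp only [Finset.mem_insert, Finset.mem_singleton] at this
  rw [hH] at h3
  rcases this with rfl | rfl | rfl | rfl | rfl | rfl | rfl | rfl <;> rcases hd with h | h <;>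
    rw [h] at h3 <;> first | omega | rfl | (obtain rfl : m = 72 := (by omega); norm_num at hN)

end

theorem eq_bot_of_le_normalizer {G : Type*} [Group G] [Finite G] (hZ : center G = ⊥)
    (K : Subgroup G) [hK : K.Normal]
    (h : ∀ (q : ℕ) [Fact q.Prime] (Q : Sylow q G), K ≤ normalizer ((Q : Subgroup G) : Set G)) :
    K = ⊥ := by
  by_contra hne
  obtain ⟨r, hr, hd⟩ := Nat.exists_prime_and_dvd (fun e => hne (card_eq_one.mp e) :
    Nat.card K ≠ 1)
  have := Fact.mk hr
  obtain ⟨x, hx⟩ := exists_prime_orderOf_dvd_card' r hd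
  have hxP : IsPGroup r (zpowers (x : G)) :=
    IsPGroup.of_card (n := 1) (by rw [Nat.card_zpowers, orderOf_coe, hx, pow_one])
  obtain ⟨R, hR⟩ := hxP.exists_le_sylow
  have hU : (R : Subgroup G) ⊓ K ≠ ⊥ := by
    intro e
    have : (x : G) ∈ (R : Subgroup G) ⊓ K := ⟨hR (mem_zpowers _), x.2⟩
    rw [e, mem_bot] at this
    rw [← orderOf_coe, this, orderOf_one] at hx
    exact hr.one_lt.ne hx
  have hUn : ∀ g : G, ∀ u ∈ (R : Subgroup G) ⊓ K, g * u * g⁻¹ ∈ (R : Subgroup G) ⊓ K := by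
    intro g u hu
    have h1 : g * u * g⁻¹ ∈ ((g • R : Sylow r G) : Subgroup G) := conj_mem_conj_smul hu.1
    have h2 := hK.conj_mem u hu.2 g
    have h3 : g * u * g⁻¹ ∈ ((g • R : Sylow r G) : Subgroup G) ⊓
        normalizer ((R : Subgroup G) : Set G) := ⟨h1, h r R h2⟩
    rw [inf_norm (g • R).isPGroup' R] at h3
    exact ⟨h3.2, h2⟩
  have hN : ((R : Subgroup G) ⊓ K).Normal := ⟨fun u hu g => hUn g u hu⟩
  have h1 := inf_centralizer_ne_bot_of_isPGroup (V := (R : Subgroup G) ⊓ K) (P := R)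
    R.isPGroup'.to_inf_left R.isPGroup' le_normalizer_of_normal hU
  obtain ⟨⟨z, hz⟩, hz1⟩ := (ne_bot_iff_exists_ne_one).mp h1
  have hc : centralizer ({z} : Set G) = ⊤ := by
    refine eq_top_of_forall_sylow_le fun q hq => ?_
    by_cases hqr : q = r
    · subst hqr
      exact ⟨R, fun y hy => mem_centralizer_singleton_iff.mpr (mem_centralizer_iff.mp hz.2 y hy)⟩
    · obtain ⟨Q⟩ : Nonempty (Sylow q G) := inferInstance
      refine ⟨Q, fun y hy => mem_centralizer_singleton_iff.mpr ?_⟩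
      have d := IsPGroup.disjoint_of_ne q r hqr _ _ Q.isPGroup' R.isPGroup'
      have a1 : y * (z * y⁻¹ * z⁻¹) ∈ (Q : Subgroup G) :=
        mul_mem hy ((mem_normalizer_iff.mp (h q Q hz.1.2) _).mp (inv_mem hy))
      have a2 : (y * z * y⁻¹) * z⁻¹ ∈ (R : Subgroup G) := mul_mem (hUn y z hz.1).1 (inv_mem hz.1.1)
      have a3 : y * z * y⁻¹ * z⁻¹ = 1 :=
        disjoint_def.mp d (by simpa [mul_assoc] using a1) a2
      calc y * z = y * z * y⁻¹ * z⁻¹ * (z * y) := by group
        _ = z * y := by rw [a3, one_mul]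
  have : z ∈ center G := mem_center_iff.mpr fun g =>
    mem_centralizer_singleton_iff.mp (hc ▸ mem_top g : g ∈ centralizer ({z} : Set G))
  rw [hZ, mem_bot] at this
  exact hz1 (Subtype.ext this)

theorem le_normalizer_of_eq {G : Type*} [Group G] [Finite G] {q : ℕ} [Fact q.Prime]
    (K : Subgroup G) [K.Normal] (Q : Sylow q G)
    (h : Nat.card (Sylow q (G ⧸ K)) = Nat.card (Sylow q G)) :
    K ≤ normalizer ((Q : Subgroup G) : Set G) := by
  have h1 := card_sylow_eq_quotient_mul Q K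
  rw [h] at h1
  have h2 : 0 < Nat.card (Sylow q G) := Nat.card_pos
  exact relIndex_eq_one.mp (Nat.eq_of_mul_eq_mul_left h2 (h1.symm.trans (mul_one _).symm))

theorem not_dvd_of_le {G : Type*} [Group G] [Finite G] {p q : ℕ} [hp : Fact p.Prime]
    [hq : Fact q.Prime] (hpq : p ≠ q) (K : Subgroup G) [hK : K.Normal]
    (hKn : ∀ P : Sylow p G, K ≤ normalizer ((P : Subgroup G) : Set G)) (Q : Sylow q G)
    (hQ : (Q : Subgroup G) ≤ K) (h2 : ¬ p ^ 2 ∣ Nat.card (Sylow q G)) (hm : ¬ p ≡ 1 [MOD q]) :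
    ¬ p ∣ Nat.card (Sylow q G) := by
  obtain ⟨P⟩ : Nonempty (Sylow p G) := inferInstance
  have hUn : ∀ g : G, ∀ u ∈ (P : Subgroup G) ⊓ K, g * u * g⁻¹ ∈ (P : Subgroup G) ⊓ K := by
    intro g u hu
    have h1 : g * u * g⁻¹ ∈ ((g • P : Sylow p G) : Subgroup G) := conj_mem_conj_smul hu.1
    have h2 := hK.conj_mem u hu.2 g
    have h3 : g * u * g⁻¹ ∈ ((g • P : Sylow p G) : Subgroup G) ⊓
        normalizer ((P : Subgroup G) : Set G) := ⟨h1, hKn P h2⟩
    rw [inf_norm (g • P).isPGroup' P] at h3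
    exact ⟨h3.2, h2⟩
  have hN : ((P : Subgroup G) ⊓ K).Normal := ⟨fun u hu g => hUn g u hu⟩
  have hUp : IsPGroup p ↥((P : Subgroup G) ⊓ K) := P.isPGroup'.to_inf_left
  obtain ⟨n, hn⟩ := hUp.exists_card_eq
  have hnd : ¬ q ∣ Nat.card ↥((P : Subgroup G) ⊓ K) := fun h =>
    hpq ((Nat.prime_dvd_prime_iff_eq hq.out hp.out).mp (hq.out.dvd_of_dvd_pow (hn ▸ h))).symm
  have h3 := relIndex_normalizer_modEq_one
    (sylIn_sup_of_coprime Q.isPGroup' le_normalizer_of_normal hnd) le_normalizer_of_normal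
  have h4 : (normalizer ((Q : Subgroup G) : Set G)).relIndex ((P : Subgroup G) ⊓ K) ∣
      Nat.card (Sylow q G) := Dvd.intro_left _ (card_sylow_eq_quotient_mul Q _).symm
  have h5 : (normalizer ((Q : Subgroup G) : Set G)).relIndex ((P : Subgroup G) ⊓ K) ∣ p ^ n :=
    hn ▸ relIndex_dvd_card _ _
  obtain ⟨k, -, hk⟩ := (Nat.dvd_prime_pow hp.out).mp h5
  have hk0 : k = 0 := by
    rw [hk] at h3 h4
    by_contra h0
    by_cases h1 : k = 1
    · rw [h1, pow_one] at h3; exact hm h3
    · exact h2 ((pow_dvd_pow p (by omega)).trans h4)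
  rw [hk0, pow_zero, relIndex_eq_one] at hk
  have hPn : (P : Subgroup G) ≤ normalizer ((Q : Subgroup G) : Set G) := by
    intro x hx
    refine conj_smul_eq_iff_mem_normalizer.mp ?_
    have hle : ((x • Q : Sylow q G) : Subgroup G) ≤ normalizer ((Q : Subgroup G) : Set G) := by
      intro y hy
      have hy' : x⁻¹ * y * x ∈ (Q : Subgroup G) := mem_conj_smul_iff.mp hy
      set w := x⁻¹ * y * x with hw
      have a1 : x * (w * x⁻¹ * w⁻¹) ∈ (P : Subgroup G) :=
        mul_mem hx ((mem_normalizer_iff.mp (hKn P (hQ hy')) _).mp (inv_mem hx))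
      have a2 : x * (w * x⁻¹ * w⁻¹) ∈ K := by
        have := mul_mem (hK.conj_mem w (hQ hy') x) (inv_mem (hQ hy'))
        simpa [mul_assoc] using this
      have a3 := mul_mem (hk ⟨a1, a2⟩) (le_normalizer hy')
      have e : x * (w * x⁻¹ * w⁻¹) * w = y := by rw [hw]; group
      rwa [e] at a3
    have h6 := inf_norm (x • Q).isPGroup' Q
    rw [inf_eq_left.mpr hle] at h6
    have h7 : ((x • Q : Sylow q G) : Subgroup G) ≤ Q := h6 ▸ inf_le_right
    exact ((x • Q).is_maximal' Q.isPGroup' h7).symm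
  rw [card_sylow_eq_index Q]
  exact fun h => P.not_dvd_index (h.trans (index_dvd_of_le hPn))

theorem main {G : Type*} [Group G] [Finite G] (hZ : Subgroup.center G = ⊥) (hNS : {c : ℕ | ∃ r : ℕ, r.Prime ∧ r ∣ Nat.card G ∧ c = Nat.card (Sylow r G)} = ({18, 136, 153} : Set ℕ))
    {F : Type*} [Field F] [Fintype F] (hF : Fintype.card F = 17) :
    Nonempty (G ≃* Matrix.ProjectiveSpecialLinearGroup (Fin 2) F) ∨ Nonempty (G ≃* (GL (Fin 2) F ⧸ Subgroup.center (GL (Fin 2) F))) := by
  classical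
  have p17 : Nat.Prime 17 := by norm_num
  have f17 : Fact (Nat.Prime 17) := ⟨p17⟩
  have f2 : Fact (Nat.Prime 2) := ⟨Nat.prime_two⟩
  have f3 : Fact (Nat.Prime 3) := ⟨Nat.prime_three⟩
  have hmem : ∀ r : ℕ, r.Prime → r ∣ Nat.card G → Nat.card (Sylow r G) = 18 ∨
      Nat.card (Sylow r G) = 136 ∨ Nat.card (Sylow r G) = 153 := by
    intro r hr hd
    have : Nat.card (Sylow r G) ∈ ({18, 136, 153} : Set ℕ) := hNS ▸ ⟨r, hr, hd, rfl⟩
    simpa using this
  have h18 : ∀ r : ℕ, r.Prime → Nat.card (Sylow r G) = 18 → r = 17 := by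
    intro r hr h
    have := Fact.mk hr
    have h1 := card_sylow_modEq_one r G
    rw [h] at h1
    have h2 : r ∣ 17 := (Nat.modEq_iff_dvd' (by norm_num : 1 ≤ 18)).mp h1.symm
    exact (Nat.prime_dvd_prime_iff_eq hr p17).mp h2
  obtain ⟨r, hr, hrd, hr18⟩ : 18 ∈ {c : ℕ | ∃ r : ℕ, r.Prime ∧ r ∣ Nat.card G ∧
      c = Nat.card (Sylow r G)} := by rw [hNS]; simp
  obtain rfl := h18 r hr hr18.symm
  have hΩ : Nat.card (Sylow 17 G) = 18 := hr18.symm
  have hG18 : 18 ∣ Nat.card G := hΩ ▸ card_sylow_dvd_card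
  have n2 : Nat.card (Sylow 2 G) = 153 := by
    have := CL.Small.card_sylow_mod (G := G) (p := 2)
    rcases hmem 2 Nat.prime_two ((by norm_num : 2 ∣ 18).trans hG18) with h | h | h <;> omega
  have n3 : Nat.card (Sylow 3 G) = 136 := by
    have := CL.Small.card_sylow_mod (G := G) (p := 3)
    rcases hmem 3 Nat.prime_three ((by norm_num : 3 ∣ 18).trans hG18) with h | h | h <;> omega
  set φ := toPermHom G (Sylow 17 G) with hφ
  have hKn : ∀ P : Sylow 17 G, φ.ker ≤ normalizer ((P : Subgroup G) : Set G) := by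
    intro P g hg
    have : g • P = P := congrArg (fun σ : Equiv.Perm (Sylow 17 G) => σ P) (MonoidHom.mem_ker.mp hg)
    exact Sylow.smul_eq_iff_mem_normalizer.mp this
  let e : G ⧸ φ.ker ≃* φ.range := QuotientGroup.quotientKerEquivRange φ
  have hsm : ∀ (g : G) (P : Sylow 17 G), (φ.rangeRestrict g) • P = g • P := fun _ _ => rfl
  have htr : IsPretransitive φ.range (Sylow 17 G) := ⟨fun P Q => by
    obtain ⟨g, hg⟩ := exists_smul_eq G P Q
    exact ⟨φ.rangeRestrict g, hg⟩⟩
  obtain ⟨P⟩ : Nonempty (Sylow 17 G) := inferInstance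
  have hnt : Nontrivial (Sylow 17 G) := Finite.one_lt_card_iff_nontrivial.mp (by omega)
  obtain ⟨P', hP'⟩ := exists_ne P
  obtain ⟨hK, hFc⟩ := ker_of_pgroup (H := φ.range) (p := 17) hΩ (a := P)
    (F := (P : Subgroup G).map φ.rangeRestrict) (P.isPGroup'.map _) (by
      intro h
      rw [Subgroup.map_eq_bot_iff, MonoidHom.ker_rangeRestrict] at h
      have h1 := inf_norm P.isPGroup' P'
      rw [inf_eq_left.mpr (h.trans (hKn P'))] at h1
      have h2 : (P : Subgroup G) ≤ P' := h1 ▸ inf_le_right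
      exact hP' (Sylow.ext (P.is_maximal' P'.isPGroup' h2)))
    (by
      rintro _ ⟨u, hu, rfl⟩
      exact CL.Small.smul_sylow_self P hu)
    (by
      rintro h hh _ ⟨u, hu, rfl⟩
      obtain ⟨g, rfl⟩ := φ.rangeRestrict_surjective h
      refine ⟨g * u * g⁻¹, ?_, by simp⟩
      exact (mem_normalizer_iff.mp (Sylow.smul_eq_iff_mem_normalizer.mp hh) u).mp hu)
  have hz : Z2 φ.range (Sylow 17 G) := Z2.of_ker_prime hK (by rw [hFc]; exact p17) (by omega)
  have hH := hK.card_group hz hP'.symm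
  rw [hΩ, hFc] at hH
  have hdd := hK.card_St_dvd hz hP'.symm
  rw [hFc] at hdd
  have hdl := Nat.le_of_dvd (by norm_num) hdd
  have := Fintype.ofFinite (Sylow 17 G)
  have hcl := S0732.result p17 (by rw [← Nat.card_eq_fintype_card, hΩ]) φ.range
    (d := Nat.card (St φ.range P P')) (by rw [hH]; ring) (by omega)
  obtain ⟨x, hx⟩ : 9 ∈ Set.range
      (orderOf : Matrix.ProjectiveSpecialLinearGroup (Fin 2) (ZMod 17) → ℕ) := by
    rw [S2475.result 17 (by rw [ZMod.card]; norm_num), ZMod.card]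
    exact Or.inr (Or.inr (by norm_num))
  have hd : (Nat.card (St φ.range P P') = 8 ∨ Nat.card (St φ.range P P') = 16) ∧
      ∃ r : φ.range, orderOf r = 9 := by
    rcases hcl with ⟨h1, ⟨f⟩⟩ | ⟨h1, ⟨f⟩⟩ | ⟨q, -, h1, -⟩
    · refine ⟨Or.inr h1, f.symm (Matrix.ProjectiveSpecialLinearGroup.toPGL x), ?_⟩
      rw [MulEquiv.orderOf_eq, orderOf_injective _
        Matrix.ProjectiveSpecialLinearGroup.toPGL_injective, hx]
    · exact ⟨Or.inl (by omega), f.symm x, by rw [MulEquiv.orderOf_eq, hx]⟩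
    · have : 3 ∣ 2 ^ q := h1 ▸ (by norm_num)
      have := Nat.prime_three.dvd_of_dvd_pow this
      omega
  obtain ⟨hd, r, hr9⟩ := hd
  have hH' : Nat.card φ.range = 306 * Nat.card (St φ.range P P') := by rw [hH]; ring
  have m2 := sylow_two hz hP'.symm hd hH'
  have m3 := sylow_three hz hΩ hd hH' hr9 (by
    obtain ⟨R⟩ : Nonempty (Sylow 3 G) := inferInstance
    rw [← card_sylow_congr e, ← n3]
    exact Dvd.intro _ (card_sylow_eq_quotient_mul R _).symm)
  have hbot : φ.ker = ⊥ := by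
    refine eq_bot_of_le_normalizer hZ _ fun q hq Q => ?_
    by_cases h17 : q = 17
    · subst h17; exact hKn Q
    by_cases h2 : q = 2
    · subst h2
      exact le_normalizer_of_eq _ Q (by rw [card_sylow_congr e, m2, n2])
    by_cases h3 : q = 3
    · subst h3
      exact le_normalizer_of_eq _ Q (by rw [card_sylow_congr e, m3, n3])
    by_cases hqd : q ∣ Nat.card G
    · exfalso
      have hi : φ.ker.index = 306 * Nat.card (St φ.range P P') := by
        rw [index_ker, hH']
      have hQ : (Q : Subgroup G) ≤ φ.ker := by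
        refine le_of_coprime_index ?_
        obtain ⟨n, hn⟩ := Q.isPGroup'.exists_card_eq
        rw [hn, hi]
        refine Nat.Coprime.pow_left n ((Nat.Prime.coprime_iff_not_dvd hq.out).mpr fun h => ?_)
        have : q ∣ 2 ^ 5 * 3 ^ 2 * 17 := by
          rcases hd with h' | h' <;> rw [h'] at h
          · exact h.trans (by norm_num)
          · exact h.trans (by norm_num)
        rcases (Nat.Prime.dvd_mul hq.out).mp this with h | h
        · rcases (Nat.Prime.dvd_mul hq.out).mp h with h | h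
          · exact h2 ((Nat.prime_dvd_prime_iff_eq hq.out Nat.prime_two).mp
              (hq.out.dvd_of_dvd_pow h))
          · exact h3 ((Nat.prime_dvd_prime_iff_eq hq.out Nat.prime_three).mp
              (hq.out.dvd_of_dvd_pow h))
        · exact h17 ((Nat.prime_dvd_prime_iff_eq hq.out p17).mp h)
      have hq' : Nat.card (Sylow q G) = 136 ∨ Nat.card (Sylow q G) = 153 :=
        (hmem q hq.out hqd).resolve_left fun h => h17 (h18 q hq.out h)
      refine not_dvd_of_le (p := 17) (Ne.symm h17) φ.ker hKn Q hQ ?_ ?_ ?_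
      · rcases hq' with h | h <;> rw [h] <;> norm_num
      · intro h
        have : q ∣ 2 ^ 4 := (Nat.modEq_iff_dvd' (by norm_num : 1 ≤ 17)).mp h.symm
        exact h2 ((Nat.prime_dvd_prime_iff_eq hq.out Nat.prime_two).mp
          (hq.out.dvd_of_dvd_pow this))
      · rcases hq' with h | h <;> rw [h] <;> norm_num
    · have := CL.Small.normal_of_card_sylow_eq_one (card_sylow_eq_one_of_not_dvd hqd) Q
      exact le_normalizer_of_normal
  let e' : G ≃* φ.range := MonoidHom.ofInjective ((MonoidHom.ker_eq_bot_iff φ).mp hbot)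
  have ρ : ZMod 17 ≃+* F := FiniteField.ringEquivOfCardEq (by rw [ZMod.card, hF])
  rcases hcl with ⟨h1, ⟨f⟩⟩ | ⟨h1, ⟨f⟩⟩ | ⟨q, -, h1, -⟩
  · exact Or.inr ⟨(e'.trans f).trans (S0732.pglCongr ρ)⟩
  · exact Or.inl ⟨(e'.trans f).trans (CL.Graph.pslCongr ρ)⟩
  · have : 3 ∣ 2 ^ q := h1 ▸ (by norm_num)
    have := Nat.prime_three.dvd_of_dvd_pow this
    omega

end

/-- Let G be a finite group with trivial centre whose set of Sylow numbers (numbers of Sylow r-subgroups, r over the prime divisors of its order) is exactly {18, 136, 153}. Then G is isomorphic to PSL(2, 17) or to PGL(2, 17). -/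
theorem result {G : Type*} [Group G] [Finite G] (hZ : Subgroup.center G = ⊥) (hNS : {c : ℕ | ∃ r : ℕ, r.Prime ∧ r ∣ Nat.card G ∧ c = Nat.card (Sylow r G)} = ({18, 136, 153} : Set ℕ))
    {F : Type*} [Field F] [Fintype F] (hF : Fintype.card F = 17) :
    Nonempty (G ≃* Matrix.ProjectiveSpecialLinearGroup (Fin 2) F) ∨ Nonempty (G ≃* (GL (Fin 2) F ⧸ Subgroup.center (GL (Fin 2) F))) := by
  exact main hZ hNS hF

end Cfsg.Agent.S3641
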