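import Cfsg.Statements.S3643
import Cfsg.Agent.SPOR.Ord12e
import Cfsg.Agent.INV.DegRec
import Cfsg.Agent.CHAR.Triple
import Cfsg.Agent.CHAR.Prod
import Cfsg.Agent.FGS.SchurHopf
import Cfsg.Agent.SPOR.AutTree
import Cfsg.Agent.S2034
import Cfsg.Agent.S2060
import Cfsg.Agent.S0228
-- import your own Cfsg.Agent.* helpers here

set_option autoImplicit false
open Cfsg

namespace Cfsg.Agent.S3643

open Subgroup CL.Small CL.D1 CL.O6 CL.DR CL.Ord CL.Char

variable {G : Type*} [Group G] [Finite G]

theorem orders11 [IsSimpleGroup G] (hc : ¬ IsMulCommutative G) (h1 : 11 ∣ Nat.card G)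
    (h2 : Nat.card G ∣ 95040) : Nat.card G = 660 ∨ Nat.card G = 7920 ∨ Nat.card G = 95040 := by
  by_cases h : Nat.card G ≤ 6232
  · exact .inl ((by decide : ∀ n ∈ OL, 11 ∣ n → n ∣ 95040 → n = 660) _ (orders hc h) h1 h2)
  have h3 := not_killed hc (hasData_of_simple hc)
  have h4 : Nat.card G ≠ 15840 := fun h => not_simple_15840 h inferInstance
  have h5 : Nat.card G ≠ 47520 := fun h => not_simple_47520 h inferInstance
  obtain ⟨k, hk⟩ := h2
  have h6 : k ≤ 15 := by nlinarith
  have h7 : ∀ n ∈ [31680, 23760, 19008, 11880, 10560, 9504, 6336], killed n = true := by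
    decide +kernel
  have h8 : Nat.card G ∉ [31680, 23760, 19008, 11880, 10560, 9504, 6336] := fun h => by
    simp [h7 _ h] at h3
  simp only [List.mem_cons, List.not_mem_nil, or_false, not_or] at h8
  interval_cases k <;> omega

theorem card_le_1320 (hc : pPrimeCore 11 G = ⊥) {M : Subgroup G} [M.Normal] [IsSimpleGroup M]
    (hM : Nat.card M = 660) (h : Nat.card G ∣ 95040) : Nat.card G ≤ 1320 := by
  have := Fact.mk (show Nat.Prime 11 by norm_num)
  have hM' := not_comm_of_not_prime (G := M) (by rw [hM]; norm_num)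
  have hG := M.card_mul_index
  rw [hM] at hG
  have h5 : ¬ 11 ∣ M.index := fun ⟨k, hk⟩ => absurd
    ((show 121 ∣ _ from ⟨60 * k, by rw [← hG, hk]; ring⟩).trans h) (by norm_num)
  obtain ⟨P⟩ : Nonempty (Sylow 11 G) := inferInstance
  have hP : Nat.card P = 11 := card_sylow_eq_of_factor P (a := 1) (m := 60 * M.index) (by omega)
    (by omega)
  have hPM : (P : Subgroup G) ≤ M := le_of_normal_of_not_dvd_index P.isPGroup' h5
  have hn : Nat.card (Sylow 11 G) = 12 := by
    have h1 : Nat.card (Sylow 11 M) = 12 := by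
      have b1 := card_sylow_dvd_of_factor (G := M) (p := 11) (a := 1) (m := 60) hM (by norm_num)
      have b2 := card_sylow_mod (G := M) (p := 11)
      have b3 := one_lt_card_sylow (G := M) (p := 11) hM' (by rw [hM]; norm_num)
      have b4 := Nat.le_of_dvd (by norm_num) b1
      generalize Nat.card (Sylow 11 M) = n at *
      interval_cases n <;> omega
    have h3 : normalizer ((P : Subgroup G) : Set G) ⊔ M = ⊤ := Sylow.normalizer_sup_eq_top' P hPM
    rw [card_sylow_eq_index P, CL.SN.index_eq_index_sup_mul _ M, h3, index_top, one_mul, ← h1,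
      card_sylow_eq_index (P.subtype hPM), Sylow.coe_subtype, ← subgroupOf_normalizer_eq hPM]
    rfl
  have h1 := card_le_of_le (centralizer_le_of_card_sylow P hP hn hc)
  have h2 := card_centralizer_mul_relIndex (P : Subgroup G)
  have h3 := Nat.le_of_dvd (by norm_num) (relIndex_centralizer_dvd_of_card_prime _ hP)
  have h4 := card_sylow_mul_card_normalizer P
  rw [hn, ← h2] at h4
  nlinarith

theorem eq_top_7920 (hc : pPrimeCore 11 G = ⊥) {M : Subgroup G} [M.Normal] [IsSimpleGroup M]
    (hM : Nat.card M = 7920) (h : Nat.card G ∣ 95040) : M = ⊤ := by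
  have := Fact.mk (show Nat.Prime 11 by norm_num)
  have hM' := not_comm_of_not_prime (G := M) (by rw [hM]; norm_num)
  obtain ⟨e⟩ := iso_M11 hM
  have h1 : Inn M = ⊤ := index_eq_one.1 ((CL.AutT.card_out_congr e).trans S2060.result)
  have h2 : centralizer (M : Set G) = ⊥ := by
    rw [← le_bot_iff, ← hc]
    refine CL.le_pPrimeCore ((Nat.Prime.coprime_iff_not_dvd (by norm_num)).2 fun h3 => ?_).symm
    obtain ⟨x, hx, h4⟩ := exists_mem_orderOf_eq_prime _ 11 h3
    have h5 : zpowers x ≤ M := le_of_normal_of_not_dvd_index (p := 11)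
      (IsPGroup.of_card (n := 1) (by rw [Nat.card_zpowers, h4, pow_one])) fun ⟨k, hk⟩ => absurd
        ((show 121 ∣ _ from ⟨720 * k, by rw [← M.card_mul_index, hM, hk]; ring⟩).trans h)
        (by norm_num)
    have h6 : (⟨x, h5 (mem_zpowers x)⟩ : M) ∈ center M :=
      mem_center_iff.2 fun g => Subtype.ext (hx g g.2)
    rcases (inferInstance : (center M).Normal).eq_bot_or_eq_top with h7 | h7
    · rw [h7, mem_bot, Subtype.ext_iff] at h6
      rw [show x = 1 from h6] at h4
      simp at h4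
    · exact hM' (center_eq_top_iff.1 h7)
  refine eq_top_iff.2 fun g _ => ?_
  obtain ⟨l, hl⟩ : MulAut.conjNormal g ∈ Inn M := h1 ▸ mem_top _
  have h3 : (l : G)⁻¹ * g ∈ centralizer (M : Set G) := fun y hy => by
    have : (l : G) * y * (l : G)⁻¹ = g * y * g⁻¹ := congrArg (fun a : MulAut M => (a ⟨y, hy⟩ : G)) hl
    calc y * ((l : G)⁻¹ * g) = (l : G)⁻¹ * (l * y * (l : G)⁻¹) * g := by group
      _ = _ := by rw [this]; group
  rw [h2, mem_bot, inv_mul_eq_one] at h3
  exact h3 ▸ l.2

theorem split_7920 (hG : Nat.card G = 95040) (h33 : Vx G 33) {K : Subgroup G} [K.Normal]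
    [IsSimpleGroup (G ⧸ K)] (hK : Nat.card (G ⧸ K) = 7920)
    (hC : (centralizer (K : Set G)).map (QuotientGroup.mk' K) = ⊤) :
    Nonempty (G ≃* alternatingGroup (Fin 4) × Spor.M11) := by
  set C := centralizer (K : Set G)
  obtain ⟨e⟩ := iso_M11 hK
  have hc := not_comm_of_not_prime (G := G ⧸ K) (by rw [hK]; norm_num)
  have h1 : Nat.card K = 12 := by
    have := card_eq_card_quotient_mul_card_subgroup K
    rw [hK] at this
    omega
  let ξ : C →* Spor.M11 := e.toMonoidHom.comp ((QuotientGroup.mk' K).comp C.subtype)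
  have hξ : ∀ x : C, ξ x = 1 ↔ (x : G) ∈ K := fun x => by simp [ξ]
  have h2 := CL.Schur.card_stemKer_dvd S2034.result (ξ := ξ) ⟨e.surjective.comp fun y => by
    obtain ⟨x, hx, rfl⟩ : y ∈ C.map (QuotientGroup.mk' K) := hC ▸ mem_top y
    exact ⟨⟨x, hx⟩, rfl⟩, fun x hx => mem_center_iff.2 fun y =>
      Subtype.ext (y.2 x ((hξ x).1 hx)).symm⟩
  rw [Nat.card_congr Multiplicative.toAdd, Nat.card_zmod, Nat.dvd_one, card_eq_one] at h2
  set L := ⁅C, C⁆
  have h3 : L.map (QuotientGroup.mk' K) = ⊤ := by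
    rw [map_commutator, hC]
    exact CL.Small.commutator_eq_top hc
  have h4 : K ⊓ L = ⊥ := eq_bot_iff.2 fun x hx => by
    obtain ⟨y, hy, rfl⟩ : x ∈ (commutator C).map C.subtype := by
      rw [map_subtype_commutator]; exact hx.2
    have : y ∈ CL.Schur.stemKer ξ := ⟨(hξ y).2 hx.1, hy⟩
    rw [h2, mem_bot] at this
    simp [this]
  have h5 : K ⊔ L = ⊤ := by
    rw [← comap_top (QuotientGroup.mk' K), ← h3, comap_map_eq, QuotientGroup.ker_mk', sup_comm]
  have h6 : ∀ a ∈ K, ∀ b ∈ L, a * b = b * a := fun a ha b hb => commutator_le_left C C hb a ha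
  let f : L ≃* G ⧸ K := MulEquiv.ofBijective ((QuotientGroup.mk' K).comp L.subtype) ⟨by
    rw [injective_iff_map_eq_one]
    intro x hx
    have : (x : G) ∈ K ⊓ L := ⟨by simpa using hx, x.2⟩
    simpa [h4] using this, fun y => by
      obtain ⟨x, hx, rfl⟩ : y ∈ L.map (QuotientGroup.mk' K) := h3 ▸ mem_top y
      exact ⟨⟨x, hx⟩, rfl⟩⟩
  obtain ⟨χ, hχ⟩ := h33
  obtain ⟨α, β, hα, hβ, h7⟩ := χ.2.exists_centralProd h6 h5
  have h8 : charDegree χ.1 = charDegree α * charDegree β := by
    have := h7 1 1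
    rw [hα.apply_one_eq_charDegree, hβ.apply_one_eq_charDegree] at this
    simp only [OneMemClass.coe_one, mul_one, χ.2.apply_one_eq_charDegree] at this
    exact_mod_cast this
  have := f.isSimpleGroup
  obtain ⟨T⟩ := exists_T11 ((Nat.card_congr f.toEquiv).trans hK)
  have h9 : charDegree β ∈ [55, 1, 10, 10, 10, 11, 16, 16, 44, 45] := by
    simpa [T.d55, T.da1, T.da2, T.da3, T.d11, T.dt1, T.dt2, T.d44, T.d45,
      show charDegree (irrOne L).1 = 1 from charDegree_const_one] using
      List.mem_map_of_mem (f := fun χ : IrrCharacter L => charDegree χ.1) (T.all ⟨β, hβ⟩)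
  obtain ⟨a⟩ := S0228.result h1 fun z hz h => by
    have b1 := hα.charDegree_sq_le_index ((zpowers_le.2 h).trans hα.center_le_charCenter)
    have b2 := (zpowers z).card_mul_index
    rw [Nat.card_zpowers, hz, h1] at b2
    have b3 : charDegree α < 3 := lt_of_pow_lt_pow_left₀ 2 (by norm_num) (by omega)
    have b4 := hα.charDegree_pos
    rw [h8] at hχ
    simp only [List.mem_cons, List.not_mem_nil, or_false] at h9
    interval_cases charDegree α <;> omega
  exact ⟨(directProdEquiv h6 h5 h4).symm.trans (a.prodCongr (f.trans e))⟩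

/-- Let G be a finite group of the same order as the Mathieu group M₁₂ whose character degree graph equals that of M₁₂ (same primes dividing some irreducible complex character degree, same pairs of distinct primes whose product divides some degree). Then G is isomorphic to M₁₂ or to the direct product of the alternating group of degree 4 with M₁₁. -/
theorem result {G : Type*} [Group G] [Finite G] (hcard : Nat.card G = Nat.card ↥Cfsg.Spor.M12) (hΔ : Cfsg.degreePrimes G = Cfsg.degreePrimes ↥Cfsg.Spor.M12 ∧ Cfsg.degreeGraph G = Cfsg.degreeGraph ↥Cfsg.Spor.M12) :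
    Nonempty (G ≃* ↥Cfsg.Spor.M12) ∨ Nonempty (G ≃* alternatingGroup (Fin 4) × ↥Cfsg.Spor.M11) := by
  have := Fact.mk (show Nat.Prime 11 by norm_num)
  obtain ⟨hs, hG⟩ := simple_M12
  obtain ⟨T⟩ := exists_T12 hG
  have he : ∀ p q, p ≠ q → p.Prime → q.Prime → Vx Spor.M12 (p * q) → Vx G (p * q) :=
    fun p q h hp hq ⟨χ, hχ⟩ => by
      obtain ⟨-, -, -, _, ⟨ψ, rfl⟩, h1⟩ : (degreeGraph G).Adj p q :=
        hΔ.2 ▸ ⟨h, hp, hq, _, ⟨χ, rfl⟩, hχ⟩
      exact ⟨ψ, h1⟩
  have h33 := he 3 11 (by norm_num) (by norm_num) (by norm_num) ⟨T.c66, by rw [T.d66]; norm_num⟩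
  obtain ⟨χ, hχ⟩ := he 5 11 (by norm_num) (by norm_num) (by norm_num) (T.ex55.imp fun _ h => by
    rw [h])
  rw [hG] at hcard
  obtain ⟨P⟩ : Nonempty (Sylow 11 G) := inferInstance
  have hP : Nat.card P = 11 := card_sylow_eq_of_factor P (a := 1) (m := 8640) hcard (by norm_num)
  have hn := not_normal_of_vx P hP ⟨χ, Dvd.dvd.trans (by norm_num) hχ⟩
  set K := pPrimeCore 11 G
  have hK : ¬ 11 ∣ Nat.card K := CL.not_dvd_card_pPrimeCore 11 G
  have h1 := card_eq_card_quotient_mul_card_subgroup K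
  have hq := hcard ▸ card_quotient_dvd_card K
  have hKP : K ≤ centralizer ((P : Subgroup G) : Set G) := le_centralizer_of_comp P.isPGroup'
    (by rw [normalizer_eq_top]; exact le_top) hK (n := 8640) (by norm_num)
    (((Nat.Prime.coprime_iff_not_dvd this.out).2 hK).symm.dvd_of_dvd_mul_left
      ((card_subgroup_dvd_card K).trans hcard.dvd)) (by decide +kernel)
  have hc := CL.pPrimeCore_quotient_pPrimeCore 11 G
  obtain ⟨M, hM, hs, hpM⟩ := exists_simple_normal (G := G ⧸ K) (p := 11)
    (((Nat.Prime.dvd_mul this.out).1 (h1 ▸ hcard ▸ by norm_num)).resolve_right hK)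
    (fun h => absurd (h.trans hq) (by norm_num)) hc
  have hMc : ¬ IsMulCommutative M := fun hc => by
    refine not_le_centralizer P hP hn (M := M) (by_contra fun h => ?_) hKP
    refine not_comm_of_not_prime (G := M) (fun h' => h ?_) hc
    exact ((Nat.prime_dvd_prime_iff_eq this.out h').1 hpM).symm
  set C := centralizer (K : Set G)
  have hMC : M ≤ C.map (QuotientGroup.mk' K) := by
    have : (C.map (QuotientGroup.mk' K)).Normal := Normal.map inferInstance _
      (QuotientGroup.mk'_surjective K)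
    refine subgroupOf_eq_top.1 ((inferInstance : ((C.map (QuotientGroup.mk' K)).subgroupOf
      M).Normal).eq_bot_or_eq_top.resolve_left fun h => ?_)
    obtain ⟨x, hxP, hx⟩ := exists_mem_orderOf_eq_prime (P : Subgroup G) 11 hP.symm.dvd
    have h2 := le_of_normal_of_not_dvd_index (N := M) (P.isPGroup'.map (QuotientGroup.mk' K))
      (fun ⟨k, hk⟩ => by
        obtain ⟨l, hl⟩ := hpM
        rw [← M.card_mul_index, hk, hl, mul_mul_mul_comm] at hq
        exact absurd ((dvd_mul_right _ _).trans hq) (by norm_num)) (mem_map_of_mem _ hxP)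
    have h3 : (⟨_, h2⟩ : M) ∈ (C.map (QuotientGroup.mk' K)).subgroupOf M :=
      mem_map_of_mem _ (le_centralizer_iff.1 hKP hxP)
    rw [h, mem_bot, Subtype.ext_iff] at h3
    exact hK (hx ▸ K.orderOf_dvd_natCard ((QuotientGroup.eq_one_iff x).1 h3))
  rcases orders11 hMc hpM ((card_subgroup_dvd_card M).trans hq) with h | h | h
  · exfalso
    have := Fintype.ofFinite C
    obtain ⟨φ, hφ, h2⟩ := χ.2.exists_under_res C
    obtain ⟨k, h3, h4⟩ := exists_degree_eq_mul_dvd_index χ.2 hφ h2
    rw [χ.2.apply_one_eq_charDegree, hφ.apply_one_eq_charDegree] at h3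
    norm_cast at h3
    obtain ⟨m, h5⟩ := (h ▸ card_dvd_of_le hMC).trans (card_map_dvd C _)
    have h6 := C.card_mul_index
    have h7 : 55 ∣ charDegree φ := Nat.Coprime.dvd_of_dvd_mul_left
      (Nat.Coprime.coprime_dvd_left (h4.trans (show C.index ∣ 144 from
        ⟨m, by rw [h5, hcard] at h6; nlinarith⟩)) (by norm_num)).symm (h3 ▸ hχ)
    have h8 := hφ.charDegree_sq_le_index (Z := K.subgroupOf C) (le_trans (fun x hx =>
      mem_center_iff.2 fun y => Subtype.ext (y.2 x hx).symm) hφ.center_le_charCenter)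
    have h9 : (K.subgroupOf C).index ≤ 1320 :=
      (Nat.le_of_dvd Nat.card_pos (relIndex_dvd_index_of_normal K C)).trans
        (card_le_1320 hc h hq)
    have := Nat.le_of_dvd hφ.charDegree_pos h7
    nlinarith
  · obtain rfl := eq_top_7920 hc h hq
    have := topEquiv.symm.isSimpleGroup (G := G ⧸ K)
    exact .inr (split_7920 hcard h33 (card_top.symm.trans h) (top_le_iff.1 hMC))
  · have := simple_of_card (h.trans hcard.symm)
    exact .inl (iso_M12 hcard)

end Cfsg.Agent.S3643
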