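import Cfsg.Statements.S4775
import Mathlib
import Cfsg.Agent.CHEV.SzChar3

set_option autoImplicit false
open Cfsg

namespace Cfsg.Agent.S4775

/-- Let F be a finite field with q = 2^(2m+1) ≥ 8 elements and let S be isomorphic to the Suzuki group over F. Then the vertices of the character degree graph of S are 2 and the primes dividing (q − 1)(q² + 1); the primes dividing (q − 1)(q² + 1) are pairwise adjacent, and 2 is adjacent exactly to the primes dividing q − 1. -/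
theorem result (F : Type*) [Field F] [Fintype F] (m : ℕ) (hm : 1 ≤ m) (q : ℕ) (hq : Fintype.card F = q) (hqm : q = 2 ^ (2 * m + 1)) {S : Type*} [Group S] [Finite S] (hS : Nonempty (S ≃* ↥(Cfsg.Lie.Sz F (2 ^ (m + 1))))) : Cfsg.degreePrimes S = {r : ℕ | r.Prime ∧ (r = 2 ∨ r ∣ (q - 1) * (q ^ 2 + 1))} ∧ ∀ r s : ℕ, (Cfsg.degreeGraph S).Adj r s ↔ (r ≠ s ∧ r.Prime ∧ s.Prime ∧ ((r ∣ (q - 1) * (q ^ 2 + 1) ∧ s ∣ (q - 1) * (q ^ 2 + 1)) ∨ (r = 2 ∧ s ∣ q - 1) ∨ (s = 2 ∧ r ∣ q - 1))) := by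
  have hF := hq.trans hqm
  have := CL.Sz.charP_two hF
  obtain ⟨e⟩ := hS
  set M := (CL.Sz.lieModel hF).ofEquiv e
  have := Fintype.ofFinite S
  obtain ⟨P₁, N₁, P₂, N₂, T⟩ := M.exists_setup hm hF
  have hq' : Nat.card F = q := by rw [Nat.card_eq_fintype_card, hq]
  have hd := @T.mem_charDegrees_iff
  have h1 := T.hq
  have h3 := T.c₁
  have h4 := T.c₂
  rw [hq'] at hd h1
  have hab : Nat.card P₁ * Nat.card P₂ = q ^ 2 + 1 := by
    have : (Nat.card P₂ : ℤ) = 2 * (2 ^ m) ^ 2 + 1 - 2 * 2 ^ m := by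
      have := congrArg (Nat.cast : ℕ → ℤ) h4
      push_cast at this
      linarith
    zify
    rw [this, h3, h1]
    push_cast
    ring
  generalize Nat.card P₁ = a, Nat.card P₂ = b at *
  have hq2 : 2 ∣ q := by rw [h1]; exact Dvd.intro _ rfl
  have hq1 : 1 < q := hq' ▸ CL.Sz.Model.one_lt_card
  have hs2 : 2 ∣ 2 ^ m := dvd_pow_self _ (by omega)
  have hp2 : ∀ {r n : ℕ}, r.Prime → r ∣ 2 ^ n → r = 2 := fun hr h =>
    (Nat.prime_dvd_prime_iff_eq hr Nat.prime_two).mp (hr.dvd_of_dvd_pow h)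
  have hq3 : ∀ {r : ℕ}, r.Prime → r ∣ q ^ 2 → r = 2 := fun hr h =>
    hp2 hr (hqm ▸ hr.dvd_of_dvd_pow h)
  have o1 : ¬ 2 ∣ q - 1 := by omega
  have ha : a ∣ q ^ 2 + 1 := Dvd.intro _ hab
  have hb : b ∣ q ^ 2 + 1 := Dvd.intro_left _ hab
  have hc : ∀ {r : ℕ}, r.Prime → r ∣ q - 1 → ¬ r ∣ q ^ 2 + 1 := fun hr h h' =>
    hr.one_lt.ne' (Nat.eq_one_of_dvd_coprimes (hq' ▸ CL.Sz.Model.coprime_sub_one_sq_add_one (F := F)) h h')
  have hsub : ∀ {r : ℕ}, r.Prime → r ∣ 2 ^ m * (q - 1) → r = 2 ∨ r ∣ q - 1 := fun hr h =>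
    (hr.dvd_mul.mp h).imp_left (hp2 hr)
  constructor
  · ext r
    simp only [degreePrimes, Set.mem_ofPred_eq, hd]
    refine and_congr_right fun hr => ⟨?_, ?_⟩
    · rintro ⟨d, rfl | rfl | rfl | rfl | rfl | rfl, h⟩
      · exact absurd (Nat.dvd_one.mp h) hr.one_lt.ne'
      · exact Or.inl (hq3 hr h)
      · exact Or.inr (h.mul_left _)
      · exact Or.inr (h.trans (Nat.mul_dvd_mul_left _ hb))
      · exact Or.inr (h.trans (Nat.mul_dvd_mul_left _ ha))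
      · exact (hsub hr h).imp_right fun h => h.mul_right _
    · rintro (rfl | h)
      · exact ⟨_, Or.inr (Or.inl rfl), hq2.trans (dvd_pow_self _ two_ne_zero)⟩
      · rcases hr.dvd_mul.mp h with h | h
        · exact ⟨2 ^ m * (q - 1), by simp, h.mul_left _⟩
        · exact ⟨q ^ 2 + 1, by simp, h⟩
  · intro r s
    simp only [degreeGraph, hd]
    refine and_congr_right fun hrs => and_congr_right fun hr => and_congr_right fun hs => ⟨?_, ?_⟩
    · rintro ⟨d, hd, h⟩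
      have h' : r ∣ d := (Dvd.intro _ rfl).trans h
      have h'' : s ∣ d := (Dvd.intro_left _ rfl).trans h
      rcases hd with rfl | rfl | rfl | rfl | rfl | rfl
      · exact absurd (Nat.dvd_one.mp h') hr.one_lt.ne'
      · exact absurd ((hq3 hr h').trans (hq3 hs h'').symm) hrs
      · exact Or.inl ⟨h'.mul_left _, h''.mul_left _⟩
      · exact Or.inl ⟨h'.trans (Nat.mul_dvd_mul_left _ hb), h''.trans (Nat.mul_dvd_mul_left _ hb)⟩
      · exact Or.inl ⟨h'.trans (Nat.mul_dvd_mul_left _ ha), h''.trans (Nat.mul_dvd_mul_left _ ha)⟩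
      · rcases hsub hr h' with a1 | a1 <;> rcases hsub hs h'' with a2 | a2
        · exact absurd (a1.trans a2.symm) hrs
        · exact Or.inr (Or.inl ⟨a1, a2⟩)
        · exact Or.inr (Or.inr ⟨a2, a1⟩)
        · exact Or.inl ⟨a1.mul_right _, a2.mul_right _⟩
    · have hcop := (Nat.coprime_primes hr hs).mpr hrs
      have key : ∀ {r s : ℕ}, s.Prime → r ∣ q - 1 → s ∣ q ^ 2 + 1 → ∃ d, (d = 1 ∨ d = q ^ 2 ∨
          d = q ^ 2 + 1 ∨ d = (q - 1) * b ∨ d = (q - 1) * a ∨ d = 2 ^ m * (q - 1)) ∧ r * s ∣ d := by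
        intro r s hs a1 a2
        rcases hs.dvd_mul.mp (hab ▸ a2) with a3 | a3
        · exact ⟨(q - 1) * a, by simp, Nat.mul_dvd_mul a1 a3⟩
        · exact ⟨(q - 1) * b, by simp, Nat.mul_dvd_mul a1 a3⟩
      rintro (⟨a1, a2⟩ | ⟨rfl, a2⟩ | ⟨rfl, a1⟩)
      · rcases hr.dvd_mul.mp a1 with a1 | a1 <;> rcases hs.dvd_mul.mp a2 with a2 | a2
        · exact ⟨2 ^ m * (q - 1), by simp, (hcop.mul_dvd_of_dvd_of_dvd a1 a2).mul_left _⟩
        · exact key hs a1 a2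
        · rw [mul_comm r]; exact key hr a2 a1
        · exact ⟨q ^ 2 + 1, by simp, hcop.mul_dvd_of_dvd_of_dvd a1 a2⟩
      · exact ⟨2 ^ m * (q - 1), by simp, Nat.mul_dvd_mul hs2 a2⟩
      · exact ⟨2 ^ m * (q - 1), by simp, mul_comm r 2 ▸ Nat.mul_dvd_mul hs2 a1⟩

end Cfsg.Agent.S4775
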