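import Cfsg.Statements.S3669
import Cfsg.Agent.KSG.PSL2Deg
import Cfsg.Agent.CHAR.Faithful
import Cfsg.Agent.S0253
import Cfsg.Agent.S3641

set_option autoImplicit false
open Cfsg

namespace Cfsg.Agent.S3669

open Subgroup MulAction CL CL.SN

/-- The character degree graph of a finite group has as vertices the primes dividing some irreducible complex character degree, two distinct primes being joined when their product divides some irreducible character degree; two groups have the same character degree graph when they have the same vertices and the same joined pairs. A finite group of order 60 with the same character degree graph as the alternating group A₅ (whose character degrees are 1, 3, 4, 5, so the graph has vertices 2, 3, 5 and no edges) is isomorphic to A₅. -/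
theorem result {G : Type*} [Group G] [Finite G] (hcard : Nat.card G = 60)
    (hΓ : Cfsg.degreePrimes G = Cfsg.degreePrimes (alternatingGroup (Fin 5)) ∧ Cfsg.degreeGraph G = Cfsg.degreeGraph (alternatingGroup (Fin 5))) : Nonempty (G ≃* alternatingGroup (Fin 5)) := by
  classical
  have p5 : Nat.Prime 5 := by norm_num
  have f5 : Fact (Nat.Prime 5) := ⟨p5⟩
  obtain ⟨e5⟩ := S0253.result (F := ZMod 5) (ZMod.card 5)
  have h5 : 5 ∈ degreePrimes (alternatingGroup (Fin 5)) := by
    refine ⟨p5, 5, ?_, dvd_rfl⟩
    rw [← CL.GL2.charDegrees_congr e5]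
    have := CL.GL2.card_mem_charDegrees_PSL (F := ZMod 5)
    rwa [ZMod.card] at this
  rw [← hΓ.1] at h5
  obtain ⟨-, d, ⟨χ, rfl⟩, hd⟩ := h5
  obtain ⟨P⟩ : Nonempty (Sylow 5 G) := inferInstance
  have hP : Nat.card P = 5 :=
    CL.Small.card_sylow_eq_of_factor P (a := 1) (m := 12) (by rw [hcard]; norm_num) (by norm_num)
  have hPi : (P : Subgroup G).index = 12 :=
    CL.Small.index_sylow_eq_of_factor P (a := 1) (m := 12) (by rw [hcard]; norm_num) (by norm_num)
  have hΩ : Nat.card (Sylow 5 G) = 6 := by
    have h1 := CL.Small.card_sylow_mod (G := G) (p := 5)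
    have h2 : Nat.card (Sylow 5 G) ∣ 12 := hPi ▸ P.card_dvd_index
    have h3 : Nat.card (Sylow 5 G) ≠ 1 := by
      intro h
      have := CL.Small.normal_of_card_sylow_eq_one h P
      have hc := isCyclic_of_prime_card hP
      have := Fintype.ofFinite G
      have h4 := χ.2.charDegree_dvd_index_of_abelian (P : Subgroup G) (fun a ha b hb =>
        congrArg Subtype.val (IsCyclic.isMulCommutative.is_comm.comm (⟨a, ha⟩ : P) ⟨b, hb⟩))
      rw [hPi] at h4
      exact absurd (hd.trans h4) (by norm_num)
    have := Nat.le_of_dvd (by norm_num) h2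
    generalize Nat.card (Sylow 5 G) = n at *
    interval_cases n <;> simp_all
  set φ := toPermHom G (Sylow 5 G) with hφ
  have hKn : ∀ P : Sylow 5 G, φ.ker ≤ normalizer ((P : Subgroup G) : Set G) := by
    intro P g hg
    have : g • P = P := congrArg (fun σ : Equiv.Perm (Sylow 5 G) => σ P) (MonoidHom.mem_ker.mp hg)
    exact Sylow.smul_eq_iff_mem_normalizer.mp this
  have htr : IsPretransitive φ.range (Sylow 5 G) := ⟨fun P Q => by
    obtain ⟨g, hg⟩ := exists_smul_eq G P Q
    exact ⟨φ.rangeRestrict g, hg⟩⟩
  have hnt : Nontrivial (Sylow 5 G) := Finite.one_lt_card_iff_nontrivial.mp (by omega)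
  obtain ⟨P', hP'⟩ := exists_ne P
  have h5 : ¬ 5 ∣ Nat.card φ.ker := by
    intro h
    obtain ⟨x, hx⟩ := exists_prime_orderOf_dvd_card' 5 h
    have hxP : IsPGroup 5 (zpowers (x : G)) :=
      IsPGroup.of_card (n := 1) (by rw [Nat.card_zpowers, orderOf_coe, hx, pow_one])
    have key : ∀ Q : Sylow 5 G, zpowers (x : G) = Q := by
      intro Q
      have h1 := S3641.inf_norm hxP Q
      rw [inf_eq_left.mpr ((zpowers_le.mpr x.2).trans (hKn Q))] at h1
      refine eq_of_le_of_card_ge (h1 ▸ inf_le_right) ?_
      rw [Nat.card_zpowers, orderOf_coe, hx, CL.Small.card_sylow_eq_of_factor Q (a := 1) (m := 12)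
        (by rw [hcard]; norm_num) (by norm_num)]
      norm_num
    exact hP' (Sylow.ext ((key P').symm.trans (key P)))
  have h6 : 6 ∣ Nat.card φ.range := by
    have := (stabilizer φ.range P).card_mul_index
    rw [index_stabilizer_of_transitive, hΩ] at this
    exact Dvd.intro_left _ this
  have hm := φ.ker.card_mul_index
  rw [index_ker, hcard] at hm
  have h5' : 5 ∣ Nat.card φ.range :=
    (p5.dvd_mul.mp (hm ▸ (by norm_num : 5 ∣ 60))).resolve_left h5
  obtain ⟨k, hk⟩ : 30 ∣ Nat.card φ.range := Nat.Coprime.mul_dvd_of_dvd_of_dvd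
    (by norm_num : Nat.Coprime 6 5) h6 h5'
  have hk2 : k ≤ 2 := by
    have := Nat.le_of_dvd (by norm_num) (Dvd.intro_left _ hm)
    omega
  have := Fintype.ofFinite (Sylow 5 G)
  rcases S0732.result p5 (by rw [← Nat.card_eq_fintype_card, hΩ]) φ.range (d := k)
    (by rw [hk]) (by omega) with ⟨h1, -⟩ | ⟨h1, ⟨f⟩⟩ | ⟨q, -, h1, -⟩
  · omega
  · have hb : φ.ker = ⊥ := by
      rw [← card_eq_one]
      rw [hk, show k = 2 by omega] at hm
      omega
    exact ⟨((MonoidHom.ofInjective ((MonoidHom.ker_eq_bot_iff φ).mp hb)).trans f).trans e5⟩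
  · have : 3 ∣ 2 ^ q := h1 ▸ (by norm_num)
    have := Nat.prime_three.dvd_of_dvd_pow this
    omega

end Cfsg.Agent.S3669
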