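import Cfsg.Statements.S3668
import Cfsg.Agent.INV.DegRec
import Cfsg.Agent.SPOR.Ord33
import Cfsg.Agent.SPOR.GraphIso
import Cfsg.Agent.S4774
import Cfsg.Agent.S3669
import Cfsg.Agent.S0254
import Cfsg.Agent.S0494
import Cfsg.Agent.S0495
import Cfsg.Agent.S0497
import Cfsg.Agent.S1011
import Cfsg.Agent.S0498
import Cfsg.Agent.S1020
import Cfsg.Agent.S0984
import Cfsg.Agent.S1021
import Cfsg.Agent.S0981

set_option autoImplicit false
open Cfsg

namespace Cfsg.Agent.S3668

open CL.DR CL.O6 CL.D1

theorem exists_field (p n : ℕ) (hp : p.Prime) (hn : n ≠ 0) :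
    ∃ (F : Type) (_ : Field F) (_ : Fintype F) (_ : CharP F p), Fintype.card F = p ^ n := by
  have := Fact.mk hp
  have := Fintype.ofFinite (GaloisField p n)
  exact ⟨GaloisField p n, inferInstance, this, inferInstance,
    by rw [← Nat.card_eq_fintype_card, GaloisField.card p n hn]⟩

theorem uniq {S : Type*} [Group S] [Finite S] [IsSimpleGroup S] {G : Type*} [Group G] [Finite G]
    [IsSimpleGroup G] {n : ℕ} (hS : Nat.card S = n) (hG : Nat.card G = n)
    (h : n ∈ [168, 360, 504, 660, 1092, 2448, 2520, 3420, 4080, 5616]) : Nonempty (G ≃* S) := by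
  have key : ∀ {X : Type} [Group X], Nonempty (G ≃* X) → Nonempty (S ≃* X) → Nonempty (G ≃* S) :=
    fun ⟨a⟩ ⟨b⟩ => ⟨a.trans b.symm⟩
  simp only [List.mem_cons, List.not_mem_nil, or_false] at h
  rcases h with rfl | rfl | rfl | rfl | rfl | rfl | rfl | rfl | rfl | rfl
  · obtain ⟨F, _, _, _, hF⟩ := exists_field 7 1 (by norm_num) (by norm_num)
    exact key (S0495.result hG hF) (S0495.result hS hF)
  · exact key (S0497.result hG) (S0497.result hS)
  · obtain ⟨F, _, _, _, hF⟩ := exists_field 2 3 (by norm_num) (by norm_num)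
    exact key (S1011.result hG hF) (S1011.result hS hF)
  · obtain ⟨F, _, _, _, hF⟩ := exists_field 11 1 (by norm_num) (by norm_num)
    exact key (S0498.result 11 (by norm_num) (by rw [hG]; norm_num) hF)
      (S0498.result 11 (by norm_num) (by rw [hS]; norm_num) hF)
  · obtain ⟨F, _, _, _, hF⟩ := exists_field 13 1 (by norm_num) (by norm_num)
    exact key (S0498.result 13 (by norm_num) (by rw [hG]; norm_num) hF)
      (S0498.result 13 (by norm_num) (by rw [hS]; norm_num) hF)
  · obtain ⟨F, _, _, _, hF⟩ := exists_field 17 1 (by norm_num) (by norm_num)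
    exact key (S1020.result hG hF) (S1020.result hS hF)
  · exact key (S0984.result hG) (S0984.result hS)
  · obtain ⟨F, _, _, _, hF⟩ := exists_field 19 1 (by norm_num) (by norm_num)
    exact key (S1021.result hG hF) (S1021.result hS hF)
  · obtain ⟨F, _, _, _, hF⟩ := exists_field 2 4 (by norm_num) (by norm_num)
    exact key (S0981.result hG hF) (S0981.result hS hF)
  · obtain ⟨F, _, _, hF, ⟨a⟩⟩ := CL.Ord.iso_L33 hG
    obtain ⟨F', _, _, hF', ⟨b⟩⟩ := CL.Ord.iso_L33 hS
    exact ⟨a.trans ((CL.Graph.pslCongr (FiniteField.ringEquivOfCardEq (hF.trans hF'.symm))).trans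
      b.symm)⟩

theorem vx_iff {G : Type*} [Group G] {n : ℕ} : Vx G n ↔ ∃ d ∈ charDegrees G, n ∣ d :=
  ⟨fun ⟨χ, h⟩ => ⟨_, ⟨χ, rfl⟩, h⟩, fun ⟨_, ⟨χ, h1⟩, h⟩ => ⟨χ, h1 ▸ h⟩⟩

/-- The character degree graph of a finite group has as vertices the primes dividing some irreducible complex character degree, two distinct primes being joined when their product divides some irreducible character degree; two groups have the same character degree graph when they have the same vertices and the same joined pairs. Let S be a finite non-abelian simple group of order less than 6000. If a finite group G has the same order as S and the same character degree graph as S, then G is isomorphic to S. -/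
theorem result {S : Type*} [Group S] [Finite S] [IsSimpleGroup S] (hS : ¬ IsMulCommutative S)
    (hlt : Nat.card S < 6000) {G : Type*} [Group G] [Finite G] (hcard : Nat.card G = Nat.card S) (hΓ : Cfsg.degreePrimes G = Cfsg.degreePrimes S ∧ Cfsg.degreeGraph G = Cfsg.degreeGraph S) :
    Nonempty (G ≃* S) := by
  have hv : ∀ p, p.Prime → Vx S p → Vx G p := fun p hp h =>
    vx_iff.2 (hΓ.1.ge ⟨hp, vx_iff.1 h⟩).2
  have he : ∀ p q, p ≠ q → p.Prime → q.Prime →
      (Vx G (p * q) ↔ (degreeGraph S).Adj p q) := fun p q h hp hq => by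
    rw [← hΓ.2, vx_iff]
    exact ⟨fun h' => ⟨h, hp, hq, h'⟩, fun h' => h'.2.2.2⟩
  have hd : ∀ (p : ℕ) [Fact p.Prime] (a q : ℕ), p ∣ Nat.card S → surv (Nat.card S) p (fun _ _ _ s d =>
      (((d ::ₘ s).map Int.natAbs).filter fun x => x = a).card == 0) = false → q.Prime → q ∣ a →
      Vx G q := fun p _ a q h1 h2 hq h3 => by
    obtain ⟨χ, hχ⟩ := exists_deg_of_surv hS h1 h2
    exact hv q hq ⟨χ, hχ ▸ h3⟩
  have h5 := Fact.mk (show Nat.Prime 5 by norm_num)
  have h7 := Fact.mk (show Nat.Prime 7 by norm_num)
  have h11 := Fact.mk (show Nat.Prime 11 by norm_num)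
  have h13 := Fact.mk (show Nat.Prime 13 by norm_num)
  have h17 := Fact.mk (show Nat.Prime 17 by norm_num)
  have h19 := Fact.mk (show Nat.Prime 19 by norm_num)
  have ho := orders hS (by omega)
  simp only [List.mem_cons, List.not_mem_nil, or_false] at ho
  rcases ho with h | h | h | h | h | h | h | h | h | h | h | h | h
  · obtain ⟨e⟩ := S0494.result h
    have h1 := CL.GL2.charDegrees_congr e
    obtain ⟨f⟩ := S3669.result (hcard.trans h) ⟨by rw [hΓ.1, degreePrimes, h1]; rfl,
      by rw [hΓ.2]; ext p q; simp only [degreeGraph, h1]⟩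
    exact ⟨f.trans e.symm⟩
  · have := simple_168 (hcard.trans h) (hv 7 h7.out (vertex_of_surv hS (by rw [h]; norm_num)
      (by rw [h]; decide +kernel))) (hd 7 8 2 (by rw [h]; norm_num) (by rw [h]; decide +kernel)
      Nat.prime_two (by norm_num))
    exact uniq h (hcard.trans h) (by decide)
  · obtain ⟨F, _, _, _, hF⟩ := exists_field 3 2 (by norm_num) (by norm_num)
    have := Fact.mk Nat.prime_three
    obtain ⟨a⟩ := S0497.result h
    obtain ⟨b⟩ := S0254.result hF
    have h1 := (S4774.result F 3 (by norm_num) 9 hF (by norm_num) (Or.inl ⟨a.trans b.symm⟩)).2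
    have := simple_360 (hcard.trans h) ((he 2 5 (by norm_num) (by norm_num) h5.out).2
      ((h1 2 5).2 (by norm_num))) fun h2 => by
        have := (h1 2 3).1 ((he 2 3 (by norm_num) (by norm_num) (by norm_num)).1 h2)
        norm_num at this
    exact uniq h (hcard.trans h) (by decide)
  · have := simple_504 (hcard.trans h) (hv 7 h7.out (vertex_of_surv hS (by rw [h]; norm_num)
      (by rw [h]; decide +kernel))) (hd 7 8 2 (by rw [h]; norm_num) (by rw [h]; decide +kernel)
      Nat.prime_two (by norm_num)) fun h2 => by
        obtain ⟨-, -, -, _, ⟨χ, rfl⟩, h3⟩ := (he 2 3 (by norm_num) (by norm_num) (by norm_num)).1 h2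
        have h4 := no_deg_of_surv (p := 7) (ok := fun d => d % 6 != 0) hS (by rw [h]; norm_num)
          (by rw [h]; decide +kernel) χ
        have b2 := χ.2.charDegree_sq_le_index (Z := ⊥) bot_le
        have b3 := χ.2.charDegree_pos
        rw [Subgroup.index_bot, h] at b2
        have : charDegree χ.1 ≤ 22 := by nlinarith
        simp only [bne_iff_ne] at h4
        omega
    exact uniq h (hcard.trans h) (by decide)
  · have := simple_of_vx (p := 11) (m := 60) (hcard.trans h) (by norm_num) (hv _ h11.out
      (vertex_of_surv hS (by rw [h]; norm_num) (by rw [h]; decide +kernel))) (by norm_num)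
      (by decide +kernel) (by decide +kernel)
    exact uniq h (hcard.trans h) (by decide)
  · have := simple_of_vx (p := 13) (m := 84) (hcard.trans h) (by norm_num) (hv _ h13.out
      (vertex_of_surv hS (by rw [h]; norm_num) (by rw [h]; decide +kernel))) (by norm_num)
      (by decide +kernel) (by decide +kernel)
    exact uniq h (hcard.trans h) (by decide)
  · have := simple_of_vx (p := 17) (m := 144) (hcard.trans h) (by norm_num) (hv _ h17.out
      (vertex_of_surv hS (by rw [h]; norm_num) (by rw [h]; decide +kernel))) (by norm_num)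
      (by decide +kernel) (by decide +kernel)
    exact uniq h (hcard.trans h) (by decide)
  · have := simple_2520 (hcard.trans h) (hv _ h5.out
      (vertex_of_surv hS (by rw [h]; norm_num) (by rw [h]; decide +kernel))) (hv _ h7.out
      (vertex_of_surv hS (by rw [h]; norm_num) (by rw [h]; decide +kernel)))
    exact uniq h (hcard.trans h) (by decide)
  · have := simple_of_vx (p := 19) (m := 180) (hcard.trans h) (by norm_num) (hv _ h19.out
      (vertex_of_surv hS (by rw [h]; norm_num) (by rw [h]; decide +kernel))) (by norm_num)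
      (by decide +kernel) (by decide +kernel)
    exact uniq h (hcard.trans h) (by decide)
  · have := simple_of_vx (p := 17) (m := 240) (hcard.trans h) (by norm_num) (hv _ h17.out
      (vertex_of_surv hS (by rw [h]; norm_num) (by rw [h]; decide +kernel))) (by norm_num)
      (by decide +kernel) (by decide +kernel)
    exact uniq h (hcard.trans h) (by decide)
  · have := simple_5616 (hcard.trans h) (hv _ h13.out (vertex_of_surv hS (by rw [h]; norm_num)
      (by rw [h]; decide +kernel))) (hd 13 27 3 (by rw [h]; norm_num) (by rw [h]; decide +kernel)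
      Nat.prime_three (by norm_num))
    exact uniq h (hcard.trans h) (by decide)
  all_goals omega

end Cfsg.Agent.S3668
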