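import Cfsg.Statements.S3680
import Cfsg.Agent.PERM.DerClass

set_option autoImplicit false
open Cfsg

namespace Cfsg.Agent.S3680

open MulAction CL.ONS CL.Perm Subgroup

theorem le_of_commute {G Ω : Type*} [Group G] [MulAction G Ω] [FaithfulSMul G Ω] (a : Ω)
    {M N L : Subgroup G} (hMt : IsPretransitive M Ω) (hNt : IsPretransitive N Ω)
    (hc : ∀ n ∈ N, ∀ m ∈ M, n * m = m * n) (hc' : ∀ l ∈ L, ∀ m ∈ M, l * m = m * l) : L ≤ N := by
  intro l hl
  obtain ⟨n, hn⟩ := hNt.exists_smul_eq a (l • a)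
  have hn' : (n : G) • a = l • a := hn
  have := eq_one_of_commute_of_transitive M hMt (c := (n : G)⁻¹ * l) (a := a) (fun m hm => by
    rw [mul_assoc, hc' l hl m hm, ← mul_assoc, hc _ (N.inv_mem n.2) m hm, mul_assoc])
    (by rw [mul_smul, ← hn', inv_smul_smul])
  exact inv_mul_eq_one.mp this ▸ n.2

theorem nonempty_mulEquiv {G Ω : Type*} [Group G] [MulAction G Ω] [FaithfulSMul G Ω] (a : Ω)
    {M N : Subgroup G} (hMt : IsPretransitive M Ω) (hNt : IsPretransitive N Ω)
    (hc : ∀ m ∈ M, ∀ n ∈ N, m * n = n * m) : Nonempty (M ≃* N) := by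
  have hMr : ∀ m ∈ M, m • a = a → m = 1 := fun m hm ha =>
    eq_one_of_commute_of_transitive N hNt (hc m hm) ha
  have hNr : ∀ n ∈ N, n • a = a → n = 1 := fun n hn ha =>
    eq_one_of_commute_of_transitive M hMt (fun m hm => (hc m hm n hn).symm) ha
  choose f hf using fun m : M => hNt.exists_smul_eq a (m⁻¹ • a)
  have hext : ∀ n n' : N, n • a = n' • a → n = n' := by
    intro n n' h
    have := hNr _ (n'⁻¹ * n).2 (by
      show (n'⁻¹ * n) • a = a
      rw [mul_smul, h, inv_smul_smul])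
    have h3 : n'⁻¹ * n = 1 := Subtype.ext this
    exact (inv_mul_eq_one.1 h3).symm
  have hcomm : ∀ (m : M) (n : N) (x : Ω), m • n • x = n • m • x := fun m n x => by
    show (m : G) • (n : G) • x = (n : G) • (m : G) • x
    rw [← mul_smul, ← mul_smul, hc m m.2 n n.2]
  let φ : M →* N := MonoidHom.mk' f fun m m' => hext _ _ (by
    rw [hf, mul_smul (f m), hf, ← hcomm, hf, mul_inv_rev, mul_smul])
  refine ⟨MulEquiv.ofBijective φ ⟨?_, fun n => ?_⟩⟩
  · rw [injective_iff_map_eq_one]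
    intro m hm
    have h3 := hf m
    have h4 : f m = 1 := hm
    rw [h4, one_smul, eq_inv_smul_iff] at h3
    exact Subtype.ext (hMr m m.2 h3)
  · obtain ⟨m, hm⟩ := hMt.exists_smul_eq a (n • a)
    refine ⟨m⁻¹, hext _ _ ?_⟩
    show f m⁻¹ • a = _
    rw [hf, inv_inv, hm]

theorem nonempty_sup_equiv {G : Type*} [Group G] {M N : Subgroup G} [M.Normal]
    (hd : Disjoint M N) (hc : ∀ m ∈ M, ∀ n ∈ N, m * n = n * m) :
    Nonempty (M × N ≃* (M ⊔ N : Subgroup G)) := by
  let φ : M × N →* G := M.subtype.noncommCoprod N.subtype fun m n => hc m m.2 n n.2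
  have h1 : Function.Injective φ := by
    rw [injective_iff_map_eq_one]
    rintro ⟨m, n⟩ h
    have h2 : (m : G) * n = 1 := h
    have h3 : (m : G) = 1 := disjoint_def.mp hd m.2 (eq_inv_of_mul_eq_one_left h2 ▸ N.inv_mem n.2)
    rw [h3, one_mul] at h2
    exact Prod.ext (Subtype.ext h3) (Subtype.ext h2)
  have h2 : φ.range = M ⊔ N := by
    refine (MonoidHom.noncommCoprod_range _ _ _).trans ?_
    rw [range_subtype, range_subtype]
  exact ⟨(MonoidHom.ofInjective h1).trans (MulEquiv.subgroupCongr h2)⟩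

/-- A product of two powers is a power. -/
def piAdd (T : Type*) [Group T] (m n : ℕ) : (Fin (m + n) → T) ≃* (Fin m → T) × (Fin n → T) :=
  (MulEquiv.arrowCongr finSumFinEquiv.symm (MulEquiv.refl T)).trans
    { Equiv.sumArrowEquivProdArrow (Fin m) (Fin n) T with map_mul' := fun _ _ => rfl }


/-- The socle of a finite primitive permutation group. Let a finite group G act faithfully and primitively on a set Ω, and let N be the subgroup generated by the minimal normal subgroups of G. Then either N is an elementary abelian p-group for some prime p and acts regularly on Ω (transitively with trivial point stabilizers), or N is isomorphic to a direct product of m ≥ 1 copies of a non-abelian simple group. -/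
theorem result {G Ω : Type*} [Group G] [Finite G] [MulAction G Ω] [FaithfulSMul G Ω] [Finite Ω]
    (hprim : MulAction.IsPreprimitive G Ω) (N : Subgroup G)
    (hN : N = sSup {V : Subgroup G | V.Normal ∧ V ≠ ⊥ ∧ ∀ M : Subgroup G, M.Normal → M ≤ V → M = ⊥ ∨ M = V}) :
    (∃ p : ℕ, p.Prime ∧ IsMulCommutative N ∧ (∀ x : N, x ^ p = 1) ∧
      MulAction.IsPretransitive N Ω ∧ ∀ ω : Ω, MulAction.stabilizer N ω = ⊥) ∨
    (∃ (T : Type) (_ : Group T) (m : ℕ), 1 ≤ m ∧ IsSimpleGroup T ∧ ¬ IsMulCommutative T ∧ Nonempty (N ≃* (Fin m → T))) := by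
  by_cases htop : (⊤ : Subgroup G) = ⊥
  · have h1 : ∀ g : G, g = 1 := fun g => mem_bot.mp (htop ▸ mem_top g)
    refine Or.inl ⟨2, Nat.prime_two, ⟨⟨fun x y => Subtype.ext (by rw [h1 (x * y : N), h1 (y * x : N)])⟩⟩,
      fun x => Subtype.ext (h1 _), ⟨fun x y => ?_⟩, fun ω => eq_bot_iff.mpr fun x _ => Subtype.ext (h1 _)⟩
    obtain ⟨g, hg⟩ := exists_smul_eq G x y
    exact ⟨1, by rw [← hg, h1 g, one_smul, one_smul]⟩
  have := nontrivial_of_ne_bot (Ω := Ω) _ htop
  obtain ⟨a, -⟩ := exists_pair_ne Ω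
  have hdis : ∀ M L : Subgroup G, M.Normal → L.Normal →
      (∀ K : Subgroup G, K.Normal → K ≤ L → K = ⊥ ∨ K = L) → ¬ L ≤ M → Disjoint L M := by
    intro M L hM hL hmin h
    exact disjoint_iff.mpr ((hmin _ inferInstance inf_le_left).resolve_right fun h' =>
      h (inf_eq_left.mp h'))
  obtain ⟨M, hMn, hM, -, hmin⟩ := exists_minimal_normal_le (⊤ : Subgroup G) htop
  have hMt := isPretransitive_of_normal_of_ne_bot hprim M hM
  by_cases hc : IsMulCommutative M
  · have hNM : N = M := by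
      rw [hN]
      refine le_antisymm (sSup_le fun L hL => ?_) (le_sSup ⟨hMn, hM, hmin⟩)
      by_contra h
      exact h (le_of_commute a hMt hMt
        (fun x hx y hy => congrArg Subtype.val (hc.is_comm.comm ⟨x, hx⟩ ⟨y, hy⟩))
        (fun x hx y hy => commute_of_normal_of_disjoint L M hL.1 hMn
          (hdis M L hMn hL.1 hL.2.2 h) x y hx hy))
    subst hNM
    obtain ⟨p, hp, hp'⟩ := elementary_of_minimal_normal_of_comm N hM hmin hc
    exact Or.inl ⟨p, hp, hc, fun x => Subtype.ext (hp' x x.2), hMt, fun ω => eq_bot_iff.mpr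
      fun x hx => Subtype.ext (regular_of_comm hprim N hM hc x.2 hx)⟩
  right
  obtain ⟨T, _, _, m, E, hs, hT, hm, hE, -⟩ := ons_core hprim a M hM hmin hc
  have e : (Fin m → T) ≃* M := (MonoidHom.ofInjective E.inj).trans (MulEquiv.subgroupCongr hE)
  by_cases hu : ∀ L : Subgroup G, L.Normal → L ≠ ⊥ →
    (∀ K : Subgroup G, K.Normal → K ≤ L → K = ⊥ ∨ K = L) → L ≤ M
  · have hNM : N = M := by
      rw [hN]
      exact le_antisymm (sSup_le fun L hL => hu L hL.1 hL.2.1 hL.2.2) (le_sSup ⟨hMn, hM, hmin⟩)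
    exact ⟨T, inferInstance, m, hm, hs, hT, ⟨(MulEquiv.subgroupCongr hNM).trans e.symm⟩⟩
  push Not at hu
  obtain ⟨M', hM'n, hM', hmin', hle⟩ := hu
  have hd := hdis M M' hMn hM'n hmin' hle
  have hcomm : ∀ x ∈ M', ∀ y ∈ M, x * y = y * x := fun x hx y hy =>
    commute_of_normal_of_disjoint M' M hM'n hMn hd x y hx hy
  have hM't := isPretransitive_of_normal_of_ne_bot hprim M' hM'
  have hNM : N = M' ⊔ M := by
    rw [hN]
    refine le_antisymm (sSup_le fun L hL => ?_)
      (sup_le (le_sSup ⟨hM'n, hM', hmin'⟩) (le_sSup ⟨hMn, hM, hmin⟩))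
    by_cases h : L ≤ M
    · exact h.trans le_sup_right
    · exact (le_of_commute a hMt hM't hcomm (fun x hx y hy => commute_of_normal_of_disjoint L M
        hL.1 hMn (hdis M L hMn hL.1 hL.2.2 h) x y hx hy)).trans le_sup_left
  obtain ⟨e1⟩ := nonempty_mulEquiv a hM't hMt hcomm
  obtain ⟨e2⟩ := nonempty_sup_equiv hd hcomm
  exact ⟨T, inferInstance, m + m, by omega, hs, hT, ⟨(MulEquiv.subgroupCongr hNM).trans
    (e2.symm.trans (((e1.trans e.symm).prodCongr e.symm).trans (piAdd T m m).symm))⟩⟩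

end Cfsg.Agent.S3680
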