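import Cfsg.Statements.S3686
import Cfsg.Agent.PERM.Wong5
import Cfsg.Agent.S3685

set_option autoImplicit false
open Cfsg

namespace Cfsg.Agent.S3686

/-- Let G be a finite insoluble group acting faithfully and primitively on a set Ω so that the stabilizer of a point a has an orbit of length 3. Then G is isomorphic to one of: the alternating or the symmetric group of degree 5, PGL(2, 7), PSL(2, 11), PSL(2, 13), PSL(2, p) for a prime p ≡ ±1 (mod 16), PSL(3, 3), or a group containing a normal subgroup of index 2 isomorphic to PSL(3, 3) with trivial centralizer. -/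
theorem result {G Ω : Type*} [Group G] [Finite G] [MulAction G Ω] [FaithfulSMul G Ω] [Finite Ω]
    (hsol : ¬ Group.IsSolvable G) (hprim : MulAction.IsPreprimitive G Ω) (a b : Ω) (h3 : Nat.card (MulAction.orbit (MulAction.stabilizer G a) b) = 3) :
    Nonempty (G ≃* alternatingGroup (Fin 5)) ∨ Nonempty (G ≃* Equiv.Perm (Fin 5)) ∨
      Nonempty (G ≃* GL (Fin 2) (ZMod 7) ⧸ Subgroup.center (GL (Fin 2) (ZMod 7))) ∨
      Nonempty (G ≃* Matrix.ProjectiveSpecialLinearGroup (Fin 2) (ZMod 11)) ∨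
      Nonempty (G ≃* Matrix.ProjectiveSpecialLinearGroup (Fin 2) (ZMod 13)) ∨
      (∃ p : ℕ, p.Prime ∧ (p % 16 = 1 ∨ p % 16 = 15) ∧ Nonempty (G ≃* Matrix.ProjectiveSpecialLinearGroup (Fin 2) (ZMod p))) ∨
      Nonempty (G ≃* Matrix.ProjectiveSpecialLinearGroup (Fin 3) (ZMod 3)) ∨
      (∃ N : Subgroup G, N.Normal ∧ N.index = 2 ∧ Subgroup.centralizer (N : Set G) = ⊥ ∧
        Nonempty (N ≃* Matrix.ProjectiveSpecialLinearGroup (Fin 3) (ZMod 3))) := by
  obtain ⟨hp, h3'⟩ := CL.TW.pair_stabilizer_of_card hprim h3 (by omega)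
  obtain ⟨g, hg⟩ := hp.conj
  rw [hg] at h3'
  have hn : Nontrivial Ω := ⟨a, b, fun e => hp.ne (e ▸ rfl)⟩
  have key : ∀ i j : ℕ, Nat.card (MulAction.stabilizer G a) = 2 ^ i * 3 ^ j →
      CL.W3.Mx (MulAction.stabilizer G a) := fun i j h =>
    ⟨hsol, Cfsg.Agent.S0144.result 2 3 i j Nat.prime_two Nat.prime_three h,
      MulAction.IsPreprimitive.isCoatom_stabilizer_of_isPreprimitive G a, fun N hN hle => by
        rw [eq_bot_iff]
        intro n hn
        refine FaithfulSMul.eq_of_smul_eq_smul (α := Ω) fun x => ?_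
        obtain ⟨k, rfl⟩ := MulAction.exists_smul_eq G a x
        have := hle (hN.conj_mem' n hn k)
        rw [MulAction.mem_stabilizer_iff, mul_smul, mul_smul, inv_smul_eq_iff] at this
        rw [this, one_smul]⟩
  rcases Cfsg.Agent.S3685.result hprim a b h3 with ⟨⟨e⟩⟩ | ⟨⟨e⟩⟩ | ⟨⟨e⟩⟩ | ⟨⟨e⟩⟩ | ⟨⟨e⟩⟩
  · have h : Nat.card (MulAction.stabilizer G a) = 3 := by rw [Nat.card_congr e.toEquiv]; simp
    exact Or.inl ((key 0 1 h).three h)
  · exact Or.inl ((key 1 1 (by
      rw [Nat.card_congr e.toEquiv, Nat.card_perm]; simp [Nat.factorial])).six e)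
  · rcases (key 2 1 (by rw [Nat.card_congr e.toEquiv, DihedralGroup.nat_card]; rfl)).twelve e with
      h | h | h | h
    · exact Or.inr (Or.inl h)
    · exact Or.inr (Or.inr (Or.inl h))
    · exact Or.inr (Or.inr (Or.inr (Or.inl h)))
    · exact Or.inr (Or.inr (Or.inr (Or.inr (Or.inl h))))
  · exact Or.inr (Or.inr (Or.inr (Or.inr (Or.inr (((key 3 1 (by
      rw [Nat.card_congr e.toEquiv, CL.JC.card_s4]; rfl)).s4 h3' e).imp_right Or.inl)))))
  · exact Or.inr (Or.inr (Or.inr (Or.inr (Or.inr (Or.inr (Or.inr ((key 4 1 (by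
      rw [Nat.card_congr e.toEquiv, CL.JC.card_s42]; rfl)).s42 h3' e)))))))

end Cfsg.Agent.S3686
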