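import Cfsg.Statements.S3699
import Cfsg.Agent.FGS.CITGraph
set_option autoImplicit false
open Cfsg

namespace Cfsg.Agent.S3699

open CL CL.CITC CL.Sz Subgroup

/-- Let `q = 2^(2m+1) ≥ 8` and `S = Sz(q)` the Suzuki group. If a finite group `G` has the same prime graph as `S` (same prime divisors of the order; for distinct primes `r, s` an element of order `rs` in one iff in the other), then `G/O₂(G)` is isomorphic to `S`. The known proof uses the classification of finite simple groups. -/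
theorem result {F : Type*} [Field F] [Fintype F] (m : ℕ) (hm : 1 ≤ m)
    (hF : Fintype.card F = 2 ^ (2 * m + 1)) {G : Type*} [Group G] [Finite G]
    (h : ((∀ r : ℕ, r.Prime → (r ∣ Nat.card ↥(Cfsg.Lie.Sz F (2 ^ (m + 1))) ↔ r ∣ Nat.card G)) ∧
      (∀ r s : ℕ, r.Prime → s.Prime → r ≠ s → ((∃ x : ↥(Cfsg.Lie.Sz F (2 ^ (m + 1))), orderOf x = r * s) ↔ (∃ y : G, orderOf y = r * s))))) :
    Nonempty (G ⧸ Cfsg.pCore 2 G ≃* ↥(Cfsg.Lie.Sz F (2 ^ (m + 1)))) := by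
  have := charP_two hF
  have := (lieModel hF).finite_G
  have hs := spec_suzuki hm hF (MulEquiv.refl _)
  have hp : ∀ r : ℕ, r.Prime → r ≠ 2 →
      (r ∣ Nat.card G ↔ r ∣ 2 ^ (2 * (2 * m + 1)) + 1 ∨ r ∣ 2 ^ (2 * m + 1) - 1) := fun r hr h2 => by
    rw [← h.1 r hr, prime_dvd_suzuki hF (MulEquiv.refl _) hr h2]
  have h0 : Sz.kPlus m * kMinus m = 2 ^ (2 * (2 * m + 1)) + 1 := by
    rw [kPlus_mul_kMinus, ← pow_mul, mul_comm]
  have h2 : 2 ∣ 2 ^ (2 * (2 * m + 1)) := dvd_pow_self 2 (by omega)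
  have h2' : 2 ∣ 2 ^ (2 * m + 1) := dvd_pow_self 2 (by omega)
  have h1 : 2 ^ 3 ≤ 2 ^ (2 * m + 1) := Nat.pow_le_pow_right two_pos (by omega)
  have hsp : ∀ n, (∃ g : Lie.Sz F (2 ^ (m + 1)), orderOf g = n) →
      n ∣ 4 ∨ n ∣ 2 ^ (2 * m + 1) - 1 ∨ n ∣ 2 ^ (2 * (2 * m + 1)) + 1 := fun n hn =>
    ((hs n).1 hn).imp_right (Or.imp_right fun h => h0 ▸ h.elim (·.mul_right _) (·.mul_left _))
  have h4' : ∀ r : ℕ, r.Prime → r ≠ 2 → ¬ r ∣ 4 := fun r hr hr2 h =>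
    hr2 ((Nat.prime_dvd_prime_iff_eq hr Nat.prime_two).1 (hr.dvd_of_dvd_pow (n := 2) h))
  have h3 : ∀ r : ℕ, r.Prime → r ≠ 2 → ¬ ∃ g : G, orderOf g = 2 * r := fun r hr hr2 hg => by
    rcases hsp _ ((h.2 2 r Nat.prime_two hr hr2.symm).2 hg) with h | h | h
    · exact h4' r hr hr2 ((dvd_mul_left r 2).trans h)
    · have := (dvd_mul_right 2 r).trans h; omega
    · have := (dvd_mul_right 2 r).trans h; omega
  have hC : IsCIT G := isCIT_of_no_order fun r hr hr2 g hg => h3 r hr hr2 ⟨g, hg⟩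
  obtain ⟨r, hr, h4⟩ := Nat.exists_prime_and_dvd (by omega : 2 ^ (2 * m + 1) - 1 ≠ 1)
  obtain ⟨s, hs', h5⟩ := Nat.exists_prime_and_dvd (n := 2 ^ (2 * (2 * m + 1)) + 1) (by simp)
  have hr2 : r ≠ 2 := by rintro rfl; omega
  have hs2 : s ≠ 2 := by rintro rfl; omega
  have h6 : ∀ t : ℕ, t.Prime → t ≠ 2 → t ∣ 2 ^ (2 * m + 1) - 1 → ¬ t ∣ 2 ^ (2 * (2 * m + 1)) + 1 :=
    fun t ht ht2 h6 h7 => by
      have h8 := Nat.dvd_sub h7 (h6.trans (Nat.pow_sub_one_dvd_pow_sub_one 2 (dvd_mul_left _ 2)))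
      have := Nat.one_le_two_pow (n := 2 * (2 * m + 1))
      rw [show 2 ^ (2 * (2 * m + 1)) + 1 - (2 ^ (2 * (2 * m + 1)) - 1) = 2 by omega] at h8
      exact ht2 ((Nat.prime_dvd_prime_iff_eq ht Nat.prime_two).1 h8)
  have hrs : r ≠ s := by rintro rfl; exact h6 r hr hr2 h4 h5
  have hG : ¬ Group.IsSolvable G := by
    refine not_isSolvable_of_three Nat.prime_two hr hs' hr2.symm hs2.symm hrs
      ((h.1 2 Nat.prime_two).1 (card_suzuki hF (MulEquiv.refl _) ▸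
        ((h2'.trans (dvd_pow_self _ two_ne_zero)).mul_right _).mul_right _))
      ((hp r hr hr2).2 (.inr h4)) ((hp s hs' hs2).2 (.inl h5)) (h3 r hr hr2) (h3 s hs' hs2) fun hg => ?_
    rcases hsp _ ((h.2 r s hr hs' hrs).2 hg) with h | h | h
    · exact h4' r hr hr2 ((dvd_mul_right r s).trans h)
    · exact h6 s hs' hs2 ((dvd_mul_left s r).trans h) h5
    · exact h6 r hr hr2 h4 ((dvd_mul_right r s).trans h)
  have h7 : ¬ 3 ∣ Nat.card G := fun h3 => not_three_dvd_card_suzuki hF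
    (MulEquiv.refl _) ((h.1 3 Nat.prime_three).2 h3)
  rcases hC.struct hG with (⟨K, _, _, n, -, -, ⟨e⟩⟩ | ⟨K, _, _, n, hn, hK, ⟨e⟩⟩) | ⟨-, h8⟩
  · exact absurd ((three_dvd_card_psl2 e).trans (card_quotient_dvd_card _)) h7
  · have h8 : ∀ r : ℕ, r.Prime → r ≠ 2 → (r ∣ 2 ^ (2 * (2 * n + 1)) + 1 ∨ r ∣ 2 ^ (2 * n + 1) - 1 ↔
        r ∣ 2 ^ (2 * (2 * m + 1)) + 1 ∨ r ∣ 2 ^ (2 * m + 1) - 1) := fun r hr h2 => by
      rw [← hp r hr h2, ← prime_dvd_suzuki hK e hr h2, prime_dvd_quotient hr h2]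
    obtain rfl : n = m := le_antisymm (dvd_of_suzuki hn fun r hr h2 h => (h8 r hr h2).1 (.inl h))
      (dvd_of_suzuki hm fun r hr h2 h => (h8 r hr h2).2 (.inl h))
    obtain ⟨f⟩ := szCongr hK hF
    exact ⟨e.trans f⟩
  · exact absurd h8.three_dvd h7

end Cfsg.Agent.S3699
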