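import Cfsg.Statements.S3700
import Cfsg.Agent.FGS.CITGraph
set_option autoImplicit false
open Cfsg

namespace Cfsg.Agent.S3700

open CL CL.CITC Subgroup

/-- Let `F` be a finite field with `2^m` elements, `m ≥ 4`. If a finite group `G` has the same prime graph as `PSL(2, F)` (same prime divisors of the order; for distinct primes `r, s` an element of order `rs` in one iff in the other), then `G/O₂(G)` is isomorphic to `PSL(2, F)`. The known proof uses the classification of finite simple groups. -/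
theorem result {F : Type*} [Field F] [Fintype F] (m : ℕ) (hm : 4 ≤ m)
    (hF : Fintype.card F = 2 ^ m) {G : Type*} [Group G] [Finite G]
    (h : ((∀ r : ℕ, r.Prime → (r ∣ Nat.card (Matrix.ProjectiveSpecialLinearGroup (Fin 2) F) ↔ r ∣ Nat.card G)) ∧
      (∀ r s : ℕ, r.Prime → s.Prime → r ≠ s → ((∃ x : (Matrix.ProjectiveSpecialLinearGroup (Fin 2) F), orderOf x = r * s) ↔ (∃ y : G, orderOf y = r * s))))) :
    Nonempty (G ⧸ Cfsg.pCore 2 G ≃* Matrix.ProjectiveSpecialLinearGroup (Fin 2) F) := by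
  have hs := spec_psl2_even (by omega) hF (MulEquiv.refl _)
  have hp : ∀ r : ℕ, r.Prime → r ≠ 2 → (r ∣ Nat.card G ↔ r ∣ 2 ^ (2 * m) - 1) := fun r hr h2 => by
    rw [← h.1 r hr, prime_dvd_psl2_even hF (MulEquiv.refl _) hr h2]
  have h1 : 2 ^ 4 ≤ 2 ^ m := Nat.pow_le_pow_right two_pos hm
  have h2 : 2 ∣ 2 ^ m := dvd_pow_self 2 (by omega)
  have h3 : ∀ r : ℕ, r.Prime → r ≠ 2 → ¬ ∃ g : G, orderOf g = 2 * r := fun r hr hr2 hg => by
    have := hr.two_le
    rcases (hs _).1 ((h.2 2 r Nat.prime_two hr hr2.symm).2 hg) with h | h | h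
    · have := Nat.le_of_dvd two_pos h; omega
    · have := (dvd_mul_right 2 r).trans h; omega
    · have := (dvd_mul_right 2 r).trans h; omega
  have hC : IsCIT G := isCIT_of_no_order fun r hr hr2 g hg => h3 r hr hr2 ⟨g, hg⟩
  obtain ⟨r, hr, h4⟩ := Nat.exists_prime_and_dvd (by omega : 2 ^ m - 1 ≠ 1)
  obtain ⟨s, hs', h5⟩ := Nat.exists_prime_and_dvd (by omega : 2 ^ m + 1 ≠ 1)
  have hr2 : r ≠ 2 := by rintro rfl; omega
  have hs2 : s ≠ 2 := by rintro rfl; omega
  have h6 : ∀ t : ℕ, t.Prime → t ≠ 2 → t ∣ 2 ^ m - 1 → ¬ t ∣ 2 ^ m + 1 := fun t ht ht2 h6 h7 => by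
    have h8 := Nat.dvd_sub h7 h6
    rw [show 2 ^ m + 1 - (2 ^ m - 1) = 2 by omega] at h8
    exact ht2 ((Nat.prime_dvd_prime_iff_eq ht Nat.prime_two).1 h8)
  have hrs : r ≠ s := by rintro rfl; exact h6 r hr hr2 h4 h5
  have hG : ¬ Group.IsSolvable G := by
    refine not_isSolvable_of_three Nat.prime_two hr hs' hr2.symm hs2.symm hrs
      ((h.1 2 Nat.prime_two).1 (card_psl2_even hF (MulEquiv.refl _) ▸ h2.mul_right _))
      ((hp r hr hr2).2 (h4.trans (Nat.pow_sub_one_dvd_pow_sub_one 2 (dvd_mul_left _ _))))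
      ((hp s hs' hs2).2 (h5.trans (two_pow_add_one_dvd m))) (h3 r hr hr2) (h3 s hs' hs2) fun hg => ?_
    rcases (hs _).1 ((h.2 r s hr hs' hrs).2 hg) with h | h | h
    · exact hr2 ((Nat.prime_dvd_prime_iff_eq hr Nat.prime_two).1 ((dvd_mul_right r s).trans h))
    · exact h6 s hs' hs2 ((dvd_mul_left s r).trans h) h5
    · exact h6 r hr hr2 h4 ((dvd_mul_right r s).trans h)
  rcases hC.struct hG with (⟨K, _, _, n, hn, hK, ⟨e⟩⟩ | ⟨K, _, _, n, -, hK, ⟨e⟩⟩) | ⟨-, h7⟩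
  · have h7 : ∀ r : ℕ, r.Prime → r ≠ 2 → (r ∣ 2 ^ (2 * n) - 1 ↔ r ∣ 2 ^ (2 * m) - 1) := fun r hr h2 => by
      rw [← hp r hr h2, ← prime_dvd_psl2_even hK e hr h2, prime_dvd_quotient hr h2]
    obtain ⟨a, ha, ha2, h8⟩ := exists_primitive (n := 2 * m) (by omega) (by omega)
    have h9 := Nat.le_of_dvd (by omega) ((h8 _).1 ((h7 a ha ha2).2 ((h8 _).2 dvd_rfl)))
    obtain ⟨b, hb, hb2, h10⟩ := exists_primitive (n := 2 * n) (by omega) (by omega)
    have h11 := Nat.le_of_dvd (by omega) ((h10 _).1 ((h7 b hb hb2).1 ((h10 _).2 dvd_rfl)))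
    obtain rfl : n = m := by omega
    exact ⟨e.trans (Graph.pslCongr (FiniteField.ringEquivOfCardEq (hK.trans hF.symm)))⟩
  · exact absurd ((prime_dvd_quotient Nat.prime_three (by decide)).2 ((h.1 3 Nat.prime_three).1
      (three_dvd_card_psl2 (MulEquiv.refl _)))) (not_three_dvd_card_suzuki hK e)
  · exact (h7.not_primes hm hp).elim

end Cfsg.Agent.S3700
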