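import Cfsg.Statements.S3758
import Cfsg.Agent.TECH.ZC3
import Cfsg.Agent.S0518

set_option autoImplicit false
open Cfsg

namespace Cfsg.Agent.S3758

/-- Let G be a finite group of even order in which every 2-local subgroup is solvable and C_G(Ω₁(Z(S))) ≤ N_G(S) for every Sylow 2-subgroup S, and suppose O_{2'}(G) = 1 = O₂(G). Fix a Sylow 2-subgroup S, put Z = Ω₁(Z(S)), H = O²(G) (generated by the elements of odd order) and R = S ∩ H. Then one of the following holds: H has a strongly embedded subgroup; R is dihedral (of order at least 4) or semidihedral; Z ∩ R has order 2 and is weakly closed in R with respect to H; or Z has order 4 and is exactly the subgroup generated by the involutions of R. -/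
theorem result {G : Type*} [Group G] [Finite G] (heven : Even (Nat.card G)) (hN : ∀ L : Subgroup G, Cfsg.IsTwoLocal L → Group.IsSolvable L) (hZ : ∀ S : Sylow 2 G, Subgroup.centralizer (Cfsg.omegaOne 2 ((S : Subgroup G) ⊓ Subgroup.centralizer ((S : Subgroup G) : Set G)) : Set G) ≤ Subgroup.normalizer ((S : Subgroup G) : Set G)) (hO' : Cfsg.pPrimeCore 2 G = ⊥) (hO : Cfsg.pCore 2 G = ⊥) (S : Sylow 2 G) : (∃ M : Subgroup ↥(Cfsg.pResidual 2 G), Cfsg.IsStronglyEmbedded M) ∨ ((∃ n : ℕ, 2 ≤ n ∧ Nonempty (↥((S : Subgroup G) ⊓ Cfsg.pResidual 2 G) ≃* DihedralGroup n)) ∨ Cfsg.IsQuasiDihedral ↥((S : Subgroup G) ⊓ Cfsg.pResidual 2 G)) ∨ (Nat.card ↥(Cfsg.omegaOne 2 ((S : Subgroup G) ⊓ Subgroup.centralizer ((S : Subgroup G) : Set G)) ⊓ Cfsg.pResidual 2 G) = 2 ∧ ∀ h ∈ Cfsg.pResidual 2 G, ∀ z ∈ Cfsg.omegaOne 2 ((S : Subgroup G) ⊓ Subgroup.centralizer ((S : Subgroup G) : Set G)) ⊓ Cfsg.pResidual 2 G, h * z * h⁻¹ ∈ (S : Subgroup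 G) → h * z * h⁻¹ ∈ Cfsg.omegaOne 2 ((S : Subgroup G) ⊓ Subgroup.centralizer ((S : Subgroup G) : Set G))) ∨ (Nat.card ↥(Cfsg.omegaOne 2 ((S : Subgroup G) ⊓ Subgroup.centralizer ((S : Subgroup G) : Set G))) = 4 ∧ Cfsg.omegaOne 2 ((S : Subgroup G) ⊓ Cfsg.pResidual 2 G) = Cfsg.omegaOne 2 ((S : Subgroup G) ⊓ Subgroup.centralizer ((S : Subgroup G) : Set G))) := by
  have : Fact (Nat.Prime 2) := ⟨Nat.prime_two⟩
  have hC : ∀ t : G, orderOf t = 2 → Group.IsSolvable (Subgroup.centralizer ({t} : Set G)) := fun t ht => by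
    have := hN _ ⟨Subgroup.zpowers t, IsPGroup.of_card (n := 1) (by rw [Nat.card_zpowers, ht]; rfl),
      fun e => by rw [Subgroup.zpowers_eq_bot.1 e, orderOf_one] at ht; exact absurd ht (by decide), rfl⟩
    exact Group.isSolvable_of_isSolvable_injective (Subgroup.inclusion_injective
      ((CL.MSS.centralizer_zpowers t).ge.trans (Subgroup.centralizer_le_normalizer _)))
  rcases CL.ZC.main heven hC hO' hO S (hZ S) with h | h | h | h
  · exact Or.inl h
  · exact Or.inr (Or.inr (Or.inl h))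
  · exact Or.inr (Or.inr (Or.inr h))
  have nH := CL.MSS.oU_pResidual_normal (p := 2) (G := G)
  have hN' : ∀ L : Subgroup (CL.ZC.XZ S), Cfsg.IsTwoLocal L → Group.IsSolvable L := by
    rintro _ ⟨T, h1, h2, rfl⟩
    have := hN _ ⟨T.map (CL.ZC.XZ S).subtype, h1.map _,
      fun e => h2 ((Subgroup.map_eq_bot_iff_of_injective _ Subtype.val_injective).1 e), rfl⟩
    exact Group.isSolvable_of_isSolvable_injective
      (G' := Subgroup.normalizer (T.map (CL.ZC.XZ S).subtype : Set G))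
      (f := ((CL.ZC.XZ S).subtype.comp (Subgroup.normalizer (T : Set (CL.ZC.XZ S))).subtype).codRestrict _
        fun x => Subgroup.le_normalizer_map (f := (CL.ZC.XZ S).subtype) (H := T) ⟨x, x.2, rfl⟩)
      fun x y h => by have := Subtype.ext_iff.1 h; exact Subtype.ext (Subtype.ext this)
  rcases S0518.result h (CL.pCore_eq_bot_of_isSubnormal (CL.ZC.normal_XZ S).isSubnormal hO) hN'
    (CL.ZC.cent_of_one (CL.ZC.sylXZ S)
      (Z := (CL.MSS.omegaZ 2 (S : Subgroup G)).subgroupOf (CL.ZC.XZ S)) (fun x hx => CL.MSS.mem_omegaZ_iff.2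
      ⟨CL.ZC.mem_sylXZ.2 (CL.MSS.omegaZ_le _ hx),
        fun s hs => Subtype.ext (CL.ZC.omegaZ_comm hx (CL.ZC.mem_sylXZ.1 hs)),
        Subtype.ext (CL.MSS.mem_omegaZ_iff.1 (Subgroup.mem_subgroupOf.1 hx)).2.2⟩) (CL.ZC.cent_XZ (hZ S)))
    ((Cfsg.pResidual 2 G).subgroupOf (CL.ZC.XZ S))
    (by rw [← CL.ZC.pres_XZ, Cfsg.pResidual]; simp only [Nat.coprime_two_right]) with
    h1 | ⟨M, -, -, h1, -, ⟨e⟩, -⟩
  · exact Or.inl (CL.ZC.se_XZ heven hO' hO h1)
  refine Or.inr (Or.inl ?_)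
  obtain ⟨V, h4, hV⟩ := CL.ZC.exists_four_of_S4 h1 e
  let f := (CL.ZC.XZ S).subtype.comp ((Cfsg.pResidual 2 G).subgroupOf (CL.ZC.XZ S)).subtype
  have hf : Function.Injective f := Subtype.val_injective.comp Subtype.val_injective
  have h5 : CL.JC.Four (V.map f) := ⟨by rw [Subgroup.card_map_of_injective hf, h4.card], by
    rintro _ ⟨s, hs, rfl⟩; rw [← map_mul, h4.sq s hs, map_one]⟩
  have hR := CL.MSS.sylIn_inf_normal S (Cfsg.pResidual 2 G)
  obtain ⟨g, hg, h6⟩ := hR.exists_conj_le h5.isPGroup (by rintro _ ⟨s, -, rfl⟩; exact s.2)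
  refine CL.ZC.dq_of_four hR.pgroup (h5.cj g) h6 fun x hx => ?_
  have m : g⁻¹ * x * g ∈ Cfsg.pResidual 2 G := mul_mem (mul_mem (inv_mem hg) hx.1.2) hg
  refine ⟨g⁻¹ * x * g, ⟨⟨⟨_, Subgroup.mem_sup_left m⟩, m⟩, hV fun v hv => hf ?_, rfl⟩, by simp [mul_assoc]⟩
  have := hx.2 _ ⟨_, ⟨v, hv, rfl⟩, rfl⟩
  rw [map_mul, map_mul]
  change f v * (g⁻¹ * x * g) = g⁻¹ * x * g * f v
  change g * f v * g⁻¹ * x = x * (g * f v * g⁻¹) at this
  calc f v * (g⁻¹ * x * g) = g⁻¹ * (g * f v * g⁻¹ * x) * g := by group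
    _ = _ := by rw [this]; group

end Cfsg.Agent.S3758
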