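import Cfsg.Statements.S3806
import Cfsg.Agent.FGS.MaxCl

set_option autoImplicit false
open Cfsg

namespace Cfsg.Agent.S3806

/-- Let p be a prime and S a finite p-group of order pⁿ (n ≥ 2) of maximal nilpotency class n − 1 whose sectional p-rank is exactly k (every section has p-rank at most k, and some section has p-rank k). If p ≥ k + 2 then the order of S is at most p^(2k). -/
theorem result {S : Type*} [Group S] [Finite S] (p : ℕ) [Fact p.Prime] (hS : IsPGroup p S) [Group.IsNilpotent S]
    (n : ℕ) (hn : 2 ≤ n) (hcard : Nat.card S = p ^ n) (hmax : Group.nilpotencyClass S = n - 1)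
    (k : ℕ) (hk : 1 ≤ k) (hsr : Cfsg.SectionalPRankLE p k S ∧ ¬ Cfsg.SectionalPRankLE p (k - 1) S)
    (hpk : k + 2 ≤ p) : Nat.card S ≤ p ^ (2 * k) := by
  have hp : p.Prime := Fact.out
  have key : ∀ (A B : Subgroup S) [B.Normal], ⁅A, A⁆ ≤ B → (∀ x ∈ A, x ^ p ∈ B) →
      B.relIndex A ≤ p ^ k := by
    intro A B _ h1 h2
    have h3 : IsMulCommutative (A ⧸ B.subgroupOf A) :=
      Subgroup.Normal.quotient_commutative_iff_commutator_le.mpr
        (Subgroup.map_le_iff_le_comap.mp ((Subgroup.map_subtype_commutator A).le.trans h1))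
    have h4 := hsr.1 A (B.subgroupOf A) ⊤ inferInstance fun a _ => by
      obtain ⟨a, rfl⟩ := QuotientGroup.mk_surjective a
      rw [← QuotientGroup.mk_pow, QuotientGroup.eq_one_iff]
      exact h2 a a.2
    rwa [Subgroup.card_top] at h4
  rw [hcard]
  apply Nat.pow_le_pow_right hp.pos
  by_contra hlt
  have h := CL.MaxCl.IsMC.of_class (by omega) hcard hmax
  rcases Nat.lt_or_ge k 2 with h1 | h1
  · have h2 := key ⊤ (CL.MaxCl.P S 2) le_rfl fun x _ => h.pow_mem_P_two x
    rw [Subgroup.relIndex_top_right, h.index_P le_rfl hn,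
      Nat.pow_le_pow_iff_right hp.one_lt] at h2
    omega
  · have h2 := key (CL.MaxCl.P S (n - k - 1)) ⊥
      ((h.commutator_P_self_le (Or.inl (by omega))).trans (h.P_eq_bot (by omega)).le)
      fun x hx => h.pow_eq_one (by omega) (by omega) hx
    rw [Subgroup.relIndex_bot_left, h.card_P (j := k + 1) (by omega) (by omega),
      Nat.pow_le_pow_iff_right hp.one_lt] at h2
    omega

end Cfsg.Agent.S3806
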