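import Cfsg.Statements.S3808
import Cfsg.Agent.FGS.AbelMax

set_option autoImplicit false
open Cfsg

namespace Cfsg.Agent.S3808

/-- Let S be a finite p-group with an extraspecial subgroup Q of index p. Then either Z(S) = Z(Q), or S = Q·Z(S) and Z(S) has order p². -/
theorem result {S : Type*} [Group S] [Finite S] (p : ℕ) [Fact p.Prime] (hS : IsPGroup p S) (Q : Subgroup S) (hQ : Cfsg.IsExtraspecial p ↥Q) (hQi : Q.index = p) :
    Subgroup.center S = (Subgroup.center ↥Q).map Q.subtype ∨
      (Q ⊔ Subgroup.center S = ⊤ ∧ Nat.card (Subgroup.center S) = p ^ 2) := by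
  have hp : p.Prime := Fact.out
  have := CL.PN.normal_of_index_eq_prime hS Q hQi
  have hc : Nat.card ((Subgroup.center ↥Q).map Q.subtype) = p := by
    rw [Subgroup.card_map_of_injective Q.subtype_injective, hQ.2]
  have h1 : (Subgroup.center ↥Q).map Q.subtype ≤ Subgroup.center S :=
    CL.PN.le_center_of_card_eq_prime hS _ hc
  have h2 : Q ⊓ Subgroup.center S = (Subgroup.center ↥Q).map Q.subtype := by
    apply le_antisymm
    · rw [CL.AbM.map_center_eq]
      exact inf_le_inf_left _ (Subgroup.center_le_centralizer _)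
    · exact le_inf (Subgroup.map_subtype_le _) h1
  by_cases h : Subgroup.center S ≤ Q
  · left; rw [← h2, inf_eq_right.mpr h]
  · right
    have h3 : Q ⊔ Subgroup.center S = ⊤ :=
      (CL.PG.isCoatom_of_index_eq_prime hp hQi).2 _ (left_lt_sup.mpr h)
    refine ⟨h3, ?_⟩
    have h4 := CL.PN.card_inf_mul_relIndex Q (Subgroup.center S)
    rw [h2, hc, ← Subgroup.relIndex_sup_left, h3, Subgroup.relIndex_top_right, hQi] at h4
    rw [← h4, sq]

end Cfsg.Agent.S3808
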