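import Cfsg.Statements.S3809
import Cfsg.Agent.FGS.AbelMax
import Cfsg.Agent.S0095

set_option autoImplicit false
open Cfsg

namespace Cfsg.Agent.S3809

/-- Let S be a finite p-group with an extraspecial subgroup of index p. Then S has order p^(2+2n) for some n ≥ 1, derived length at most 3, and exponent dividing p³. -/
theorem result {S : Type*} [Group S] [Finite S] (p : ℕ) [Fact p.Prime] (hS : IsPGroup p S) (Q : Subgroup S) (hQ : Cfsg.IsExtraspecial p ↥Q) (hQi : Q.index = p) :
    (∃ n : ℕ, 1 ≤ n ∧ Nat.card S = p ^ (2 + 2 * n)) ∧ derivedSeries S 3 = ⊥ ∧ ∀ x : S, x ^ (p ^ 3) = 1 := by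
  have hp : p.Prime := Fact.out
  have := CL.PN.normal_of_index_eq_prime hS Q hQi
  have hQc := CL.PG.isCoatom_of_index_eq_prime hp hQi
  refine ⟨?_, ?_, fun x => ?_⟩
  · obtain ⟨n, hn, h⟩ := Cfsg.Agent.S0095.result hQ
    refine ⟨n, hn, ?_⟩
    rw [← Q.card_mul_index, h, hQi]; ring
  · have h1 : derivedSeries S 1 ≤ Q := CL.PG.commutator_le_coatom hS hQc
    have h2 : derivedSeries S 2 ≤ Q ⊓ Subgroup.centralizer (Q : Set S) := by
      rw [← CL.AbM.map_center_eq, ← hQ.1.2.2, Subgroup.map_subtype_commutator]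
      exact Subgroup.commutator_mono h1 h1
    rw [derivedSeries_succ, Subgroup.commutator_eq_bot_iff_le_centralizer]
    exact (h2.trans inf_le_right).trans (Subgroup.centralizer_le (h2.trans inf_le_left))
  · have h1 := CL.PG.pow_mem_frattini hQ.1.1 ⟨_, CL.PG.pow_mem_coatom hS hQc x⟩
    rw [hQ.1.2.1] at h1
    have h2 := pow_card_eq_one' (x := (⟨_, h1⟩ : Subgroup.center Q))
    rw [hQ.2] at h2
    have h3 : ((x ^ p) ^ p) ^ p = 1 := congrArg (fun y : Subgroup.center Q => ((y : Q) : S)) h2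
    rw [← h3, ← pow_mul, ← pow_mul]
    congr 1; ring

end Cfsg.Agent.S3809
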