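import Cfsg.Statements.S3810
import Cfsg.Agent.FGS.AbelMax
import Cfsg.Agent.PLOC.PRank
import Cfsg.Agent.S3807

set_option autoImplicit false
open Cfsg

namespace Cfsg.Agent.S3810

/-- Let S be a finite p-group with an extraspecial subgroup of index p. Then S has an abelian subgroup of index p if and only if S has order p⁴. -/
theorem result {S : Type*} [Group S] [Finite S] (p : ℕ) [Fact p.Prime] (hS : IsPGroup p S) (Q : Subgroup S) (hQ : Cfsg.IsExtraspecial p ↥Q) (hQi : Q.index = p) :
    (∃ A : Subgroup S, IsMulCommutative ↥A ∧ A.index = p) ↔ Nat.card S = p ^ 4 := by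
  have hp : p.Prime := Fact.out
  constructor
  · rintro ⟨A, hA, hAi⟩
    have := CL.PN.normal_of_index_eq_prime hS A hAi
    have hna : ¬ IsMulCommutative Q := fun h => by
      have h1 := hQ.2
      rw [← hQ.1.2.2, (commutator_eq_bot_iff Q).mpr h, Subgroup.card_bot] at h1
      exact hp.one_lt.ne h1
    have h1 : (A.subgroupOf Q).index = p := by
      rcases (Nat.dvd_prime hp).mp (hAi ▸ Subgroup.relIndex_dvd_index_of_normal A Q) with h | h
      · exact (hna (CL.AbM.isMulCommutative_of_forall fun a ha b hb => CL.AbM.comm_of_mem hA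
          (Subgroup.relIndex_eq_one.mp h ha) (Subgroup.relIndex_eq_one.mp h hb))).elim
      · exact h
    have h2 := (Cfsg.Agent.S3807.result p hQ.1.1 hna (A.subgroupOf Q) inferInstance h1).1
    rw [← Q.card_mul_index, ← (Subgroup.center Q).card_mul_index, h2, hQ.1.2.2, hQ.2, hQi]
    ring
  · intro h
    obtain ⟨N, _, -, hN⟩ := CL.PN.exists_normal_le_card_eq hS ⊤ 2
      (by rw [Subgroup.card_top, h]; exact Nat.pow_le_pow_right hp.pos (by omega))
    have h1 := CL.PG.index_centralizer_le hS N hN.le
    have h2 := IsPGroup.isMulCommutative_of_card_eq_prime_sq hN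
    obtain ⟨K, _, hNK, hK, hKc⟩ := CL.PN.exists_normal_card_eq hS N
      (Subgroup.centralizer (N : Set S)) (CL.AbM.le_centralizer h2) 1 (by
        have h3 := (Subgroup.centralizer (N : Set S)).card_mul_index
        apply Nat.le_of_mul_le_mul_right _ hp.pos
        calc p ^ 1 * Nat.card N * p = Nat.card S := by rw [hN, h]; ring
          _ ≤ _ := h3 ▸ Nat.mul_le_mul_left _ h1)
    refine ⟨K, CL.AbM.isMulCommutative_of_relIndex_prime hp (Subgroup.le_centralizer_iff.mp hK) ?_,
      ?_⟩
    · have h3 := CL.PN.card_mul_relIndex hNK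
      rw [hKc, pow_one, mul_comm p] at h3
      exact Nat.eq_of_mul_eq_mul_left Nat.card_pos h3
    · have h3 := K.card_mul_index
      rw [hKc, hN, h] at h3
      exact Nat.eq_of_mul_eq_mul_left (by have := hp.pos; positivity : 0 < p ^ 1 * p ^ 2)
        (by rw [h3]; ring)

end Cfsg.Agent.S3810
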