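import Cfsg.Statements.S3839
import Mathlib
import Cfsg.Agent.PLOC.AlperinGoldschmidt
import Cfsg.Agent.SOLV.Coprime

set_option autoImplicit false
open Cfsg

namespace Cfsg.Agent.S3839

open Subgroup CL CL.Tr in

/-- A Frobenius normal p-complement criterion relative to a strongly closed subgroup. Let G be a finite group, S a Sylow p-subgroup and D a subgroup of S strongly closed in S with respect to G. Then G has a normal p-complement if and only if N_G(U) has a normal p-complement for every subgroup U of D with C_D(U) ≤ U. -/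
theorem result {G : Type*} [Group G] [Finite G] {p : ℕ} [Fact p.Prime] (S : Sylow p G) (D : Subgroup G) (hD : Cfsg.IsStronglyClosed D (S : Subgroup G)) : Cfsg.HasNormalPComplement p G ↔ ∀ U : Subgroup G, U ≤ D → D ⊓ Subgroup.centralizer (U : Set G) ≤ U → Cfsg.HasNormalPComplement p ↥(Subgroup.normalizer (U : Set G)) := by
  refine ⟨fun h U _ _ => hasNPC_subgroup h _, fun h => ?_⟩
  have hND : ∀ E : Subgroup G, E ≤ (S : Subgroup G) →
      normalizer (E : Set G) ≤ normalizer ((E ⊓ D : Subgroup G) : Set G) := by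
    intro E hE x hx
    refine mem_normalizer_of_conj_mem fun a ha => ?_
    have h1 := conj_mem_of_mem_normalizer hx ha.1
    exact ⟨h1, hD.2 a ha.2 x (hE h1)⟩
  have hSD : (S : Subgroup G) ≤ normalizer (D : Set G) := by
    have := hND S le_rfl
    rw [inf_eq_right.2 hD.1] at this
    exact le_normalizer.trans this
  have main : ∀ E : Subgroup G, E ≤ (S : Subgroup G) →
      ¬ p ∣ ((S : Subgroup G) ⊓ normalizer (E : Set G)).relIndex (normalizer (E : Set G)) →
      D ⊓ centralizer ((E ⊓ D : Subgroup G) : Set G) ≤ E ⊓ D →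
      ∀ x ∈ normalizer (E : Set G), ∃ h ∈ (S : Subgroup G), ∀ a ∈ E,
        h * a * h⁻¹ = x * a * x⁻¹ := by
    intro E hE hN hc x hx
    have h1 : Cfsg.HasNormalPComplement p (normalizer (E : Set G)) :=
      hasNPC_of_le (h _ inf_le_right hc) (hND E hE)
    obtain ⟨z, hz, -, hz'⟩ := exists_sylowIn_conj_eq (E := E) le_rfl S.isPGroup'.to_inf_left hN
      (fun g hg hco => mem_centralizer_of_hasNPC_subgroup h1 (S.isPGroup'.to_le hE)
        le_normalizer hg hg hco) hx
    exact ⟨z, hz.1, hz'⟩
  refine hasNPC_of_sylow_controls S fun x hx g hg => ?_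
  have key := controls_of_essential S S (main S le_rfl (by
      rw [inf_eq_left.2 le_normalizer]; exact not_dvd_relIndex_sylow S le_normalizer)
      (by rw [inf_eq_right.2 hD.1]; exact inf_le_left)) ?_ {x} g (Set.singleton_subset_iff.2 hx)
      (by simpa using hg)
  · simpa using key
  rintro E ⟨hlt, hN, M, hCM, hM, hNM⟩
  refine main E hlt.le hN ?_
  by_contra hV
  set U := E ⊓ D with hU
  have hNU : normalizer (E : Set G) ≤ normalizer (U : Set G) := hND E hlt.le
  let K : Subgroup G :=
    { carrier := {g | g ∈ normalizer (E : Set G) ∧ g ∈ centralizer (U : Set G) ∧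
        ∀ a ∈ E, g * a * g⁻¹ * a⁻¹ ∈ U}
      one_mem' := ⟨one_mem _, one_mem _, fun a _ => by simp⟩
      mul_mem' := by
        rintro g k ⟨g1, g2, g3⟩ ⟨k1, k2, k3⟩
        refine ⟨mul_mem g1 k1, mul_mem g2 k2, fun a ha => ?_⟩
        have := U.mul_mem (conj_mem_of_mem_normalizer (hNU g1) (k3 a ha)) (g3 a ha)
        convert this using 1
        group
      inv_mem' := by
        rintro g ⟨g1, g2, g3⟩
        refine ⟨inv_mem g1, inv_mem g2, fun a ha => ?_⟩
        have := inv_conj_mem_of_mem_normalizer (hNU g1) (U.inv_mem (g3 a ha))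
        convert this using 1
        group }
  have hKN : K ≤ normalizer (E : Set G) := fun g hg => hg.1
  have hNK : normalizer (E : Set G) ≤ normalizer (K : Set G) := by
    intro y hy
    refine mem_normalizer_of_conj_mem ?_
    rintro g ⟨g1, g2, g3⟩
    refine ⟨mul_mem (mul_mem hy g1) (inv_mem hy), conj_mem_of_mem_normalizer
      (normalizer_le_normalizer_centralizer U (hNU hy)) g2, fun a ha => ?_⟩
    have := conj_mem_of_mem_normalizer (hNU hy) (g3 _ (inv_conj_mem_of_mem_normalizer hy ha))
    convert this using 1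
    group
  have hPK : ¬ (S : Subgroup G) ⊓ K ≤ E := by
    set V := D ⊓ centralizer (U : Set G) with hVdef
    have hEV : E ≤ normalizer (V : Set G) :=
      le_normalizer_inf (hlt.le.trans hSD)
        (le_normalizer_centralizer (le_normalizer.trans hNU))
    have h1 : E < E ⊔ V := left_lt_sup.2 fun h' => hV (le_inf h' inf_le_left)
    have h2 := lt_inf_normalizer_of_lt
      (S.isPGroup'.to_le (sup_le hlt.le (inf_le_left.trans hD.1))) h1
    obtain ⟨t, ht, htE⟩ := SetLike.exists_of_lt h2
    obtain ⟨e, he, v, hv, rfl⟩ := (mem_sup_of_le_normalizer hEV).1 ht.1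
    have hvN : v ∈ normalizer (E : Set G) := by
      simpa using mul_mem (inv_mem (le_normalizer he)) ht.2
    intro hle
    refine htE (E.mul_mem he (hle ⟨hD.1 hv.1, hvN, hv.2, fun a ha => mem_inf.2 ⟨?_, ?_⟩⟩))
    · exact E.mul_mem (conj_mem_of_mem_normalizer hvN ha) (E.inv_mem ha)
    · have := D.mul_mem hv.1 (conj_mem_of_mem_normalizer (hSD (hlt.le ha)) (D.inv_mem hv.1))
      convert this using 1
      group
  have hS := not_dvd_relIndex_inf_of_normal S.isPGroup'.to_inf_left hN hKN hNK
  rw [inf_assoc, inf_eq_right.mpr hKN] at hS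
  refine hNM (normalizer_le_of_frattini S hN hM hKN hNK hPK fun k hk => ?_)
  obtain ⟨z, hz, -, hz'⟩ := exists_sylowIn_conj_eq (E := E) hKN S.isPGroup'.to_inf_left hS (by
    intro g hg hc
    have hz : zpowers g ≤ K := zpowers_le.2 hg
    have := coprime_le_centralizer_of_trivial_on_factors (zpowers g) E U
      (hz.trans (hKN.trans hNU))
      (by
        rw [Nat.card_zpowers]
        exact coprime_card_of_isPGroup (S.isPGroup'.to_le (inf_le_left.trans hlt.le)) hc)
      (le_centralizer_iff.1 (zpowers_le.2 hg.2.1))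
      (by
        rw [Subgroup.commutator_comm, Subgroup.commutator_le]
        intro a ha b hb
        exact (hz ha).2.2 b hb)
    exact le_centralizer_iff.1 this (mem_zpowers g)) hk
  have h2 : z⁻¹ * k ∈ centralizer (E : Set G) := fun a ha => by
    have := hz' a ha
    calc a * (z⁻¹ * k) = z⁻¹ * (z * a * z⁻¹) * k := by group
      _ = _ := by rw [this]; group
  have h3 : z ∈ M := le_of_lt_sylow_of_larger hlt hM ⟨hz.1, hKN hz.2⟩
  simpa using mul_mem h3 (hCM h2)

end Cfsg.Agent.S3839
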