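import Mathlib
import Cfsg.Statements.S3843
import Cfsg.Agent.FGS.MinTriple2

set_option autoImplicit false
open Cfsg

namespace Cfsg.Agent.S3843

/-- A solvability criterion through pairs of elements of coprime prime power orders: a finite group G is solvable if and only if, for every pair of distinct primes p, q and every p-element x and q-element y of G, whenever ⟨x, y⟩ is solvable so is ⟨x, g y g⁻¹⟩ for every g ∈ G. -/
theorem result {G : Type*} [Group G] [Finite G] :
    Group.IsSolvable G ↔ ∀ p q : ℕ, p.Prime → q.Prime → p ≠ q → ∀ x y : G, (∃ k : ℕ, orderOf x = p ^ k) → (∃ k : ℕ, orderOf y = q ^ k) →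
      Group.IsSolvable ↥(Subgroup.closure ({x, y} : Set G)) → ∀ g : G, Group.IsSolvable ↥(Subgroup.closure ({x, g * y * g⁻¹} : Set G)) := by
  refine ⟨fun _ _ _ _ _ _ _ _ _ _ _ _ => inferInstance, fun h => ?_⟩
  by_contra hG
  obtain ⟨p, q, hp, hq, hpq, a, b, g, h1, h2⟩ := CL.MinTr.exists_tr hG
  obtain ⟨k, hk⟩ := h1.pow_b
  have := h p q hp hq hpq a (g * b * g⁻¹) h1.pow_a ⟨k, ((MulAut.conj g).orderOf_eq b).trans hk⟩ h2 g⁻¹
  rw [show g⁻¹ * (g * b * g⁻¹) * g⁻¹⁻¹ = b by group] at this
  exact h1.not_solvable hpq this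

end Cfsg.Agent.S3843
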