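import Cfsg.Statements.S3870
import Mathlib
import Cfsg.Agent.INV.SylowTI
import Cfsg.Agent.SOLV.Basic

set_option autoImplicit false
open Cfsg

namespace Cfsg.Agent.S3870

/-- Let G be a finite simple group whose Sylow p-subgroups are not normal but such that every proper subgroup of G has a normal Sylow p-subgroup. Then any two distinct Sylow p-subgroups of G intersect trivially, and for every Sylow p-subgroup P the normalizer of every non-identity subgroup of P lies in the normalizer of P. -/
theorem result {G : Type*} [Group G] [Finite G] [IsSimpleGroup G] {p : ℕ} [Fact p.Prime]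
    (hnc : ¬ Cfsg.IsPClosed p G) (hsub : ∀ H : Subgroup G, H ≠ ⊤ → Cfsg.IsPClosed p ↥H) :
    (∀ P Q : Sylow p G, P ≠ Q → (P : Subgroup G) ⊓ (Q : Subgroup G) = ⊥) ∧
      ∀ (P : Sylow p G) (R : Subgroup G), R ≤ P → R ≠ ⊥ →
        Subgroup.normalizer (R : Set G) ≤ Subgroup.normalizer ((P : Subgroup G) : Set G) := by
  have h1 : ∀ P Q : Sylow p G, P ≠ Q → (P : Subgroup G) ⊓ (Q : Subgroup G) = ⊥ := by
    refine CL.Inv.sylow_TI_of_locals fun W hW hWp => ?_
    have hN : Subgroup.normalizer (W : Set G) ≠ ⊤ := fun e => by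
      rcases (Subgroup.normalizer_eq_top_iff.1 e).eq_bot_or_eq_top with rfl | rfl
      · exact hW rfl
      · refine hnc fun P => ?_
        rw [← P.is_maximal' hWp le_top]
        infer_instance
    obtain ⟨P⟩ : Nonempty (Sylow p (Subgroup.normalizer (W : Set G))) := inferInstance
    have := hsub _ hN P
    refine ⟨P, P.isPGroup', fun x ⟨k, hk⟩ => ?_⟩
    have h2 : IsPGroup p (Subgroup.zpowers x) := IsPGroup.of_card (by rw [Nat.card_zpowers, hk])
    obtain ⟨Q, hQ⟩ := h2.exists_le_sylow
    obtain ⟨g, rfl⟩ := MulAction.exists_smul_eq (Subgroup.normalizer (W : Set G)) P Q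
    rw [Sylow.smul_eq_of_normal] at hQ
    exact hQ (Subgroup.mem_zpowers x)
  refine ⟨h1, fun P R hRP hR g hg => ?_⟩
  refine Sylow.smul_eq_iff_mem_normalizer.1 ?_
  by_contra hne
  refine hR (eq_bot_iff.2 ((le_inf ?_ hRP).trans (h1 _ _ hne).le))
  rw [← CL.conj_smul_eq_iff_mem_normalizer.2 hg]
  exact CL.conj_smul_mono g hRP

end Cfsg.Agent.S3870
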