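import Cfsg.Statements.S3872
import Cfsg.Agent.FGS.Regular
import Cfsg.Agent.FGS.IterComm
import Cfsg.Agent.FGS.SubgroupCount
import Cfsg.Agent.SOLV.MaxClass

set_option autoImplicit false
open Cfsg

namespace Cfsg.Agent.S3872

/-- Say that a finite group is p-exponent closed when its elements of order dividing p form a subgroup. Let G be a finite p-group that is not p-exponent closed, but all of whose proper subgroups and proper quotients are. Then G is generated by two elements, has nilpotency class at least p, has exponent p², has cyclic center, and has order at least p^(p+1). -/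
theorem result {G : Type*} [Group G] [Finite G] {p : ℕ} [Fact p.Prime] (hG : IsPGroup p G)
    (hnc : ¬ (∃ H : Subgroup G, (H : Set G) = {g : G | g ^ p = 1})) (hsub : ∀ K : Subgroup G, K ≠ ⊤ → (∃ H : Subgroup ↥K, (H : Set ↥K) = {g : ↥K | g ^ p = 1}))
    (hquo : ∀ (N : Subgroup G) [N.Normal], N ≠ ⊥ → (∃ H : Subgroup (G ⧸ N), (H : Set (G ⧸ N)) = {g : (G ⧸ N) | g ^ p = 1})) :
    (∃ x y : G, Subgroup.closure ({x, y} : Set G) = ⊤) ∧ (⊤ : Subgroup G).lowerCentralSeries (p - 1) ≠ ⊥ ∧
      Monoid.exponent G = p ^ 2 ∧ IsCyclic ↥(Subgroup.center G) ∧ p ^ (p + 1) ≤ Nat.card G := by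
  have hp : p.Prime := Fact.out
  have hcl : (∀ x y : G, x ^ p = 1 → y ^ p = 1 → (x * y) ^ p = 1) → False := fun h => hnc
    ⟨{ carrier := {g | g ^ p = 1}
       one_mem' := one_pow _
       mul_mem' := fun {a b} ha hb => h a b ha hb
       inv_mem' := fun {a} ha => by rw [Set.mem_ofPred_eq, inv_pow, ha, inv_one] }, rfl⟩
  obtain ⟨x, y, hx, hy, hxy⟩ : ∃ x y : G, x ^ p = 1 ∧ y ^ p = 1 ∧ (x * y) ^ p ≠ 1 := by
    by_contra h
    push Not at h
    exact hcl h
  have hgen : Subgroup.closure ({x, y} : Set G) = ⊤ := by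
    by_contra h
    obtain ⟨H, hH⟩ := hsub _ h
    have h1 : (⟨x, CL.Reg.left_mem_pair x y⟩ : Subgroup.closure ({x, y} : Set G)) ∈ (H : Set _) := by
      rw [hH]; exact Subtype.ext hx
    have h2 : (⟨y, CL.Reg.right_mem_pair x y⟩ : Subgroup.closure ({x, y} : Set G)) ∈ (H : Set _) := by
      rw [hH]; exact Subtype.ext hy
    have h3 : _ ∈ (H : Set (Subgroup.closure ({x, y} : Set G))) := H.mul_mem h1 h2
    rw [hH] at h3
    exact hxy (congrArg Subtype.val h3)
  have hlcs : (⊤ : Subgroup G).lowerCentralSeries (p - 1) ≠ ⊥ := fun h =>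
    hcl fun a b ha hb => (CL.Reg.wreg_of_lcs_eq_bot hG h).mul_pow_eq_one_aux ⊤ a trivial b trivial ha hb
  have hpow : ∀ (N : Subgroup G) [N.Normal], N ≠ ⊥ → ∀ g : G, g ^ p ∈ N := by
    intro N _ hN g
    obtain ⟨H, hH⟩ := hquo N hN
    have h1 : Subgroup.closure ({x, y} : Set G) ≤ H.comap (QuotientGroup.mk' N) := by
      apply CL.Reg.pair_le
      · show QuotientGroup.mk' N x ∈ (H : Set (G ⧸ N))
        rw [hH, Set.mem_ofPred_eq, ← map_pow, hx, map_one]
      · show QuotientGroup.mk' N y ∈ (H : Set (G ⧸ N))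
        rw [hH, Set.mem_ofPred_eq, ← map_pow, hy, map_one]
    have h2 : QuotientGroup.mk' N g ∈ (H : Set (G ⧸ N)) := h1 (hgen ▸ Subgroup.mem_top g)
    rwa [hH, Set.mem_ofPred_eq, ← map_pow, QuotientGroup.mk'_apply, QuotientGroup.eq_one_iff] at h2
  have hnt : Nontrivial G := ⟨_, _, hxy⟩
  refine ⟨⟨x, y, hgen⟩, hlcs, ?_, ?_, ?_⟩
  · obtain ⟨Z, _, -, hZ⟩ := CL.Cnt.exists_central hG
    have hZ0 : Z ≠ ⊥ := by
      rintro rfl
      rw [Subgroup.card_bot] at hZ
      exact hp.one_lt.ne hZ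
    have h1 : Monoid.exponent G ∣ p ^ 2 := by
      apply Monoid.exponent_dvd_of_forall_pow_eq_one
      intro g
      rw [sq, pow_mul]
      have := pow_card_eq_one' (x := (⟨g ^ p, hpow Z hZ0 g⟩ : Z))
      rw [hZ] at this
      exact congrArg Subtype.val this
    obtain ⟨k, hk, h2⟩ := (Nat.dvd_prime_pow hp).mp h1
    by_contra h3
    have h4 : Monoid.exponent G ∣ p := by
      rw [h2] at h3 ⊢
      interval_cases k
      · simp
      · simp
      · exact absurd rfl h3
    exact hxy (Monoid.exponent_dvd_iff_forall_pow_eq_one.mp h4 _)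
  · by_contra h
    obtain ⟨E, hE, hE1, hE2⟩ := CL.PCyc.exists_elemAb_le_of_not_isCyclic (hG.to_subgroup _) h
    obtain ⟨a, ha, b, hb, ha1, hb1, hab⟩ := CL.PCyc.exists_pair_of_elemAb hE1
      (by rw [hE2, sq]; exact lt_mul_self hp.one_lt)
    have hn : ∀ c ∈ E, (Subgroup.zpowers c).Normal := fun c hc =>
      ⟨fun n hn g => by
        rw [Subgroup.mem_center_iff.mp (Subgroup.zpowers_le.mpr (hE hc) hn) g, mul_inv_cancel_right]
        exact hn⟩
    have hne : ∀ c : G, orderOf c = p → Subgroup.zpowers c ≠ ⊥ := fun c hc h => by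
      rw [Subgroup.zpowers_eq_bot] at h
      rw [h, orderOf_one] at hc
      exact hp.one_lt.ne hc
    have := hn a ha
    have := hn b hb
    have h1 := (CL.Cnt.inf_eq_bot_iff_of_card_prime hp (Z := Subgroup.zpowers b)
      (by rw [Nat.card_zpowers, hb1]) (Subgroup.zpowers a)).mpr
      (fun h => hab (h (Subgroup.mem_zpowers b)))
    apply hxy
    rw [← Subgroup.mem_bot, ← h1]
    exact ⟨hpow _ (hne a ha1) _, hpow _ (hne b hb1) _⟩
  · obtain ⟨k, hk⟩ : ∃ k, p = k + 2 := ⟨p - 2, by have := hp.two_le; omega⟩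
    have h1 := CL.PCyc.pow_le_card_lowerCentralSeries hG k 1
      (by rwa [show 1 + k = p - 1 by omega])
    have h2 := CL.IC.pow_le_relIndex_commutator hG ⊤ (n := 0) le_rfl (fun h => by
      apply hlcs
      rw [eq_bot_iff, ← h]
      exact Subgroup.lowerCentralSeries_antitone _ (show 1 ≤ p - 1 by omega))
    rw [Subgroup.relIndex_top_right] at h2
    rw [← Subgroup.card_mul_index ⁅(⊤ : Subgroup G), (⊤ : Subgroup G)⁆,
      show p + 1 = (k + 1) + (0 + 2) by omega, pow_add]
    exact Nat.mul_le_mul h1 h2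

end Cfsg.Agent.S3872
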