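import Cfsg.Statements.S3875
import Mathlib
import Cfsg.Agent.S0999
import Cfsg.Agent.TECH.PIrr
import Cfsg.Agent.FGS.MinPClosed
import Cfsg.Agent.SOLV.Hol
import Cfsg.Agent.CLAS.SLBasic
import Cfsg.Agent.CLAS.PGL2Solv

set_option autoImplicit false
open Cfsg

namespace Cfsg.Agent.S3875

open Subgroup CL

theorem lower (p : ℕ) [hpf : Fact p.Prime] (m : ℕ)
    (hleast : ∀ k : ℕ, IsPrimePow k → k % p = 1 → m ≤ k) (n : ℕ) :
    ∀ (H : Type) [Group H] [Finite H], Nat.card H = n → ¬ Cfsg.IsPClosed p H →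
      min (p * m) (p * (p ^ 2 - 1) / 2) ≤ Nat.card H := by
  induction n using Nat.strong_induction_on with
  | _ n ih =>
  intro H _ _ hn hH
  have hp := hpf.out
  by_cases h1 : ∃ K : Subgroup H, K ≠ ⊤ ∧ ¬ IsPClosed p K
  · obtain ⟨K, hK, hKc⟩ := h1
    have hlt : Nat.card K < Nat.card H := by
      by_contra hc
      exact hK (Subgroup.eq_top_of_le_card K (not_lt.mp hc))
    exact (ih _ (hn ▸ hlt) K rfl hKc).trans hlt.le
  by_cases h2 : ∃ (N : Subgroup H) (_ : N.Normal), N ≠ ⊥ ∧ ¬ IsPClosed p (H ⧸ N)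
  · obtain ⟨N, hN, hN1, hNc⟩ := h2
    have hlt : Nat.card (H ⧸ N) < Nat.card H := by
      rw [Subgroup.card_eq_card_quotient_mul_card_subgroup N]
      have h1 : 1 < Nat.card N := Subgroup.one_lt_card_iff_ne_bot N |>.mpr hN1
      have h2 : 0 < Nat.card (H ⧸ N) := Nat.card_pos
      nlinarith
    exact (ih _ (hn ▸ hlt) (H ⧸ N) rfl hNc).trans hlt.le
  have hsub : ∀ K : Subgroup H, K ≠ ⊤ → IsPClosed p K := fun K hK => by
    by_contra hc; exact h1 ⟨K, hK, hc⟩
  have hquo : ∀ (N : Subgroup H) [N.Normal], N ≠ ⊥ → IsPClosed p (H ⧸ N) := fun N hN hN1 => by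
    by_contra hc; exact h2 ⟨N, hN, hN1, hc⟩
  by_cases hs : IsSimpleGroup H
  · have hcyc : ¬ IsCyclic H := fun hc => hH fun P => by
      have := hc.isMulCommutative
      exact Subgroup.normal_of_isMulCommutative _
    have hdvd : p ∣ Nat.card H := by
      by_contra hc; exact hH (CL.FGS.MPC.isPClosed_of_not_dvd hc)
    refine (min_le_right _ _).trans ?_
    by_cases hbig : Nat.card H < p ^ 3
    · rcases Cfsg.Agent.S0999.result hcyc p hp hdvd hbig with ⟨F, _, _, hF, h3, ⟨e⟩⟩ | ⟨k, F, _, _, hF, hk, h3, ⟨e⟩⟩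
      · have h := CL.SL.gcd_mul_card_PSL_two (F := F)
        rw [← Nat.card_congr e.toEquiv, Nat.card_eq_fintype_card (α := F), hF] at h
        have hg : Nat.gcd 2 (p - 1) ≤ 2 := Nat.gcd_le_left _ (by norm_num)
        rw [← h]
        apply Nat.div_le_of_le_mul
        exact Nat.mul_le_mul_right _ hg
      · have h := CL.SL.gcd_mul_card_PSL_two (F := F)
        rw [← Nat.card_congr e.toEquiv, Nat.card_eq_fintype_card (α := F), hF] at h
        have hk0 : k ≠ 0 := by rintro rfl; omega
        have hg : Nat.gcd 2 (2 ^ k - 1) = 1 := by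
          have : Odd (2 ^ k - 1) := by
            have h2 : Even (2 ^ k) := (Nat.even_pow' hk0).mpr even_two
            exact Nat.Even.sub_odd (Nat.one_le_two_pow) h2 odd_one
          exact (Nat.coprime_two_left).mpr this
        rw [hg, one_mul] at h
        rw [h, hk]
        have hk4 : 4 ≤ 2 ^ k := by
          obtain ⟨j, rfl⟩ : ∃ j, k = j + 1 := ⟨k - 1, by omega⟩
          rw [pow_succ] at hk ⊢
          have : 0 < 2 ^ j := by positivity
          omega
        generalize 2 ^ k = t at hk4 ⊢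
        apply Nat.div_le_of_le_mul
        obtain ⟨s, rfl⟩ : ∃ s, t = s + 4 := ⟨t - 4, by omega⟩
        have e1 : (s + 4 + 1) ^ 2 - 1 = s ^ 2 + 10 * s + 24 := by
          apply Nat.sub_eq_of_eq_add; ring
        have e2 : (s + 4) ^ 2 - 1 = s ^ 2 + 8 * s + 15 := by
          apply Nat.sub_eq_of_eq_add; ring
        rw [e1, e2]
        nlinarith [Nat.zero_le s, Nat.zero_le (s ^ 2), Nat.zero_le (s ^ 3)]
    · refine (Nat.div_le_self _ _).trans ((not_lt.mp hbig).trans' ?_)
      calc p * (p ^ 2 - 1) ≤ p * p ^ 2 := Nat.mul_le_mul_left _ (Nat.sub_le _ _)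
        _ = p ^ 3 := by ring
  · obtain ⟨q, hq, hqp, hcard, -⟩ := CL.FGS.MPC.structure_of_minimal hH hsub hquo hs
    refine (min_le_left _ _).trans ?_
    rw [hcard]
    apply Nat.mul_le_mul_left
    have hq0 : (q : ZMod p) ≠ 0 := by
      intro h
      rw [ZMod.natCast_eq_zero_iff] at h
      exact hqp ((Nat.prime_dvd_prime_iff_eq hp hq).mp h).symm
    have hpos : 0 < orderOf (q : ZMod p) := by
      have : IsOfFinOrder (q : ZMod p) := isOfFinOrder_iff_pow_eq_one.mpr
        ⟨p - 1, by have := hp.two_le; omega, ZMod.pow_card_sub_one_eq_one hq0⟩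
      exact this.orderOf_pos
    apply hleast
    · exact ⟨q, _, hq.prime, hpos, rfl⟩
    · have h1 : ((q ^ orderOf (q : ZMod p) : ℕ) : ZMod p) = ((1 : ℕ) : ZMod p) := by
        push_cast; exact pow_orderOf_eq_one _
      rw [ZMod.natCast_eq_natCast_iff'] at h1
      rw [h1, Nat.mod_eq_of_lt hp.one_lt]

theorem affine (p : ℕ) [hpf : Fact p.Prime] (m : ℕ) (hm : IsPrimePow m) (hm1 : m % p = 1) :
    ∃ (H : Type) (_ : Group H) (_ : Finite H), Nat.card H = p * m ∧ ¬ Cfsg.IsPClosed p H := by
  have hp := hpf.out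
  obtain ⟨q, k, hq, hk, rfl⟩ := hm
  have hq' : q.Prime := hq.nat_prime
  haveI : Fact q.Prime := ⟨hq'⟩
  have hF : Nat.card (GaloisField q k) = q ^ k := GaloisField.card q k hk.ne'
  have hdv : p ∣ Nat.card (GaloisField q k)ˣ := by
    rw [Nat.card_units, hF]
    have := Nat.div_add_mod (q ^ k) p
    exact ⟨q ^ k / p, by omega⟩
  obtain ⟨u, hu⟩ := exists_prime_orderOf_dvd_card' p hdv
  let A := zpowers u
  let act : MulDistribMulAction A (Multiplicative (GaloisField q k)) :=
    { smul := fun a x => Multiplicative.ofAdd (((a : (GaloisField q k)ˣ) : GaloisField q k) * x.toAdd)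
      one_smul := fun x => by
        change Multiplicative.ofAdd (((1 : (GaloisField q k)ˣ) : GaloisField q k) * x.toAdd) = x
        simp
      mul_smul := fun a b x => by
        change Multiplicative.ofAdd ((((a : (GaloisField q k)ˣ) * b : (GaloisField q k)ˣ) : GaloisField q k) * x.toAdd) =
          Multiplicative.ofAdd (((a : (GaloisField q k)ˣ) : GaloisField q k) * (((b : (GaloisField q k)ˣ) : GaloisField q k) * x.toAdd))
        simp [mul_assoc]
      smul_one := fun a => by
        change Multiplicative.ofAdd (((a : (GaloisField q k)ˣ) : GaloisField q k) * 0) = 1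
        simp
      smul_mul := fun a x y => by
        change Multiplicative.ofAdd (((a : (GaloisField q k)ˣ) : GaloisField q k) * (x.toAdd + y.toAdd)) =
          Multiplicative.ofAdd (((a : (GaloisField q k)ˣ) : GaloisField q k) * x.toAdd) *
          Multiplicative.ofAdd (((a : (GaloisField q k)ˣ) : GaloisField q k) * y.toAdd)
        rw [mul_add, ofAdd_add] }
  have hA : Nat.card A = p := by rw [Nat.card_zpowers, hu]
  have hM : Nat.card (Multiplicative (GaloisField q k)) = q ^ k := by
    rw [← hF]; exact Nat.card_congr Multiplicative.toAdd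
  refine ⟨Hol A (Multiplicative (GaloisField q k)), inferInstance, inferInstance, ?_, ?_⟩
  · rw [Hol.card_eq, hA, hM, mul_comm]
  · intro hc
    let a : A := ⟨u, mem_zpowers u⟩
    have ha : orderOf a = p := by rw [← hu]; exact (Subgroup.orderOf_coe a).symm
    have hN : ¬ p ∣ Nat.card ((⊤ : Subgroup (Multiplicative (GaloisField q k))).map
        (Hol.inl : _ →* Hol A (Multiplicative (GaloisField q k)))) := by
      rw [Hol.card_map_inl, Subgroup.card_top, hM]
      intro h
      have := Nat.mod_eq_zero_of_dvd h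
      omega
    have hH : IsPClosed p (⊤ : Subgroup (Hol A (Multiplicative (GaloisField q k)))) :=
      CL.MSS.isPClosed_top_iff.mpr hc
    have hx : IsPGroup p (zpowers (Hol.inr a : Hol A (Multiplicative (GaloisField q k)))) :=
      CL.FGS.MPC.isPGroup_zpowers_of_orderOf (by rw [orderOf_injective _ Hol.inr_injective, ha])
    have h := CL.FGS.MPC.comm_of_isPClosed hN hH hx (mem_top _) (mem_top (Hol.inl (Multiplicative.ofAdd 1)))
      (mem_map_of_mem _ (mem_top _))
    rw [Hol.inr_mul_inl, mul_left_inj] at h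
    have h2 := Hol.inl_injective h
    have h3 : ((u : (GaloisField q k)ˣ) : GaloisField q k) * 1 = 1 := Multiplicative.ofAdd.injective h2
    have h4 : u = 1 := Units.ext (by simpa using h3)
    rw [h4, orderOf_one] at hu
    exact hp.one_lt.ne hu

theorem psl (p : ℕ) [hpf : Fact p.Prime] (h5 : 4 ≤ p) :
    ∃ (H : Type) (_ : Group H) (_ : Finite H), Nat.card H = p * (p ^ 2 - 1) / 2 ∧ ¬ Cfsg.IsPClosed p H := by
  have hp := hpf.out
  have hodd : Odd p := hp.odd_of_ne_two (by omega)
  have h := CL.SL.gcd_mul_card_PSL_two (F := ZMod p)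
  rw [Nat.card_zmod] at h
  have hg : Nat.gcd 2 (p - 1) = 2 := by
    apply Nat.gcd_eq_left
    obtain ⟨j, rfl⟩ := hodd
    exact ⟨j, by omega⟩
  rw [hg] at h
  have hs : IsSimpleGroup (Matrix.ProjectiveSpecialLinearGroup (Fin 2) (ZMod p)) := by
    obtain ⟨a, ha, ha'⟩ := CL.SL.exists_sq_ne_one_of_four_le_card (F := ZMod p)
      (by rw [Nat.card_zmod]; exact h5)
    exact CL.SL.psl_isSimpleGroup_of_perfect (CL.SL.commutator_eq_top_of_sq_ne_one ha ha')
  have hns := CL.Dk.not_isSolvable_psl (F := ZMod p) (by rw [Nat.card_zmod]; exact h5)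
  refine ⟨Matrix.ProjectiveSpecialLinearGroup (Fin 2) (ZMod p), inferInstance, inferInstance, by omega, ?_⟩
  intro hc
  obtain ⟨P⟩ := (inferInstance : Nonempty (Sylow p (Matrix.ProjectiveSpecialLinearGroup (Fin 2) (ZMod p))))
  rcases (hc P).eq_bot_or_eq_top with hb | ht
  · have hd : p ∣ Nat.card (Matrix.ProjectiveSpecialLinearGroup (Fin 2) (ZMod p)) := by
      have : p ∣ 2 * Nat.card (Matrix.ProjectiveSpecialLinearGroup (Fin 2) (ZMod p)) := h ▸ Dvd.intro _ rfl
      rcases (Nat.Prime.dvd_mul hp).mp this with h2 | h2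
      · have := Nat.le_of_dvd two_pos h2; omega
      · exact h2
    exact P.ne_bot_of_dvd_card hd hb
  · have hP : IsPGroup p (Matrix.ProjectiveSpecialLinearGroup (Fin 2) (ZMod p)) := by
      have := P.isPGroup'
      rw [ht] at this
      exact this.of_surjective (⊤ : Subgroup _).subtype (fun x => ⟨⟨x, trivial⟩, rfl⟩)
    have := hP.isNilpotent
    exact hns inferInstance

/-- Let p be an odd prime and let m be the least prime power congruent to 1 modulo p. Then the least order of a finite group whose Sylow p-subgroups are not normal is the smaller of p · m and p(p² − 1)/2: every finite group whose Sylow p-subgroups are not normal has at least that order, and some group of exactly that order has non-normal Sylow p-subgroups. -/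
theorem result (p : ℕ) [Fact p.Prime] (hp : p ≠ 2) (m : ℕ) (hm : IsPrimePow m) (hm1 : m % p = 1)
    (hleast : ∀ k : ℕ, IsPrimePow k → k % p = 1 → m ≤ k) :
    (∀ (H : Type) [Group H] [Finite H], ¬ Cfsg.IsPClosed p H → min (p * m) (p * (p ^ 2 - 1) / 2) ≤ Nat.card H) ∧
      ∃ (H : Type) (_ : Group H) (_ : Finite H), Nat.card H = min (p * m) (p * (p ^ 2 - 1) / 2) ∧ ¬ Cfsg.IsPClosed p H := by
  refine ⟨fun H _ _ hH => lower p m hleast _ H rfl hH, ?_⟩
  by_cases h : p * m ≤ p * (p ^ 2 - 1) / 2
  · rw [min_eq_left h]; exact affine p m hm hm1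
  · rw [min_eq_right (not_le.mp h).le]
    apply psl
    have hp2 := (Fact.out : p.Prime).two_le
    by_contra h4
    have h3 : p = 3 := by omega
    subst h3
    have := hleast 4 ⟨2, 2, Nat.prime_two.prime, two_pos, rfl⟩ rfl
    omega

end Cfsg.Agent.S3875
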