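import Cfsg.Statements.S3878
import Cfsg.Agent.FGS.PrimeCyc

set_option autoImplicit false
open Cfsg

namespace Cfsg.Agent.S3878

open MulAction Equiv Equiv.Perm Pointwise

theorem exists_cycle {α : Type*} [Fintype α] [DecidableEq α] (H : Subgroup (Perm α)) {s e : ℕ}
    (hs : s.Prime) (hH : ¬ s ∣ H.index) (he : e ≠ 0) (hle : s ^ e ≤ Fintype.card α) :
    ∃ g ∈ H, g.IsCycle ∧ g.support.card = s ^ e := by
  have := Fact.mk hs
  obtain ⟨g, hg⟩ := (Equiv.Perm.exists_with_cycleType_iff α (m := {s ^ e})).2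
    ⟨by simpa, by simpa using Nat.succ_le_of_lt (Nat.one_lt_pow he hs.one_lt)⟩
  have h1 : g.IsCycle := Equiv.Perm.card_cycleType_eq_one.1 (by simp [hg])
  have h2 : g.support.card = s ^ e := by rw [← Equiv.Perm.sum_cycleType, hg]; simp
  obtain ⟨y, hy⟩ := (IsPGroup.of_card (G := Subgroup.zpowers g) (n := e) (p := s)
    (by rw [Nat.card_zpowers, h1.orderOf, h2])).nonempty_fixed_point_of_prime_not_dvd_card
    (Perm α ⧸ H) hH
  induction y using QuotientGroup.induction_on with | _ x => ?_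
  have h3 := QuotientGroup.eq.1 (hy ⟨g⁻¹, inv_mem (Subgroup.mem_zpowers g)⟩)
  refine ⟨x⁻¹ * g * x, by simpa [mul_assoc] using h3, by simpa using h1.conj (g := x⁻¹), ?_⟩
  rw [← h2]
  simpa using Equiv.Perm.card_support_conj (σ := x⁻¹) (τ := g)

theorem alt_le {p q a : ℕ} (hp : p.Prime) (hq : q.Prime) (hqp : q < p) (ha : 2 ≤ a)
    (H : Subgroup (Perm (Fin (p ^ a)))) (h1 : ¬ p ∣ H.index) (h2 : ¬ q ∣ H.index) :
    alternatingGroup (Fin (p ^ a)) ≤ H := by
  have hq2 := hq.two_le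
  have hn : p * p ≤ p ^ a := by rw [← pow_two]; exact Nat.pow_le_pow_right hp.pos ha
  have hn2 : q + 3 ≤ p ^ a := by nlinarith
  obtain ⟨c, hcH, hc, hcs⟩ := exists_cycle H hp h1 (e := a) (by omega) (by simp)
  have hcu : ∀ z, c z ≠ z := fun z => mem_support.1 (by
    rw [Finset.eq_univ_of_card c.support (by rw [hcs, Fintype.card_fin])]; exact Finset.mem_univ z)
  have : IsPretransitive H (Fin (p ^ a)) := ⟨fun x y => by
    obtain ⟨i, hi⟩ := hc.exists_zpow_eq (hcu x) (hcu y)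
    exact ⟨⟨c ^ i, H.zpow_mem hcH i⟩, hi⟩⟩
  obtain ⟨d, hdH, hd, hds⟩ := exists_cycle H hq h2 (e := Nat.log q (p ^ a))
    (Nat.log_pos hq.one_lt (by omega)).ne' (by simpa using Nat.pow_log_le_self q (by omega))
  have hlt := Nat.lt_pow_succ_log_self hq.one_lt (p ^ a)
  set e := Nat.log q (p ^ a)
  obtain ⟨z, hz, -⟩ := id hd
  have hprim : IsPreprimitive H (Fin (p ^ a)) := by
    refine IsPreprimitive.of_isTrivialBlock_base z fun {B} hzB hB => ?_
    by_contra hnt
    have h3 := hB.ncard_dvd_card ⟨z, hzB⟩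
    rw [Nat.card_fin] at h3
    obtain ⟨b, hba, hb⟩ := (Nat.dvd_prime_pow hp).1 h3
    have hb0 : b ≠ 0 := by
      rintro rfl
      exact hnt (Or.inl (Set.ncard_le_one_iff_subsingleton.1 (by simp [hb])))
    have hba' : b < a := lt_of_le_of_ne hba fun h => hnt (Or.inr (by
      rw [Set.eq_univ_iff_ncard, hb, h, Nat.card_fin]))
    have hpb : p ≤ p ^ b := Nat.le_self_pow hb0 p
    let d' : H := ⟨d, hdH⟩
    by_cases h4 : d' • B = B
    · have h5 : (d.support : Set _) ⊆ B := by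
        intro w hw
        obtain ⟨i, rfl⟩ := hd.exists_zpow_eq hz (mem_support.1 hw)
        have : d' ^ i ∈ stabilizer H B := Subgroup.zpow_mem _ h4 i
        rw [← mem_stabilizer_iff.1 this]
        exact Set.smul_mem_smul_set hzB
      have h6 := Set.ncard_le_ncard h5
      rw [Set.ncard_coe_finset, hds, hb] at h6
      have h7 : p ^ b * p ≤ p ^ a := by rw [← pow_succ]; exact Nat.pow_le_pow_right hp.pos hba'
      rw [pow_succ] at hlt
      have := pow_pos hq.pos e
      nlinarith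
    · have h5 := CL.PermMod.ncard_dvd_card_of_trans (Subgroup.zpowers d' ⊓ stabilizer H B) B (a := z)
        (fun h hh => by rw [← mem_stabilizer_iff.1 hh.2]; exact Set.smul_mem_smul_set hzB)
        (fun v hv => by
          have hdv : d v ≠ v := fun e => h4 (hB.smul_eq_of_mem hv (show d v ∈ B from e.symm ▸ hv))
          obtain ⟨i, hi⟩ := hd.exists_zpow_eq hz hdv
          exact ⟨d' ^ i, ⟨Subgroup.zpow_mem_zpowers _ _, hB.smul_eq_of_mem hzB
            (show (d ^ i) z ∈ B from hi.symm ▸ hv)⟩, hi⟩)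
      have h6 := h5.trans (Subgroup.card_dvd_of_le inf_le_left)
      rw [Nat.card_zpowers, Subgroup.orderOf_mk, hd.orderOf, hds, hb] at h6
      have := (Nat.prime_dvd_prime_iff_eq hp hq).1
        (hp.dvd_of_dvd_pow ((dvd_pow_self p hb0).trans h6))
      omega
  obtain ⟨g, hgH, hg, hgs⟩ := exists_cycle H hq h2 (e := 1) one_ne_zero (by simp; omega)
  exact CL.Perm.alternatingGroup_le_of_prime_cycle H hprim hq (by simpa using hn2) hg
    (by rw [hgs, pow_one]) hgH

theorem e_of_d {π : Set ℕ} {G : Type*} [Group G] [Finite G] (h : Cfsg.IsDPiGroup π G) :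
    Cfsg.IsEPiGroup π G := by
  obtain ⟨H, -, hH⟩ := Finite.exists_le_maximal (p := Cfsg.IsPiSubgroup π) (a := (⊥ : Subgroup G))
    (fun p hp hd => by rw [Subgroup.card_bot] at hd; exact absurd (Nat.dvd_one.1 hd) hp.ne_one)
  refine ⟨H, hH.1, fun p hp hπ hd => ?_⟩
  have := Fact.mk hp
  obtain ⟨P⟩ : Nonempty (Sylow p G) := inferInstance
  obtain ⟨K, hPK, hK⟩ := Finite.exists_le_maximal (p := Cfsg.IsPiSubgroup π) (a := (P : Subgroup G))
    (fun r hr hd => by
      obtain ⟨k, hk⟩ := IsPGroup.iff_card.1 P.isPGroup'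
      rw [hk] at hd
      rwa [(Nat.prime_dvd_prime_iff_eq hr hp).1 (hr.dvd_of_dvd_pow hd)])
  obtain ⟨g, hg⟩ := h H K hH hK
  refine P.not_dvd_index (dvd_trans ?_ (Subgroup.index_dvd_of_le hPK))
  rwa [hg, Subgroup.index_map_of_bijective (MulAut.conj g).bijective]


/-- For a set of primes π the following are equivalent: every finite group has a Hall π-subgroup; in every finite group the maximal π-subgroups are pairwise conjugate; π contains at most one prime or contains every prime. -/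
theorem result (π : Set ℕ) :
    ((∀ (G : Type) [Group G] [Finite G], Cfsg.IsEPiGroup π G) ↔
      ((∀ p q : ℕ, p.Prime → q.Prime → p ∈ π → q ∈ π → p = q) ∨ ∀ p : ℕ, p.Prime → p ∈ π)) ∧
    ((∀ (G : Type) [Group G] [Finite G], Cfsg.IsDPiGroup π G) ↔
      ((∀ p q : ℕ, p.Prime → q.Prime → p ∈ π → q ∈ π → p = q) ∨ ∀ p : ℕ, p.Prime → p ∈ π)) := by
  have hA : (∀ (G : Type) [Group G] [Finite G], Cfsg.IsEPiGroup π G) →
      ((∀ p q : ℕ, p.Prime → q.Prime → p ∈ π → q ∈ π → p = q) ∨ ∀ p : ℕ, p.Prime → p ∈ π) := by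
    intro h
    by_contra hn
    push Not at hn
    obtain ⟨⟨p, q, hp, hq, hpπ, hqπ, hpq⟩, r, hr, hrπ⟩ := hn
    wlog hlt : q < p generalizing p q
    · exact this q p hq hp hqπ hpπ hpq.symm (by omega)
    obtain ⟨H, h1, h2⟩ := h (Perm (Fin (p ^ (r + 2))))
    have h3 := alt_le hp hq hlt (by omega) H (h2 p hp hpπ) (h2 q hq hqπ)
    refine hrπ (h1 r hr (dvd_trans ?_ (Subgroup.card_dvd_of_le h3)))
    have h4 : r + 2 < p ^ (r + 2) := Nat.lt_pow_self hp.one_lt
    have : Nontrivial (Fin (p ^ (r + 2))) := Fin.nontrivial_iff_two_le.2 (by omega)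
    have h5 := two_mul_nat_card_alternatingGroup (α := Fin (p ^ (r + 2)))
    rw [Nat.card_perm, Nat.card_fin] at h5
    have h6 : 2 * r ∣ (p ^ (r + 2)).factorial := by
      have h7 := hr.two_le
      refine dvd_trans ?_ (Nat.factorial_dvd_factorial h4.le)
      rw [Nat.factorial_succ, Nat.factorial_succ, ← mul_assoc]
      refine Nat.mul_dvd_mul ?_ (Nat.dvd_factorial hr.pos le_rfl)
      rw [mul_comm]
      exact (Nat.even_mul_succ_self (r + 1)).two_dvd
    rw [← h5] at h6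
    exact Nat.dvd_of_mul_dvd_mul_left two_pos h6
  have hC : ((∀ p q : ℕ, p.Prime → q.Prime → p ∈ π → q ∈ π → p = q) ∨ ∀ p : ℕ, p.Prime → p ∈ π) →
      ∀ (G : Type) [Group G] [Finite G], Cfsg.IsDPiGroup π G := by
    rintro (h | h) G _ _ H K hH hK
    · by_cases h0 : ∃ p, p.Prime ∧ p ∈ π
      · obtain ⟨p, hp, hpπ⟩ := h0
        have := Fact.mk hp
        have hiff : ∀ L : Subgroup G, Cfsg.IsPiSubgroup π L ↔ IsPGroup p L := fun L =>
          ⟨fun hL => IsPGroup.iff_card.2 ⟨_, Nat.eq_prime_pow_of_unique_prime_dvd Nat.card_pos.ne'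
            fun {r} hr hd => h r p hr hp (hL r hr hd) hpπ⟩, fun hL r hr hd => by
            obtain ⟨k, hk⟩ := IsPGroup.iff_card.1 hL
            rw [hk] at hd
            rwa [(Nat.prime_dvd_prime_iff_eq hr hp).1 (hr.dvd_of_dvd_pow hd)]⟩
        let S : ∀ L : Subgroup G, Maximal (Cfsg.IsPiSubgroup π) L → Sylow p G := fun L hL =>
          ⟨L, (hiff L).1 hL.1, fun hQ hle => le_antisymm (hL.2 ((hiff _).2 hQ) hle) hle⟩
        obtain ⟨g, hg⟩ := exists_smul_eq G (S H hH) (S K hK)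
        exact ⟨g, (congrArg (fun T : Sylow p G => (T : Subgroup G)) hg).symm⟩
      · have : ∀ L : Subgroup G, Cfsg.IsPiSubgroup π L → L = ⊥ := fun L hL => by
          by_contra hne
          obtain ⟨p, hp, hd⟩ := Nat.exists_prime_and_dvd (mt Subgroup.card_eq_one.1 hne)
          exact h0 ⟨p, hp, hL p hp hd⟩
        exact ⟨1, by rw [this H hH.1, this K hK.1, Subgroup.map_bot]⟩
    · have : ∀ L : Subgroup G, Maximal (Cfsg.IsPiSubgroup π) L → L = ⊤ := fun L hL =>
        top_le_iff.1 (hL.2 (fun p hp _ => h p hp) le_top)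
      refine ⟨1, ?_⟩
      rw [this H hH, this K hK, Subgroup.map_top_of_surjective _ (MulAut.conj 1).surjective]
  exact ⟨⟨hA, fun h G _ _ => e_of_d (hC h G)⟩, fun h => hA fun G _ _ => e_of_d (h G), hC⟩
end Cfsg.Agent.S3878
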