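import Cfsg.Statements.S3889

set_option autoImplicit false
open Cfsg

namespace Cfsg.Agent.S3889

/-- A finite abelian group that is the union of a family of proper subgroups any two of which intersect trivially is elementary abelian: its exponent is a prime. -/
theorem result {G : Type*} [CommGroup G] [Finite G] (𝓑 : Set (Subgroup G)) (hprop : ∀ B ∈ 𝓑, B ≠ ⊤)
    (hcov : ∀ g : G, ∃ B ∈ 𝓑, g ∈ B) (hdisj : ∀ B ∈ 𝓑, ∀ C ∈ 𝓑, B ≠ C → B ⊓ C = ⊥) :
    (Monoid.exponent G).Prime := by
  obtain ⟨B1, hB1, -⟩ := hcov 1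
  have hnt : Nontrivial G := by
    by_contra h
    rw [not_nontrivial_iff_subsingleton] at h
    exact hprop B1 hB1 (Subsingleton.elim _ _)
  have hcard : Nat.card G ≠ 1 := (Finite.one_lt_card (α := G)).ne'
  obtain ⟨p, hp, hpd⟩ := Nat.exists_prime_and_dvd hcard
  haveI : Fact p.Prime := ⟨hp⟩
  obtain ⟨x, hx⟩ := exists_prime_orderOf_dvd_card' (G := G) p hpd
  have hx1 : x ≠ 1 := by
    rintro rfl
    rw [orderOf_one] at hx
    exact hp.one_lt.ne hx
  have hxp : x ^ p = 1 := by rw [← hx, pow_orderOf_eq_one]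
  obtain ⟨B, hB, hxB⟩ := hcov x
  have key : ∀ y : G, y ∉ B → y ^ p = 1 := by
    intro y hy
    obtain ⟨C, hC, hyC⟩ := hcov y
    obtain ⟨D, hD, hyD⟩ := hcov (x * y)
    have hBC : B ≠ C := by rintro rfl; exact hy hyC
    have hCD : C ≠ D := by
      rintro rfl
      have : x ∈ C := by simpa using C.mul_mem hyD (C.inv_mem hyC)
      have h2 : x ∈ B ⊓ C := ⟨hxB, this⟩
      rw [hdisj B hB C hC hBC] at h2
      exact hx1 h2
    have h3 : y ^ p ∈ C ⊓ D := by
      refine ⟨C.pow_mem hyC p, ?_⟩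
      have := D.pow_mem hyD p
      rwa [mul_pow, hxp, one_mul] at this
    rw [hdisj C hC D hD hCD] at h3
    exact h3
  have hall : ∀ g : G, g ^ p = 1 := by
    intro g
    by_cases hg : g ∈ B
    · obtain ⟨y, hy⟩ : ∃ y : G, y ∉ B := by
        by_contra h
        push Not at h
        exact hprop B hB ((Subgroup.eq_top_iff' B).2 h)
      have h1 : g * y ∉ B := fun h => hy (by simpa using B.mul_mem (B.inv_mem hg) h)
      have := key _ h1
      rwa [mul_pow, key y hy, mul_one] at this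
    · exact key g hg
  have hdvd : Monoid.exponent G ∣ p := Monoid.exponent_dvd_of_forall_pow_eq_one hall
  have hdvd2 : p ∣ Monoid.exponent G := hx ▸ Monoid.order_dvd_exponent x
  rw [Nat.dvd_antisymm hdvd hdvd2]
  exact hp

end Cfsg.Agent.S3889
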