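import Cfsg.Statements.S3890
import Cfsg.Agent.FGS.NilpBasic
import Cfsg.Agent.S3889

set_option autoImplicit false
open Cfsg

namespace Cfsg.Agent.S3890

section
variable {G : Type*} [Group G] [Finite G] (hZ : Subgroup.center G = ⊥) (𝓐 : Finset (Subgroup G))
    (h𝓐 : ((∀ A ∈ 𝓐, A ≠ ⊤) ∧ (∀ g : G, ∃ A ∈ 𝓐, g ∈ A)) ∧ (∀ 𝓑 : Finset (Subgroup G), (∀ A ∈ 𝓑, A ≠ ⊤) ∧ (∀ g : G, ∃ A ∈ 𝓑, g ∈ A) → 𝓐.card ≤ 𝓑.card) ∧ (∀ A ∈ 𝓐, Group.IsNilpotent ↥A)) {p : ℕ} [Fact p.Prime]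

omit [Finite G] in
include h𝓐 in
theorem sup_eq_top {A B : Subgroup G} (hA : A ∈ 𝓐) (hB : B ∈ 𝓐) (hAB : A ≠ B) : A ⊔ B = ⊤ := by
  classical
  by_contra hne
  have := h𝓐.2.1 (insert (A ⊔ B) ((𝓐.erase A).erase B)) ⟨?_, ?_⟩
  · have h1 := Finset.card_insert_le (A ⊔ B) ((𝓐.erase A).erase B)
    have h2 : B ∈ 𝓐.erase A := Finset.mem_erase.2 ⟨hAB.symm, hB⟩
    have h3 := Finset.card_erase_add_one h2
    have h4 := Finset.card_erase_add_one hA
    omega
  · intro C hC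
    rcases Finset.mem_insert.1 hC with rfl | hC
    · exact hne
    · exact h𝓐.1.1 C (Finset.mem_of_mem_erase (Finset.mem_of_mem_erase hC))
  · intro g
    obtain ⟨C, hC, hg⟩ := h𝓐.1.2 g
    by_cases h1 : C = A
    · exact ⟨A ⊔ B, Finset.mem_insert_self _ _, Subgroup.mem_sup_left (h1 ▸ hg)⟩
    by_cases h2 : C = B
    · exact ⟨A ⊔ B, Finset.mem_insert_self _ _, Subgroup.mem_sup_right (h2 ▸ hg)⟩
    exact ⟨C, Finset.mem_insert_of_mem (Finset.mem_erase.2 ⟨h2, Finset.mem_erase.2 ⟨h1, hC⟩⟩), hg⟩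

theorem le_centralizer (P : Sylow p G) (hab : IsMulCommutative ↥(P : Subgroup G))
    {A : Subgroup G} (hA : Group.IsNilpotent A) {x : G} (hx : x ∈ A) {k : ℕ}
    (hk : x ^ p ^ k = 1) : A ≤ Subgroup.centralizer {x} := by
  intro a ha
  rw [Subgroup.mem_centralizer_singleton_iff]
  obtain ⟨b, c, hb, hc, ⟨l, hl⟩, hcp, rfl⟩ :=
    CL.FGS.exists_pPart_mul_pPrimePart (Fact.out : p.Prime) a (isOfFinOrder_of_finite a)
  have hbA : b ∈ A := (Subgroup.zpowers_le.2 ha) hb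
  have hcA : c ∈ A := (Subgroup.zpowers_le.2 ha) hc
  have h1 : Commute c x := CL.FGS.commute_of_mem_nilpotent_of_coprime A hA hcA hx
    (Nat.Coprime.coprime_dvd_right (orderOf_dvd_of_pow_eq_one hk) (hcp.pow_right k))
  have h2 : Commute b x := by
    obtain ⟨Q⟩ : Nonempty (Sylow p A) := inferInstance
    have hbQ := CL.FGS.mem_sylow_of_normal_of_pow_eq_one Q inferInstance (x := ⟨b, hbA⟩) (k := l)
      (Subtype.ext hl)
    have hxQ := CL.FGS.mem_sylow_of_normal_of_pow_eq_one Q inferInstance (x := ⟨x, hx⟩) (k := k)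
      (Subtype.ext hk)
    have := CL.FGS.isMulCommutative_of_isPGroup_of_sylow P hab (Q.isPGroup'.map A.subtype)
    exact setLike_mul_comm (s := (Q : Subgroup A).map A.subtype) ⟨_, hbQ, rfl⟩ ⟨_, hxQ, rfl⟩
  exact (h2.mul_left h1).eq

include hZ h𝓐 in
theorem member_eq (P : Sylow p G) (hab : IsMulCommutative ↥(P : Subgroup G))
    {A B : Subgroup G} (hA : A ∈ 𝓐) (hB : B ∈ 𝓐) {x : G} (hx1 : x ≠ 1) {k : ℕ}
    (hk : x ^ p ^ k = 1) (hxA : x ∈ A) (hxB : x ∈ B) : A = B := by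
  by_contra hne
  have h1 := sup_eq_top 𝓐 h𝓐 hA hB hne
  have h2 : A ⊔ B ≤ Subgroup.centralizer {x} :=
    sup_le (le_centralizer P hab (h𝓐.2.2 A hA) hxA hk) (le_centralizer P hab (h𝓐.2.2 B hB) hxB hk)
  rw [h1] at h2
  apply hx1
  have : x ∈ Subgroup.center G := by
    rw [Subgroup.mem_center_iff]
    intro g
    exact Subgroup.mem_centralizer_singleton_iff.1 (h2 (Subgroup.mem_top g))
  rwa [hZ] at this

include hZ h𝓐 in
theorem exists_member (P : Sylow p G) (hab : IsMulCommutative ↥(P : Subgroup G))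
    (hnn : ¬ (P : Subgroup G).Normal)
    (hE : ¬ (Cfsg.IsElementaryAbelian p (P : Subgroup G) ∧ p < Nat.card ↥(P : Subgroup G))) :
    ∃ A ∈ 𝓐, (P : Subgroup G) ≤ A ∧ Subgroup.centralizer ((P : Subgroup G) : Set G) = A := by
  have hp : p.Prime := Fact.out
  have hPne : (P : Subgroup G) ≠ ⊥ := fun h => hnn (h ▸ inferInstance)
  have hpel : ∀ x ∈ (P : Subgroup G), ∃ k, x ^ p ^ k = 1 := fun x hx => by
    obtain ⟨k, hk⟩ := P.isPGroup' ⟨x, hx⟩
    exact ⟨k, congrArg Subtype.val hk⟩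
  have hex : ∃ A ∈ 𝓐, (P : Subgroup G) ≤ A := by
    by_contra hcon
    push Not at hcon
    apply hE
    let : CommGroup (P : Subgroup G) := { (inferInstance : Group (P : Subgroup G)) with mul_comm := mul_comm' }
    have hprime := Cfsg.Agent.S3889.result (G := (P : Subgroup G))
      ((fun A : Subgroup G => A.subgroupOf P) '' 𝓐) ?_ ?_ ?_
    · obtain ⟨k, hk⟩ := isPGroup_iff_exponent_eq_pow.1 P.isPGroup'
      have hexp : Monoid.exponent (P : Subgroup G) = p := by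
        rw [hk] at hprime ⊢
        rw [(Nat.Prime.eq_one_of_pow hprime), pow_one]
      refine ⟨⟨hab, fun a ha => ?_⟩, ?_⟩
      · have := Monoid.pow_exponent_eq_one (⟨a, ha⟩ : (P : Subgroup G))
        rw [hexp] at this
        exact congrArg Subtype.val this
      · by_contra hle
        push Not at hle
        obtain ⟨n, hn⟩ := P.isPGroup'.exists_card_eq
        have hn1 : n ≤ 1 := by
          rw [hn] at hle
          exact (Nat.pow_le_pow_iff_right hp.one_lt).1 (by simpa using hle)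
        have hcyc : IsCyclic (P : Subgroup G) :=
          isCyclic_of_card_dvd_prime (p := p) (by rw [hn]; simpa using pow_dvd_pow p hn1)
        obtain ⟨g, hg⟩ := (Subgroup.isCyclic_iff_exists_zpowers_eq_top _).1 hcyc
        obtain ⟨A, hA, hgA⟩ := h𝓐.1.2 g
        exact hcon A hA (hg ▸ Subgroup.zpowers_le.2 hgA)
    · rintro _ ⟨A, hA, rfl⟩ h
      exact hcon A hA (Subgroup.subgroupOf_eq_top.1 h)
    · intro g
      obtain ⟨A, hA, hg⟩ := h𝓐.1.2 g
      exact ⟨_, ⟨A, hA, rfl⟩, hg⟩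
    · rintro _ ⟨A, hA, rfl⟩ _ ⟨B, hB, rfl⟩ hne
      rw [eq_bot_iff]
      rintro x ⟨hxA, hxB⟩
      by_contra hx1
      obtain ⟨k, hk⟩ := hpel x x.2
      exact hne (by rw [member_eq hZ 𝓐 h𝓐 P hab hA hB (fun h => hx1 (Subtype.ext h)) hk hxA hxB])
  obtain ⟨A, hA, hPA⟩ := hex
  refine ⟨A, hA, hPA, le_antisymm ?_ ?_⟩
  · intro c hc
    obtain ⟨x, hx1⟩ := Subgroup.ne_bot_iff_exists_ne_one.1 hPne
    have hx1' : (x : G) ≠ 1 := fun h => hx1 (Subtype.ext h)
    obtain ⟨k, hk⟩ := hpel x x.2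
    obtain ⟨a, b, ha, hb, ⟨l, hl⟩, hbp, rfl⟩ :=
      CL.FGS.exists_pPart_mul_pPrimePart hp c (isOfFinOrder_of_finite c)
    have haC := (Subgroup.zpowers_le.2 hc) ha
    have hbC := (Subgroup.zpowers_le.2 hc) hb
    have haP : a ∈ (P : Subgroup G) := CL.FGS.mem_sylow_of_mem_normalizer_of_pow_eq_one P
      (Subgroup.centralizer_le_normalizer _ haC) hl
    refine A.mul_mem (hPA haP) ?_
    have hcomm : Commute (x : G) b := (Subgroup.mem_centralizer_iff.1 hbC) x x.2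
    have hcop : (orderOf (x : G)).Coprime (orderOf b) :=
      Nat.Coprime.coprime_dvd_left (orderOf_dvd_of_pow_eq_one hk) (hbp.symm.pow_left k)
    obtain ⟨B, hB, hxb⟩ := h𝓐.1.2 (x * b)
    have hxB : (x : G) ∈ B :=
      (Subgroup.zpowers_le.2 hxb) (CL.FGS.mem_zpowers_mul_of_commute_of_coprime hcomm hcop)
    rw [member_eq hZ 𝓐 h𝓐 P hab hA hB hx1' hk (hPA x.2) hxB]
    simpa using B.mul_mem (B.inv_mem hxB) hxb
  · intro a ha
    rw [Subgroup.mem_centralizer_iff]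
    intro x hx
    obtain ⟨k, hk⟩ := hpel x hx
    exact (Subgroup.mem_centralizer_singleton_iff.1
      (le_centralizer P hab (h𝓐.2.2 A hA) (hPA hx) hk ha)).symm

include hZ h𝓐 in
theorem exists_member' (P : Sylow p G) (hab : IsMulCommutative ↥(P : Subgroup G))
    (hnn : ¬ (P : Subgroup G).Normal)
    (hE : ¬ (Cfsg.IsElementaryAbelian p (P : Subgroup G) ∧ p < Nat.card ↥(P : Subgroup G)))
    (Q : Sylow p G) :
    ∃ A ∈ 𝓐, (Q : Subgroup G) ≤ A ∧ Subgroup.centralizer ((Q : Subgroup G) : Set G) = A := by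
  apply exists_member hZ 𝓐 h𝓐 Q (CL.FGS.isMulCommutative_of_isPGroup_of_sylow P hab Q.isPGroup')
  · intro h
    have := Q.unique_of_normal h
    exact hnn (by rwa [Subsingleton.elim P Q])
  · rintro ⟨h1, h2⟩
    have e := Sylow.equiv P Q
    apply hE
    refine ⟨⟨hab, fun a ha => ?_⟩, ?_⟩
    · have : (⟨a, ha⟩ : P) ^ p = 1 := e.injective (by
        rw [map_pow, map_one]; exact Subtype.ext (h1.2 _ (e ⟨a, ha⟩).2))
      exact congrArg Subtype.val this
    · have : Nat.card (P : Subgroup G) = Nat.card (Q : Subgroup G) := Nat.card_congr e.toEquiv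
      omega

omit [Finite G] [Fact p.Prime] in
theorem sylow_eq_of_le_centralizer (P Q : Sylow p G)
    (h : (Q : Subgroup G) ≤ Subgroup.centralizer ((P : Subgroup G) : Set G)) : Q = P := by
  have h1 : (Q : Subgroup G) ≤ P := by
    intro x hx
    obtain ⟨k, hk⟩ := Q.isPGroup' ⟨x, hx⟩
    exact CL.FGS.mem_sylow_of_mem_normalizer_of_pow_eq_one P
      (Subgroup.centralizer_le_normalizer _ (h hx)) (k := k) (congrArg Subtype.val hk)
  exact Sylow.ext (Q.is_maximal' P.isPGroup' h1).symm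

include hZ h𝓐 in
theorem sylow_eq (P : Sylow p G) (hab : IsMulCommutative ↥(P : Subgroup G))
    (hnn : ¬ (P : Subgroup G).Normal)
    (hE : ¬ (Cfsg.IsElementaryAbelian p (P : Subgroup G) ∧ p < Nat.card ↥(P : Subgroup G)))
    (Q : Sylow p G) {x : G} (hx1 : x ≠ 1) (hxP : x ∈ (P : Subgroup G)) (hxQ : x ∈ (Q : Subgroup G)) :
    Q = P := by
  obtain ⟨A, hA, hPA, hC⟩ := exists_member' hZ 𝓐 h𝓐 P hab hnn hE P
  obtain ⟨B, hB, hQB, -⟩ := exists_member' hZ 𝓐 h𝓐 P hab hnn hE Q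
  obtain ⟨k, hk⟩ := P.isPGroup' ⟨x, hxP⟩
  have := member_eq hZ 𝓐 h𝓐 P hab hA hB hx1 (k := k) (congrArg Subtype.val hk) (hPA hxP) (hQB hxQ)
  apply sylow_eq_of_le_centralizer
  rw [hC, this]
  exact hQB

include hZ h𝓐 in
theorem le_normalizer (P : Sylow p G) (hab : IsMulCommutative ↥(P : Subgroup G))
    (hnn : ¬ (P : Subgroup G).Normal)
    (hE : ¬ (Cfsg.IsElementaryAbelian p (P : Subgroup G) ∧ p < Nat.card ↥(P : Subgroup G)))
    (M : Subgroup G) (hM : M ≠ ⊤) (hCM : Subgroup.centralizer ((P : Subgroup G) : Set G) ≤ M) :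
    M ≤ Subgroup.normalizer ((P : Subgroup G) : Set G) := by
  intro m hm
  obtain ⟨A, hA, hPA, hC⟩ := exists_member' hZ 𝓐 h𝓐 P hab hnn hE P
  obtain ⟨B, hB, hQB, hD⟩ := exists_member' hZ 𝓐 h𝓐 P hab hnn hE (m • P)
  have hBM : B ≤ M := by
    rw [← hD]
    intro c hc
    have : m⁻¹ * c * m ∈ Subgroup.centralizer ((P : Subgroup G) : Set G) := by
      rw [Subgroup.mem_centralizer_iff]
      intro x hx
      have h1 : m * x * m⁻¹ ∈ ((m • P : Sylow p G) : Subgroup G) := ⟨x, hx, rfl⟩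
      have h2 := Subgroup.mem_centralizer_iff.1 hc _ h1
      calc x * (m⁻¹ * c * m) = m⁻¹ * (m * x * m⁻¹ * c) * m := by group
        _ = m⁻¹ * (c * (m * x * m⁻¹)) * m := by rw [h2]
        _ = _ := by group
    have h3 := M.mul_mem (M.mul_mem hm (hCM this)) (M.inv_mem hm)
    simpa [mul_assoc] using h3
  have hAB : A = B := by
    by_contra hne
    apply hM
    rw [eq_top_iff, ← sup_eq_top 𝓐 h𝓐 hA hB hne]
    exact sup_le (hC ▸ hCM) hBM
  refine (Sylow.smul_eq_iff_mem_normalizer (P := P)).1 ?_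
  apply sylow_eq_of_le_centralizer
  rw [hC, hAB]
  exact hQB

end


/-- A cover of a group is a finite set of proper subgroups whose union is the whole group; it is minimal when no cover has fewer members, and nilpotent when all its members are nilpotent. Let G be a finite group with trivial center admitting a nilpotent minimal cover 𝓐, and let P be an abelian Sylow p-subgroup of G that is not normal. Then either P is elementary abelian of order greater than p, or P is a Sylow p-subgroup of some member A of 𝓐, the normalizer N of P is a maximal subgroup of G, N meets each of its conjugates by elements outside N in a subgroup of order prime to p, and the centralizer of P equals A. -/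
theorem result {G : Type*} [Group G] [Finite G] (hZ : Subgroup.center G = ⊥) (𝓐 : Finset (Subgroup G))
    (h𝓐 : ((∀ A ∈ 𝓐, A ≠ ⊤) ∧ (∀ g : G, ∃ A ∈ 𝓐, g ∈ A)) ∧ (∀ 𝓑 : Finset (Subgroup G), (∀ A ∈ 𝓑, A ≠ ⊤) ∧ (∀ g : G, ∃ A ∈ 𝓑, g ∈ A) → 𝓐.card ≤ 𝓑.card) ∧ (∀ A ∈ 𝓐, Group.IsNilpotent ↥A)) {p : ℕ} [Fact p.Prime] (P : Sylow p G) (hab : IsMulCommutative ↥(P : Subgroup G))
    (hnn : ¬ (P : Subgroup G).Normal) :
    (Cfsg.IsElementaryAbelian p (P : Subgroup G) ∧ p < Nat.card ↥(P : Subgroup G)) ∨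
    (∃ A ∈ 𝓐, (P : Subgroup G) ≤ A ∧ ¬ p ∣ ((P : Subgroup G).subgroupOf A).index ∧
      IsCoatom (Subgroup.normalizer ((P : Subgroup G) : Set G)) ∧
      (∀ g : G, g ∉ Subgroup.normalizer ((P : Subgroup G) : Set G) →
        ¬ p ∣ Nat.card ↥(Subgroup.normalizer ((P : Subgroup G) : Set G) ⊓
          (Subgroup.normalizer ((P : Subgroup G) : Set G)).map (MulAut.conj g).toMonoidHom)) ∧
      Subgroup.centralizer ((P : Subgroup G) : Set G) = A) := by
  by_cases hE : Cfsg.IsElementaryAbelian p (P : Subgroup G) ∧ p < Nat.card ↥(P : Subgroup G)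
  · exact Or.inl hE
  right
  obtain ⟨A, hA, hPA, hC⟩ := exists_member hZ 𝓐 h𝓐 P hab hnn hE
  refine ⟨A, hA, hPA, (P.subtype hPA).not_dvd_index, ?_, ?_, hC⟩
  · refine ⟨fun h => hnn (Subgroup.normalizer_eq_top_iff.1 h), ?_⟩
    intro M hM
    by_contra hne
    exact hM.not_ge (le_normalizer hZ 𝓐 h𝓐 P hab hnn hE M hne
      ((Subgroup.centralizer_le_normalizer _).trans hM.le))
  · intro g hg hd
    apply hg
    obtain ⟨x, hx⟩ := exists_prime_orderOf_dvd_card' p hd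
    have hx' : orderOf (x : G) = p := by simpa using hx
    have hxp : (x : G) ^ p ^ 1 = 1 := by
      rw [pow_one, ← orderOf_dvd_iff_pow_eq_one, hx']
    have hx1 : (x : G) ≠ 1 := by
      intro h
      rw [h, orderOf_one] at hx'
      exact (Fact.out : p.Prime).one_lt.ne hx'
    have h1 : (x : G) ∈ (P : Subgroup G) :=
      CL.FGS.mem_sylow_of_mem_normalizer_of_pow_eq_one P x.2.1 hxp
    obtain ⟨y, hy, hyx⟩ := x.2.2
    have hyp : y ^ p ^ 1 = 1 := by
      apply (MulAut.conj g).injective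
      rw [map_pow, map_one]
      exact hyx ▸ hxp
    have h2 : y ∈ (P : Subgroup G) := CL.FGS.mem_sylow_of_mem_normalizer_of_pow_eq_one P hy hyp
    have h3 : (x : G) ∈ ((g • P : Sylow p G) : Subgroup G) := ⟨y, h2, hyx⟩
    refine (Sylow.smul_eq_iff_mem_normalizer (P := P)).1 ?_
    exact sylow_eq hZ 𝓐 h𝓐 P hab hnn hE (g • P) hx1 h1 h3

end Cfsg.Agent.S3890
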