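import Cfsg.Statements.S3892
import Cfsg.Agent.S3890
import Cfsg.Agent.S3878

set_option autoImplicit false
open Cfsg

namespace Cfsg.Agent.S3892

open Equiv Equiv.Perm Pointwise

/-- the group has a nilpotent minimal cover -/
def NMC (G : Type*) [Group G] : Prop :=
  ∃ 𝓐 : Finset (Subgroup G), ((∀ A ∈ 𝓐, A ≠ ⊤) ∧ (∀ g : G, ∃ A ∈ 𝓐, g ∈ A)) ∧
    (∀ 𝓑 : Finset (Subgroup G), (∀ A ∈ 𝓑, A ≠ ⊤) ∧ (∀ g : G, ∃ A ∈ 𝓑, g ∈ A) → 𝓐.card ≤ 𝓑.card) ∧
    (∀ A ∈ 𝓐, Group.IsNilpotent ↥A)

theorem not_nmc {G : Type*} [Group G] [Finite G] (hZ : Subgroup.center G = ⊥) {p : ℕ}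
    (hp : p.Prime) {x : G} (hx : orderOf x = p) (h2 : ¬ p ^ 2 ∣ Nat.card G) (M : Subgroup G)
    (hM : M ≠ ⊤) (hC : ∀ g, g * x = x * g → g ∈ M) {s : G} (hs : s ∈ M)
    (hsx : s * x * s⁻¹ * x ≠ x * (s * x * s⁻¹)) : ¬ NMC G := by
  rintro ⟨𝓐, h𝓐⟩
  have := Fact.mk hp
  have hc : Nat.card (Subgroup.zpowers x) = p := by rw [Nat.card_zpowers, hx]
  let P : Sylow p G := (IsPGroup.of_card (n := 1) (by rw [hc, pow_one])).toSylow
    (P := Subgroup.zpowers x) fun h => h2 (by
      rw [← (Subgroup.zpowers x).card_mul_index, hc, sq]; exact Nat.mul_dvd_mul_left p h)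
  have hn : s ∉ Subgroup.normalizer (Subgroup.zpowers x : Set G) := fun h =>
    hsx (setLike_mul_comm (s := Subgroup.zpowers x)
      ((Subgroup.mem_normalizer_iff.1 h x).1 (Subgroup.mem_zpowers x)) (Subgroup.mem_zpowers x))
  refine hn (Cfsg.Agent.S3890.le_normalizer hZ 𝓐 h𝓐 P
    (inferInstanceAs (IsMulCommutative (Subgroup.zpowers x)))
    (fun h => hn (Subgroup.normalizer_eq_top_iff.2 h ▸ Subgroup.mem_top s))
    (fun h => h.2.ne' hc) M hM (fun g hg => hC g (hg x (Subgroup.mem_zpowers x)).symm) hs)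

theorem swap_mem {α : Type*} [Fintype α] [DecidableEq α] {a b c d : α} (h1 : a ≠ b) (h2 : c ≠ d) :
    swap a b * swap c d ∈ alternatingGroup α := by
  simp [mem_alternatingGroup, h1, h2]

theorem center_eq {G α : Type*} [Group G] [Fintype α] [DecidableEq α] (hα : 4 ≤ Fintype.card α)
    (f : G →* Perm α) (hf : Function.Injective f) (hA : alternatingGroup α ≤ f.range) :
    Subgroup.center G = ⊥ := by
  refine eq_bot_iff.2 fun z hz => Subgroup.mem_bot.2 (hf ?_)
  rw [map_one]
  ext a
  by_contra hb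
  rw [Perm.one_apply] at hb
  obtain ⟨c, d, hc, hd, hcd⟩ := Finset.one_lt_card_iff.1 (show 1 < ({a, f z a}ᶜ : Finset α).card by
    rw [Finset.card_compl]; have := Finset.card_le_two (a := a) (b := f z a); omega)
  simp only [Finset.mem_compl, Finset.mem_insert, Finset.mem_singleton, not_or] at hc hd
  obtain ⟨g, hg⟩ := hA (swap_mem (Ne.symm hc.2) (Ne.symm hd.2))
  have h1 := DFunLike.congr_fun (congrArg f (Subgroup.mem_center_iff.1 hz g)) a
  rw [map_mul, map_mul, hg] at h1
  simp only [Perm.mul_apply, swap_apply_left] at h1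
  rw [swap_apply_of_ne_of_ne hd.2 hcd.symm, swap_apply_of_ne_of_ne (Ne.symm hb) (Ne.symm hd.1),
    swap_apply_of_ne_of_ne (Ne.symm hb) (Ne.symm hc.1)] at h1
  exact hd.2 h1

theorem big {G α : Type*} [Group G] [Finite G] [Fintype α] [DecidableEq α]
    (hα : 6 ≤ Fintype.card α) (f : G →* Perm α) (hf : Function.Injective f)
    (hA : alternatingGroup α ≤ f.range) : ¬ NMC G := by
  obtain ⟨p, hp, h5, hpn, hnp⟩ : ∃ p : ℕ, p.Prime ∧ 5 ≤ p ∧ p < Fintype.card α ∧
      Fintype.card α < 2 * p := by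
    by_cases h : Fintype.card α < 10
    · exact ⟨5, Nat.prime_five, le_rfl, by omega, h⟩
    obtain ⟨p, hp, h1, h2⟩ := Nat.exists_prime_lt_and_le_two_mul (Fintype.card α / 2) (by omega)
    have := hp.eq_two_or_odd
    exact ⟨p, hp, by omega, by omega, by omega⟩
  obtain ⟨c, -, hc, hcs⟩ := Cfsg.Agent.S3878.exists_cycle (⊤ : Subgroup (Perm α)) hp (e := 1)
    (by simpa using hp.ne_one) one_ne_zero (by simpa using hpn.le)
  rw [pow_one] at hcs
  obtain ⟨x, rfl⟩ := hA (show c ∈ alternatingGroup α by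
    rw [mem_alternatingGroup, hc.sign, hcs, (hp.odd_of_ne_two (by omega)).neg_one_pow, neg_neg])
  obtain ⟨a, ha, -⟩ := id hc
  have hne : ∀ i j : ℕ, i < 5 → j < 5 → i ≠ j → (f x ^ i) a ≠ (f x ^ j) a := fun i j hi hj hij h =>
    hij (pow_injOn_Iio_orderOf (by rw [hc.orderOf, hcs]; exact lt_of_lt_of_le hi h5)
      (by rw [hc.orderOf, hcs]; exact lt_of_lt_of_le hj h5) (hc.pow_eq_pow_iff.2 ⟨a, ha, h⟩))
  have hm : ∀ i : ℕ, (f x ^ i) a ∈ (f x).support := fun i =>
    pow_apply_mem_support.2 (mem_support.2 ha)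
  obtain ⟨s, hs⟩ := hA (swap_mem (hne 2 3 (by omega) (by omega) (by omega))
    (hne 2 4 (by omega) (by omega) (by omega)))
  refine not_nmc (center_eq (by omega) f hf hA) hp (x := x)
    (by rw [← orderOf_injective f hf, hc.orderOf, hcs]) (fun h => ?_)
    ((MulAction.stabilizer (Perm α) (f x).support).comap f) (fun h => ?_) (fun g hg => ?_) (s := s)
    ?_ (fun h => ?_)
  · have h3 := h.trans (Subgroup.card_dvd_of_injective f hf)
    rw [Nat.card_perm, Nat.card_eq_fintype_card,
      hp.pow_dvd_factorial_iff (b := 2) (Nat.log_lt_of_lt_pow (by omega) (by nlinarith))] at h3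
    simp only [Nat.Ico_succ_singleton, Finset.sum_singleton, pow_one] at h3
    have := (Nat.le_div_iff_mul_le hp.pos).1 h3
    omega
  · obtain ⟨b, hb⟩ : ((f x).supportᶜ).Nonempty := Finset.card_pos.1 (by
      rw [Finset.card_compl]; omega)
    have hab : ∀ i : ℕ, (f x ^ i) a ≠ b := fun i e => Finset.mem_compl.1 hb (e ▸ hm i)
    obtain ⟨g, hg⟩ := hA (swap_mem (hab 0) (hne 1 2 (by omega) (by omega) (by omega)))
    have h1 : f g • (f x).support = (f x).support := (h ▸ Subgroup.mem_top g :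
      g ∈ (MulAction.stabilizer (Perm α) (f x).support).comap f)
    refine Finset.mem_compl.1 hb ?_
    rw [← h1]
    refine Finset.mem_smul_finset.2 ⟨_, hm 0, ?_⟩
    rw [hg, Perm.smul_def, Perm.mul_apply, swap_apply_of_ne_of_ne
      (hne 0 1 (by omega) (by omega) (by omega)) (hne 0 2 (by omega) (by omega) (by omega)),
      swap_apply_left]
  · have h1 : f g * f x * (f g)⁻¹ = f x := by rw [← map_mul, hg, map_mul, mul_inv_cancel_right]
    change f g • (f x).support = (f x).support
    conv_rhs => rw [← h1, support_conj]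
    ext y
    rw [Finset.mem_map_equiv, ← Finset.inv_smul_mem_iff]
    rfl
  · change f s • (f x).support = (f x).support
    rw [hs, mul_smul]
    have : ∀ i j : ℕ, swap ((f x ^ i) a) ((f x ^ j) a) • (f x).support = (f x).support :=
      fun i j => MulAction.mem_stabilizer_iff.1 (by
        rw [← MulAction.stabilizer_coe_finset]
        exact swap_mem_stabilizer.2 (iff_of_true (hm i) (hm j)))
    rw [this, this]
  · have h0 : f s a = a := by
      rw [hs, Perm.mul_apply]
      exact (congrArg _ (swap_apply_of_ne_of_ne (hne 0 2 (by omega) (by omega) (by omega))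
        (hne 0 4 (by omega) (by omega) (by omega)))).trans
        (swap_apply_of_ne_of_ne (hne 0 2 (by omega) (by omega) (by omega))
        (hne 0 3 (by omega) (by omega) (by omega)))
    have h1 : f s ((f x ^ 1) a) = (f x ^ 1) a := by
      rw [hs, Perm.mul_apply, swap_apply_of_ne_of_ne (hne 1 2 (by omega) (by omega) (by omega))
        (hne 1 4 (by omega) (by omega) (by omega)),
        swap_apply_of_ne_of_ne (hne 1 2 (by omega) (by omega) (by omega))
        (hne 1 3 (by omega) (by omega) (by omega))]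
    have h2 : f s ((f x ^ 2) a) = (f x ^ 4) a := by
      rw [hs, Perm.mul_apply, swap_apply_left,
        swap_apply_of_ne_of_ne (hne 4 2 (by omega) (by omega) (by omega))
        (hne 4 3 (by omega) (by omega) (by omega))]
    have h3 := DFunLike.congr_fun (congrArg f h) a
    rw [pow_one] at h1
    simp only [map_mul, map_inv, Perm.mul_apply] at h3
    rw [Perm.inv_eq_iff_eq.2 h0.symm, Perm.inv_eq_iff_eq.2 h1.symm, h1] at h3
    exact hne 4 2 (by omega) (by omega) (by omega) (h2.symm.trans h3)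


/-- A cover of a group is a finite set of proper subgroups whose union is the whole group; it is minimal when no cover has fewer members, and nilpotent when all its members are nilpotent. The alternating groups of degree at least 5 and the symmetric groups of degree at least 4 have no nilpotent minimal cover. -/
theorem result (n : ℕ) :
    (5 ≤ n → ¬ ∃ 𝓐 : Finset (Subgroup ↥(alternatingGroup (Fin n))), ((∀ A ∈ 𝓐, A ≠ ⊤) ∧ (∀ g : ↥(alternatingGroup (Fin n)), ∃ A ∈ 𝓐, g ∈ A)) ∧ (∀ 𝓑 : Finset (Subgroup ↥(alternatingGroup (Fin n))), (∀ A ∈ 𝓑, A ≠ ⊤) ∧ (∀ g : ↥(alternatingGroup (Fin n)), ∃ A ∈ 𝓑, g ∈ A) → 𝓐.card ≤ 𝓑.card) ∧ (∀ A ∈ 𝓐, Group.IsNilpotent ↥A)) ∧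
    (4 ≤ n → ¬ ∃ 𝓐 : Finset (Subgroup (Equiv.Perm (Fin n))), ((∀ A ∈ 𝓐, A ≠ ⊤) ∧ (∀ g : (Equiv.Perm (Fin n)), ∃ A ∈ 𝓐, g ∈ A)) ∧ (∀ 𝓑 : Finset (Subgroup (Equiv.Perm (Fin n))), (∀ A ∈ 𝓑, A ≠ ⊤) ∧ (∀ g : (Equiv.Perm (Fin n)), ∃ A ∈ 𝓑, g ∈ A) → 𝓐.card ≤ 𝓑.card) ∧ (∀ A ∈ 𝓐, Group.IsNilpotent ↥A)) := by
  refine ⟨fun hn => ?_, fun hn => ?_⟩
  · by_cases h6 : 6 ≤ n
    · exact big (by simpa using h6) (alternatingGroup (Fin n)).subtype Subtype.val_injective (by simp)
    obtain rfl : n = 5 := by omega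
    refine not_nmc (center_eq (by simp) (alternatingGroup (Fin 5)).subtype Subtype.val_injective
      (by simp)) Nat.prime_three (x := ⟨swap 0 1 * swap 0 2, swap_mem (by decide) (by decide)⟩)
      (orderOf_eq_prime (Subtype.ext (by decide)) (fun h => absurd (congrArg Subtype.val h) (by decide)))
      (by rw [nat_card_alternatingGroup]; simp [Nat.factorial]) (MulAction.stabilizer _ (4 : Fin 5))
      (fun h => ?_) (fun g hg => ?_) (s := ⟨swap 0 1 * swap 0 3, swap_mem (by decide) (by decide)⟩)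
      (by decide) (fun h => absurd (congrArg Subtype.val h) (by decide))
    · have : (⟨swap 0 4 * swap 0 3, swap_mem (by decide) (by decide)⟩ : alternatingGroup (Fin 5)) ∈
        MulAction.stabilizer _ (4 : Fin 5) := h ▸ Subgroup.mem_top _
      exact absurd this (by decide)
    · have : ∀ g : Perm (Fin 5), g * (swap 0 1 * swap 0 2) = (swap 0 1 * swap 0 2) * g →
        sign g = 1 → g 4 = 4 := by decide +kernel
      exact this g (congrArg Subtype.val hg) g.2
  · by_cases h6 : 6 ≤ n
    · exact big (by simpa using h6) (MonoidHom.id _) Function.injective_id (fun g _ => ⟨g, rfl⟩)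
    have : Fact (Nat.Prime 5) := ⟨Nat.prime_five⟩
    rcases (show n = 4 ∨ n = 5 by omega) with rfl | rfl
    · refine not_nmc (center_eq (by simp) (MonoidHom.id _) Function.injective_id (fun g _ => ⟨g, rfl⟩))
        Nat.prime_three (x := swap 0 1 * swap 0 2) (orderOf_eq_prime (by decide) (by decide))
        (by rw [Nat.card_perm]; simp [Nat.factorial]) (alternatingGroup _) (fun h => ?_)
        (by simp only [mem_alternatingGroup]; decide +kernel) (s := swap 0 1 * swap 0 3)
        (swap_mem (by decide) (by decide)) (by decide)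
      exact absurd (h ▸ Subgroup.mem_top (swap 0 1) : swap 0 1 ∈ alternatingGroup (Fin 4))
        (by simp [mem_alternatingGroup])
    · refine not_nmc (center_eq (by simp) (MonoidHom.id _) Function.injective_id (fun g _ => ⟨g, rfl⟩))
        Nat.prime_five (x := finRotate 5) (orderOf_eq_prime (by decide) (by decide))
        (by rw [Nat.card_perm]; simp [Nat.factorial]) (alternatingGroup _) (fun h => ?_)
        (by simp only [mem_alternatingGroup]; decide +kernel) (s := swap 0 1 * swap 0 3)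
        (swap_mem (by decide) (by decide)) (by decide)
      exact absurd (h ▸ Subgroup.mem_top (swap 0 1) : swap 0 1 ∈ alternatingGroup (Fin 5))
        (by simp [mem_alternatingGroup])
end Cfsg.Agent.S3892
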