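import Cfsg.Statements.S3893
import Mathlib
import Cfsg.Agent.CHEV.SzCount
import Cfsg.Agent.CHEV.SzAction

set_option autoImplicit false
open Cfsg

namespace Cfsg.Agent.S3893

theorem exists_central {G : Type*} [Group G] {A : Subgroup G} (hA : Group.IsNilpotent A) {x : G}
    (hx : x ∈ A) (h1 : x ≠ 1) : ∃ z ∈ A, z ≠ 1 ∧ ∀ a ∈ A, a * z = z * a := by
  have : Nontrivial A := ⟨⟨⟨x, hx⟩, 1, fun h => h1 (congrArg Subtype.val h)⟩⟩
  have hne : Subgroup.center A ≠ ⊥ := by
    intro h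
    have h2 : ∀ n, Subgroup.upperCentralSeries A n = ⊥ := by
      intro n
      induction n with
      | zero => rfl
      | succ n ih =>
        rw [eq_bot_iff, ← h]
        intro a ha
        rw [Subgroup.mem_upperCentralSeries_succ_iff, ih] at ha
        rw [Subgroup.mem_center_iff]
        intro b
        have := ha b
        rw [Subgroup.mem_bot, commutatorElement_def] at this
        calc b * a = (a * b * a⁻¹ * b⁻¹) * (b * a) := by rw [this, one_mul]
          _ = a * b := by group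
    obtain ⟨n, hn⟩ := hA.nilpotent
    rw [h2] at hn
    exact bot_ne_top hn
  obtain ⟨⟨z, hz⟩, hz1⟩ := Subgroup.ne_bot_iff_exists_ne_one.mp hne
  refine ⟨z, z.2, fun h => hz1 (Subtype.ext (Subtype.ext h)), fun a ha => ?_⟩
  exact congrArg Subtype.val (Subgroup.mem_center_iff.mp hz ⟨a, ha⟩)

open CL.Sz in
theorem le_U {F : Type*} [Field F] [CharP F 2] {θ : F →+* F} {G : Type*} [Group G]
    (M : Model θ G) {A : Subgroup G} (hA : Group.IsNilpotent A) {x : G}
    (hx : x ∈ A) (h1 : x ≠ 1) (hU : x ∈ M.U) : A ≤ M.U := by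
  obtain ⟨z, hz, hz1, hc⟩ := exists_central hA hx h1
  exact fun a ha => M.mem_U_of_commute (M.mem_U_of_commute hU h1 (hc x hx).symm) hz1 (hc a ha)

open CL.Sz in
theorem le_H {F : Type*} [Field F] [CharP F 2] {θ : F →+* F} {G : Type*} [Group G]
    (M : Model θ G) {A : Subgroup G} (hA : Group.IsNilpotent A) {x : G}
    (hx : x ∈ A) (h1 : x ≠ 1) (hU : x ∈ M.H) : A ≤ M.H := by
  obtain ⟨z, hz, hz1, hc⟩ := exists_central hA hx h1
  exact fun a ha => M.mem_H_of_commute (M.mem_H_of_commute hU h1 (hc x hx).symm) hz1 (hc a ha)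

/-- A cover of a group is a finite set of proper subgroups whose union is the whole group; it is minimal when no cover has fewer members, and nilpotent when all its members are nilpotent. The Suzuki groups Sz(q), q = 2^(2m+1) with m ≥ 1, have no nilpotent minimal cover. -/
theorem result {F : Type*} [Field F] [Fintype F] (m : ℕ) (hm : 1 ≤ m) (hF : Fintype.card F = 2 ^ (2 * m + 1)) :
    ¬ ∃ 𝓐 : Finset (Subgroup ↥(Cfsg.Lie.Sz F (2 ^ (m + 1)))), ((∀ A ∈ 𝓐, A ≠ ⊤) ∧ (∀ g : ↥(Cfsg.Lie.Sz F (2 ^ (m + 1))), ∃ A ∈ 𝓐, g ∈ A)) ∧ (∀ 𝓑 : Finset (Subgroup ↥(Cfsg.Lie.Sz F (2 ^ (m + 1)))), (∀ A ∈ 𝓑, A ≠ ⊤) ∧ (∀ g : ↥(Cfsg.Lie.Sz F (2 ^ (m + 1))), ∃ A ∈ 𝓑, g ∈ A) → 𝓐.card ≤ 𝓑.card) ∧ (∀ A ∈ 𝓐, Group.IsNilpotent ↥A) := by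
  classical
  have := CL.Sz.charP_two hF
  set M := CL.Sz.lieModel hF
  have := M.finite_G
  have : Fintype M.Ω := Fintype.ofFinite _
  obtain ⟨t, ht0, ht1⟩ := CL.Sz.exists_ne_zero_one hm hF
  rintro ⟨𝓐, ⟨hp, hc⟩, hmin, hnil⟩
  let fx : Subgroup ↥(Cfsg.Lie.Sz F (2 ^ (m + 1))) → Prop := fun A =>
    ∃ ω : M.Ω, A ≤ MulAction.stabilizer _ ω
  have h1 := hmin (𝓐.filter (fun A => ¬ fx A) ∪
    Finset.univ.image (fun ω : M.Ω => MulAction.stabilizer _ ω)) ⟨?_, ?_⟩
  · have h2 := Finset.card_filter_add_card_filter_not (s := 𝓐) fx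
    have h3 : (𝓐.filter fx).card ≤ Fintype.card M.Ω := by
      have := h1.trans (Finset.card_union_le _ _)
      have h4 := Finset.card_image_le (s := Finset.univ)
        (f := fun ω : M.Ω => MulAction.stabilizer ↥(Cfsg.Lie.Sz F (2 ^ (m + 1))) ω)
      rw [Finset.card_univ] at h4
      omega
    choose k hk using M.exists_smul_eq_inf
    choose A hA using hc
    let x : Option M.Ω → ↥(Cfsg.Lie.Sz F (2 ^ (m + 1))) := fun o =>
      o.elim (M.h (Units.mk0 t ht0)) fun ω => (k ω)⁻¹ * M.u 0 1 * k ω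
    have hu1 : M.u 0 1 ≠ 1 := fun h => one_ne_zero (M.u_eq_one_iff.mp h).2
    have hx1 : ∀ o, x o ≠ 1 := by
      rintro (_ | ω)
      · exact M.h_ne_one ht0 ht1
      · exact CL.Sz.inv_conj_ne_one _ hu1
    have hxU : ∀ ω, A (x (some ω)) ≤ (M.conj (k ω)⁻¹).U := fun ω =>
      le_U _ (hnil _ (hA _).1) (hA _).2 (hx1 _) (by
        rw [M.mem_conj_U]; simpa [x, mul_assoc] using M.u_mem_U 0 1)
    have hUst : ∀ ω, (M.conj (k ω)⁻¹).U ≤ MulAction.stabilizer _ ω := by
      intro ω g hg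
      have := (M.mem_conj_B_iff_smul _ _).mp ((M.conj (k ω)⁻¹).U_le_B hg)
      rwa [← hk ω, inv_smul_smul] at this
    have hxH : A (x none) ≤ M.H := le_H _ (hnil _ (hA _).1) (hA _).2 (hx1 _) (M.h_mem_H _)
    have hne : ∀ ω, A (x none) ≠ A (x (some ω)) := by
      intro ω h
      have h4 := (M.conj (k ω)⁻¹).pow_four_of_mem_U (hxU ω (h ▸ (hA _).2))
      exact hx1 none (CL.Sz.Model.eq_one_of_pow_coprime
        (CL.Sz.Model.coprime_four_sub_one (F := F)) h4 (M.pow_of_mem_H (M.h_mem_H _)))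
    have h5 : (Finset.univ : Finset (Option M.Ω)).card ≤ (𝓐.filter fx).card := by
      refine Finset.card_le_card_of_injOn (fun o => A (x o)) ?_ ?_
      · rintro (_ | ω) -
        · simp only [Finset.coe_filter, Set.mem_setOf_eq]
          exact ⟨(hA _).1, M.inf, by rw [M.stabilizer_inf]; exact hxH.trans M.H_le_B⟩
        · simp only [Finset.coe_filter, Set.mem_setOf_eq]
          exact ⟨(hA _).1, ω, (hxU ω).trans (hUst ω)⟩
      · rintro (_ | ω) - (_ | ω') - h
        · rfl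
        · exact absurd h (hne _)
        · exact absurd h.symm (hne _)
        · have h6 : x (some ω) • ω' = ω' := hUst ω' (hxU ω' (by
            have := (hA (x (some ω))).2
            simp only at h
            rwa [h] at this))
          have h7 : M.u 0 1 • k ω • ω' = k ω • ω' := by
            simp only [x, Option.elim, mul_smul, inv_smul_eq_iff] at h6
            exact h6
          have := M.eq_inf_of_mem_U (M.u_mem_U 0 1) hu1 h7
          rw [← hk ω] at this
          rw [smul_left_cancel _ this]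
    rw [Finset.card_univ, Fintype.card_option] at h5
    omega
  · intro A hA
    rcases Finset.mem_union.mp hA with h | h
    · exact hp A (Finset.mem_filter.mp h).1
    · obtain ⟨ω, -, rfl⟩ := Finset.mem_image.mp h
      intro htop
      obtain ⟨k, hk⟩ := M.exists_smul_eq_inf ω
      have h1 : (k⁻¹ * M.w * k) • ω = ω := by
        rw [← MulAction.mem_stabilizer_iff, htop]; trivial
      rw [mul_smul, mul_smul, inv_smul_eq_iff, hk, M.smul_inf_eq_inf] at h1
      exact M.w_not_mem_B h1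
  · intro g
    by_cases hg : M.FPF g
    · obtain ⟨A, hA, hgA⟩ := hc g
      refine ⟨A, Finset.mem_union_left _ (Finset.mem_filter.mpr ⟨hA, ?_⟩), hgA⟩
      rintro ⟨ω, hω⟩
      exact hg ω (hω hgA)
    · simp only [CL.Sz.Model.FPF, not_forall, not_not] at hg
      obtain ⟨ω, hω⟩ := hg
      exact ⟨_, Finset.mem_union_right _ (Finset.mem_image.mpr ⟨ω, Finset.mem_univ _, rfl⟩), hω⟩

end Cfsg.Agent.S3893
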