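import Cfsg.Statements.S3894
import Cfsg.Agent.CLAS.DicksonSub
import Cfsg.Agent.KSG.GLnJordan
import Cfsg.Agent.KSG.GLnTori
import Cfsg.Agent.FGS.NilpBasic
import Cfsg.Agent.CLAS.PGL2Octa
import Cfsg.Agent.CLAS.SL2Lift

set_option autoImplicit false
open Cfsg

namespace Cfsg.Agent.S3894

open Subgroup MulAction Matrix CL.PGL2 CL.Dk
open scoped MatrixGroups LinearAlgebra.Projectivization

section Abstract

variable {H Ω : Type*} [Group H] [Finite H] [MulAction H Ω] [Finite Ω] {p : ℕ} [hp : Fact p.Prime]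

theorem exists_pPart {A : Subgroup H} (hA : Group.IsNilpotent A) : ∃ P : Subgroup H,
    IsPGroup p P ∧ (∀ x ∈ A, ∀ k, x ^ p ^ k = 1 → x ∈ P) ∧ ∀ a ∈ A, ∀ x ∈ P, a * x * a⁻¹ ∈ P := by
  obtain ⟨Q⟩ : Nonempty (Sylow p A) := inferInstance
  have hQ : (Q : Subgroup A).Normal := inferInstance
  refine ⟨(Q : Subgroup A).map A.subtype, Q.isPGroup'.map _, fun x hx k hk => ?_, ?_⟩
  · obtain ⟨j, -, hj⟩ := (Nat.dvd_prime_pow hp.out).1 (orderOf_dvd_of_pow_eq_one hk)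
    obtain ⟨R, hR⟩ := (IsPGroup.of_card (G := zpowers (⟨x, hx⟩ : A)) (n := j)
      (by rw [Nat.card_zpowers, orderOf_mk, hj])).exists_le_sylow
    have := Sylow.unique_of_normal Q hQ
    exact ⟨⟨x, hx⟩, Subsingleton.elim R Q ▸ hR (mem_zpowers _), rfl⟩
  · rintro a ha _ ⟨x, hx, rfl⟩
    exact ⟨_, hQ.conj_mem x hx ⟨a, ha⟩, rfl⟩

omit [Finite Ω] in
theorem uniq_fix (hΩ : ¬ p ∣ Nat.card Ω) {A : Subgroup H} (hA : Group.IsNilpotent A) {x : H}
    (hx : x ∈ A) {k : ℕ} (hk : x ^ p ^ k = 1) {ω : Ω} (h : ∀ z, x • z = z → z = ω) :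
    A ≤ stabilizer H ω := fun a ha => by
  obtain ⟨P, h1, h2, h3⟩ := exists_pPart (p := p) hA
  obtain ⟨z, hz⟩ := h1.nonempty_fixed_point_of_prime_not_dvd_card Ω hΩ
  obtain rfl := h z (hz ⟨x, h2 x hx k hk⟩)
  refine h _ ?_
  have := hz ⟨_, h3 _ (inv_mem ha) x (h2 x hx k hk)⟩
  rw [mk_smul, inv_inv, mul_smul, mul_smul, inv_smul_eq_iff] at this
  exact this

theorem two_fix (hp2 : p ≠ 2) (hΩ : Nat.card Ω ≡ 2 [MOD p]) {A : Subgroup H}
    (hA : Group.IsNilpotent A) {x : H} (hx : x ∈ A) {k : ℕ} (hk : x ^ p ^ k = 1) {ω ω' : Ω}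
    (h : ∀ z, x • z = z → z = ω ∨ z = ω') {a : H} (ha : a ∈ A) : a • ω = ω ∨ a • ω = ω' := by
  obtain ⟨P, h1, h2, h3⟩ := exists_pPart (p := p) hA
  have hz : ω ∈ fixedPoints P Ω := by
    by_contra hz
    have h4 : Nat.card (fixedPoints P Ω) ≤ 1 := by
      rw [Finite.card_le_one_iff_subsingleton]
      have : ∀ z : fixedPoints P Ω, (z : Ω) = ω' := fun z =>
        (h z (z.2 ⟨x, h2 x hx k hk⟩)).resolve_left fun e => hz (e ▸ z.2)
      exact ⟨fun a b => Subtype.ext ((this a).trans (this b).symm)⟩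
    have h5 := ((h1.card_modEq_card_fixedPoints Ω).symm.trans hΩ).eq_of_lt_of_lt
      (h4.trans_lt hp.out.one_lt) (lt_of_le_of_ne hp.out.two_le hp2.symm)
    omega
  refine h _ ?_
  have := hz ⟨_, h3 _ (inv_mem ha) x (h2 x hx k hk)⟩
  rw [mk_smul, inv_inv, mul_smul, mul_smul, inv_smul_eq_iff] at this
  exact this

omit [Finite H] in
theorem pair_top {𝓐 : Finset (Subgroup H)} (h1 : ∀ A ∈ 𝓐, A ≠ ⊤) (h2 : ∀ g, ∃ A ∈ 𝓐, g ∈ A)
    (h3 : ∀ 𝓑 : Finset (Subgroup H), (∀ A ∈ 𝓑, A ≠ ⊤) ∧ (∀ g, ∃ A ∈ 𝓑, g ∈ A) → 𝓐.card ≤ 𝓑.card)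
    {A B C : Subgroup H} (hA : A ∈ 𝓐) (hB : B ∈ 𝓐) (hAB : A ≠ B) (hAC : A ≤ C) (hBC : B ≤ C)
    (hC : C ≠ ⊤) : False := by
  classical
  have h4 := h3 (insert C ((𝓐.erase A).erase B)) ⟨fun D hD => ?_, fun g => ?_⟩
  · have h5 := Finset.card_insert_le C ((𝓐.erase A).erase B)
    have hB' : B ∈ 𝓐.erase A := Finset.mem_erase.2 ⟨hAB.symm, hB⟩
    have h6 := Finset.card_erase_add_one hB'
    have h7 := Finset.card_erase_add_one hA
    omega
  · rcases Finset.mem_insert.1 hD with rfl | hD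
    · exact hC
    · exact h1 D (Finset.mem_of_mem_erase (Finset.mem_of_mem_erase hD))
  · obtain ⟨D, hD, hg⟩ := h2 g
    by_cases e1 : D = A
    · exact ⟨C, Finset.mem_insert_self _ _, hAC (e1 ▸ hg)⟩
    by_cases e2 : D = B
    · exact ⟨C, Finset.mem_insert_self _ _, hBC (e2 ▸ hg)⟩
    exact ⟨D, by simp [e1, e2, hD], hg⟩

end Abstract

section Big

variable {F : Type*} [Field F] {m : ℕ}

/-- the shift matrix. -/
def sh (F : Type*) [Field F] (m : ℕ) : Matrix (Fin m) (Fin m) F :=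
  of fun i j => if i.val + 1 = j.val then 1 else 0

theorem sh_pow (k : ℕ) (i j : Fin m) (h : j.val < i.val + k) : (sh F m ^ k) i j = 0 := by
  induction k generalizing j with
  | zero => rw [pow_zero, one_apply_ne]; rintro rfl; omega
  | succ k ih =>
    rw [pow_succ, mul_apply]
    refine Finset.sum_eq_zero fun l _ => ?_
    by_cases e : l.val + 1 = j.val
    · rw [ih l (by omega), zero_mul]
    · simp [sh, e]

theorem sh_nil : IsNilpotent (sh F m) := ⟨m, by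
  ext i j; exact sh_pow m i j (by omega)⟩

theorem sh_ker {v : Fin (m + 1) → F} (h : sh F (m + 1) *ᵥ v = 0) (i : Fin (m + 1)) (hi : i ≠ 0) :
    v i = 0 := by
  obtain ⟨j, rfl⟩ := Fin.exists_succ_eq.2 hi
  have := congrFun h j.castSucc
  rw [mulVec, dotProduct, Finset.sum_eq_single j.succ] at this
  · simpa [sh] using this
  · intro l _ hl
    have : ¬ (j.val + 1 = l.val) := fun e => hl (Fin.ext (by simp [e]))
    simp [sh, this]
  · simp

/-- the unipotent element `1 + N`. -/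
noncomputable def uni {N : Matrix (Fin m) (Fin m) F} (h : IsNilpotent N) : SL(m, F) :=
  ⟨1 + N, CL.GLn.det_eq_one_of_isNilpotent_sub_one (by simpa using h)⟩

theorem uni_pow (p : ℕ) [hp : Fact p.Prime] [CharP F p] {N : Matrix (Fin (m + 1)) (Fin (m + 1)) F}
    (h : IsNilpotent N) : ∃ k, uni h ^ p ^ k = 1 := by
  obtain ⟨k, hk⟩ := id h
  refine ⟨k, Subtype.ext ((Matrix.SpecialLinearGroup.coe_pow (uni h) _).trans ?_)⟩
  change (1 + N) ^ p ^ k = 1
  rw [add_pow_char_pow_of_commute _ _ (Commute.one_left N), one_pow,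
    pow_eq_zero_of_le (Nat.lt_pow_self hp.out.one_lt).le hk, add_zero]

/-- the base point. -/
noncomputable def pt0 (F : Type*) [Field F] (m : ℕ) : ℙ F (Fin (m + 1) → F) :=
  Projectivization.mk F (Pi.single 0 1) (by simp)

theorem uni_fix {N : Matrix (Fin (m + 1)) (Fin (m + 1)) F} (h : IsNilpotent N)
    (hN : ∀ v, N *ᵥ v = 0 → ∀ i, i ≠ 0 → v i = 0) (z : ℙ F (Fin (m + 1) → F))
    (hz : ProjGenLinGroup.mk (SpecialLinearGroup.toGL (uni h)) • z = z) : z = pt0 F m := by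
  induction z using Projectivization.ind with | _ v hv =>
  rw [Projectivization.PGL.mk_smul_mk, Projectivization.mk_eq_mk_iff'] at hz
  obtain ⟨c, hc⟩ := hz
  change c • v = (1 + N) *ᵥ v at hc
  have h1 : N *ᵥ v = (c - 1) • v := by rw [sub_smul, hc, add_mulVec]; simp
  have h2 : ∀ k, N ^ k *ᵥ v = (c - 1) ^ k • v := fun k => by
    induction k with
    | zero => simp
    | succ k ih => rw [pow_succ, ← mulVec_mulVec, h1, mulVec_smul, ih, smul_smul, pow_succ']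
  obtain ⟨k, hk⟩ := h
  have h3 := h2 k
  rw [hk, zero_mulVec, eq_comm, smul_eq_zero, or_iff_left hv] at h3
  rw [eq_zero_of_pow_eq_zero h3, zero_smul] at h1
  rw [pt0, Projectivization.mk_eq_mk_iff']
  refine ⟨v 0, funext fun i => ?_⟩
  by_cases hi : i = 0
  · simp [hi]
  · simp [hi, hN v h1 i hi]

theorem trace_sh : trace (sh F (m + 3) * (sh F (m + 3)).submatrix (Equiv.swap 1 2)
    (Equiv.swap 1 2)) = 1 := by
  have key : ∀ i j : Fin (m + 3), i.val + 1 = j.val →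
      (Equiv.swap 1 2 j).val + 1 = (Equiv.swap 1 2 i).val → i = 1 ∧ j = 2 := fun i j h1 h2 => by
    have e1 : ((1 : Fin (m + 3)) : ℕ) = 1 := rfl
    have e2 : ((2 : Fin (m + 3)) : ℕ) = 2 := rfl
    simp only [Equiv.swap_apply_def, Fin.ext_iff, e1, e2] at h2 ⊢
    split_ifs at h2 <;> (try simp only [e1, e2] at h2) <;> omega
  have key' : ∀ i j : Fin (m + 3), ¬ (i = 1 ∧ j = 2) → sh F (m + 3) i j *
      (sh F (m + 3)).submatrix (Equiv.swap 1 2) (Equiv.swap 1 2) j i = 0 := fun i j h => by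
    simp only [sh, submatrix_apply, of_apply]
    split_ifs with h1 h2
    · exact absurd (key i j h1 h2) h
    all_goals simp
  simp only [trace, diag_apply, Matrix.mul_apply]
  rw [Finset.sum_eq_single 1 (fun i _ hi => Finset.sum_eq_zero fun j _ => key' i j (by tauto))
    (by simp), Finset.sum_eq_single 2 (fun j _ hj => key' 1 j (by tauto)) (by simp)]
  have e : (1 : Fin (m + 3)).val + 1 = (2 : Fin (m + 3)).val := rfl
  simp only [sh, submatrix_apply, of_apply, Equiv.swap_apply_left, Equiv.swap_apply_right, e,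
    if_true, mul_one]

theorem big [Finite F] (G : Subgroup (ProjGenLinGroup (Fin (m + 3)) F))
    (hG : ∀ g : SL(m + 3, F), ProjGenLinGroup.mk (SpecialLinearGroup.toGL g) ∈ G)
    {𝓐 : Finset (Subgroup G)} (h1 : ∀ A ∈ 𝓐, A ≠ ⊤) (h2 : ∀ g, ∃ A ∈ 𝓐, g ∈ A)
    (h3 : ∀ 𝓑 : Finset (Subgroup G), (∀ A ∈ 𝓑, A ≠ ⊤) ∧ (∀ g, ∃ A ∈ 𝓑, g ∈ A) → 𝓐.card ≤ 𝓑.card)
    (h4 : ∀ A ∈ 𝓐, Group.IsNilpotent A) : False := by
  have := Fintype.ofFinite F
  obtain ⟨p, _⟩ := CharP.exists F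
  obtain ⟨f, hp, hf⟩ := FiniteField.card F p
  have := Fact.mk hp
  have : Finite (ProjGenLinGroup (Fin (m + 3)) F) :=
    Finite.of_surjective _ ProjGenLinGroup.mk_surjective
  let φ : SL(m + 3, F) →* G := (ProjGenLinGroup.mk.comp SpecialLinearGroup.toGL).codRestrict G hG
  have hΩ : ¬ p ∣ Nat.card (ℙ F (Fin (m + 3) → F)) := by
    rw [Projectivization.card_of_finrank F _ (n := m + 3) (by simp), Finset.sum_range_succ',
      pow_zero, Nat.dvd_add_right (Finset.dvd_sum fun i _ => Dvd.dvd.pow (by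
        rw [Nat.card_eq_fintype_card, hf]; exact dvd_pow_self p f.ne_zero) (by omega)), Nat.dvd_one]
    exact hp.ne_one
  let σ : Equiv.Perm (Fin (m + 3)) := Equiv.swap 1 2
  have hN := sh_nil (F := F) (m := m + 3)
  have hM : IsNilpotent ((sh F (m + 3)).submatrix σ σ) := hN.map (reindexAlgEquiv F F σ.symm)
  have hσ0 : σ 0 = 0 := Equiv.swap_apply_of_ne_of_ne (by simp)
    (Fin.ne_of_val_ne (show 0 ≠ 2 by omega))
  have hM' : ∀ v, (sh F (m + 3)).submatrix σ σ *ᵥ v = 0 → ∀ i, i ≠ 0 → v i = 0 := fun v hv i hi => by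
    rw [submatrix_mulVec_equiv] at hv
    have := sh_ker (v := v ∘ σ.symm) (by
      ext j; simpa using congrFun hv (σ.symm j)) (σ i) (fun e => hi (σ.injective (e.trans hσ0.symm)))
    simpa using this
  obtain ⟨k, hk⟩ := uni_pow p hN
  obtain ⟨l, hl⟩ := uni_pow p hM
  obtain ⟨A, hA, hx⟩ := h2 (φ (uni hN))
  obtain ⟨B, hB, hy⟩ := h2 (φ (uni hM))
  have hk' : φ (uni hN) ^ p ^ k = 1 := by rw [← map_pow, hk, map_one]
  have hl' : φ (uni hM) ^ p ^ l = 1 := by rw [← map_pow, hl, map_one]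
  refine pair_top h1 h2 h3 hA hB ?_
    (uniq_fix hΩ (h4 A hA) hx hk' (uni_fix hN fun v => sh_ker))
    (uniq_fix hΩ (h4 B hB) hy hl' (uni_fix hM hM')) fun e => ?_
  · rintro rfl
    obtain ⟨P, e1, e2, -⟩ := exists_pPart (p := p) (h4 A hA)
    obtain ⟨j, hj⟩ := e1 ⟨_, mul_mem (e2 _ hx k hk') (e2 _ hy l hl')⟩
    have e3 : ProjGenLinGroup.mk (SpecialLinearGroup.toGL ((uni hN * uni hM) ^ p ^ j)) = 1 := by
      have := congrArg (fun g : P => ((g : G) : (ProjGenLinGroup (Fin (m + 3)) F))) hj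
      simpa [φ] using this
    rw [ProjGenLinGroup.mk_eq_one, GeneralLinearGroup.mem_center_iff_val_mem_range_scalar] at e3
    obtain ⟨c, hc⟩ := e3
    change _ = (((1 + sh F (m + 3)) * (1 + (sh F (m + 3)).submatrix σ σ)) ^ p ^ j :
      Matrix _ _ F) at hc
    generalize hX : (1 + sh F (m + 3)) * (1 + (sh F (m + 3)).submatrix σ σ) = X at hc
    have e4 : X *ᵥ Pi.single 0 1 = Pi.single 0 1 := by
      have a1 : sh F (m + 3) *ᵥ Pi.single 0 1 = 0 := by ext i; simp [sh]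
      have a2 : (sh F (m + 3)).submatrix σ σ *ᵥ Pi.single 0 1 = 0 := by ext i; simp [sh, hσ0]
      rw [← hX, ← mulVec_mulVec, add_mulVec 1 (submatrix _ _ _), a2, add_zero, one_mulVec,
        add_mulVec, one_mulVec, a1, add_zero]
    have e5 : ∀ r, X ^ r *ᵥ Pi.single 0 1 = Pi.single 0 1 := fun r => by
      induction r with
      | zero => rw [pow_zero, one_mulVec]
      | succ r ih => rw [pow_succ, ← mulVec_mulVec, e4, ih]
    have e6 : c = 1 := by simpa [← hc] using congrFun (e5 (p ^ j)) 0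
    have e7 : IsNilpotent (X - 1) := ⟨p ^ j, by
      rw [sub_pow_char_pow_of_commute _ _ (Commute.one_right X), ← hc, e6]; simp⟩
    have e8 := (isNilpotent_trace_of_isNilpotent e7).eq_zero
    rw [← hX, show ∀ N M : Matrix (Fin (m + 3)) (Fin (m + 3)) F,
      (1 + N) * (1 + M) - 1 = N + M + N * M from fun N M => by noncomm_ring, trace_add, trace_add,
      (isNilpotent_trace_of_isNilpotent hN).eq_zero, (isNilpotent_trace_of_isNilpotent hM).eq_zero,
      trace_sh] at e8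
    simp at e8
  · obtain ⟨g, hg⟩ := exists_smul_eq SL(m + 3, F) (pt0 F (m + 2))
      (Projectivization.mk F (Pi.single 1 1) (by simp))
    have e1 : φ g • pt0 F (m + 2) = pt0 F (m + 2) := (e ▸ mem_top (φ g) : φ g ∈ stabilizer G _)
    have e2 : φ g • pt0 F (m + 2) = g • pt0 F (m + 2) := rfl
    rw [e2, hg, pt0, Projectivization.mk_eq_mk_iff'] at e1
    obtain ⟨c, hc⟩ := e1
    simpa using congrFun hc 1

end Big

theorem small {F : Type*} [Field F] [Finite F] (hq : 4 ≤ Nat.card F) (G : Subgroup PGL(2, F))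
    (hG : pslIn F ≤ G)
    {𝓐 : Finset (Subgroup G)} (h1 : ∀ A ∈ 𝓐, A ≠ ⊤) (h2 : ∀ g, ∃ A ∈ 𝓐, g ∈ A)
    (h3 : ∀ 𝓑 : Finset (Subgroup G), (∀ A ∈ 𝓑, A ≠ ⊤) ∧ (∀ g, ∃ A ∈ 𝓑, g ∈ A) → 𝓐.card ≤ 𝓑.card)
    (h4 : ∀ A ∈ 𝓐, Group.IsNilpotent A) : False := by
  classical
  have := Fintype.ofFinite F
  obtain ⟨p, _⟩ := CharP.exists F
  obtain ⟨f, hp, hf⟩ := FiniteField.card F p
  have := Fact.mk hp
  have : Finite PGL(2, F) := Finite.of_surjective _ ProjGenLinGroup.mk_surjective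
  have hpq : p ∣ Nat.card F := by
    rw [Nat.card_eq_fintype_card, hf]; exact dvd_pow_self p f.ne_zero
  have hc : Nat.card (P1 F) = Nat.card F + 1 := Projectivization.card_of_finrank_two F _ (by simp)
  have hΩ : ¬ p ∣ Nat.card (P1 F) := by
    rw [hc, Nat.dvd_add_right hpq, Nat.dvd_one]; exact hp.ne_one
  have hst : ∀ ω : P1 F, stabilizer G ω ≠ ⊤ := fun ω e => not_pslIn_le_stabilizer ω fun g hg =>
    (e ▸ mem_top (⟨g, hG hg⟩ : G) : (⟨g, hG hg⟩ : G) ∈ stabilizer G ω)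
  have hu : ∀ ω : P1 F, ∃ u : G, u ≠ 1 ∧ (u : PGL(2, F)) ∈ unipAt ω ∧
      ∃ A ∈ 𝓐, u ∈ A ∧ A ≤ stabilizer G ω := fun ω => by
    obtain ⟨h, rfl⟩ := exists_smul_inf ω
    have e1 : h * aff 1 1 * h⁻¹ ∈ unipAt (h • inf) :=
      mem_unipAt_smul.2 (mem_unipAt_inf.2 ⟨1, by group⟩)
    have e2 : h * aff 1 (1 : F) * h⁻¹ ≠ 1 := by
      rw [Ne, mul_inv_eq_one, mul_eq_left, ← aff_one_zero, aff_inj]; simp
    obtain ⟨A, hA, hx⟩ := h2 ⟨_, hG (unipAt_le_pslIn _ e1)⟩
    refine ⟨⟨_, hG (unipAt_le_pslIn _ e1)⟩, fun e => e2 (congrArg Subtype.val e), e1, A, hA, hx,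
      uniq_fix hΩ (h4 A hA) hx (k := 1) (Subtype.ext ?_) fun z hz => (e1.2 z hz).resolve_right e2⟩
    simpa using pow_char_eq_one_of_mem_unipAt p e1
  choose u hu1 hu2 U hU1 hU2 hU3 using hu
  have huo : ∀ ω, orderOf (u ω) = p := fun ω =>
    orderOf_eq_prime (Subtype.ext (by simpa using pow_char_eq_one_of_mem_unipAt p (hu2 ω))) (hu1 ω)
  have hfix : ∀ a : Fˣ, a ≠ 1 → ∀ z : P1 F, aff a 0 • z = z → z = inf ∨ z = pt 0 := fun a ha z hz => by
    rcases eq_inf_or_pt z with rfl | ⟨t, rfl⟩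
    · exact Or.inl rfl
    · rw [aff_smul_pt, pt_inj, add_zero] at hz
      right
      by_contra ht
      exact ha (Units.ext ((mul_eq_right₀ fun e => ht (by rw [e])).1 hz))
  have hao : ∀ a : Fˣ, orderOf (aff a (0 : F)) = orderOf a := fun a => by
    rw [orderOf_eq_orderOf_iff]
    intro k
    rw [aff_zero_pow, ← aff_one_zero, aff_inj]; simp
  have hswap : ∀ g : PGL(2, F), g • (inf : P1 F) = pt 0 → g • pt (0 : F) = inf → g * g = 1 := fun g =>
    mul_self_eq_one_of_swap (inf_ne_pt 0)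
  rcases Nat.eq_two_pow_or_exists_odd_prime_and_dvd (Nat.card F - 1) with ⟨k, hk⟩ | ⟨r, hr, hrq, ho⟩
  swap
  · have := Fact.mk hr
    have hr2 : r ≠ 2 := by rintro rfl; exact absurd ho (by decide)
    obtain ⟨a, ha⟩ := CL.GLn.exists_orderOf_eq_of_dvd (K := F) hrq
    have ha1 : a ≠ 1 := by rintro rfl; exact hr.ne_one (by simpa using ha.symm)
    have hy : aff a 0 ∈ G := hG (mem_pslIn_of_pow_odd ho (by rw [← ha, ← hao, pow_orderOf_eq_one]))
    have hyo : orderOf (⟨_, hy⟩ : G) = r := by rw [orderOf_mk, hao, ha]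
    obtain ⟨B, hB, hyB⟩ := h2 ⟨_, hy⟩
    have hyr : (⟨_, hy⟩ : G) ^ r ^ 1 = 1 := by rw [pow_one, ← hyo, pow_orderOf_eq_one]
    have hm : Nat.card (P1 F) ≡ 2 [MOD r] := by
      rw [hc, show Nat.card F + 1 = Nat.card F - 1 + 2 by omega]
      simpa using ((Nat.modEq_zero_iff_dvd.2 hrq).add_right 2)
    refine pair_top h1 h2 h3 (hU1 inf) hB (fun e => ?_) (hU3 inf) (fun b hb => ?_) (hst inf)
    · have e1 := CL.FGS.commute_of_mem_nilpotent_of_coprime _ (h4 B hB) (e ▸ hU2 inf) hyB (by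
        rw [huo, hyo, Nat.coprime_primes hp hr]
        rintro rfl
        have := Nat.dvd_sub hpq hrq
        rw [Nat.sub_sub_self (by omega), Nat.dvd_one] at this
        exact hp.ne_one this)
      obtain ⟨b, hb⟩ := mem_unipAt_inf.1 (hu2 inf)
      have e2 : (u inf : PGL(2, F)) * aff a 0 = aff a 0 * u inf := congrArg Subtype.val e1.eq
      rw [hb, aff_mul, aff_mul, aff_inj] at e2
      have e3 : b = 0 := by
        by_contra hb0
        exact ha1 (Units.ext ((mul_eq_right₀ hb0).1 (by simpa using e2.2.symm)))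
      exact hu1 inf (Subtype.ext (by rw [hb, e3, aff_one_zero]; rfl))
    · refine (two_fix hr2 hm (h4 B hB) hyB hyr (hfix a ha1) hb).resolve_right fun e1 => ?_
      have e2 := (two_fix hr2 hm (h4 B hB) hyB hyr (fun z hz => (hfix a ha1 z hz).symm)
        hb).resolve_left fun e => inf_ne_pt 0 (smul_left_cancel b (e1.trans e.symm))
      have e3 := hswap b e1 e2
      have e4 := hswap (b * aff a 0) (by rw [mul_smul, aff_smul_inf]; exact e1)
        (by rw [mul_smul, aff_smul_pt, mul_zero, add_zero]; exact e2)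
      have e5 := CL.FGS.commute_of_mem_nilpotent_of_coprime _ (h4 B hB) hb hyB (by
        rw [hyo]
        exact Nat.Coprime.coprime_dvd_left (orderOf_dvd_of_pow_eq_one (n := 2)
          (Subtype.ext (by simpa [sq] using e3))) ((Nat.coprime_primes Nat.prime_two hr).2 hr2.symm))
      have e6 : Commute (b : PGL(2, F)) (aff a 0) := congrArg Subtype.val e5.eq
      rw [← sq, e6.mul_pow, sq, e3, one_mul] at e4
      have e7 := orderOf_dvd_of_pow_eq_one e4
      rw [hao, ha] at e7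
      exact hr2 ((Nat.prime_dvd_prime_iff_eq hr Nat.prime_two).1 e7)
  obtain ⟨k, rfl⟩ : ∃ j, k = j + 2 := ⟨k - 2, by
    have : 2 ^ 1 < 2 ^ k := by omega
    have := (Nat.pow_lt_pow_iff_right one_lt_two).1 this
    omega⟩
  have hk' : Nat.card F = 4 * 2 ^ k + 1 := by rw [pow_add] at hk; omega
  have hp2 : p ≠ 2 := by
    rintro rfl
    omega
  obtain ⟨i, hi⟩ := CL.GLn.exists_orderOf_eq_of_dvd (K := F) (m := 4) ⟨2 ^ k, by omega⟩
  have hi2 : orderOf (i * i) = 2 := by rw [← sq, orderOf_pow' _ two_ne_zero, hi]; rfl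
  have hi1 : i * i ≠ 1 := fun e => by rw [e, orderOf_one] at hi2; omega
  have ht : aff (i * i) 0 ∈ G := hG ((aff_mem_pslIn_iff _ _).2 ⟨i, rfl⟩)
  obtain ⟨T, hT, htT⟩ := h2 ⟨_, ht⟩
  have hTo : ∀ x ∈ T, Odd (orderOf x) → x = 1 := fun x hx ho => by
    have e1 := CL.FGS.commute_of_mem_nilpotent_of_coprime _ (h4 T hT) hx htT (by
      rw [orderOf_mk (H := G) _ ht, hao, hi2]; exact ho.coprime_two_right)
    have e2 : ∀ z : P1 F, aff (i * i) 0 • z = z →
        (x : PGL(2, F)) • z = inf ∨ (x : PGL(2, F)) • z = pt 0 := fun z hz => hfix _ hi1 _ (by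
      rw [← mul_smul, ← show (x : PGL(2, F)) * aff (i * i) 0 = aff (i * i) 0 * x from
        congrArg Subtype.val e1.eq, mul_smul, hz])
    have e3 : orderOf (x : PGL(2, F)) ∣ 2 ^ (k + 2) := by
      rcases e2 inf (aff_smul_inf _ _) with a1 | a1 <;>
        rcases e2 (pt 0) (by rw [aff_smul_pt]; simp) with a2 | a2
      · exact absurd (smul_left_cancel _ (a1.trans a2.symm)) (inf_ne_pt 0)
      · obtain ⟨a, b, e⟩ := exists_aff_of_smul_inf a1
        rw [e, aff_smul_pt, pt_inj, mul_zero, zero_add] at a2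
        rw [e, a2, hao, ← hk, ← Nat.card_units]
        exact orderOf_dvd_natCard a
      · exact (orderOf_dvd_of_pow_eq_one (n := 2) (by rw [sq, hswap _ a1 a2])).trans
          (dvd_pow_self 2 (by omega))
      · exact absurd (smul_left_cancel _ (a1.trans a2.symm)) (inf_ne_pt 0)
    rw [orderOf_coe] at e3
    exact orderOf_eq_one_iff.1 ((ho.coprime_two_right.pow_right _).eq_one_of_dvd e3)
  have : Fintype (P1 F) := Fintype.ofFinite _
  have hinj : Function.Injective U := fun ω ω' e =>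
    ((hu2 ω').2 ω (hU3 ω (e ▸ hU2 ω'))).resolve_right fun e => hu1 ω' (Subtype.ext e)
  have hTU : T ∉ Finset.univ.image U := fun e => by
    obtain ⟨ω, -, e⟩ := Finset.mem_image.1 e
    exact hu1 ω (hTo _ (e ▸ hU2 ω) (huo ω ▸ hp.odd_of_ne_two hp2))
  have hsub : insert T (Finset.univ.image U) ⊆ 𝓐 :=
    Finset.insert_subset hT (Finset.image_subset_iff.2 fun ω _ => hU1 ω)
  have h5 := h3 (𝓐 \ insert T (Finset.univ.image U) ∪ Finset.univ.image fun ω : P1 F => stabilizer G ω)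
    ⟨fun D hD => ?_, fun g => ?_⟩
  · have e1 := Finset.card_union_le (𝓐 \ insert T (Finset.univ.image U))
      (Finset.univ.image fun ω : P1 F => stabilizer G ω)
    have e2 := Finset.card_sdiff_add_card_eq_card hsub
    have e3 := Finset.card_image_le (s := Finset.univ) (f := fun ω : P1 F => stabilizer G ω)
    rw [Finset.card_insert_of_notMem hTU, Finset.card_image_of_injective _ hinj] at e2
    omega
  · rcases Finset.mem_union.1 hD with hD | hD
    · exact h1 D (Finset.mem_sdiff.1 hD).1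
    · obtain ⟨ω, -, rfl⟩ := Finset.mem_image.1 hD
      exact hst ω
  by_cases hg : ∃ ω : P1 F, g • ω = ω
  · obtain ⟨ω, hω⟩ := hg
    exact ⟨_, Finset.mem_union_right _ (Finset.mem_image_of_mem _ (Finset.mem_univ ω)), hω⟩
  have key : ∀ D ∈ 𝓐, g ∈ D → D ≠ T → ∃ A ∈ 𝓐 \ insert T (Finset.univ.image U) ∪
      Finset.univ.image fun ω : P1 F => stabilizer G ω, g ∈ A := fun D hD hgD hDT =>
    ⟨D, Finset.mem_union_left _ (Finset.mem_sdiff.2 ⟨hD, fun e => by
      rcases Finset.mem_insert.1 e with e | e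
      · exact hDT e
      · obtain ⟨ω, -, rfl⟩ := Finset.mem_image.1 e
        exact hg ⟨ω, hU3 ω hgD⟩⟩), hgD⟩
  obtain ⟨D, hD, hgD⟩ := h2 g
  by_cases hDT : D = T
  swap
  · exact key D hD hgD hDT
  subst hDT
  obtain ⟨j, s, hs, hjs⟩ := Nat.exists_eq_two_pow_mul_odd (orderOf_pos g).ne'
  have hg2 : orderOf g ∣ 2 ^ j := orderOf_dvd_of_pow_eq_one (hTo _ (pow_mem hgD _) (by
    rw [orderOf_pow' _ (by positivity), hjs, Nat.gcd_eq_right (Dvd.intro _ rfl),
      Nat.mul_div_cancel_left _ (by positivity)]; exact hs))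
  have hg1 : (g : PGL(2, F)) ≠ 1 := fun e => hg ⟨inf, by
    rw [show g = 1 from Subtype.ext e, one_smul]⟩
  obtain ⟨x, y, hxy, hgx⟩ := exists_mem_pairT_of_not_dvd (algebraMap F (AlgebraicClosure F)) p hg1
    (by rw [orderOf_coe]; exact fun e => hp2 ((Nat.prime_dvd_prime_iff_eq hp Nat.prime_two).1
      (hp.dvd_of_dvd_pow (e.trans hg2))))
  rcases (torus_data _ hxy fun e => hg1 (by rwa [e] at hgx)).1 with ⟨⟨x, rfl⟩, -⟩ | ⟨-, -, hcT⟩
  · exact absurd ⟨x, (mapG_smul_eq_iff _ _ _ _).1 hgx.1⟩ hg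
  obtain ⟨r, hr, hrq⟩ := Nat.exists_prime_and_dvd (n := 2 * 2 ^ k + 1) (by
    have : 0 < 2 ^ k := by positivity
    omega)
  have := Fact.mk hr
  have hro : Odd r := Odd.of_dvd_nat (odd_two_mul_add_one _) hrq
  obtain ⟨h, hh⟩ := exists_prime_orderOf_dvd_card' (G := pairT (mapG (algebraMap F
    (AlgebraicClosure F))) x y) r (hrq.trans ⟨2, by rw [hcT]; omega⟩)
  have hhG : (h : PGL(2, F)) ∈ G := hG (mem_pslIn_of_pow_odd hro (by
    rw [← hh, ← orderOf_coe, pow_orderOf_eq_one]))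
  have hho : orderOf (⟨h, hhG⟩ : G) = r := by rw [orderOf_mk, orderOf_coe, hh]
  have hcom : Commute g ⟨h, hhG⟩ := by
    have := isCyclic_pairT (mapG_injective (algebraMap F (AlgebraicClosure F))) hxy
    let := IsCyclic.commGroup (α := pairT (mapG (algebraMap F (AlgebraicClosure F))) x y)
    have e := congrArg Subtype.val (mul_comm (⟨(g : PGL(2, F)), hgx⟩ : pairT _ x y) h)
    exact Subtype.ext e
  have hcop : (orderOf g).Coprime (orderOf (⟨h, hhG⟩ : G)) := hho ▸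
    Nat.Coprime.coprime_dvd_left hg2 (hro.coprime_two_left.pow_left j)
  obtain ⟨E, hE, hgE⟩ := h2 (g * ⟨h, hhG⟩)
  have hgE' : g ∈ E := by
    obtain ⟨c, c1, c2⟩ := Nat.chineseRemainder hcop 1 0
    have := pow_mem hgE c
    rwa [hcom.mul_pow, pow_eq_pow_iff_modEq.2 c1, pow_eq_pow_iff_modEq.2 c2, pow_one, pow_zero,
      mul_one] at this
  refine key E hE hgE' ?_
  rintro rfl
  have := hTo ⟨h, hhG⟩ (by simpa using mul_mem (inv_mem hgE') hgE) (hho ▸ hro)
  rw [this, orderOf_one] at hho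
  exact hr.ne_one hho.symm


/-- A cover of a group is a finite set of proper subgroups whose union is the whole group; it is minimal when no cover has fewer members, and nilpotent when all its members are nilpotent. Let F be a finite field with q elements and n ≥ 3, or n = 2 and q ≥ 4. Then no subgroup of PGL_n(F) = GL_n(F)/Z(GL_n(F)) containing the image of SL_n(F) has a nilpotent minimal cover. -/
theorem result {F : Type*} [Field F] [Fintype F] (n : ℕ) (hn : 3 ≤ n ∨ (n = 2 ∧ 4 ≤ Fintype.card F))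
    (G : Subgroup (GL (Fin n) F ⧸ Subgroup.center (GL (Fin n) F)))
    (hG : ((Matrix.SpecialLinearGroup.toGL : Matrix.SpecialLinearGroup (Fin n) F →* GL (Fin n) F).range).map
      (QuotientGroup.mk' (Subgroup.center (GL (Fin n) F))) ≤ G) :
    ¬ ∃ 𝓐 : Finset (Subgroup ↥G), ((∀ A ∈ 𝓐, A ≠ ⊤) ∧ (∀ g : ↥G, ∃ A ∈ 𝓐, g ∈ A)) ∧ (∀ 𝓑 : Finset (Subgroup ↥G), (∀ A ∈ 𝓑, A ≠ ⊤) ∧ (∀ g : ↥G, ∃ A ∈ 𝓑, g ∈ A) → 𝓐.card ≤ 𝓑.card) ∧ (∀ A ∈ 𝓐, Group.IsNilpotent ↥A) := by
  rintro ⟨𝓐, ⟨h1, h2⟩, h3, h4⟩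
  rcases hn with hn | ⟨rfl, hn⟩
  · obtain ⟨m, rfl⟩ : ∃ m, n = m + 3 := ⟨n - 3, by omega⟩
    exact big G (fun g => hG ⟨_, ⟨g, rfl⟩, rfl⟩) h1 h2 h3 h4
  · refine small (F := F) (by rwa [Nat.card_eq_fintype_card]) G ?_ h1 h2 h3 h4
    rw [← range_sl2pgl]
    rintro _ ⟨g, rfl⟩
    exact hG ⟨_, ⟨g, rfl⟩, rfl⟩

end Cfsg.Agent.S3894
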