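import Mathlib
import Cfsg.Statements.S3900
import Cfsg.Agent.FGS.BWCrit

set_option autoImplicit false
open Cfsg

namespace Cfsg.Agent.S3900

/-- A criterion of Baumslag–Wiegold type for a term of the lower central series. Let G be a finite group and k ≥ 0; call an element a left-normed commutator value of length k + 1 when it has the form [[…[x₀, x₁], …], x_k] with k + 1 entries (for k = 0, any element), where [a, b] = aba⁻¹b⁻¹. Then the (k+1)-st term γ_{k+1}(G) of the lower central series (γ₁(G) = G) is nilpotent if and only if for every two such values x, y of coprime orders, either every prime dividing o(x)·o(y) divides o(xy), or o(x)·o(y) ≤ o(xy). -/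
theorem result {G : Type*} [Group G] [Finite G] (k : ℕ) :
    Group.IsNilpotent ↥((⊤ : Subgroup G).lowerCentralSeries k) ↔
      ∀ x y : G, (∃ f : Fin (k + 1) → G, x = ((List.ofFn f).tail).foldl (fun a b => a * b * a⁻¹ * b⁻¹) (f 0)) → (∃ f : Fin (k + 1) → G, y = ((List.ofFn f).tail).foldl (fun a b => a * b * a⁻¹ * b⁻¹) (f 0)) → (orderOf x).Coprime (orderOf y) →
        (∀ r : ℕ, r.Prime → r ∣ orderOf x * orderOf y → r ∣ orderOf (x * y)) ∨ orderOf x * orderOf y ≤ orderOf (x * y) := by
  constructor
  · intro hn x y hx hy hc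
    have h1 := (CL.BW.val_iff.2 hx).mem_lcs
    have h2 := (CL.BW.val_iff.2 hy).mem_lcs
    have h3 : Commute x y := congrArg Subtype.val (CL.commute_of_coprime_of_isNilpotent
      (G := (⊤ : Subgroup G).lowerCentralSeries k) (x := ⟨x, h1⟩) (y := ⟨y, h2⟩) (by simpa using hc)).eq
    exact Or.inr (h3.orderOf_mul_eq_mul_orderOf_of_coprime hc).ge
  · intro h
    have hL : CL.BW.L k G := by
      intro x hx N hN hc v hv
      have hy : x * v * x⁻¹ * v⁻¹ ∈ N :=
        mul_mem ((Subgroup.mem_normalizer_iff.1 hN v).1 hv) (inv_mem hv)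
      have h1 : CL.BW.Val Set.univ k (x * v * x⁻¹ * v⁻¹) := (hx.step trivial).down
      have h2 : CL.BW.Val Set.univ k (v * x * v⁻¹) :=
        hx.map (MulAut.conj v).toMonoidHom (T := Set.univ) fun _ _ => trivial
      have h3 : orderOf (v * x * v⁻¹) = orderOf x := (MulAut.conj v).orderOf_eq x
      have h4 : (orderOf (x * v * x⁻¹ * v⁻¹)).Coprime (orderOf x) :=
        hc.symm.coprime_dvd_left (Subgroup.orderOf_dvd_natCard N hy)
      have h5 := h _ _ (CL.BW.val_iff.1 h1) (CL.BW.val_iff.1 h2) (h3 ▸ h4)
      rw [show x * v * x⁻¹ * v⁻¹ * (v * x * v⁻¹) = x by group, h3] at h5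
      have h6 : orderOf (x * v * x⁻¹ * v⁻¹) = 1 := by
        rcases h5 with h5 | h5
        · by_contra hne
          obtain ⟨r, hr, hrd⟩ := Nat.exists_prime_and_dvd hne
          exact hr.one_lt.ne' (Nat.eq_one_of_dvd_coprimes h4 hrd (h5 r hr (hrd.mul_right _)))
        · have := orderOf_pos x
          have := orderOf_pos (x * v * x⁻¹ * v⁻¹)
          nlinarith
      rw [orderOf_eq_one_iff, mul_inv_eq_one, mul_inv_eq_iff_eq_mul] at h6
      exact h6.symm
    haveI := hL.isSolvable
    exact hL.isNilpotent_of_isSolvable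

end Cfsg.Agent.S3900
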