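import Cfsg.Statements.S3921
import Cfsg.Agent.FGS.CITFour
import Cfsg.Agent.CHAR.Burnside
import Cfsg.Agent.CLAS.SLBasic
import Cfsg.Agent.TECH.Sidki
import Cfsg.Agent.S0204
import Cfsg.Agent.S0252
import Cfsg.Agent.S0253
import Cfsg.Agent.INV.GW.DFPgl
import Cfsg.Agent.INV.GW.Defs
import Cfsg.Agent.INV.DihFusion

set_option autoImplicit false
open Cfsg

namespace Cfsg.Agent.S3921

open Subgroup CL CL.GW CL.GW.DF CL.PGL2 CL.Dk CL.FusInv
open scoped MatrixGroups

theorem quiet_or {G : Type*} [Group G] [Finite G] {R : Subgroup G} (hR : IsPGroup 2 R) (x : R)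
    (hx : orderOf x = 2) (hC : Nat.card (centralizer ({x} : Set R)) = 4) :
    Quiet R ∨ Nat.card R = 4 := by
  by_contra! h
  rcases Cfsg.Agent.S3224.result hR x hx hC with ⟨m, ⟨e⟩⟩ | h1 | h1
  · have h2 : 2 ≤ m := by
      have h3 := card_subgroup_dvd_card (centralizer ({x} : Set R))
      have h4 : 0 < Nat.card R := Nat.card_pos
      rw [hC] at h3
      rw [Nat.card_congr e.toEquiv, DihedralGroup.nat_card] at h3 h4
      omega
    obtain ⟨n, -, ⟨c⟩⟩ := Dih.exists_coord hR h2 e
    obtain ⟨j, hj⟩ := c.quiet_cases le_rfl h.1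
    exact h.2 (Dih.Coord.IsSub.card (a := 1) c.hn (by simpa using hj))
  · obtain ⟨n, ⟨c⟩⟩ := QD.exists_coord h1
    have h2 := c.card
    have h3 : 2 ^ (3 + 1) ≤ 2 ^ (n + 1) := Nat.pow_le_pow_right two_pos (by have := c.hn; omega)
    rcases c.quiet_cases le_rfl h.1 with ⟨j, -, hj⟩ | ⟨j, -, hj⟩
    · exact h.2 (QD.Coord.IsSub.card (a := 1) c.one_le (by simpa using hj))
    · have := QD.Coord.IsSub.card (a := 2) c.two_le (by norm_num; exact hj)
      omega
  · exact h.2 h1

theorem cent_two {G : Type*} [Group G] [Finite G]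
    (h : ∀ H : Subgroup G, ¬ IsCyclic H → centralizer (H : Set G) ≤ H) {t s : G}
    (ht : orderOf t = 2) (hs : orderOf s = 2) (hc : Commute t s) (hne : t ≠ s) :
    IsPGroup 2 (centralizer ({t} : Set G)) := by
  set C := centralizer ({t} : Set G) with hC
  have hV := Four.isKleinFour_closure ht hs hne hc.eq
  set V := closure ({t, s} : Set G) with hVd
  have hVC := h V IsKleinFour.not_isCyclic
  have htV : t ∈ V := subset_closure (by simp)
  have hsV : s ∈ V := subset_closure (by simp)
  have hss : s * s = 1 := Four.mul_self_of_mem hV hsV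
  have htt : t * t = 1 := Four.mul_self_of_mem hV htV
  have mem : ∀ {x : G}, x ∈ C ↔ Commute t x := fun {x} =>
    mem_centralizer_singleton_iff.trans ⟨fun h => h.symm, fun h => h.eq.symm⟩
  have key : ∀ v (hv : v ∈ C), v * v = 1 → (v = t ∨ v = s) → v ∈ (pCore 2 C).map C.subtype := by
    intro v hv hvv hv'
    refine ⟨⟨v, hv⟩, ?_, rfl⟩
    by_contra h0
    obtain ⟨⟨y, hy⟩, h1, h2, h3⟩ := Sidki.exists_inverted (Subtype.ext hvv) h0
    rw [← orderOf_coe] at h2
    have h3' : v * y * v⁻¹ = y⁻¹ := congrArg Subtype.val h3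
    have h4 : ¬ Commute v y := fun h5 => h1 (Subtype.ext (eq_one_of_inv_of_commute h2 h3' h5))
    rcases hv' with rfl | rfl
    · exact h4 (mem.1 hy)
    have hn : v ∈ normalizer (zpowers y : Set G) := by
      rw [mem_norm_iff, cj_zpowers, h3', zpowers_inv]
    have h5 : t ∈ ((zpowers y ⊔ zpowers v : Subgroup G) : Set G) := by
      refine h _ (fun h5 => h4 ?_) (le_centralizer_iff.1 (sup_le (zpowers_le.2 ?_)
        (zpowers_le.2 ?_)) (mem_zpowers t))
      · exact congrArg Subtype.val (h5.isMulCommutative.is_comm.comm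
          ⟨v, mem_sup_right (mem_zpowers v)⟩ ⟨y, mem_sup_left (mem_zpowers y)⟩)
      · rwa [centralizer_zpowers']
      · rwa [centralizer_zpowers']
    rw [coe_mul_of_right_le_normalizer_left _ _ (zpowers_le.2 hn)] at h5
    obtain ⟨a, ha, b, hb, hab⟩ := h5
    have hay : Commute a y := by
      obtain ⟨i, rfl⟩ := ha
      exact (Commute.refl y).zpow_left i
    rcases zpowers_le_of_inv hvv hb with rfl | rfl
    · have := (orderOf_dvd_of_mem_zpowers ha)
      rw [show a = t by simpa using hab, ht] at this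
      exact (Nat.not_odd_iff_even.2 (even_iff_two_dvd.2 this)) h2
    · have h6 := hay.inv_left.mul_left (mem.1 hy)
      rw [← hab, inv_mul_cancel_left] at h6
      exact h4 h6
  set R := (pCore 2 C).map C.subtype with hR
  have hRp : IsPGroup 2 R := (isPGroup_pCore 2 C).map _
  have hRC : R ≤ C := map_subtype_le _
  have htR : t ∈ R := key t (mem.2 (.refl t)) htt (Or.inl rfl)
  have hsR : s ∈ R := key s (mem.2 hc) hss (Or.inr rfl)
  have hVR : V ≤ R := (closure_le _).2 (by rintro _ (rfl | rfl) <;> assumption)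
  have hcV : ∀ {x : G}, Commute t x → Commute s x → x ∈ V := fun h1 h2 => hVC (by
    rw [hVd, centralizer_closure]
    rintro _ (rfl | rfl)
    exacts [h1.eq, h2.eq])
  have hq := quiet_or hRp ⟨s, hsR⟩ ((orderOf_coe _).symm.trans hs) (by
    rw [← hV.card_four, ← Nat.card_congr (subgroupOfEquivOfLe hVR).toEquiv]
    congr 2
    ext x
    rw [mem_centralizer_singleton_iff, mem_subgroupOf]
    exact ⟨fun h => hcV (mem.1 (hRC x.2)) (congrArg Subtype.val h).symm,
      fun h => Subtype.ext (Four.comm_of_mem hV h hsV)⟩)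
  rintro ⟨g, hg⟩
  obtain ⟨k, hk⟩ := exists_pow_orderOf_coprime (p := 2) g
  refine ⟨k, Subtype.ext ?_⟩
  change g ^ 2 ^ k = 1
  have hg' := pow_mem hg (2 ^ k)
  generalize g ^ 2 ^ k = u at hk hg'
  have hu := Nat.coprime_two_right.1 hk
  have huR : u ∈ normalizer (R : Set G) := by
    have := le_normalizer_map (H := pCore 2 C) C.subtype
    rw [normalizer_eq_top, ← MonoidHom.range_eq_map, range_subtype] at this
    exact this hg'
  have h1 : Commute s u := by
    rcases hq with hq | hq
    · exact hq u huR hu s hsR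
    · have hVR' : V = R := eq_of_le_of_card_ge hVR (by rw [hq, hV.card_four])
      have h2 : u * s * u⁻¹ ∈ V := hVR' ▸ conj_mem_of_norm huR hsR
      have h3 := (mem.1 hg').eq
      have hs1 : s ≠ 1 := by rintro rfl; simp at hs
      have ht1 : t ≠ 1 := by rintro rfl; simp at ht
      rcases Four.eq_or_of_mem hV htV hsV h2 ht1 hs1 hne with h4 | h4 | h4 | h4
      · exact absurd (by simpa using h4) hs1
      · refine absurd ?_ hne
        rw [mul_inv_eq_iff_eq_mul, h3] at h4
        exact (mul_left_cancel h4).symm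
      · exact (mul_inv_eq_iff_eq_mul.1 h4).symm
      · have h5 : u ^ 2 ^ 1 ∈ centralizer ({s} : Set G) := by
          rw [mem_centralizer_singleton_iff, pow_one, sq, ← mul_inv_eq_iff_eq_mul]
          calc u * u * s * (u * u)⁻¹ = u * (u * s * u⁻¹) * u⁻¹ := by group
            _ = u * (t * s) * u⁻¹ := by rw [h4]
            _ = u * t * u⁻¹ * (u * s * u⁻¹) := by group
            _ = s := by rw [h4, ← h3, mul_inv_cancel_right, ← mul_assoc, htt, one_mul]
        exact (mem_centralizer_singleton_iff.1 (mem_of_pow_two_pow_mem hu h5)).symm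
  exact eq_of_sq_eq hu (by simp) (by rw [Four.mul_self_of_mem hV (hcV (mem.1 hg') h1), one_mul])

theorem pgl_sc {F : Type*} [Field F] [Finite F] (hodd : Odd (Nat.card F))
    (h9 : Nat.card F = 9 ∨ (Nat.card F).Prime) {a : ℕ}
    (ha : (Nat.card F = 2 ^ (a + 2) + 1 ∨ Nat.card F + 1 = 2 ^ (a + 2)))
    {H : Subgroup PGL(2, F)} (hH : H ≤ pslIn F) (hn : ¬ IsCyclic H) {c : PGL(2, F)}
    (hc : c ∈ pslIn F) (h : ∀ x ∈ H, Commute c x) : c ∈ H := by
  by_cases h1 : c = 1
  · exact h1 ▸ one_mem H
  have : Fact (ringChar F).Prime := ⟨prime_char⟩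
  have tor : ∀ g : PGL(2, F), g ≠ 1 → g ^ ringChar F = 1 ∨ ∃ τ : Tor F, g ∈ τ.T := fun g hg =>
    (pow_eq_one_or_mem_pairT (algebraMap F (AlgebraicClosure F)) (ringChar F) g).imp_right
      fun ⟨x, y, h1, h2⟩ => ⟨⟨x, y, h1, fun e => hg (by rw [e] at h2; exact h2)⟩, h2⟩
  rcases tor c h1 with h2 | ⟨τ, hτ⟩
  · have ho : orderOf c = ringChar F := orderOf_eq_prime h2 h1
    have hP : IsPGroup (ringChar F) (centralizer ({c} : Set PGL(2, F))) := by
      rintro ⟨g, hg⟩
      refine ⟨1, Subtype.ext ?_⟩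
      change g ^ ringChar F ^ 1 = 1
      by_cases hg1 : g = 1
      · simp [hg1]
      refine (pow_one (ringChar F)).symm ▸ (tor g hg1).resolve_right fun ⟨τ, hτ⟩ => ?_
      have h3 := Subgroup.orderOf_dvd_natCard _ (τ.mem_T_of_odd (τ.mem_N hτ hg1
        (mem_centralizer_singleton_iff.1 hg)) (ho ▸ prime_char.odd_of_ne_two (char_ne_two hodd)))
      have h4 := char_dvd_card (F := F) (ringChar F)
      have h5 : 0 < Nat.card F := Nat.card_pos
      rw [ho] at h3
      refine (prime_char (F := F)).one_lt.ne' (Nat.dvd_one.1 ?_)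
      rcases τ.card_cases with h6 | h6 <;> rw [h6] at h3
      · have := Nat.dvd_sub h4 h3
        rwa [Nat.sub_sub_self h5] at this
      · exact (Nat.dvd_add_right h4).1 h3
    obtain ⟨x, hx⟩ := exists_le_unp_of_isPGroup (ringChar F) (MonoidHom.id _) hP
    have hx' : centralizer ({c} : Set PGL(2, F)) ≤ unipAt x := hx
    have hHx : H ≤ unipAt x := fun y hy => hx' (mem_centralizer_singleton_iff.2 (h y hy).eq.symm)
    have hcard := card_unipAt x
    rcases h9 with h9 | h9
    · have h3 := card_dvd_of_le hHx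
      rw [hcard, h9] at h3
      obtain ⟨k, hk, h4⟩ := (Nat.dvd_prime_pow Nat.prime_three).1 (show _ ∣ 3 ^ 2 from h3)
      interval_cases k
      · have := Finite.card_le_one_iff_subsingleton.1 h4.le
        exact absurd isCyclic_of_subsingleton hn
      · have := Fact.mk Nat.prime_three
        exact absurd (isCyclic_of_prime_card (p := 3) h4) hn
      · rw [eq_of_le_of_card_ge hHx (by rw [hcard, h9, h4]; norm_num)]
        exact hx' (mem_centralizer_singleton_iff.2 rfl)
    · have := Fact.mk h9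
      have := isCyclic_of_prime_card hcard
      exact absurd (isCyclic_of_le hHx) hn
  · have hHN : H ≤ τ.N := fun y hy => τ.mem_N hτ h1 (h y hy)
    have := τ.cyc
    obtain ⟨r, hr, hr'⟩ := SetLike.not_le_iff_exists.1 fun h0 : H ≤ τ.T => hn (isCyclic_of_le h0)
    have h2 : orderOf c = 2 := orderOf_eq_prime (by
      have := τ.inv (hHN hr) hr' hτ
      rw [← (h r hr).eq, mul_inv_cancel_right] at this
      rw [sq]
      exact mul_eq_one_iff_eq_inv.2 this) h1
    have h3 : Nat.card ↥(τ.T ⊓ pslIn F) = 2 ^ (a + 1) := by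
      rcases ha with ha | ha
      · exact τ.card_inf_of_mem (e := 1) (by rw [ha]; push_cast; ring) (Or.inl rfl)
          (by rw [pow_succ]; exact even_two.mul_left _) hτ h2 hc
      · exact τ.card_inf_of_mem (e := -1) (by
          rw [pow_succ] at ha; omega) (Or.inr rfl)
          (by rw [pow_succ]; exact even_two.mul_left _) hτ h2 hc
    have h4 := card_dvd_of_le (inf_le_inf_left τ.T hH)
    rw [h3] at h4
    obtain ⟨k, -, h5⟩ := (Nat.dvd_prime_pow Nat.prime_two).1 h4
    rcases k with _ | k
    · have h6 := τ.card_le_two_mul hHN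
      have h7 : 0 < Nat.card H := Nat.card_pos
      rw [h5] at h6
      have : Nat.card H = 1 ∨ Nat.card H = 2 := by omega
      rcases this with h8 | h8
      · have := Finite.card_le_one_iff_subsingleton.1 h8.le
        exact absurd isCyclic_of_subsingleton hn
      · exact absurd (isCyclic_of_prime_card (p := 2) h8) hn
    · obtain ⟨⟨u, hu⟩, h6⟩ := exists_prime_orderOf_dvd_card' (G := ↥(τ.T ⊓ H)) 2
        (by rw [h5, pow_succ]; exact Dvd.intro_left _ rfl)
      rw [τ.eq_of_inv hτ hu.1 h2 ((orderOf_coe _).trans h6)]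
      exact hu.2

theorem sc_of_equiv {G : Type*} [Group G] {F : Type*} [Field F] [Fintype F]
    (hodd : Odd (Fintype.card F)) (h9 : Fintype.card F = 9 ∨ (Fintype.card F).Prime) {a : ℕ}
    (ha : (Fintype.card F = 2 ^ (a + 2) + 1 ∨ Fintype.card F + 1 = 2 ^ (a + 2)))
    (e : G ≃* PSL(2, F)) (H : Subgroup G) (hn : ¬ IsCyclic H) : centralizer (H : Set G) ≤ H := by
  obtain ⟨φ, hφ, hr⟩ := AbS.exists_embed e
  rw [← Nat.card_eq_fintype_card] at hodd h9 ha
  intro c hc
  refine (mem_map_iff_mem hφ).1 (pgl_sc hodd h9 ha (hr ▸ map_le_range φ H) (fun h => hn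
    (isCyclic_of_surjective _ (H.equivMapOfInjective φ hφ).symm.surjective)) (hr ▸ ⟨c, rfl⟩) ?_)
  rintro _ ⟨x, hx, rfl⟩
  exact Commute.map (hc x hx).symm φ

/-- Say that a group has self-centralizing non-cyclic subgroups when every non-cyclic subgroup H satisfies C_G(H) ≤ H. A non-abelian finite simple group has self-centralizing non-cyclic subgroups if and only if it is isomorphic to PSL₂(q) with q = 4, q = 9, or q a prime of the form 2^k + 1 or 2^k − 1. -/
theorem result {G : Type*} [Group G] [Finite G] [IsSimpleGroup G] (hna : ¬ IsMulCommutative G) :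
    (∀ H : Subgroup G, ¬ IsCyclic ↥H → Subgroup.centralizer (H : Set G) ≤ H) ↔ ∃ (F : Type) (_ : Field F) (_ : Fintype F),
      (Fintype.card F = 4 ∨ Fintype.card F = 9 ∨ ((Fintype.card F).Prime ∧ ∃ k : ℕ, Fintype.card F = 2 ^ k + 1 ∨ Fintype.card F = 2 ^ k - 1)) ∧
      Nonempty (G ≃* Matrix.ProjectiveSpecialLinearGroup (Fin 2) F) := by
  constructor
  · intro h
    obtain ⟨E, hE⟩ := Cfsg.Agent.S0204.result (G := G) fun h => hna h.isMulCommutative
    have hcit : ∀ t : G, orderOf t = 2 → IsPGroup 2 (centralizer ({t} : Set G)) := by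
      intro t ht
      obtain ⟨S, hS⟩ := (IsPGroup.of_card (p := 2) (G := zpowers t) (n := 1)
        (by rw [Nat.card_zpowers, ht, pow_one])).exists_le_sylow
      have htS := hS (mem_zpowers t)
      obtain ⟨z, hz, hz1, hzc⟩ := exists_central Nat.prime_two S.isPGroup' (by
        rintro h0
        rw [h0, mem_bot] at htS
        simp [htS] at ht)
      obtain ⟨k, hk⟩ := IsPGroup.iff_orderOf.1 S.isPGroup' ⟨z, hz⟩
      rw [← orderOf_coe] at hk
      have h2 : 2 ∣ orderOf z := by
        rcases k with _ | k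
        · exact absurd (orderOf_eq_one_iff.1 hk) hz1
        · exact hk ▸ Dvd.intro_left _ (pow_succ 2 k).symm
      have hw := CITC.orderOf_pow_div h2
      by_cases h3 : t = z ^ (orderOf z / 2)
      · obtain ⟨x, -, hx⟩ := (MSS.sylIn_top S).exists_conj_le (Four.isPGroup hE) le_top
        have hV := Four.isKleinFour_map hE (f := (MulAut.conj x).toMonoidHom)
          (MulAut.conj x).injective
        obtain ⟨s, hs, hs1, hst⟩ := Four.exists_ne_of_mem hV t
        exact cent_two h ht (Four.orderOf_of_mem hV hs hs1)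
          (h3 ▸ (hzc s (hx hs)).pow_left _) hst.symm
      · exact cent_two h ht hw ((hzc t htS).pow_left _).symm h3
    obtain ⟨F, _, _, h1, h2⟩ := CIT.of_four hna hcit E hE.card_four
      (fun v hv => Four.mul_self_of_mem hE hv) (h E IsKleinFour.not_isCyclic)
    refine ⟨F, _, _, Or.inr (h1.imp_right fun ⟨h3, k, h4⟩ => ⟨h3, k, h4.imp_right ?_⟩), h2⟩
    omega
  · rintro ⟨F, _, _, h1, ⟨e⟩⟩
    rcases h1 with h1 | h1 | ⟨h1, k, h2⟩
    · have := Fact.mk Nat.prime_five
      obtain ⟨f⟩ := Cfsg.Agent.S0252.result h1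
      obtain ⟨f'⟩ := Cfsg.Agent.S0253.result (ZMod.card 5)
      exact sc_of_equiv (a := 0) (by rw [ZMod.card]; decide)
        (by rw [ZMod.card]; exact Or.inr Nat.prime_five) (by rw [ZMod.card]; exact Or.inl rfl)
        (e.trans (f.trans f'.symm))
    · exact sc_of_equiv (a := 1) (by rw [h1]; decide) (Or.inl h1) (Or.inl h1) e
    · have h4 : 4 ≤ Fintype.card F := by
        by_contra h4
        have h5 := h1.two_le
        have h6 := SL.gcd_mul_card_PSL_two (F := F)
        rw [Nat.card_eq_fintype_card (α := F), ← Nat.card_congr e.toEquiv] at h6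
        have : Group.IsSolvable G := by
          refine Char.isSolvable_of_card_dvd_pow_mul_pow (a := 2) (b := 1) Nat.prime_two
            Nat.prime_three ?_
          rcases (by omega : Fintype.card F = 2 ∨ Fintype.card F = 3) with h3 | h3
          all_goals
            rw [h3] at h6
            norm_num at h6
          · rw [h6]; decide
          · rw [show Nat.card G = 12 by omega]; decide
        exact (Group.IsSolvable.commutator_lt_top_of_nontrivial G).ne (Small.commutator_eq_top hna)
      have h5 : 0 < 2 ^ k := by positivity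
      obtain ⟨a, rfl⟩ : ∃ a, k = a + 2 := by
        rcases k with _ | _ | a
        · omega
        · omega
        · exact ⟨a, rfl⟩
      exact sc_of_equiv (a := a) (h1.odd_of_ne_two (by omega)) (Or.inr h1) (by omega) e

end Cfsg.Agent.S3921
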