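import Mathlib
import Cfsg.Statements.S3923
import Cfsg.Agent.FGS.Homog9

set_option autoImplicit false
open Cfsg

namespace Cfsg.Agent.S3923

/-- Call a finite group homogeneous when every isomorphism between two of its subgroups is the restriction of an automorphism of the whole group. A homogeneous quasisimple finite group (perfect with simple central quotient) is isomorphic to SL₂(5) if it is not simple, and to PSL₂(5) or PSL₂(7) if it is simple. -/
theorem result {G : Type*} [Group G] [Finite G] (hhom : ∀ (A B : Subgroup G) (e : ↥A ≃* ↥B), ∃ φ : G ≃* G, ∀ a : ↥A, φ (a : G) = (e a : G)) (hq : Cfsg.IsQuasisimple G) :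
    (¬ IsSimpleGroup G → ∃ (F : Type) (_ : Field F) (_ : Fintype F), Fintype.card F = 5 ∧ Nonempty (G ≃* Matrix.SpecialLinearGroup (Fin 2) F)) ∧
    (IsSimpleGroup G → ∃ (F : Type) (_ : Field F) (_ : Fintype F), (Fintype.card F = 5 ∨ Fintype.card F = 7) ∧
      Nonempty (G ≃* Matrix.ProjectiveSpecialLinearGroup (Fin 2) F)) := by
  obtain ⟨hg, F, i1, i2, h⟩ := CL.Homog.Hom.three_of_quasisimple hhom hq
  rcases h with ⟨h5, ⟨e⟩⟩ | ⟨h5, ⟨e⟩⟩
  · refine ⟨fun _ => ⟨F, i1, i2, h5, ⟨e⟩⟩, fun hs => ?_⟩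
    exfalso
    have h0 := CL.Comp.center_eq_bot_of_isSimpleGroup hq.not_isMulCommutative
    obtain ⟨p, hp, hc, h4⟩ := CL.Homog.exists_char F (h5 ▸ by decide)
    have h1 : e.symm (-1) ∈ Subgroup.center G := Subgroup.mem_center_iff.2 fun g =>
      e.injective (by simp)
    rw [h0, Subgroup.mem_bot, map_eq_one_iff _ e.symm.injective] at h1
    have h2 := congrArg (fun x : Matrix.SpecialLinearGroup (Fin 2) F => x.1 0 0) h1
    simp at h2
    exact CL.Homog.two_ne (F := F) h4 (by linear_combination -h2)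
  · refine ⟨fun hs => ?_, fun _ => ⟨F, i1, i2, h5, ⟨e⟩⟩⟩
    have := CL.SL.psl_isSimpleGroup_of_perfect (CL.Homog.SL_perfect (F := F) (by omega))
    exact (hs e.isSimpleGroup).elim

end Cfsg.Agent.S3923
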