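import Cfsg.Statements.S3936
import Cfsg.Agent.FGS.BWW
import Cfsg.Agent.TECH.S2L.Minimal
import Cfsg.Agent.CHEV.SzConcrete
set_option autoImplicit false
open Cfsg

namespace Cfsg.Agent.S3936

open CL CL.BWW

/-- A two-variable identity characterizing finite solvable groups. For elements x, y define s₁ = x and s_{n+1} = [y⁻¹ s_n y, s_n⁻¹], where [a, b] = aba⁻¹b⁻¹. A finite group G is solvable if and only if for some n the word s_n takes only the value 1 on G. -/
theorem result {G : Type*} [Group G] [Finite G] :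
    Group.IsSolvable G ↔ ∃ n : ℕ, ∀ x y : G,
      @Nat.rec (fun _ => G) x (fun _ s => (y⁻¹ * s * y) * (s⁻¹) * (y⁻¹ * s * y)⁻¹ * (s⁻¹)⁻¹) n = 1 := by
  change _ ↔ ∃ n, Law n G
  constructor
  · rintro ⟨n, hn⟩
    exact ⟨n, fun x y => by simpa [hn] using sq_mem x y n⟩
  · rintro ⟨n, hn⟩
    by_contra hs
    obtain ⟨H, -, -, hL⟩ := S2L.exists_section hs
    have h1 : Law n (H ⧸ frattini H) :=
      (hn.of_inj H.subtype H.subtype_injective).of_surj _ (QuotientGroup.mk'_surjective _)
    rcases hL with ⟨F, _, _, hF, ⟨e⟩⟩ | ⟨F, _, _, hF, ⟨e⟩⟩ | ⟨F, _, _, m, hm, -, hF, ⟨e⟩⟩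
    · have h2 := h1.of_surj e.toMonoidHom e.surjective
      rcases hF with ⟨r, hr, hF⟩ | ⟨r, hr, hr2, hF⟩ | ⟨hp, h5, -⟩ | hF
      · haveI : Fact (Nat.Prime 2) := ⟨Nat.prime_two⟩
        haveI : CharP F 2 := charP_of_card_eq_prime_pow hF
        have h4 : 2 < Fintype.card F := by
          rw [hF]
          calc 2 < 2 ^ 2 := by norm_num
            _ ≤ 2 ^ r := Nat.pow_le_pow_right (by norm_num) hr.two_le
        classical
        obtain ⟨t, ht⟩ : ∃ t : F, t ∉ ({0, 1} : Finset F) := by
          by_contra! hh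
          have := Finset.card_le_card (fun x _ => hh x : (Finset.univ : Finset F) ⊆ {0, 1})
          have := Finset.card_le_two (a := (0 : F)) (b := 1)
          rw [Finset.card_univ] at *
          omega
        simp only [Finset.mem_insert, Finset.mem_singleton, not_or] at ht
        exact not_law_even ht.1 ht.2 n h2
      · refine not_law_odd (F := F) ?_ ?_ n h2
        · rw [hF, Nat.pow_mod]; simp
        · rw [hF]
          calc 5 ≤ 3 ^ 2 := by norm_num
            _ ≤ 3 ^ r := Nat.pow_le_pow_right (by norm_num) hr.two_le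
      · exact not_law_odd (hp.eq_two_or_odd.resolve_left (by omega)) h5.le n h2
      · exact not_law_odd (by rw [hF]) hF.ge n h2
    · exact not_law_three hF n (h1.of_surj e.toMonoidHom e.surjective)
    · haveI := Sz.charP_two hF
      exact not_law_sz (Sz.lieModel hF) hm hF n (h1.of_surj e.toMonoidHom e.surjective)

end Cfsg.Agent.S3936
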