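import Mathlib
import Cfsg.Statements.S3940
import Cfsg.Agent.FGS.MinWit2

set_option autoImplicit false
open Cfsg

namespace Cfsg.Agent.S3940

/-- Let p > 3 be a prime and G a finite group in which every subgroup of order prime to p is nilpotent. Then G is solvable. -/
theorem result {G : Type*} [Group G] [Finite G] (p : ℕ) (hp : p.Prime) (hp3 : 3 < p)
    (h : ∀ H : Subgroup G, (Nat.card ↥H).Coprime p → Group.IsNilpotent ↥H) : Group.IsSolvable G := by
  by_contra hG
  obtain ⟨H, -, -, h3⟩ := CL.S2L.exists_section hG
  have h4 : Group.IsSolvable (QuotientGroup.mk' (frattini H)).ker := by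
    rw [QuotientGroup.ker_mk']
    have := frattini_nilpotent (G := H)
    infer_instance
  obtain ⟨K, hK, hn⟩ := ((CL.MinW.nn_minList hp hp3 h3).lift hp _
    (QuotientGroup.mk'_surjective _) h4).of_subgroup
  exact hn (h K hK)

end Cfsg.Agent.S3940
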