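import Mathlib
import Cfsg.Statements.S4016
import Cfsg.Agent.FGS.MinTriple2
import Cfsg.Agent.FGS.Homog8
import Cfsg.Agent.PLOC.NPC
import Cfsg.Agent.SOLV.Fitting
import Cfsg.Agent.SOLV.Hall

set_option autoImplicit false
open Cfsg

namespace Cfsg.Agent.S4016

open Subgroup CL CL.GL2
open scoped MatrixGroups

/-- solvable `p'`-subgroups are abelian -/
def Ab (p : ℕ) (G : Type*) [Group G] : Prop :=
  ∀ H : Subgroup G, Group.IsSolvable H → ¬ p ∣ Nat.card H → IsMulCommutative H

section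
variable {p : ℕ} [hp : Fact p.Prime] {G X : Type*} [Group G] [Group X]

omit hp in
theorem Ab.inj (h : Ab p G) (f : X →* G) (hf : Function.Injective f) : Ab p X := fun H h1 h2 => by
  have e := H.equivMapOfInjective f hf
  have := h (H.map f) (isSolvable_map H f) (by rwa [← Nat.card_congr e.toEquiv])
  exact ⟨⟨fun a b => e.injective (by rw [map_mul, map_mul, this.1.1])⟩⟩

theorem Ab.surj [Finite G] (h : Ab p G) (f : G →* X) (hf : Function.Surjective f)
    (hk : Group.IsSolvable f.ker) : Ab p X := fun H h1 h2 => by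
  have := Finite.of_surjective f hf
  have hs : Group.IsSolvable (H.comap f) :=
    Group.isSolvable_of_ker_le_range (inclusion (ker_le_comap f H)) (f.subgroupComap H) (by
      rintro ⟨x, hx⟩ h
      exact ⟨⟨x, congrArg Subtype.val h⟩, rfl⟩)
  obtain ⟨K, hK⟩ := exists_isPiHall {p}ᶜ (H.comap f)
  have h3 : IsPiHallOf {p}ᶜ (K.map (H.comap f).subtype) (H.comap f) := isPiHallOf_map_subtype_iff.2 hK
  have h4 := IsPiHallOf.map h3 f
  rw [map_comap_eq_self_of_surjective hf] at h4
  have h5 := IsPiHallOf.eq_of_le h4 (IsPiHallOf.le h4) le_rfl ((isPiNum_compl_singleton_iff hp.out).2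
    ((Nat.Prime.coprime_iff_not_dvd hp.out).2 h2).symm)
  have := h (K.map (H.comap f).subtype) (isSolvable_map _ _) ((Nat.Prime.coprime_iff_not_dvd hp.out).1
    ((isPiNum_compl_singleton_iff hp.out).1 (IsPiHallOf.isPiNum h3)).symm)
  rw [← h5]
  infer_instance

theorem Ab.comm [Finite G] (h : Ab p G) {A : Subgroup G} (hA : Group.IsSolvable A)
    (h1 : ¬ p ∣ Nat.card A) {a : G} (ha : a ∈ normalizer (A : Set G)) (h2 : ¬ p ∣ orderOf a) {x : G}
    (hx : x ∈ A) : a * x = x * a := by
  have hn : zpowers a ≤ normalizer (A : Set G) := zpowers_le_of_mem ha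
  have h3 : ¬ p ∣ Nat.card ↥(zpowers a ⊔ A) := fun h3 => by
    rcases (Nat.Prime.dvd_mul hp.out).1 (h3.trans (card_sup_dvd_mul_of_le_normalizer hn)) with h4 | h4
    · exact h2 (by rwa [Nat.card_zpowers] at h4)
    · exact h1 h4
  have hs : Group.IsSolvable ↥(zpowers a ⊔ A) := by
    have hN : (A.subgroupOf (zpowers a ⊔ A)).Normal :=
      CL.normal_subgroupOf_of_le_normalizer (sup_le hn le_normalizer)
    have : Group.IsSolvable (A.subgroupOf (zpowers a ⊔ A)) :=
      isSolvable_of_mulEquiv (subgroupOfEquivOfLe le_sup_right).symm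
    have : IsCyclic (↥(zpowers a ⊔ A) ⧸ A.subgroupOf (zpowers a ⊔ A)) := by
      refine ⟨⟨(⟨a, mem_sup_left (mem_zpowers a)⟩ : ↥(zpowers a ⊔ A)), fun y => ?_⟩⟩
      obtain ⟨⟨y, hy⟩, rfl⟩ := QuotientGroup.mk_surjective y
      obtain ⟨_, ⟨k, rfl⟩, z, hz, rfl⟩ := (mem_sup_of_le_normalizer hn).1 hy
      refine ⟨k, ?_⟩
      change (QuotientGroup.mk' _ _) ^ k = _
      rw [← map_zpow]
      refine QuotientGroup.eq.2 ?_
      simpa [mem_subgroupOf] using hz
    have : Group.IsSolvable (↥(zpowers a ⊔ A) ⧸ A.subgroupOf (zpowers a ⊔ A)) :=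
      Group.isSolvable_of_comm fun a b => IsCyclic.isMulCommutative.1.1 a b
    exact Group.isSolvable_of_ker_le_range (A.subgroupOf (zpowers a ⊔ A)).subtype 
      (QuotientGroup.mk' (A.subgroupOf (zpowers a ⊔ A))) (by simp)
  exact congrArg Subtype.val ((h _ hs h3).1.1 ⟨a, mem_sup_left (mem_zpowers a)⟩ ⟨x, mem_sup_right hx⟩)

theorem Ab.dih [Finite G] (h : Ab p G) (h2 : p ≠ 2) {s t : G} (hs : s * s = 1) (ht : t * t = 1)
    (h1 : ¬ p ∣ orderOf (s * t)) : s * t * (s * t) = 1 := by
  have e : s * (s * t) * s⁻¹ = (s * t)⁻¹ := by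
    rw [← mul_assoc, hs, one_mul, mul_inv_rev, ← eq_inv_of_mul_eq_one_left ht]
  have hn : s ∈ normalizer (zpowers (s * t) : Set G) := by
    refine mem_normalizer_fintype (S := (zpowers (s * t) : Set G)) ?_
    rintro _ ⟨k, rfl⟩
    exact ⟨-k, by
      change _ = MulAut.conj s _
      rw [map_zpow, MulAut.conj_apply, e, inv_zpow']⟩
  have := h.comm (A := zpowers (s * t)) (Group.isSolvable_of_comm fun a b => IsCyclic.isMulCommutative.1.1 a b)
    (by rwa [Nat.card_zpowers]) hn (fun h3 => h2 ((Nat.prime_dvd_prime_iff_eq hp.out Nat.prime_two).1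
      (h3.trans (orderOf_dvd_of_pow_eq_one (by rw [sq, hs]))))) (mem_zpowers _)
  rw [this, mul_inv_cancel_right] at e
  exact mul_eq_one_iff_eq_inv.2 e

variable {F : Type*} [Field F] [Fintype F] [DecidableEq F]

theorem borel (h3 : 3 < Fintype.card F) (h : Ab p PSL(2, F)) :
    p ∣ Fintype.card F ∨ p ∣ Fintype.card F - 1 := by
  by_contra hn
  rw [not_or] at hn
  obtain ⟨l, hl⟩ := IsCyclic.exists_ofOrder_eq_natCard (α := Fˣ)
  rw [Nat.card_units, Nat.card_eq_fintype_card] at hl
  let φ : Multiplicative F →* SL(2, F) := MonoidHom.mk' (fun b => upSL 1 b.toAdd) fun a b =>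
    Subtype.ext (by simp [coe_upSL, add_comm])
  have e : ∀ b : F, MinTr.diag F l * upSL 1 b * (MinTr.diag F l)⁻¹ = upSL 1 (l * l * b) := fun b => by
    rw [mul_inv_eq_iff_eq_mul]
    refine Subtype.ext ?_
    simp [coe_upSL, MinTr.coe_diag]
    field_simp
  have h1 := h.comm (A := ((pslMk F).comp φ).range) (a := pslMk F (MinTr.diag F l))
    (x := pslMk F (upSL 1 1))
    (Group.isSolvable_of_surjective ((pslMk F).comp φ).rangeRestrict_surjective) (fun h1 => hn.1 (h1.trans (by
      simpa using card_range_dvd ((pslMk F).comp φ))))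
    (mem_normalizer_fintype (S := (((pslMk F).comp φ).range : Set PSL(2, F))) (by
      rintro _ ⟨b, rfl⟩
      exact ⟨Multiplicative.ofAdd (l * l * b.toAdd), by
        change pslMk F (upSL 1 (l * l * b.toAdd)) = _ * pslMk F (upSL 1 b.toAdd) * _
        rw [← e, map_mul, map_mul, map_inv]⟩))
    (fun h1 => hn.2 (h1.trans ((orderOf_map_dvd ((pslMk F).comp (MinTr.diag F)) l).trans hl.dvd)))
    ⟨Multiplicative.ofAdd 1, rfl⟩
  have h2 : pslMk F (upSL 1 (l * l * 1)) = pslMk F (upSL 1 1) := by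
    rw [← e, map_mul, map_mul, h1, map_inv, mul_inv_cancel_right]
  have h4 : (l : F) * l = 1 := by
    rcases pslMk_eq_iff.1 h2 with h2 | h2
    · simpa [coe_upSL] using congrFun (congrFun (congrArg Subtype.val h2) 0) 1
    · have k1 := congrFun (congrFun (congrArg Subtype.val h2) 0) 1
      have k2 := congrFun (congrFun (congrArg Subtype.val h2) 0) 0
      simp [coe_upSL] at k1 k2
      rw [k1, ← k2]
  have h5 : orderOf l ∣ 2 := orderOf_dvd_of_pow_eq_one (Units.ext (by simpa [sq] using h4))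
  have := Nat.le_of_dvd two_pos h5
  omega

theorem nonsplit (h3 : 3 < Fintype.card F) (h : Ab p PSL(2, F)) (h2 : p ≠ 2) :
    p ∣ Fintype.card F + 1 := by
  by_contra hn
  obtain ⟨y, hy, hy4⟩ : ∃ y : SL(2, F), orderOf y ∣ Fintype.card F + 1 ∧ ¬ orderOf y ∣ 4 := by
    rcases Nat.even_or_odd (Fintype.card F) with ho | ho
    · obtain ⟨r, hr, hd⟩ := Nat.exists_prime_and_dvd (n := Fintype.card F + 1) (by omega)
      have := Fact.mk hr
      have k := gcd_mul_card_PSL2 (F := F)
      have h0 := two_eq_zero_of_even ho.two_dvd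
      rw [gcd_even h0, one_mul, ← Nat.card_congr (pslEquivEven h0).toEquiv] at k
      obtain ⟨y, hy⟩ := exists_prime_orderOf_dvd_card' (G := SL(2, F)) r
        (k ▸ (hd.mul_left _).mul_right _)
      refine ⟨y, hy ▸ hd, fun h4 => ?_⟩
      rw [hy] at h4
      obtain rfl := (Nat.prime_dvd_prime_iff_eq hr Nat.prime_two).1 (hr.dvd_of_dvd_pow (n := 2) h4)
      exact absurd ho.two_dvd (by omega)
    · obtain ⟨y, hy⟩ := Homog.exists_nonsplit ho
      exact ⟨y, hy.dvd, fun h4 => by have := Nat.le_of_dvd four_pos h4; omega⟩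
  have k2 : ¬ orderOf (pslMk F y) ∣ 2 := fun h1 => hy4 (orderOf_dvd_of_pow_eq_one (by
    have := orderOf_dvd_iff_pow_eq_one.1 h1
    rw [← map_pow, pslMk_eq_one_iff'] at this
    rw [show 4 = 2 * 2 from rfl, pow_mul]
    rcases this with h | h <;> simp [h]))
  have k1 : pslMk F y ≠ 1 := fun e => k2 (by simp [e])
  have k3 := (orderOf_map_dvd (pslMk F) y).trans hy
  obtain ⟨τ, hτ⟩ : ∃ τ, (y : Matrix (Fin 2) (Fin 2) F).trace = τ := ⟨_, rfl⟩
  obtain ⟨a, c, hac⟩ : ∃ a c : F, a ^ 2 + (c ^ 2 + τ * c + 1) = 0 := by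
    rcases Nat.even_or_odd (Fintype.card F) with ho | ho
    · exact ⟨1, 0, by linear_combination two_eq_zero_of_even ho.two_dvd⟩
    · obtain ⟨a, c, h⟩ := FiniteField.exists_root_sum_quadratic (f := Polynomial.X ^ 2)
        (g := Polynomial.X ^ 2 + Polynomial.C τ * Polynomial.X + 1) (by simp) (by compute_degree!)
        (Nat.odd_iff.1 ho)
      exact ⟨a, c, by simpa using h⟩
  let s : SL(2, F) := ⟨!![0, -1; 1, 0], by simp [Matrix.det_fin_two]⟩
  let t : SL(2, F) := ⟨!![a, c + τ; c, -a], by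
    simp only [Matrix.det_fin_two_of]; linear_combination -hac⟩
  have hs : s * s = -1 := Subtype.ext (by
    rw [Matrix.SpecialLinearGroup.coe_mul]; simp [s, Matrix.one_fin_two])
  have ht : t * t = -1 := Subtype.ext (by
    rw [Matrix.SpecialLinearGroup.coe_mul]
    ext i j
    fin_cases i <;> fin_cases j <;> simp [t] <;> first | ring1 | linear_combination hac)
  have htr : ((s * t : SL(2, F)) : Matrix (Fin 2) (Fin 2) F).trace = (y : Matrix (Fin 2) (Fin 2) F).trace := by
    rw [hτ, Matrix.SpecialLinearGroup.coe_mul]; simp [s, t, Matrix.trace_fin_two]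
  have k4 := h.dih h2 (s := pslMk F s) (t := pslMk F t) (by rw [← map_mul, hs, pslMk_neg, map_one])
    (by rw [← map_mul, ht, pslMk_neg, map_one])
    (fun h1 => hn ((h1.trans (by rw [← map_mul]; exact MinTr.orderOf_dvd_of_trace k1 htr)).trans k3))
  rw [← map_mul] at k4
  by_cases k5 : pslMk F (s * t) = 1
  · obtain ⟨r, hr⟩ := CharP.exists F
    have := Fact.mk (CharP.char_is_prime F r)
    have k6 : ∀ u : SL(2, F), pslMk F u = pslMk F (upSL 1 1) →
        (y : Matrix (Fin 2) (Fin 2) F).trace = (u : Matrix (Fin 2) (Fin 2) F).trace → False := fun u hu e => by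
      have j1 := orderOf_pslMk_eq_char r (not_reg_upSL_one (1 : F)) (not_isScal_upSL_one one_ne_zero)
      have j2 := MinTr.orderOf_dvd_of_trace (c := u) (by
        rw [hu]; exact fun h => not_isScal_upSL_one one_ne_zero (pslMk_eq_one_iff.1 h)) e
      rw [hu, j1] at j2
      obtain ⟨n, -, hn⟩ := FiniteField.card F r
      rcases (Nat.dvd_prime this.out).1 j2 with j3 | j3
      · exact k1 (orderOf_eq_one_iff.1 j3)
      · rw [j3, hn] at k3
        exact this.out.one_lt.ne' (Nat.dvd_one.1 ((Nat.dvd_add_right (dvd_pow_self r n.ne_zero)).1 k3))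
    rcases pslMk_eq_one_iff'.1 k5 with k5 | k5
    · exact k6 _ rfl (by rw [← htr, k5]; simp [coe_upSL, Matrix.trace_fin_two]; norm_num)
    · exact k6 (-upSL 1 1) (pslMk_neg _) (by rw [← htr, k5]; simp [coe_upSL, Matrix.trace_fin_two]; norm_num)
  · exact k2 ((MinTr.orderOf_dvd_of_trace k5 htr.symm).trans (orderOf_dvd_of_pow_eq_one (by rw [sq, k4])))

theorem not_psl2 (h3 : 3 < Fintype.card F) (h : Ab p PSL(2, F)) (h2 : p ≠ 2) : False := by
  have k := nonsplit h3 h h2
  rcases borel h3 h with h1 | h1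
  · exact hp.out.one_lt.ne' (Nat.dvd_one.1 ((Nat.dvd_add_right h1).1 k))
  · have := Nat.dvd_sub k h1
    rw [show Fintype.card F + 1 - (Fintype.card F - 1) = 2 by omega] at this
    exact h2 ((Nat.prime_dvd_prime_iff_eq hp.out Nat.prime_two).1 this)

theorem not_sl33 (h : Ab p SL(3, ZMod 3)) (h2 : p ≠ 2) : False := by
  let s : SL(3, ZMod 3) := ⟨!![1, 0, 0; 0, 2, 0; 0, 0, 2], by decide +kernel⟩
  let t : SL(3, ZMod 3) := ⟨!![0, 1, 0; 1, 0, 0; 0, 0, 2], by decide +kernel⟩
  have := h.dih h2 (s := s) (t := t) (by decide +kernel) (by decide +kernel) fun h1 =>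
    h2 ((Nat.prime_dvd_prime_iff_eq hp.out Nat.prime_two).1 (hp.out.dvd_of_dvd_pow (n := 2)
      (h1.trans (orderOf_dvd_of_pow_eq_one (by decide +kernel)))))
  exact absurd this (by decide +kernel)

theorem not_sz [Finite G] (hG : Lie.IsoSuzuki G) (h : Ab p G) (h2 : p ≠ 2) : False := by
  obtain ⟨F, _, _, _, m, hm, hF, ⟨M⟩⟩ := S4F.exists_model hG
  obtain ⟨t, ht0, ht1⟩ := Sz.exists_ne_zero_one hm hF
  have hU : IsPGroup 2 M.U := fun ⟨g, hg⟩ => by
    obtain ⟨x, y, rfl⟩ := M.mem_U.1 hg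
    exact ⟨2, Subtype.ext (M.u_pow_four x y)⟩
  have := hU.isNilpotent
  have k := congrArg Subtype.val ((h M.U inferInstance fun h1 => by
    obtain ⟨n, hn⟩ := hU.exists_card_eq
    exact h2 ((Nat.prime_dvd_prime_iff_eq hp.out Nat.prime_two).1
      (hp.out.dvd_of_dvd_pow (hn ▸ h1)))).1.1 ⟨_, M.u_mem_U 1 0⟩ ⟨_, M.u_mem_U t 0⟩)
  simp only [coe_mul, M.u_mul, M.u_eq_iff, map_one, one_mul, mul_one, zero_add] at k
  have k2 := M.tits t
  rw [← k.2, ← k.2, sq] at k2
  exact ht1 (mul_left_cancel₀ ht0 (by rw [← k2, mul_one]))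

theorem solvable [Finite G] (h : Ab p G) (h2 : p ≠ 2) : Group.IsSolvable G := by
  classical
  by_contra hG
  obtain ⟨H, -, -, h3⟩ := S2L.exists_section hG
  have k := (h.inj H.subtype H.subtype_injective).surj (QuotientGroup.mk' (frattini H))
    (QuotientGroup.mk'_surjective _) (by
      rw [QuotientGroup.ker_mk']
      have := frattini_nilpotent (G := H)
      infer_instance)
  rcases h3 with ⟨F, _, _, h, ⟨e⟩⟩ | ⟨F, _, _, hF, ⟨e⟩⟩ | ⟨F, _, _, m, hm, -, hF, e⟩
  · refine not_psl2 ?_ (k.inj e.symm.toMonoidHom e.symm.injective) h2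
    rcases h with ⟨r, hr, h⟩ | ⟨r, hr, -, h⟩ | ⟨-, h, -⟩ | h
    · have := Nat.pow_le_pow_right two_pos hr.two_le
      omega
    · have := Nat.pow_le_pow_right three_pos hr.two_le
      omega
    · omega
    · omega
  · have h : center SL(3, ZMod 3) = ⊥ := eq_bot_iff.2 fun A hA => by
      obtain ⟨r, hr, e⟩ := Matrix.SpecialLinearGroup.mem_center_iff.1 hA
      obtain rfl : r = 1 := (by decide : ∀ r : ZMod 3, r ^ Fintype.card (Fin 3) = 1 → r = 1) r hr
      exact Subtype.ext (by simpa using e.symm)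
    have e' := (e.trans ((Graph.pslCongr (ZMod.ringEquivOfPrime F Nat.prime_three hF).symm).trans
      ((QuotientGroup.quotientMulEquivOfEq h).trans QuotientGroup.quotientBot))).symm
    exact not_sl33 (k.inj e'.toMonoidHom e'.injective) h2
  · exact not_sz ⟨F, _, _, m, hm, hF, e⟩ k h2

omit hp in
theorem mem_of_pows {H : Subgroup G} {g : G} {a b : ℕ} (h : a.Coprime b) (ha : g ^ a ∈ H)
    (hb : g ^ b ∈ H) : g ∈ H := by
  obtain ⟨u, v, e⟩ := Nat.isCoprime_iff_coprime.2 h
  have := mul_mem (zpow_mem ha u) (zpow_mem hb v)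
  rwa [← zpow_natCast, ← zpow_natCast, ← zpow_mul, ← zpow_mul, ← zpow_add, mul_comm _ u, mul_comm _ v, e,
    zpow_one] at this

end


/-- Let G be a finite group and p a prime such that a Sylow p-subgroup P of G is cyclic and every subgroup of G of order prime to p is abelian. Then G has a normal p-complement or P is normal in G. -/
theorem result {G : Type*} [Group G] [Finite G] {p : ℕ}
    [Fact p.Prime] (P : Sylow p G) (hcyc : IsCyclic P)
    (hab : ∀ H : Subgroup G, ¬ p ∣ Nat.card H → IsMulCommutative H) :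
    Cfsg.HasNormalPComplement p G ∨ (P : Subgroup G).Normal := by
  have hp : p.Prime := Fact.out
  by_cases hN : normalizer ((P : Subgroup G) : Set G) ≤ centralizer ((P : Subgroup G) : Set G)
  · exact .inl (hasNPC_of_normalizer_le_centralizer P hN)
  right
  have hA : Ab p G := fun H _ h => hab H h
  have h2 : p ≠ 2 := by
    rintro rfl
    by_cases h : 2 ∣ Nat.card G
    · exact hN (hcyc.normalizer_le_centralizer ((Nat.minFac_eq_two_iff _).2 h))
    · have : (P : Subgroup G) = ⊥ := by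
        obtain ⟨n, hn⟩ := P.isPGroup'.exists_card_eq
        have := card_subgroup_dvd_card (P : Subgroup G)
        rcases n with _ | n
        · exact card_eq_one.1 hn
        · exact absurd ((dvd_pow_self 2 n.succ_ne_zero).trans (hn ▸ this)) h
      exact hN fun g _ x hx => by rw [mem_bot.1 (this ▸ hx : x ∈ (⊥ : Subgroup G)), one_mul, mul_one]
  have := solvable hA h2
  obtain ⟨⟨y, hyP⟩, hy⟩ := hcyc.exists_generator
  have hP : zpowers y = P := le_antisymm (zpowers_le_of_mem hyP) fun x hx => by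
    obtain ⟨k, hk⟩ := hy ⟨x, hx⟩
    exact ⟨k, congrArg Subtype.val hk⟩
  have hPC : (P : Subgroup G) ≤ centralizer ((P : Subgroup G) : Set G) := by
    have := hcyc.isMulCommutative
    exact le_centralizer _
  have key : (P : Subgroup G) ≤ centralizer (pPrimeCore p G : Set G) := by
    by_contra hk
    refine hN fun g hg => ?_
    obtain ⟨e, m, hm, ho⟩ := Nat.exists_eq_pow_mul_and_not_dvd (orderOf_pos g).ne' p hp.ne_one
    have hc : ∀ j, (p ^ j).Coprime m := fun j => ((Nat.Prime.coprime_iff_not_dvd hp).2 hm).pow_left j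
    have k1 : g ^ m ∈ (P : Subgroup G) := by
      have : IsPGroup p (zpowers (g ^ m)) := by
        rintro ⟨_, j, rfl⟩
        refine ⟨e, Subtype.ext ?_⟩
        change ((g ^ m) ^ j) ^ p ^ e = 1
        rw [← zpow_natCast, ← zpow_mul, mul_comm, zpow_mul, zpow_natCast, ← pow_mul, mul_comm, ← ho,
          pow_orderOf_eq_one, one_zpow]
      have k := this.inf_normalizer_sylow P
      exact (k.le ⟨mem_zpowers _, pow_mem hg m⟩).2
    refine mem_of_pows (hc e) ?_ (hPC k1)
    have hh := pow_mem hg (p ^ e)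
    have hm' : (g ^ p ^ e) ^ m = 1 := by rw [← pow_mul, ← ho, pow_orderOf_eq_one]
    generalize g ^ p ^ e = h at hh hm'
    have k2 : h ∈ centralizer (pPrimeCore p G : Set G) := fun x hx =>
      (hA.comm inferInstance (not_dvd_card_pPrimeCore p G) (by rw [normalizer_eq_top]; trivial)
        (fun h1 => hm (h1.trans (orderOf_dvd_of_pow_eq_one hm'))) hx).symm
    obtain ⟨k, hk'⟩ : h * y * h⁻¹ ∈ zpowers y := hP ▸ (mem_normalizer_iff.1 hh y).1 hyP
    obtain ⟨n, hn⟩ := (IsPGroup.iff_orderOf.1 P.isPGroup') ⟨y, hyP⟩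
    rw [orderOf_mk] at hn
    have k3 : y ^ (k - 1) ∈ centralizer (pPrimeCore p G : Set G) := by
      have := mul_mem k2 ((inferInstance : (centralizer (pPrimeCore p G : Set G)).Normal).conj_mem _
        (inv_mem k2) y)
      rwa [← mul_assoc, ← mul_assoc, ← show y ^ k = _ from hk', ← zpow_sub_one] at this
    have k4 : (p : ℤ) ∣ k - 1 := by
      by_contra k4
      refine hk (hP ▸ zpowers_le_of_mem ?_)
      obtain ⟨u, v, huv⟩ : IsCoprime ((p : ℤ) ^ n) (k - 1) :=
        (((Nat.prime_iff_prime_int.1 hp).coprime_iff_not_dvd).2 k4).pow_left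
      have : y = (y ^ (k - 1)) ^ v := by
        conv_lhs => rw [← zpow_one y, ← huv, zpow_add, mul_comm u, zpow_mul, ← Nat.cast_pow, ← hn,
          zpow_natCast, pow_orderOf_eq_one, one_zpow, one_mul, mul_comm, zpow_mul]
      exact this ▸ zpow_mem k3 v
    have k5 : ∀ j : ℕ, h ^ j * y * (h ^ j)⁻¹ = y ^ k ^ j := fun j => by
      induction j with
      | zero => simp
      | succ j ih =>
        rw [pow_succ', mul_inv_rev, show h * h ^ j * y * ((h ^ j)⁻¹ * h⁻¹) =
          MulAut.conj h (h ^ j * y * (h ^ j)⁻¹) by simp [mul_assoc], ih, map_zpow, MulAut.conj_apply,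
          ← show y ^ k = _ from hk', ← zpow_mul, pow_succ']
    rw [← hP, zpowers_eq_closure, centralizer_closure]
    refine mem_of_pows (hc n) (mem_centralizer_singleton_iff.2 ?_) (hm' ▸ one_mem _)
    have k6 := dvd_sub_pow_of_dvd_sub k4 n
    rw [← mul_inv_eq_iff_eq_mul, k5]
    conv_rhs => rw [← zpow_one y]
    rw [zpow_eq_zpow_iff_modEq, hn]
    exact (Int.modEq_iff_dvd.2 (by simpa using (pow_dvd_pow (p : ℤ) n.le_succ).trans k6)).symm
  have h3 : (P : Subgroup G) ≤ fittingSubgroup G := by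
    refine le_trans ?_ (centralizer_fittingSubgroup_le G)
    refine le_trans ?_ (centralizer_le (fittingSubgroup_le_pCore_sup p))
    rw [← le_centralizer_iff]
    exact sup_le ((pCore_le_sylow P).trans hPC) (le_centralizer_iff.1 key)
  rw [le_antisymm (le_pCore_of_le_fittingSubgroup h3 P.isPGroup') (pCore_le_sylow P)]
  infer_instance

end Cfsg.Agent.S4016
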