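import Mathlib
import Cfsg.Statements.S4017
import Cfsg.Agent.S0071
import Cfsg.Agent.SOLV.Primitive
import Cfsg.Agent.SOLV.Hall
import Cfsg.Agent.FGS.Kazarin
import Cfsg.Agent.FGS.MinEv

set_option autoImplicit false
open Cfsg

namespace Cfsg.Agent.S4017

set_option linter.style.haveILetI false

theorem key {G : Type*} [Group G] [Finite G] {p q : ℕ} (hp : p.Prime) (hq : q.Prime) (hpq : p ≠ q)
    (hpG : p ∣ Nat.card G)
    (hmix : ∀ H : Subgroup G, H ≠ ⊤ → ¬ IsPGroup q H → q ∣ Nat.card H → p ∣ Nat.card H)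
    {K : Subgroup G} (hK : Group.IsSolvable K) (hqK : q ∣ Nat.card K) {s : ℕ} (hs : s.Prime)
    (hsK : s ∣ Nat.card K) (hsp : s ≠ p) (hsq : s ≠ q) : False := by
  obtain ⟨L, hL⟩ := CL.exists_isPiHallOf {q, s} K hK
  obtain ⟨h1, h2, h3⟩ := CL.isPiHallOf_iff.1 hL
  have hd : ∀ r : ℕ, r.Prime → r ∈ ({q, s} : Set ℕ) → r ∣ Nat.card K → r ∣ Nat.card L := by
    intro r hr hm hd
    rw [← CL.card_mul_relIndex_of_le h1] at hd
    exact ((Nat.Prime.dvd_mul hr).1 hd).resolve_right fun h => h3 r hr h hm
  have hpL : ¬ p ∣ Nat.card L := fun h => by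
    rcases h2 p hp h with e | e
    · exact hpq e
    · exact hsp e.symm
  haveI := Fact.mk hq
  refine hpL (hmix L (fun e => hpL (by rw [e, Subgroup.card_top]; exact hpG)) (fun h => ?_)
    (hd q hq (by simp) hqK))
  obtain ⟨n, hn⟩ := IsPGroup.iff_card.1 h
  have := hd s hs (by simp) hsK
  rw [hn] at this
  exact hsq ((Nat.prime_dvd_prime_iff_eq hs hq).1 (hs.dvd_of_dvd_pow this))

/-- Let G be a finite group and let p and q be distinct primes dividing the order of G, with p odd. Suppose that p divides the order of every proper subgroup of G that is neither a q-group nor of order prime to q. Let q^a be the q-part of the order of G. If p > q^a − 1, or if p = q^a − 1 and the Sylow p-subgroups of G are abelian, then p and q are the only primes dividing the order of G. -/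
theorem result {G : Type*} [Group G] [Finite G]
    {p q : ℕ} (hp : p.Prime) (hq : q.Prime) (hpq : p ≠ q) (hp2 : p ≠ 2)
    (hpG : p ∣ Nat.card G) (hqG : q ∣ Nat.card G)
    (hmix : ∀ H : Subgroup G, H ≠ ⊤ → ¬ IsPGroup q H → q ∣ Nat.card H → p ∣ Nat.card H)
    (hlarge : q ^ (Nat.card G).factorization q - 1 < p ∨
      (p = q ^ (Nat.card G).factorization q - 1 ∧ ∀ P : Sylow p G, IsMulCommutative P)) :
    ∀ r : ℕ, r.Prime → r ∣ Nat.card G → r = p ∨ r = q := by
  classical
  intro r hr hrG
  by_contra hne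
  push Not at hne
  haveI := Fact.mk hq
  haveI := Fact.mk hp
  haveI := Fact.mk hr
  have hk := fun {K : Subgroup G} (hK : Group.IsSolvable K) (hqK : q ∣ Nat.card K) {s : ℕ}
    (hs : s.Prime) (hsK : s ∣ Nat.card K) (hsp : s ≠ p) (hsq : s ≠ q) =>
      key hp hq hpq hpG hmix hK hqK hs hsK hsp hsq
  rcases hlarge with hl | ⟨hl, -⟩
  · obtain ⟨P⟩ : Nonempty (Sylow q G) := inferInstance
    obtain ⟨N, hN, hc⟩ := (Cfsg.Agent.S0071.result P).2 (by
      intro Q hQ g hg hcop
      have hQq : IsPGroup q Q := P.isPGroup'.to_le hQ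
      by_cases hQ1 : Q = ⊥
      · rw [hQ1]; intro y hy; simp [Subgroup.mem_bot.1 hy]
      have hqQ : q ∣ Nat.card Q := by
        obtain ⟨n, hn⟩ := IsPGroup.iff_card.1 hQq
        rw [hn]
        refine dvd_pow_self q fun e => hQ1 ?_
        rw [e, pow_zero] at hn
        exact Subgroup.eq_bot_of_card_eq Q hn
      refine CL.CS.mem_of_forall_primePow_mem fun y hy s j hs hys => ?_
      by_cases hy1 : y = 1
      · rw [hy1]; exact one_mem _
      have hyn : Subgroup.zpowers y ≤ Subgroup.normalizer (Q : Set G) :=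
        Subgroup.zpowers_le.2 (Subgroup.zpowers_le.2 hg hy)
      obtain ⟨i, -, hi⟩ := (Nat.dvd_prime_pow hs).1 (orderOf_dvd_of_pow_eq_one hys)
      have hsy : s ∣ orderOf y := by
        rw [hi]
        refine dvd_pow_self s fun e => hy1 ?_
        rw [e, pow_zero] at hi
        exact orderOf_eq_one_iff.1 hi
      have hsq : s ≠ q := by
        rintro rfl
        exact hs.one_lt.ne' (Nat.eq_one_of_dvd_coprimes hcop
          (hsy.trans (orderOf_dvd_of_mem_zpowers hy)) dvd_rfl)
      by_cases hsp : s = p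
      · subst hsp
        have hA : IsPGroup s (Subgroup.zpowers y) := IsPGroup.of_card (by rw [Nat.card_zpowers, hi])
        have hm := CL.Prim.card_modEq_card_inf_centralizer hA hyn
        have h1 : Nat.card Q ≤ q ^ (Nat.card G).factorization q := by
          rw [← P.card_eq_multiplicity]; exact Subgroup.card_le_of_le hQ
        have h2 : Nat.card ↥(Q ⊓ Subgroup.centralizer (Subgroup.zpowers y : Set G)) ≤ Nat.card Q :=
          Subgroup.card_le_of_le inf_le_left
        have h3 : 0 < Nat.card ↥(Q ⊓ Subgroup.centralizer (Subgroup.zpowers y : Set G)) := Nat.card_pos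
        have h4 := (Nat.modEq_iff_dvd' h2).1 hm.symm
        have h5 := Nat.eq_zero_of_dvd_of_lt h4 (by omega)
        have h6 : Q ⊓ Subgroup.centralizer (Subgroup.zpowers y : Set G) = Q :=
          Subgroup.eq_of_le_of_card_ge inf_le_left (by omega)
        intro z hz
        have : z ∈ Q ⊓ Subgroup.centralizer (Subgroup.zpowers y : Set G) := h6.symm ▸ hz
        exact (this.2 y (Subgroup.mem_zpowers y)).symm
      · haveI := hQq.isNilpotent
        exact (hk (CL.isSolvable_sup_of_le_normalizer hyn (CL.MinW.solv_zpowers y) inferInstance)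
          (hqQ.trans (Subgroup.card_dvd_of_le le_sup_right)) hs
          (hsy.trans (Subgroup.orderOf_dvd_natCard _ (Subgroup.mem_sup_left (Subgroup.mem_zpowers y))))
          hsp hsq).elim)
    have hqN : ¬ q ∣ Nat.card N := by
      rw [← hc.index_eq_card]; exact P.not_dvd_index
    have hrN : r ∣ Nat.card N := by
      rw [← hc.card_mul, P.card_eq_multiplicity] at hrG
      exact ((Nat.Prime.dvd_mul hr).1 hrG).resolve_right fun h =>
        hne.2 ((Nat.prime_dvd_prime_iff_eq hr hq).1 (hr.dvd_of_dvd_pow h))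
    obtain ⟨R⟩ : Nonempty (Sylow r N) := inferInstance
    have h1 := Sylow.normalizer_sup_eq_top R
    have h2 := CL.card_sup_dvd_mul (Subgroup.normalizer (((R : Subgroup N).map N.subtype : Subgroup G) : Set G)) N
    rw [h1, Subgroup.card_top] at h2
    have h3 := ((Nat.Prime.dvd_mul hq).1 (hqG.trans h2)).resolve_right hqN
    obtain ⟨x, hx⟩ := exists_prime_orderOf_dvd_card' q h3
    rw [← Subgroup.orderOf_coe] at hx
    have hR : IsPGroup r ((R : Subgroup N).map N.subtype) := R.isPGroup'.map _
    haveI := hR.isNilpotent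
    refine hk (CL.isSolvable_sup_of_le_normalizer (Subgroup.zpowers_le.2 x.2) (CL.MinW.solv_zpowers _)
      inferInstance) (hx ▸ Subgroup.orderOf_dvd_natCard _ (Subgroup.mem_sup_left (Subgroup.mem_zpowers _)))
      hr (Dvd.dvd.trans ?_ (Subgroup.card_dvd_of_le le_sup_right)) hne.1 hne.2
    rw [Subgroup.card_subtype]
    exact R.dvd_card_of_dvd_card hrN
  · obtain rfl : q = 2 := by
      by_contra h2
      have h1 : Odd (q ^ (Nat.card G).factorization q) := (hq.odd_of_ne_two h2).pow
      have h3 := hp.odd_of_ne_two hp2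
      rw [Nat.odd_iff] at h1 h3
      omega
    by_cases hs : Group.IsSolvable G
    · exact hk (K := ⊤) inferInstance (by rwa [Subgroup.card_top]) hr (by rwa [Subgroup.card_top])
        hne.1 hne.2
    obtain ⟨H, -, hm, hl'⟩ := CL.S2L.exists_section hs
    obtain ⟨s, h1, h2, h3, h4⟩ := CL.MinW.ev_minList (CL.MinW.not_solvable_of_isMinimalSimple hm) hl'
      (p := p) (fun h3 h8 => by
        have h9 : 2 ^ 3 ∣ Nat.card G :=
          (h8.trans (CL.card_quotient_dvd _)).trans (Subgroup.card_subgroup_dvd_card H)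
        have h10 := (Nat.prime_two.pow_dvd_iff_le_factorization Nat.card_pos.ne').1 h9
        have h11 := Nat.pow_le_pow_right two_pos h10
        omega)
    haveI := frattini_nilpotent (G := H)
    obtain ⟨K, k1, k2, k3⟩ := (h4.lift (QuotientGroup.mk' _) (QuotientGroup.mk'_surjective _)
      (by rw [QuotientGroup.ker_mk']; infer_instance)).of_subgroup
    exact hk k1 k2 h1 k3 h3 h2

end Cfsg.Agent.S4017
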