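import Mathlib
import Cfsg.Statements.S4018
import Cfsg.Agent.TECH.SylIn
import Cfsg.Agent.INV.ThompsonTransfer
import Cfsg.Agent.FGS.PseudoSylow

set_option autoImplicit false
open Cfsg

namespace Cfsg.Agent.S4018

open CL.MSS Subgroup

/-- Regular friendship graphs of degree at least three do not exist. -/
theorem friendship {V : Type*} [Finite V] [Nonempty V] (r : V → V → Prop)
    (hirr : ∀ a, ¬ r a a) (hsymm : ∀ a b, r a b → r b a) (k : ℕ) (hk : 3 ≤ k)
    (hreg : ∀ a, Nat.card {b // r a b} = k)
    (hf : ∀ a b, a ≠ b → ∃! c, r a c ∧ r c b) : False := by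
  classical
  have : Fintype V := Fintype.ofFinite V
  set p := (k - 1).minFac with hp
  have hpp : Fact p.Prime := ⟨Nat.minFac_prime (by omega)⟩
  have hk1 : (k : ZMod p) = 1 := by
    have h1 : ((k - 1 : ℕ) : ZMod p) = 0 := (ZMod.natCast_eq_zero_iff _ _).mpr (Nat.minFac_dvd _)
    have h2 : k = (k - 1) + 1 := by omega
    rw [h2, Nat.cast_add, h1, zero_add, Nat.cast_one]
  let A : Matrix V V (ZMod p) := Matrix.of fun a b => if r a b then 1 else 0
  let J : Matrix V V (ZMod p) := Matrix.of fun _ _ => 1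
  have hreg' : ∀ a, (Finset.univ.filter fun b => r a b).card = k := fun a => by
    rw [← hreg a, Nat.card_eq_fintype_card, Fintype.card_subtype]
  have hAA : A * A = J := by
    ext a b
    have : (A * A) a b = ((Finset.univ.filter fun c => r a c ∧ r c b).card : ZMod p) := by
      rw [Matrix.mul_apply, Finset.card_filter, Nat.cast_sum]
      refine Finset.sum_congr rfl fun c _ => ?_
      simp only [A, Matrix.of_apply]
      by_cases h1 : r a c <;> by_cases h2 : r c b <;> simp [h1, h2]
    rw [this]
    show _ = (1 : ZMod p)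
    by_cases hab : a = b
    · subst hab
      rw [← hk1, ← hreg' a]
      congr 2
      ext c
      simp only [Finset.mem_filter, Finset.mem_univ, true_and]
      exact ⟨fun h => h.1, fun h => ⟨h, hsymm _ _ h⟩⟩
    · obtain ⟨c, hc, hc'⟩ := hf a b hab
      have : (Finset.univ.filter fun c => r a c ∧ r c b) = {c} := by
        ext d
        simp only [Finset.mem_filter, Finset.mem_univ, true_and, Finset.mem_singleton]
        exact ⟨hc' d, fun e => e ▸ hc⟩
      rw [this, Finset.card_singleton, Nat.cast_one]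
  have hAJ : A * J = J := by
    ext a b
    show _ = (1 : ZMod p)
    rw [Matrix.mul_apply, ← hk1, ← hreg' a, Finset.card_filter, Nat.cast_sum]
    refine Finset.sum_congr rfl fun c _ => ?_
    simp only [A, J, Matrix.of_apply]
    by_cases h1 : r a c <;> simp [h1]
  have hpow : ∀ n : ℕ, A ^ (n + 2) = J := by
    intro n
    induction n with
    | zero => rw [zero_add, pow_two, hAA]
    | succ n ih => rw [show n + 1 + 2 = (n + 2) + 1 by ring, pow_succ', ih, hAJ]
  have h1 : Matrix.trace (A ^ p) = Matrix.trace A ^ p := ZMod.trace_pow_card A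
  have h2 : Matrix.trace A = 0 := by
    simp [Matrix.trace, A, hirr]
  have h3 : A ^ p = J := by
    have := hpow (p - 2)
    rwa [Nat.sub_add_cancel hpp.out.two_le] at this
  rw [h2, h3, zero_pow hpp.out.ne_zero] at h1
  have h4 : J * J = J := by
    calc J * J = A * (A * J) := by rw [← mul_assoc, hAA]
      _ = J := by rw [hAJ, hAJ]
  obtain ⟨a⟩ := ‹Nonempty V›
  have h5 := congrFun (congrFun h4 a) a
  simp only [Matrix.mul_apply, J, Matrix.of_apply, mul_one] at h5
  simp only [Matrix.trace, Matrix.diag, J, Matrix.of_apply] at h1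
  rw [h1] at h5
  exact zero_ne_one h5

/-- Let G be a finite group with an abelian Sylow 3-subgroup P such that the normalizer of P has order 4·#P, the centralizer C of P has order 2·#P, C meets each of its conjugates by elements outside its normalizer trivially, and every proper subgroup of G of even order has order dividing 4·#P. Then G is not simple. -/
theorem result {G : Type*} [Group G] [Finite G]
    (P : Sylow 3 G) (hab : IsMulCommutative P)
    (hN : Nat.card (Subgroup.normalizer ((P : Subgroup G) : Set G)) = 4 * Nat.card P)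
    (hC : Nat.card (Subgroup.centralizer (P : Set G)) = 2 * Nat.card P)
    (hTI : Cfsg.IsTISubset (Subgroup.centralizer (P : Set G) : Set G))
    (heven : ∀ H : Subgroup G, H ≠ ⊤ → 2 ∣ Nat.card H → Nat.card H ∣ 4 * Nat.card P) :
    ¬ IsSimpleGroup G := by
  intro hs
  have h3 : Fact (Nat.Prime 3) := ⟨by norm_num⟩
  have hCP : (P : Set G) = ((P : Subgroup G) : Set G) := rfl
  rw [hCP] at hC hTI
  set Q : Subgroup G := (P : Subgroup G) with hQ
  set C := centralizer (Q : Set G) with hCdef
  set N := normalizer (Q : Set G) with hNdef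
  have hcardP : Nat.card P = Nat.card Q := rfl
  rw [hcardP] at hN hC heven
  obtain ⟨n, hn⟩ := IsPGroup.iff_card.mp P.isPGroup'
  have hodd : Odd (Nat.card Q) := by rw [hn]; exact Odd.pow (by decide)
  have hQC : Q ≤ C := fun x hx y hy =>
    congrArg Subtype.val (hab.is_comm.comm (⟨y, hy⟩ : Q) ⟨x, hx⟩)
  have hCN : C ≤ N := centralizer_le_normalizer _
  have hQ3 : ∀ x ∈ N, (∃ k : ℕ, x ^ 3 ^ k = 1) → x ∈ Q := by
    rintro x hx ⟨k, hk⟩
    exact (sylIn_top P).le_of_normalizes (isPGroup_zpowers hk) le_top (zpowers_le.mpr hx)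
      (mem_zpowers x)
  have hQe : ∀ x ∈ Q, ∃ k : ℕ, x ^ 3 ^ k = 1 := isPGroup_iff_forall_mem.mp P.isPGroup'
  -- `N(C) ≤ N`
  have hNC : normalizer (C : Set G) ≤ N := by
    refine le_normalizer_of_cj_le fun g hg => cj_le_iff_forall.mpr fun x hx => ?_
    refine hQ3 _ (hCN (conj_mem_of_normalizes le_rfl hg (hQC hx))) ?_
    obtain ⟨k, hk⟩ := hQe x hx
    exact ⟨k, by rw [conj_pow, hk]; group⟩
  have TI : ∀ g x, x ∈ C → x ≠ 1 → g * x * g⁻¹ ∈ C → g ∈ N := fun g x hx h1 h2 => by
    by_contra hg
    exact h1 (hTI g (fun h => hg (hNC h)) x hx h2)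
  have h4G : 4 ∣ Nat.card G := (Dvd.intro _ hN.symm).trans (card_subgroup_dvd_card N)
  have hnc : ¬ IsMulCommutative G := by
    intro h
    let _ : CommGroup G := { ‹Group G› with mul_comm := h.is_comm.comm }
    have hp := IsSimpleGroup.prime_card (α := G)
    have := hp.eq_one_or_self_of_dvd 2 (Dvd.dvd.trans (by norm_num) h4G)
    omega
  -- the involution `t`
  obtain ⟨⟨t, htC⟩, ht⟩ := exists_prime_orderOf_dvd_card' (G := C) 2 (Dvd.intro _ hC.symm)
  have ht2 : t * t = 1 := by
    have := pow_orderOf_eq_one (⟨t, htC⟩ : C)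
    rw [ht, pow_two] at this
    exact congrArg Subtype.val this
  have ht1 : t ≠ 1 := by
    intro e
    have : (⟨t, htC⟩ : C) = 1 := Subtype.ext e
    rw [this, orderOf_one] at ht
    omega
  have hQinv : ∀ x ∈ Q, x * x = 1 → x = 1 := by
    intro x hx h
    have h1 : orderOf x ∣ 2 := orderOf_dvd_of_pow_eq_one (by rw [pow_two, h])
    have h2 : orderOf x ∣ Nat.card Q := Q.orderOf_dvd_natCard hx
    exact orderOf_eq_one_iff.mp (Nat.eq_one_of_dvd_coprimes
      (Nat.coprime_two_left.mpr hodd) h1 h2)
  have hidx : Q.relIndex C = 2 := by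
    have h1 := (Q.subgroupOf C).card_mul_index
    rw [Nat.card_congr (subgroupOfEquivOfLe hQC).toEquiv, hC, mul_comm 2] at h1
    exact Nat.eq_of_mul_eq_mul_left Nat.card_pos h1
  have huniq : ∀ s ∈ C, s * s = 1 → s ≠ 1 → s = t := by
    intro s hs hs2 hs1
    have h1 : s ∉ Q := fun h => hs1 (hQinv s h hs2)
    have h2 : t ∉ Q := fun h => ht1 (hQinv t h ht2)
    have h3 : s * t ∈ Q := by
      have := (mul_mem_iff_of_index_two (H := Q.subgroupOf C) hidx (a := ⟨s, hs⟩) (b := ⟨t, htC⟩)).mpr
        (by simp [mem_subgroupOf, h1, h2])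
      exact this
    have h4 : s * t * t = t * (s * t) := htC _ h3
    have h5 : s * t * s = s * (s * t) := hs _ h3
    have h6 : s * t = 1 := by
      refine hQinv _ h3 ?_
      rw [← mul_assoc, h5, ← mul_assoc s s, hs2, one_mul, ht2]
    calc s = s * (t * t) := by rw [ht2, mul_one]
      _ = t := by rw [← mul_assoc, h6, one_mul]
  have hNt : ∀ g, g ∈ N ↔ g * t = t * g := by
    intro g
    constructor
    · intro hg
      have h1 : g * t * g⁻¹ = t := by
        refine huniq _ (conj_mem_of_normalizes (normalizer_le_normalizer_centralizer Q) hg htC) ?_ ?_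
        · calc g * t * g⁻¹ * (g * t * g⁻¹) = g * (t * t) * g⁻¹ := by group
            _ = 1 := by rw [ht2]; group
        · intro e
          exact ht1 (by simpa using e)
      calc g * t = g * t * g⁻¹ * g := by group
        _ = t * g := by rw [h1]
    · intro h
      exact TI g t htC ht1 (by rw [h]; simpa using htC)
  -- Sylow 2-subgroups
  have h2sub : ∀ E : Subgroup G, IsPGroup 2 E → Nat.card E ∣ 4 := by
    intro E hE
    obtain ⟨m, hm⟩ := IsPGroup.iff_card.mp hE
    have hE1 : E ≠ ⊤ := by
      rintro rfl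
      have hG : IsPGroup 2 G := hE.of_equiv topEquiv
      have h1 := hG.center_nontrivial
      rcases hs.eq_bot_or_eq_top_of_normal (center G) inferInstance with h | h
      · rw [h] at h1
        exact not_nontrivial _ h1
      · exact hnc ⟨⟨fun a b => (mem_center_iff.mp (h ▸ mem_top b) a)⟩⟩
    rcases Nat.eq_zero_or_pos m with h0 | h0
    · rw [hm, h0]; norm_num
    have h1 := heven E hE1 (by rw [hm]; exact dvd_pow_self 2 h0.ne')
    refine Nat.Coprime.dvd_of_dvd_mul_right ?_ h1
    rw [hm]
    exact Nat.Coprime.pow_left _ (Nat.coprime_two_left.mpr hodd)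
  have hNodd : Odd N.index := by
    obtain ⟨S⟩ : Nonempty (Sylow 2 G) := inferInstance
    by_contra h
    rw [Nat.not_odd_iff_even, even_iff_two_dvd] at h
    have h1 : 2 ^ 3 ∣ Nat.card G := by
      rw [← N.card_mul_index, hN]
      obtain ⟨c, hc⟩ := h
      exact ⟨Nat.card Q * c, by rw [hc]; ring⟩
    have h2 := (S.pow_dvd_card_of_pow_dvd_card h1).trans (h2sub _ S.isPGroup')
    norm_num at h2
  have hCidx : C.index = 2 * N.index := by
    have h1 := C.card_mul_index
    rw [← N.card_mul_index, hN, hC] at h1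
    have : Nat.card Q * (2 * C.index) = Nat.card Q * (2 * (2 * N.index)) := by linarith
    have := Nat.eq_of_mul_eq_mul_left Nat.card_pos this
    omega
  have hconj : ∀ s : G, s * s = 1 → s ≠ 1 → ∃ g : G, g * t * g⁻¹ = s := by
    intro s hs2 hs1
    by_contra hcon
    obtain ⟨M, hM, hM2, -⟩ := CL.ThompsonTransfer.exists_index_two_of_not_conj C hCidx hNodd hs2
      (fun g hg => hcon ⟨g⁻¹, by
        rw [← huniq _ hg (by
          calc g * s * g⁻¹ * (g * s * g⁻¹) = g * (s * s) * g⁻¹ := by group
            _ = 1 := by rw [hs2]; group) (fun e => hs1 (by simpa using e))]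
        group⟩)
    rcases hs.eq_bot_or_eq_top_of_normal M hM with h | h
    · rw [h, index_bot] at hM2
      omega
    · rw [h, index_top] at hM2
      omega
  have hexp : ∀ y : G, y ^ 4 = 1 → y * y = 1 := by
    intro y hy
    by_contra hne
    have ho : orderOf y = 2 ^ 2 := orderOf_eq_prime_pow (by rwa [pow_one, pow_two]) hy
    have hz : IsPGroup 2 (zpowers y) := isPGroup_zpowers (k := 2) hy
    obtain ⟨S, hS⟩ := hz.exists_le_sylow
    have hle := Nat.le_of_dvd (by norm_num) (h2sub _ S.isPGroup')
    have e : zpowers y = S := eq_of_le_of_card_ge hS (by rw [Nat.card_zpowers, ho]; exact hle)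
    have := CL.PSyl.odd_card_of_isCyclic_sylow_two hnc S (e ▸ inferInstance)
    rw [Nat.odd_iff] at this
    omega
  -- uniqueness lemma
  have hU : ∀ x ∈ Q, x ≠ 1 → ∀ s : G, s * s = 1 → s ≠ 1 → s * x = x * s → s = t := by
    intro x hx hx1 s hs2 hs1 hsx
    obtain ⟨g, rfl⟩ := hconj s hs2 hs1
    have h1 : g⁻¹ * x * g⁻¹⁻¹ ∈ N := by
      rw [hNt]
      calc g⁻¹ * x * g⁻¹⁻¹ * t = g⁻¹ * (x * (g * t * g⁻¹)) * g := by group
        _ = _ := by rw [← hsx]; group
    have h2 : g⁻¹ * x * g⁻¹⁻¹ ∈ Q := hQ3 _ h1 (by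
      obtain ⟨k, hk⟩ := hQe x hx
      exact ⟨k, by rw [conj_pow, hk]; group⟩)
    have h3 : g ∈ N := by simpa using N.inv_mem (TI _ x (hQC hx) hx1 (hQC h2))
    rw [(hNt g).mp h3]; group
  -- an involution `u ∈ N \ C`
  obtain ⟨u, huN, hu2, hu1, hut⟩ : ∃ u ∈ N, u * u = 1 ∧ u ≠ 1 ∧ u ≠ t := by
    obtain ⟨S, hS, htS⟩ := exists_sylIn_ge (p := 2) (R := zpowers t) (H := N)
      (isPGroup_zpowers (k := 1) (by rw [pow_one, pow_two, ht2])) (zpowers_le.mpr (hCN htC))
    have h1 : 2 ^ 2 ∣ Nat.card S := by
      rw [hS.card_eq_pow_factorization]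
      exact pow_dvd_pow 2 ((Nat.prime_two.pow_dvd_iff_le_factorization Nat.card_pos.ne').mp
        (Dvd.intro _ hN.symm))
    have h2 : zpowers t ≠ S := by
      intro e
      rw [← e, Nat.card_zpowers] at h1
      have : orderOf t ∣ 2 := orderOf_dvd_of_pow_eq_one (by rw [pow_two, ht2])
      have := h1.trans this
      norm_num at this
    obtain ⟨u, hu, hu'⟩ := SetLike.exists_of_lt (lt_of_le_of_ne htS h2)
    refine ⟨u, hS.le hu, hexp u ?_, fun e => hu' (e ▸ one_mem _), fun e => hu' (e ▸ mem_zpowers _)⟩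
    exact orderOf_dvd_iff_pow_eq_one.mp ((S.orderOf_dvd_natCard hu).trans (h2sub S hS.pgroup))
  have hinv : ∀ x ∈ Q, x * u * (x * u) = 1 := by
    intro x hx
    have hu' : u⁻¹ = u := inv_eq_of_mul_eq_one_right hu2
    have h1 : u * x * u ∈ Q := by
      have := conj_mem_of_normalizes le_rfl huN hx
      rwa [hu'] at this
    have h2 : x * (u * x * u) ∈ Q := Q.mul_mem hx h1
    by_contra hne
    refine hut (hU _ h2 (fun e => hne (by rw [← e]; group)) u hu2 hu1 ?_)
    have h3 : x * (u * x * u) = (u * x * u) * x := hQC h1 x hx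
    calc u * (x * (u * x * u)) = (u * x * u * x) * u := by group
      _ = _ := by rw [← h3]
  have hQ1 : 3 ≤ Nat.card Q := by
    rcases Nat.eq_zero_or_pos n with h0 | h0
    · exfalso
      have hb : Q = ⊥ := by
        apply eq_bot_of_card_eq
        rw [hn, h0, pow_zero]
      have h1 : C = ⊤ := by
        rw [hCdef, hb, eq_top_iff]
        intro x _ y hy
        rw [show y = 1 from hy]; simp
      have h2 : N = ⊤ := top_le_iff.mp (h1 ▸ hCN)
      rw [h1] at hC
      rw [h2, hC] at hN
      have : 0 < Nat.card Q := Nat.card_pos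
      omega
    · rw [hn]
      exact Nat.le_self_pow h0.ne' 3
  let V := {s : G // s * s = 1 ∧ s ≠ 1}
  let r : V → V → Prop := fun a b => a ≠ b ∧ a.1 * b.1 = b.1 * a.1
  let tt : V := ⟨t, ht2, ht1⟩
  let cjV : G → V ≃ V := fun g => (MulAut.conj g).toEquiv.subtypeEquiv fun s => by
    show _ ↔ (MulAut.conj g s * MulAut.conj g s = 1 ∧ MulAut.conj g s ≠ 1)
    rw [← map_mul, MulEquiv.map_eq_one_iff, MulEquiv.map_ne_one_iff]
  have hcj : ∀ g a b, r (cjV g a) (cjV g b) ↔ r a b := by
    intro g a b
    refine and_congr (cjV g).injective.ne_iff ?_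
    show MulAut.conj g a.1 * MulAut.conj g b.1 = MulAut.conj g b.1 * MulAut.conj g a.1 ↔ _
    rw [← map_mul, ← map_mul, (MulAut.conj g).injective.eq_iff]
  have : Nonempty V := ⟨tt⟩
  refine friendship r (fun a h => h.1 rfl) (fun a b h => ⟨h.1.symm, h.2.symm⟩)
    (Nat.card {b // r tt b}) (hQ1.trans ?_) (fun a => ?_) (fun a b hab => ?_)
  · have hxu : ∀ x ∈ Q, x * u ∉ C := fun x hx h =>
      hut (huniq u (by simpa using C.mul_mem (C.inv_mem (hQC hx)) h) hu2 hu1)
    refine Nat.card_le_card_of_injective (fun x : Q => (⟨⟨x * u, hinv x x.2, fun e => hxu x x.2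
      (e ▸ one_mem _)⟩, fun e => hxu x x.2 ?_, ?_⟩ : {b // r tt b})) ?_
    · have : t = x * u := congrArg Subtype.val e
      exact this ▸ htC
    · exact ((hNt _).mp (N.mul_mem (hCN (hQC x.2)) huN)).symm
    · intro x y e
      have : (x : G) * u = y * u := congrArg (fun z : {b // r tt b} => z.1.1) e
      exact Subtype.ext (mul_right_cancel this)
  · obtain ⟨g, hg⟩ := hconj a.1 a.2.1 a.2.2
    have : a = cjV g tt := Subtype.ext hg.symm
    rw [this]
    exact (Nat.card_congr ((cjV g).subtypeEquiv fun b => (hcj g tt b).symm)).symm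
  · obtain ⟨a, ha2, ha1⟩ := a
    obtain ⟨b, hb2, hb1⟩ := b
    have hab' : a ≠ b := fun e => hab (Subtype.ext e)
    have ha' : a⁻¹ = a := inv_eq_of_mul_eq_one_right ha2
    have hb' : b⁻¹ = b := inv_eq_of_mul_eq_one_right hb2
    have hab1 : a * b ≠ 1 := fun e => hab' (by rw [← ha', inv_eq_of_mul_eq_one_right e])
    by_cases hcomm : a * b = b * a
    · have hab2 : a * b * (a * b) = 1 := by
        calc a * b * (a * b) = a * (b * a) * b := by group
          _ = (a * a) * (b * b) := by rw [← hcomm]; group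
          _ = 1 := by rw [ha2, hb2, one_mul]
      refine ⟨⟨a * b, hab2, hab1⟩, ⟨⟨fun e => hb1 ?_, ?_⟩, fun e => ha1 ?_, ?_⟩, ?_⟩
      · have : a = a * b := congrArg Subtype.val e
        simpa using this
      · show a * (a * b) = a * b * a
        rw [mul_assoc, ← hcomm]
      · have : a * b = b := congrArg Subtype.val e
        simpa using this
      · show a * b * b = b * (a * b)
        rw [← mul_assoc b, ← hcomm]
      · rintro ⟨c, hc2, hc1⟩ ⟨⟨hac, hac'⟩, hcb, hcb'⟩
        have hac1 : a ≠ c := fun e => hac (Subtype.ext e)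
        have hcb1 : c ≠ b := fun e => hcb (Subtype.ext e)
        change a * c = c * a at hac'
        change c * b = b * c at hcb'
        refine Subtype.ext ?_
        show c = a * b
        by_contra hne
        let Z := centralizer ({a, b, c} : Set G)
        let E : Subgroup G :=
          { carrier := {z | z ∈ Z ∧ z ∈ centralizer (Z : Set G) ∧ z * z = 1}
            one_mem' := ⟨one_mem _, one_mem _, one_mul _⟩
            mul_mem' := by
              rintro z w ⟨hz1, hz2, hz3⟩ ⟨hw1, hw2, hw3⟩
              refine ⟨mul_mem hz1 hw1, mul_mem hz2 hw2, ?_⟩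
              have := hz2 w hw1
              calc z * w * (z * w) = z * (w * z) * w := by group
                _ = (z * z) * (w * w) := by rw [this]; group
                _ = 1 := by rw [hz3, hw3, one_mul]
            inv_mem' := by
              rintro z ⟨hz1, hz2, hz3⟩
              exact ⟨inv_mem hz1, inv_mem hz2, by rw [← mul_inv_rev, hz3, inv_one]⟩ }
        have hE : IsPGroup 2 E := isPGroup_iff_forall_mem.mpr fun z hz =>
          ⟨1, by rw [pow_one, pow_two, hz.2.2]⟩
        have haE : a ∈ E := ⟨by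
          rintro y (rfl | rfl | rfl)
          exacts [rfl, hcomm.symm, hac'.symm], fun y hy => (hy a (by simp)).symm, ha2⟩
        have hbE : b ∈ E := ⟨by
          rintro y (rfl | rfl | rfl)
          exacts [hcomm, rfl, hcb'], fun y hy => (hy b (by simp)).symm, hb2⟩
        have hcE : c ∈ E := ⟨by
          rintro y (rfl | rfl | rfl)
          exacts [hac', hcb'.symm, rfl], fun y hy => (hy c (by simp)).symm, hc2⟩
        have hsub : ({1, a, b, a * b, c} : Set G) ⊆ E := by
          rintro y (rfl | rfl | rfl | rfl | rfl)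
          exacts [E.one_mem, haE, hbE, E.mul_mem haE hbE, hcE]
        have h5 : ({1, a, b, a * b, c} : Set G).ncard = 5 := by
          have e1 : a ≠ a * b := fun e => hb1 (by simpa using e)
          have e2 : b ≠ a * b := fun e => ha1 (by simpa using e)
          rw [Set.ncard_insert_of_notMem (by simp [ha1.symm, hb1.symm, hab1.symm, hc1.symm]),
            Set.ncard_insert_of_notMem (by simp [hab', e1, hac1]),
            Set.ncard_insert_of_notMem (by simp [e2, hcb1.symm]),
            Set.ncard_pair (Ne.symm hne)]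
        have h6 := Set.ncard_le_ncard hsub (Set.toFinite _)
        have h7 : (E : Set G).ncard ≤ 4 := Nat.le_of_dvd (by norm_num) (h2sub E hE)
        omega
    · have hinva : ∀ m : ℕ, a * (a * b) ^ m * a⁻¹ = ((a * b) ^ m)⁻¹ := fun m => by
        rw [← conj_pow, ← inv_pow, mul_inv_rev, hb', ha', ← mul_assoc, ha2, one_mul]
      have hinvb : ∀ m : ℕ, b * (a * b) ^ m * b⁻¹ = ((a * b) ^ m)⁻¹ := fun m => by
        rw [← conj_pow, ← inv_pow, mul_inv_rev, hb', ha', mul_assoc, mul_assoc, hb2, mul_one]
      have hD : closure ({a, b} : Set G) ≠ ⊤ := by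
        intro hD
        have hnorm : (zpowers (a * b)).Normal := by
          rw [← normalizer_eq_top_iff, eq_top_iff, ← hD, closure_le]
          rintro y (rfl | rfl)
          · refine mem_normalizer_of_cj_le ?_
            rw [cj_zpowers, zpowers_le]
            have := hinva 1
            rw [pow_one] at this
            rw [this]
            exact inv_mem (mem_zpowers _)
          · refine mem_normalizer_of_cj_le ?_
            rw [cj_zpowers, zpowers_le]
            have := hinvb 1
            rw [pow_one] at this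
            rw [this]
            exact inv_mem (mem_zpowers _)
        rcases hs.eq_bot_or_eq_top_of_normal _ hnorm with h | h
        · exact hab1 (zpowers_eq_bot.mp h)
        · have : IsCyclic G := ⟨a * b, fun y => (h ▸ mem_top y : y ∈ zpowers (a * b))⟩
          exact hnc IsCyclic.isMulCommutative
      have hdvd := heven _ hD (by
        have h1 : orderOf a = 2 := orderOf_eq_prime (by rw [pow_two, ha2]) ha1
        exact h1 ▸ orderOf_dvd_natCard _ (subset_closure (by simp)))
      have hx3 : ((a * b) ^ 4) ^ 3 ^ n = 1 := by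
        rw [← pow_mul, ← hn]
        exact orderOf_dvd_iff_pow_eq_one.mp ((orderOf_dvd_natCard _
          (mul_mem (subset_closure (by simp)) (subset_closure (by simp)))).trans hdvd)
      have hx1 : (a * b) ^ 4 ≠ 1 := fun e => hcomm (by
        have := hexp _ e
        rw [← inv_eq_of_mul_eq_one_right this, mul_inv_rev, ha', hb'])
      have hia := hinva 4
      have hib := hinvb 4
      have hcx : ∀ c : G, c * a = a * c → c * b = b * c → c * (a * b) ^ 4 = (a * b) ^ 4 * c :=
        fun c h1 h2 => ((Commute.mul_right h1 h2).pow_right 4).eq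
      generalize (a * b) ^ 4 = x at hx3 hx1 hia hib hcx
      obtain ⟨g, -, hg⟩ := (sylIn_top P).exists_conj_le (isPGroup_zpowers hx3) le_top
      have hxQ : g * x * g⁻¹ ∈ Q := hg (conj_mem_cj (mem_zpowers x))
      have hx1' : g * x * g⁻¹ ≠ 1 := fun e => hx1 (by simpa using e)
      have key : ∀ d : G, d * x * d⁻¹ = x⁻¹ → d ≠ g⁻¹ * t * g ∧
          d * (g⁻¹ * t * g) = (g⁻¹ * t * g) * d := by
        intro d hd
        have h1 : (g * d * g⁻¹) * (g * x * g⁻¹) * (g * d * g⁻¹)⁻¹ = (g * x * g⁻¹)⁻¹ := by
          calc _ = g * (d * x * d⁻¹) * g⁻¹ := by group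
            _ = _ := by rw [hd]; group
        constructor
        · intro e
          have h2 : g * d * g⁻¹ = t := by rw [e]; group
          rw [h2, ← htC _ hxQ, mul_inv_cancel_right] at h1
          exact hx1' (hQinv _ hxQ (by nth_rewrite 1 [h1]; exact inv_mul_cancel _))
        · have h2 := (hNt _).mp (TI (g * d * g⁻¹) _ (hQC hxQ) hx1' (h1 ▸ C.inv_mem (hQC hxQ)))
          calc d * (g⁻¹ * t * g) = g⁻¹ * (g * d * g⁻¹ * t) * g := by group
            _ = _ := by rw [h2]; group
      have hval : (cjV g⁻¹ tt).1 = g⁻¹ * t * g := by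
        show g⁻¹ * t * g⁻¹⁻¹ = _
        rw [inv_inv]
      refine ⟨cjV g⁻¹ tt, ⟨⟨fun e => (key a hia).1 ?_, ?_⟩, fun e => (key b hib).1 ?_, ?_⟩, ?_⟩
      · exact (congrArg Subtype.val e).trans hval
      · rw [hval]; exact (key a hia).2
      · exact (congrArg Subtype.val e).symm.trans hval
      · rw [hval]; exact (key b hib).2.symm
      · rintro ⟨c, hc2, hc1⟩ ⟨⟨-, hac'⟩, -, hcb'⟩
        have h1 := hcx c hac'.symm hcb'
        have h2 := hU _ hxQ hx1' (g * c * g⁻¹) (by
          calc g * c * g⁻¹ * (g * c * g⁻¹) = g * (c * c) * g⁻¹ := by group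
            _ = 1 := by rw [hc2]; group) (fun e => hc1 (by simpa using e)) (by
          calc g * c * g⁻¹ * (g * x * g⁻¹) = g * (c * x) * g⁻¹ := by group
            _ = _ := by rw [h1]; group)
        refine Subtype.ext ?_
        show c = g⁻¹ * t * g⁻¹⁻¹
        rw [← h2]; group

end Cfsg.Agent.S4018
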