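import Cfsg.Statements.S4025
import Cfsg.Agent.INV.EqOrd.AffMain
import Cfsg.Agent.SIG.PBase

set_option autoImplicit false
open Cfsg

namespace Cfsg.Agent.S4025

open CL CL.EqOrd CL.MSS Subgroup

/-- Let p be a prime and G a finite group in which any two p-subgroups of the same order are conjugate, and suppose a Sylow p-subgroup P of G is elementary abelian of order pⁿ with n ≥ 3. Let N be the normalizer of P and K the largest normal subgroup of N of order prime to p, and assume N/K is solvable. Then either n = 3 and N/K embeds in the one-dimensional semi-affine group over the field with p³ elements (and for p = 2 it is isomorphic to the affine or the semi-affine group over the field with 8 elements), or n = 5, p = 2 and N/K is isomorphic to the one-dimensional semi-affine group over the field with 32 elements. -/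
theorem result {G : Type*} [Group G] [Finite G]
    {p : ℕ} [Fact p.Prime] (hC : ∀ H K : Subgroup G, IsPGroup p H → IsPGroup p K → Nat.card H = Nat.card K →
      ∃ g : G, K = H.map (MulAut.conj g).toMonoidHom) (P : Sylow p G) (n : ℕ) (hn : 3 ≤ n)
    (hel : Cfsg.IsElementaryAbelian p (P : Subgroup G)) (hcard : Nat.card P = p ^ n)
    (N : Subgroup G) (hN : N = Subgroup.normalizer ((P : Subgroup G) : Set G))
    (hsolv : Group.IsSolvable (↥N ⧸ Cfsg.pPrimeCore p ↥N)) :
    (n = 3 ∧ (∃ f : ↥N ⧸ Cfsg.pPrimeCore p ↥N →* ↥(Cfsg.semiaffineGroup (GaloisField p 3)), Function.Injective f) ∧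
      (p = 2 → Nonempty (↥N ⧸ Cfsg.pPrimeCore p ↥N ≃* Cfsg.semiaffineGroup (GaloisField 2 3)) ∨
               Nonempty (↥N ⧸ Cfsg.pPrimeCore p ↥N ≃* Cfsg.affineGroup (GaloisField 2 3)))) ∨
    (n = 5 ∧ p = 2 ∧ Nonempty (↥N ⧸ Cfsg.pPrimeCore p ↥N ≃* Cfsg.semiaffineGroup (GaloisField 2 5))) := by
  have hD : DP p G := hC
  have hPN : (P : Subgroup G) ≤ N := hN ▸ le_normalizer
  set f := QuotientGroup.mk' (pPrimeCore p N)
  have hf : Function.Surjective f := QuotientGroup.mk'_surjective _
  have hk : (P : Subgroup G).subgroupOf N ⊓ f.ker = ⊥ := by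
    rw [QuotientGroup.ker_mk']
    exact PComp.inf_eq_bot_of_isPGroup_of_coprime (isPGroup_subgroupOf P.isPGroup' N) (PComp.pPrimeCore_coprime p)
  have hn1 : ((P : Subgroup G).subgroupOf N).Normal := by
    subst hN
    infer_instance
  have hn2 : (((P : Subgroup G).subgroupOf N).map f).Normal := hn1.map f hf
  let Q : Sylow p (N ⧸ pPrimeCore p N) := (P.subtype hPN).mapSurjective hf
  have hQ : (Q : Subgroup _) = ((P : Subgroup G).subgroupOf N).map f := rfl
  have hn3 : (Q : Subgroup (N ⧸ pPrimeCore p N)).Normal := hn2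
  have htr : ∀ m, Tr m ⊤ (Q : Subgroup (N ⧸ pPrimeCore p N)) := fun m =>
    (((hN ▸ hD.bp.tr P hel.1 m : Tr m N P).subgroupOf).map_of_ker hk).mono le_top
  refine affine_main (EqOrd.elemAb_map (EqOrd.elemAb_subgroupOf hel N) f) Q.card_coprime_index ?_ hn ?_ (htr _) (htr _)
  · rw [← hQ, sylow_eq_pCore_of_normal Q]
    exact centralizer_pCore_le_of_isSolvable (PComp.pPrimeCore_quotient p)
  · rw [EqOrd.card_map_of_inf_ker f hk, Nat.card_congr (subgroupOfEquivOfLe hPN).toEquiv]
    exact hcard

end Cfsg.Agent.S4025
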