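import Cfsg.Statements.S4027
import Cfsg.Agent.S3861

set_option autoImplicit false
open Cfsg

namespace Cfsg.Agent.S4027

open Subgroup

/-- Let G be a finite group in which every element x of odd order satisfies N_G(⟨x⟩) = C_G(x). Then the Sylow 2-subgroups of G are normal. -/
theorem result {G : Type*} [Group G] [Finite G]
    (hirr : ∀ x : G, (∀ r : ℕ, r.Prime → r ∣ orderOf x → r ≠ 2) →
      Subgroup.normalizer ((Subgroup.zpowers x : Subgroup G) : Set G) ≤ Subgroup.centralizer {x}) (P : Sylow 2 G) :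
    (P : Subgroup G).Normal := by
  refine (Cfsg.Agent.S3861.result P).1 fun x hx ho hc => hx ?_
  obtain ⟨g, hg⟩ := isConj_iff.1 hc
  have h1 : g ∈ normalizer ((zpowers x : Subgroup G) : Set G) := by
    refine mem_normalizer_fintype fun y hy => ?_
    obtain ⟨n, rfl⟩ := mem_zpowers_iff.1 hy
    rw [← conj_zpow, hg]
    exact zpow_mem (inv_mem (mem_zpowers x)) n
  have h2 := mem_centralizer_singleton_iff.1
    (hirr x (fun r _ hr h => (Nat.not_even_iff_odd.2 ho) (even_iff_two_dvd.2 (h ▸ hr))) h1)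
  rw [h2, mul_inv_cancel_right] at hg
  have h3 : orderOf x ∣ 2 := orderOf_dvd_of_pow_eq_one (by rw [sq]; nth_rw 1 [hg]; simp)
  exact orderOf_eq_one_iff.1 (Nat.Coprime.eq_one_of_dvd (Nat.coprime_two_right.2 ho) h3)

end Cfsg.Agent.S4027
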