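import Cfsg.Statements.S4048
import Mathlib
import Cfsg.Agent.FGS.PiHomMin
import Cfsg.Agent.PLOC.FrobeniusNPC

set_option autoImplicit false
open Cfsg

namespace Cfsg.Agent.S4048

open Subgroup CL CL.PiHom

theorem solvable_of_card_le_two {H : Type*} [Group H] [Finite H]
    (h : (Nat.card H).primeFactors.card ≤ 2) : Group.IsSolvable H := by
  by_contra hn
  obtain ⟨p, hp, hpd, -, -⟩ := CL.MinTr.exists_third hn Nat.prime_two Nat.prime_two
  obtain ⟨q, hq, hqd, hpq, -⟩ := CL.MinTr.exists_third hn hp hp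
  obtain ⟨r, hr, hrd, hpr, hqr⟩ := CL.MinTr.exists_third hn hp hq
  have h0 : Nat.card H ≠ 0 := Nat.card_pos.ne'
  have hsub : ({p, q, r} : Finset ℕ) ⊆ (Nat.card H).primeFactors := by
    intro x hx
    simp only [Finset.mem_insert, Finset.mem_singleton] at hx
    rcases hx with rfl | rfl | rfl
    · exact Nat.mem_primeFactors.2 ⟨hp, hpd, h0⟩
    · exact Nat.mem_primeFactors.2 ⟨hq, hqd, h0⟩
    · exact Nat.mem_primeFactors.2 ⟨hr, hrd, h0⟩
  have := Finset.card_le_card hsub
  rw [Finset.card_eq_three.2 ⟨p, q, r, hpq, hpr, hqr, rfl⟩] at this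
  omega

/-- Let π be a set of odd primes and G a finite group whose order has exactly four distinct prime divisors. Then the π'-elements of G form a subgroup if and only if N_G(H)/C_G(H) is a π-group for every nontrivial π-subgroup H of G. -/
theorem result {G : Type*} [Group G] [Finite G] (π : Set ℕ)
    (hodd : ∀ p ∈ π, p.Prime ∧ p ≠ 2) (h4 : (Nat.card G).primeFactors.card = 4) :
    (∃ K : Subgroup G, ∀ x : G, x ∈ K ↔ ∀ p : ℕ, p.Prime → p ∣ orderOf x → p ∉ π) ↔ (∀ H : Subgroup G, H ≠ ⊥ → (∀ p : ℕ, p.Prime → p ∣ Nat.card ↥H → p ∈ π) →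
        ∀ p : ℕ, p.Prime → p ∣ (Subgroup.centralizer (H : Set G)).relIndex (Subgroup.normalizer (H : Set G)) → p ∈ π) := by
  classical
  refine ⟨fun h => hom_iff.1 (Cl.hom (π := π) h), fun hhom => ?_⟩
  have h : Hom π G := hom_iff.2 hhom
  refine h.cl ?_
  have h0 : Nat.card G ≠ 0 := Nat.card_pos.ne'
  by_cases h1 : ∃ p : ℕ, p.Prime ∧ p ∣ Nat.card G ∧ p ∈ π
  swap
  · push Not at h1
    exact isPiSeparable_of_isPiNum_compl h1
  obtain ⟨p, hp, hpd, hpπ⟩ := h1
  by_cases h2 : ∃ q : ℕ, q.Prime ∧ q ∣ Nat.card G ∧ q ∈ π ∧ q ≠ p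
  · obtain ⟨q, hq, hqd, hqπ, hqp⟩ := h2
    refine Hom.sep_of_solvable (fun h2 => (hodd 2 h2).2 rfl) G h fun H hH => ?_
    apply solvable_of_card_le_two
    have hsub : (Nat.card H).primeFactors ⊆ (Nat.card G).primeFactors \ {p, q} := by
      intro r hr
      obtain ⟨hr1, hr2, -⟩ := Nat.mem_primeFactors.1 hr
      rw [Finset.mem_sdiff]
      refine ⟨Nat.mem_primeFactors.2 ⟨hr1, hr2.trans (card_subgroup_dvd_card H), h0⟩, fun hm => ?_⟩
      simp only [Finset.mem_insert, Finset.mem_singleton] at hm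
      rcases hm with rfl | rfl
      · exact hH _ hr1 hr2 hpπ
      · exact hH _ hr1 hr2 hqπ
    have h5 := Finset.card_le_card hsub
    rw [Finset.card_sdiff_of_subset (by
      intro x hx
      simp only [Finset.mem_insert, Finset.mem_singleton] at hx
      rcases hx with rfl | rfl
      · exact Nat.mem_primeFactors.2 ⟨hp, hpd, h0⟩
      · exact Nat.mem_primeFactors.2 ⟨hq, hqd, h0⟩), h4, Finset.card_pair hqp.symm] at h5
    exact h5
  · push Not at h2
    have := Fact.mk hp
    obtain ⟨P, N, hN, hc⟩ := (CL.Tr.hasNPC_iff_forall_isPGroup (G := G) (p := p)).2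
      fun Q hQ g hg hcop => h Q (IsPiNum.of_isPGroup hQ hpπ) g hg fun r hr hd hπ => by
        have := h2 r hr (hd.trans (orderOf_dvd_natCard g)) hπ
        subst this
        exact hr.one_lt.ne' (Nat.eq_one_of_dvd_coprimes hcop hd dvd_rfl)
    refine IsPiSeparable.of_normal_of_quotient N (isPiSeparable_of_isPiNum_compl fun r hr hd hπ => ?_)
      (isPiSeparable_of_isPiNum ?_)
    · have := h2 r hr (hd.trans (card_subgroup_dvd_card N)) hπ
      subst this
      rw [← hc.index_eq_card] at hd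
      exact P.not_dvd_index hd
    · rw [← index_eq_card, hc.symm.index_eq_card]
      exact IsPiNum.of_isPGroup P.isPGroup' hpπ

end Cfsg.Agent.S4048
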