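import Cfsg.Statements.S4049
import Cfsg.Agent.S3861

set_option autoImplicit false
open Cfsg

namespace Cfsg.Agent.S4049

open Subgroup

/-- Let G be a finite group such that N_G(H)/C_G(H) has odd order for every nontrivial subgroup H of odd order. Then the Sylow 2-subgroups of G are normal. -/
theorem result {G : Type*} [Group G] [Finite G]
    (hhom : ∀ H : Subgroup G, H ≠ ⊥ → ¬ 2 ∣ Nat.card ↥H →
        ¬ 2 ∣ (Subgroup.centralizer (H : Set G)).relIndex (Subgroup.normalizer (H : Set G))) (P : Sylow 2 G) :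
    (P : Subgroup G).Normal := by
  refine (Cfsg.Agent.S3861.result P).1 fun x hx ho hc => hx ?_
  obtain ⟨g, hg⟩ := isConj_iff.1 hc
  have h1 : g ∈ normalizer ((zpowers x : Subgroup G) : Set G) := by
    refine mem_normalizer_fintype fun y hy => ?_
    obtain ⟨n, rfl⟩ := mem_zpowers_iff.1 hy
    rw [← conj_zpow, hg]
    exact zpow_mem (inv_mem (mem_zpowers x)) n
  have hC : ∀ y : G, y ∈ centralizer ((zpowers x : Subgroup G) : Set G) ↔ x * y = y * x := fun y => by
    rw [zpowers_eq_closure, centralizer_closure, mem_centralizer_singleton_iff, eq_comm]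
  have h2 := hhom (zpowers x) (by simpa using hx)
    (by rw [Nat.card_zpowers, ← even_iff_two_dvd, Nat.not_even_iff_odd]; exact ho)
  rw [← even_iff_two_dvd, Nat.not_even_iff_odd] at h2
  obtain ⟨k, hk⟩ := h2
  have h3 : (⟨g, h1⟩ : normalizer ((zpowers x : Subgroup G) : Set G)) ^ (2 * k + 1) ∈
      (centralizer ((zpowers x : Subgroup G) : Set G)).subgroupOf _ := hk ▸ pow_index_mem _ _
  rw [mem_subgroupOf, SubgroupClass.coe_pow, pow_succ, pow_mul] at h3
  have h4 : g ^ 2 ∈ centralizer ((zpowers x : Subgroup G) : Set G) := by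
    rw [hC, sq]
    have : g * x⁻¹ * g⁻¹ = x := by rw [← conj_inv, hg, inv_inv]
    calc _ = g * (g * x * g⁻¹) * g⁻¹ * (g * g) := by rw [hg, this]
      _ = _ := by group
  have h5 := (hC g).1 ((mul_mem_cancel_left (pow_mem h4 k)).1 h3)
  rw [← h5, mul_inv_cancel_right] at hg
  have h3 : orderOf x ∣ 2 := orderOf_dvd_of_pow_eq_one (by rw [sq]; nth_rw 1 [hg]; simp)
  exact orderOf_eq_one_iff.1 (Nat.Coprime.eq_one_of_dvd (Nat.coprime_two_right.2 ho) h3)

end Cfsg.Agent.S4049
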