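import Cfsg.Statements.S4050
import Cfsg.Agent.SOLV.OddOrderCor
import Cfsg.Agent.SOLV.Coprime

set_option autoImplicit false
open Cfsg

namespace Cfsg.Agent.S4050

open Subgroup CL

theorem closed_aux {G : Type*} [Group G] [Finite G] {π : Set ℕ} {K : Subgroup G}
    (hK : ∀ x : G, x ∈ K ↔ ∀ p : ℕ, p.Prime → p ∣ orderOf x → p ∈ π) :
    K.Normal ∧ IsPiNum π (Nat.card K) ∧
      ∀ (p : ℕ) (H : Subgroup G), p.Prime → p ∈ π → IsPGroup p H → H ≤ K := by
  refine ⟨⟨fun x hx g => ?_⟩, fun p hp hd => ?_, fun p H hp hπ hH x hx => ?_⟩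
  · rw [hK] at hx ⊢
    have : orderOf (g * x * g⁻¹) = orderOf x := (MulAut.conj g).orderOf_eq x
    rwa [this]
  · have := Fact.mk hp
    obtain ⟨x, hx⟩ := exists_prime_orderOf_dvd_card' p hd
    exact (hK x).1 x.2 p hp (by rw [orderOf_coe, hx])
  · have := Fact.mk hp
    obtain ⟨k, hk⟩ := IsPGroup.iff_orderOf.1 hH ⟨x, hx⟩
    rw [orderOf_mk] at hk
    rw [hK, hk]
    exact isPiNum_of_mem hp hπ k

theorem sep_of_closed {G : Type*} [Group G] [Finite G] {π : Set ℕ} {K : Subgroup G}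
    (hK : ∀ x : G, x ∈ K ↔ ∀ p : ℕ, p.Prime → p ∣ orderOf x → p ∈ π) : IsPiSeparable π G := by
  obtain ⟨h1, h2, h3⟩ := closed_aux hK
  refine IsPiSeparable.of_normal_of_quotient K (isPiSeparable_of_isPiNum h2)
    (isPiSeparable_of_isPiNum_compl fun p hp hd hπ => ?_)
  have := Fact.mk hp
  obtain ⟨P⟩ : Nonempty (Sylow p G) := inferInstance
  exact P.not_dvd_index (hd.trans (index_dvd_of_le (h3 p P hp hπ P.isPGroup')))

/-- Let π be a set of primes and G a finite group. The π-elements of G (elements whose order is divisible only by primes of π) form a subgroup if and only if G is π-separable (it has a chain of normal subgroups from 1 to G with each successive index divisible only by primes in π or only by primes outside π) and N_G(H)/C_G(H) is a π'-group for every nontrivial π'-subgroup H of G. -/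
theorem result {G : Type*} [Group G] [Finite G] (π : Set ℕ)
    (hπ : ∀ p ∈ π, p.Prime) :
    (∃ K : Subgroup G, ∀ x : G, x ∈ K ↔ ∀ p : ℕ, p.Prime → p ∣ orderOf x → p ∈ π) ↔
    ((∃ (n : ℕ) (H : Fin (n + 1) → Subgroup G), H 0 = ⊥ ∧ H (Fin.last n) = ⊤ ∧ Monotone H ∧ (∀ i, (H i).Normal) ∧
      ∀ i : Fin n, (∀ q : ℕ, q.Prime → q ∣ (H i.castSucc).relIndex (H i.succ) → q ∈ π) ∨
        (∀ q : ℕ, q.Prime → q ∣ (H i.castSucc).relIndex (H i.succ) → q ∉ π)) ∧
     (∀ H : Subgroup G, H ≠ ⊥ → (∀ p : ℕ, p.Prime → p ∣ Nat.card ↥H → p ∉ π) →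
        ∀ p : ℕ, p.Prime → p ∣ (Subgroup.centralizer (H : Set G)).relIndex (Subgroup.normalizer (H : Set G)) → p ∉ π)) := by
  rw [← isPiSeparable_iff]
  constructor
  · rintro ⟨K, hK⟩
    refine ⟨sep_of_closed hK, fun H _ hH p hp hd hπ => ?_⟩
    obtain ⟨h1, h2, h3⟩ := closed_aux hK
    have := Fact.mk hp
    obtain ⟨P⟩ : Nonempty (Sylow p (normalizer (H : Set G))) := inferInstance
    refine P.not_dvd_index (hd.trans (index_dvd_of_le fun x hx => ?_))
    have hx1 : (x : G) ∈ K := h3 p _ hp hπ (P.isPGroup'.map (Subgroup.subtype _)) ⟨x, hx, rfl⟩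
    have hb : K ⊓ H = ⊥ := (disjoint_iff.1 (disjoint_of_coprime_natCard (IsPiNum.coprime h2 hH)))
    rw [mem_subgroupOf, mem_centralizer_iff]
    intro h hh
    have h4 : (x : G) * h * (x : G)⁻¹ * h⁻¹ ∈ K ⊓ H := mem_inf.2 ⟨by
      have := K.mul_mem hx1 (h1.conj_mem _ (K.inv_mem hx1) h)
      simpa only [mul_assoc] using this, H.mul_mem ((mem_normalizer_iff.1 x.2 h).1 hh) (H.inv_mem hh)⟩
    rw [hb, mem_bot, mul_inv_eq_one, mul_inv_eq_iff_eq_mul] at h4
    exact h4.symm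
  · rintro ⟨hs, hh⟩
    refine ⟨piCore π G, fun x => ⟨fun hx => (isPiNum_card_piCore π G).of_dvd (orderOf_dvd_natCard _ hx), fun hx => ?_⟩⟩
    obtain ⟨L, hL⟩ := hs.compl.exists_isPiHall
    let f := QuotientGroup.mk' (piCore π G)
    have hf : Function.Surjective f := QuotientGroup.mk'_surjective _
    let M := piCore πᶜ (G ⧸ piCore π G)
    have h1 : (L ⊓ M.comap f).map f = M := by
      refine le_antisymm (map_le_iff_le_comap.2 inf_le_right) fun m hm => ?_
      obtain ⟨l, hl, rfl⟩ := IsPiHall.piCore_le (IsPiHall.map hL hf) hm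
      exact ⟨l, ⟨hl, hm⟩, rfl⟩
    have h2 : IsPiNum πᶜ (Nat.card ↥(L ⊓ M.comap f)) :=
      (isPiHall_iff.1 hL).1.of_dvd (card_dvd_of_le inf_le_left)
    generalize L ⊓ M.comap f = A at h1 h2
    have h3 : (Nat.card A).Coprime (Nat.card (piCore π G)) := ((isPiNum_card_piCore π G).coprime h2).symm
    have h4 := normalizer_map_mk'_of_coprime (piCore π G) A h3 (isSolvable_or_of_coprime _ _ h3)
    rw [h1, normalizer_eq_top] at h4
    obtain ⟨y, hy, hyx⟩ : f x ∈ (normalizer (A : Set G)).map f := h4 ▸ mem_top _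
    obtain ⟨k, hk, hyk⟩ : ∃ k, IsPiNum πᶜ k ∧ y ^ k ∈ centralizer (A : Set G) := by
      by_cases h0 : A = ⊥
      · exact ⟨1, IsPiNum.one _, by simp [h0, mem_centralizer_iff]⟩
      · exact ⟨_, hh A h0 h2, pow_index_mem ((centralizer (A : Set G)).subgroupOf _) ⟨y, hy⟩⟩
    have h5 : f x ^ k ∈ M := (hs.quotient _).compl.centralizer_piCore_le
      (by rw [compl_compl]; exact piCore_quotient_piCore π G) (by
        have := map_le_centralizer_map f (le_refl (centralizer (A : Set G))) ⟨_, hyk, rfl⟩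
        rwa [h1, map_pow, hyx] at this)
    have h6 : orderOf (f x) ∣ k * Nat.card M := orderOf_dvd_of_pow_eq_one (by
      rw [pow_mul]
      exact orderOf_dvd_iff_pow_eq_one.1 (orderOf_dvd_natCard _ h5))
    have h7 : orderOf (f x) = 1 := IsPiNum.eq_one (IsPiNum.of_dvd hx (orderOf_map_dvd f x))
      ((hk.mul (isPiNum_card_piCore _ _)).of_dvd h6)
    exact (QuotientGroup.eq_one_iff x).1 (orderOf_eq_one_iff.1 h7)

end Cfsg.Agent.S4050
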