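import Cfsg.Statements.S4057
import Cfsg.Agent.FGS.UniGen
import Cfsg.Agent.FGS.MaxCl3
import Cfsg.Agent.PLOC.PRankOmega
import Cfsg.Agent.PLOC.ClassTwo
import Cfsg.Agent.PLOC.PFrattini
import Cfsg.Agent.ODD.BG4.Rank2
import Cfsg.Agent.INV.ElemAbGL
import Cfsg.Agent.FUS.DefCharSL

set_option autoImplicit false
open Cfsg

namespace Cfsg.Agent.S4057

section
open Subgroup CL
open scoped commutatorElement

universe u
variable {p : ℕ} [hp : Fact p.Prime]

theorem comm_pow {G : Type*} [Group G] [Finite G] (hG : IsPGroup p G) (h2 : p ≠ 2)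
    (h : ∀ x : G, x ^ p = 1 → x ∈ center G) {x : G} (hx : x ^ p ∈ center G) (g : G) :
    ⁅x, g⁆ ^ p = 1 := by
  suffices ∀ n (H : Subgroup G), Nat.card H = n → x ∈ H → ∀ g ∈ H, ⁅x, g⁆ ^ p = 1 from
    this _ ⊤ rfl (mem_top x) g (mem_top g)
  intro n
  induction n using Nat.strong_induction_on with
  | _ n ih =>
  rintro H rfl h1 g hg
  rcases (zpowers_le.2 h1).eq_or_lt with e | e
  · obtain ⟨k, rfl⟩ := e.ge hg
    rw [((Commute.refl x).zpow_right k).commutator_eq, one_pow]
  obtain ⟨S, h3, h4, h5⟩ := BG.Sec4.exists_normalIn_index_p (hG.to_subgroup H) e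
  have h6 := ih _ (lt_of_le_of_ne (card_le_of_le h4.1) fun e => hp.out.one_lt.ne' (h5.symm.trans
    (relIndex_eq_one.2 (eq_of_le_of_card_ge h4.1 e.ge).ge))) S rfl (h3 (mem_zpowers x)) _
      (inv_mem ((mem_normalizer_iff.1 (h4.2 hg) x).1 (h3 (mem_zpowers x))))
  have h7 : ⁅(g * x * g⁻¹)⁻¹, x⁆ ^ p = 1 := by rw [← commutatorElement_inv, inv_pow, h6, inv_one]
  have h8 := mem_center_iff.1 (h _ h7)
  rw [show ⁅x, g⁆ = x * (g * x * g⁻¹)⁻¹ by group, PG.mul_pow_of_odd (h8 _) (h8 _)
    (hp.out.odd_of_ne_two h2) h7, inv_pow, conj_pow, mem_center_iff.1 hx g, mul_inv_cancel_right,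
    mul_inv_cancel]

theorem index_frattini_le (h2 : p ≠ 2) (n : ℕ) : ∀ (G : Type u) [Group G] [Finite G],
    Nat.card G = n → IsPGroup p G → (∀ x : G, x ^ p = 1 → x ∈ center G) →
      (frattini G).index ≤ Nat.card {x : G // x ^ p = 1} := by
  induction n using Nat.strong_induction_on with
  | _ n ih =>
  rintro G _ _ rfl hG h
  obtain ⟨Z, hZ⟩ : ∃ Z : Subgroup G, ∀ x, x ∈ Z ↔ x ^ p = 1 :=
    ⟨{ carrier := {x | x ^ p = 1}
       one_mem' := one_pow p
       mul_mem' := fun {a b} ha hb => (Commute.mul_pow (mem_center_iff.1 (h b hb) a) p).trans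
        (by rw [ha, hb, one_mul])
       inv_mem' := fun {a} ha => (inv_pow a p).trans (by rw [ha, inv_one]) }, fun _ => Iff.rfl⟩
  have : Z.Normal := ⟨fun a ha g => by
    rwa [mem_center_iff.1 (h a ((hZ a).1 ha)) g, mul_inv_cancel_right]⟩
  rw [← Nat.card_congr (Equiv.subtypeEquivRight hZ)]
  rcases subsingleton_or_nontrivial G with h1 | h1
  · rw [Subsingleton.elim (frattini G) ⊤, index_top]
    exact Nat.card_pos
  obtain ⟨z, hz⟩ := exists_prime_orderOf_dvd_card' p (hG.card_eq_or_dvd.resolve_left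
    Finite.one_lt_card.ne')
  have h3 : 1 < Nat.card Z := (one_lt_card_iff_ne_bot Z).2 fun e => hp.out.one_lt.ne' (by
    rw [← hz, orderOf_eq_one_iff]
    exact mem_bot.1 (e.le ((hZ z).2 (hz ▸ pow_orderOf_eq_one z))))
  have h4 : ∀ x : G, (x : G ⧸ Z) ^ p = 1 → x ^ p ∈ Z := fun x hx =>
    (QuotientGroup.eq_one_iff _).1 hx
  have h5 := ih _ (by
    rw [card_eq_card_quotient_mul_card_subgroup Z]
    exact lt_mul_of_one_lt_right Nat.card_pos h3) (G ⧸ Z) rfl (hG.to_quotient Z) fun x hx => by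
      obtain ⟨x, rfl⟩ := QuotientGroup.mk_surjective x
      refine mem_center_iff.2 fun g => ?_
      obtain ⟨g, rfl⟩ := QuotientGroup.mk_surjective g
      exact (commutatorElement_eq_one_iff_mul_comm.1 ((QuotientGroup.eq_one_iff ⁅x, g⁆).2
        ((hZ _).2 (comm_pow hG h2 h (h _ ((hZ _).1 (h4 x hx))) g)))).symm
  rw [← PG.frattini_map_eq_of_surjective hG _ (QuotientGroup.mk'_surjective Z), index_map,
    QuotientGroup.ker_mk', QuotientGroup.range_mk', index_top, mul_one] at h5
  have h6 : Nat.card {x : G ⧸ Z // x ^ p = 1} ≤ Nat.card ((frattini G).subgroupOf Z) :=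
    Nat.card_le_card_of_injective (fun x => ⟨⟨x.1.out ^ p, h4 _ (by rw [QuotientGroup.out_eq', x.2])⟩,
      PG.pow_mem_frattini hG _⟩) fun x y e => by
        have h6 : x.1.out ^ p = y.1.out ^ p := congrArg (·.1.1) e
        have h7 := comm_pow hG h2 h (h _ ((hZ _).1 (h4 y.1.out (by rw [QuotientGroup.out_eq', y.2])))) x.1.out⁻¹
        have h8 := mem_center_iff.1 (h _ h7)
        refine Subtype.ext (x.1.out_eq'.symm.trans ((QuotientGroup.eq.2 ((hZ _).2 ?_)).trans
          y.1.out_eq'))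
        rw [PG.mul_pow_of_odd (h8 _) (h8 _) (hp.out.odd_of_ne_two h2) h7, inv_pow, h6,
          inv_mul_cancel]
  rw [← relIndex_mul_index (le_sup_left : frattini G ≤ frattini G ⊔ Z), relIndex_sup_left,
    ← card_mul_index ((frattini G).subgroupOf Z), mul_comm]
  exact Nat.mul_le_mul_right _ (h5.trans h6)

theorem index_le_of_gl {G : Type*} [Group G] [Finite G] (hG : IsPGroup p G) {n : ℕ}
    (f : G →* GL (Fin n) (ZMod p)) {D : Subgroup G} (hD : commutator G ≤ D) (hK : f.ker ≤ D) :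
    D.index ≤ p ^ (n ^ 2 / 4) := by
  have h1 : ∀ g, (f g).1.det = 1 := fun g => by
    obtain ⟨k, hk⟩ := hG g
    have := congrArg (fun x => (f x).1.det) hk
    simp only [map_pow, Units.val_pow_eq_pow_val, Matrix.det_pow, ZMod.pow_card_pow, map_one,
      Units.val_one, Matrix.det_one] at this
    exact this
  let φ : G →* Matrix.SpecialLinearGroup (Fin n) (ZMod p) :=
    MonoidHom.mk' (fun g => ⟨(f g).1, h1 g⟩) fun a b =>
      Subtype.ext (congrArg Units.val (f.map_mul a b))
  obtain ⟨b, -, hb⟩ := (DefChar.sylIn_slU (p := p)).exists_conj_le le_top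
    (hG.of_surjective _ φ.rangeRestrict_surjective)
  refine UniGen.index_le ((Units.coeHom _).comp (Matrix.SpecialLinearGroup.toGL.comp
    ((MulAut.conj b).toMonoidHom.comp φ))) (fun g i j e => ?_) hD fun g hg => hK ?_
  · have h2 := DefChar.mem_flagSp.1 (DefChar.mem_slU.1 (hb _ ⟨g, rfl⟩) j _
      (DefChar.single_mem_flagSp (i := j) (Nat.lt_succ_self _) 1)) i
        ((Nat.pow_le_pow_iff_right one_lt_two).1 (Nat.lt_succ_iff.1 e))
    rw [DefChar.lin_apply, Matrix.mulVec_single_one] at h2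
    rw [Matrix.sub_apply, Matrix.one_apply, ← Pi.single_apply]
    exact h2
  · have h2 : MulAut.conj b (φ g) = 1 := Subtype.ext hg
    have h3 : φ g = 1 := (MulEquiv.map_eq_one_iff _).1 h2
    exact Units.ext (congrArg Subtype.val h3)

end

/-- Let p be an odd prime and P a finite p-group in which every normal abelian subgroup can be generated by k elements. Then every subgroup of P can be generated by at most ⌊k(k+4)/4⌋ elements. -/
theorem result {P : Type*} [Group P] [Finite P] {p : ℕ} [Fact p.Prime]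
    (hp : p ≠ 2) (hP : IsPGroup p P) (k : ℕ)
    (hab : ∀ A : Subgroup P, A.Normal → IsMulCommutative A → ∃ S : Finset P, S.card ≤ k ∧ Subgroup.closure (S : Set P) = A) :
    ∀ H : Subgroup P, ∃ S : Finset P, S.card ≤ k * (k + 4) / 4 ∧ Subgroup.closure (S : Set P) = H := by
  open Subgroup CL in
  intro H
  obtain ⟨V, _, h1, -, -, h2⟩ := PG.exists_max_normal_elemAb_ge hp hP ⊥
    ⟨inferInstance, fun a ha => by rw [mem_bot.1 ha, one_pow]⟩
  have h3 : Nat.card V ≤ p ^ k := by
    obtain ⟨S, h3, rfl⟩ := hab V inferInstance h1.1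
    let _ : CommGroup (closure (S : Set P)) :=
      { (inferInstance : Group (closure (S : Set P))) with mul_comm := h1.1.is_comm.comm }
    exact (Nat.le_of_dvd (pow_pos (Fact.out : p.Prime).pos _) (card_dvd_exponent_pow_rank' _
      fun g => Subtype.ext (h1.2 g g.2))).trans (Nat.pow_le_pow_right (Fact.out : p.Prime).pos
        ((rank_closure_finset_le_card S).trans h3))
  obtain ⟨f, hf⟩ := EAGL.exists_hom_gl h1.1.is_comm.comm (fun g : V => Subtype.ext (h1.2 g g.2)) h3
  have hH := hP.to_subgroup H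
  let K := (centralizer (V : Set P)).subgroupOf H
  have h4 := index_le_of_gl hH (f.comp (MulAut.conjNormal.comp H.subtype)) (D := frattini H ⊔ K)
    (le_sup_of_le_left (PG.commutator_le_frattini hH)) fun g hg => mem_sup_right fun v hv => by
      have := congrArg Subtype.val (DFunLike.congr_fun (hf (hg.trans f.map_one.symm)) ⟨v, hv⟩)
      exact (mul_inv_eq_iff_eq_mul.1 this).symm
  have h5 := index_frattini_le hp _ K rfl (hH.to_subgroup K) fun x hx => mem_center_iff.2 fun g =>
    Subtype.ext (Subtype.ext (g.2 _ (h2 _ x.2 (congrArg (·.1.1) hx))).symm)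
  have h6 : Nat.card {x : K // x ^ p = 1} ≤ Nat.card V := Nat.card_le_card_of_injective
    (fun x => ⟨x.1.1.1, h2 _ x.1.2 (congrArg (·.1.1) x.2)⟩) fun x y e =>
      Subtype.ext (Subtype.ext (Subtype.ext (congrArg (fun v : V => v.1) e)))
  refine MaxCl.exists_finset_gen hH ?_
  rw [← relIndex_mul_index (le_sup_left : frattini H ≤ frattini H ⊔ K), relIndex_sup_left,
    show k * (k + 4) / 4 = k + k ^ 2 / 4 by rw [mul_add, ← pow_two]; omega, pow_add]
  exact Nat.mul_le_mul ((Nat.le_of_dvd (Nat.pos_of_ne_zero index_ne_zero_of_finite)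
    (index_dvd_of_le (map_le_iff_le_comap.1 (PG.frattini_map_le hH K.subtype)))).trans
      (h5.trans (h6.trans h3))) h4

end Cfsg.Agent.S4057
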