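import Mathlib
import Cfsg.Statements.S4064
import Cfsg.Agent.PERM.CCZass2
import Cfsg.Agent.ODD.CN
import Cfsg.Agent.SOLV.OddOrderCor
import Cfsg.Agent.PLOC.S4F.Class
import Cfsg.Agent.S0042

set_option autoImplicit false
open Cfsg

namespace Cfsg.Agent.S4064

open Subgroup

section
variable {G : Type*} [Group G]
  (hTI : ∀ x : G, Cfsg.IsTISubset (Subgroup.centralizer ({x} : Set G) : Set G))

theorem exists_cen [Finite G] {K : Subgroup G} (hK : Group.IsNilpotent K) (h1 : K ≠ ⊥) :
    ∃ z ∈ K, z ≠ 1 ∧ ∀ k ∈ K, k * z = z * k := by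
  have := (Subgroup.nontrivial_iff_ne_bot K).2 h1
  have h2 := CL.inf_center_ne_bot_of_isNilpotent (⊤ : Subgroup K) top_ne_bot
  obtain ⟨⟨z, hz⟩, hz1⟩ := Subgroup.ne_bot_iff_exists_ne_one.mp h2
  exact ⟨z, z.2, fun e => hz1 (Subtype.ext (Subtype.ext e)), fun k hk =>
    congrArg Subtype.val (mem_center_iff.1 hz.2 ⟨k, hk⟩)⟩

include hTI

theorem ti {x c g : G} (hc : c * x = x * c) (hc1 : c ≠ 1) (h : g * c * g⁻¹ * x = x * (g * c * g⁻¹)) :
    g ∈ normalizer (centralizer ({x} : Set G) : Set G) := by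
  by_contra hg
  exact hc1 (hTI x g hg c (mem_centralizer_singleton_iff.2 hc) (mem_centralizer_singleton_iff.2 h))

theorem norm_le {x y : G} (hx : x ≠ 1) (h : x * y = y * x) :
    normalizer (centralizer ({x} : Set G) : Set G) ≤
      normalizer (centralizer ({y} : Set G) : Set G) := fun g hg => by
  refine ti hTI h hx ?_
  have h1 := mem_centralizer_singleton_iff.1 ((mem_normalizer_iff''.1 hg y).1
    (mem_centralizer_singleton_iff.2 h.symm))
  calc g * x * g⁻¹ * y = g * (x * (g⁻¹ * y * g)) * g⁻¹ := by group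
    _ = _ := by rw [← h1]; group

theorem norm_eq {x y : G} (hx : x ≠ 1) (hy : y ≠ 1) (h : x * y = y * x) :
    normalizer (centralizer ({x} : Set G) : Set G) =
      normalizer (centralizer ({y} : Set G) : Set G) :=
  le_antisymm (norm_le hTI hx h) (norm_le hTI hy h.symm)

omit hTI in
theorem mem_fit (y : G) : y ∈ fittingOf (normalizer (centralizer ({y} : Set G) : Set G)) := by
  have hy : y ∈ centralizer ({y} : Set G) := mem_centralizer_singleton_iff.2 rfl
  have h1 : centralizer ((centralizer ({y} : Set G) : Subgroup G) : Set G) ≤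
      centralizer ({y} : Set G) := centralizer_le (by simpa using hy)
  refine CL.le_fittingOf (N := centralizer ((centralizer ({y} : Set G) : Subgroup G) : Set G))
    (h1.trans le_normalizer) ?_ ?_ fun c hc => (mem_centralizer_singleton_iff.1 hc)
  · intro g hg
    have key : ∀ g ∈ normalizer (centralizer ({y} : Set G) : Set G),
        ∀ a ∈ centralizer ((centralizer ({y} : Set G) : Subgroup G) : Set G),
        g * a * g⁻¹ ∈ centralizer ((centralizer ({y} : Set G) : Subgroup G) : Set G) := by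
      intro g hg a ha c hc
      have := ha _ ((mem_normalizer_iff''.1 hg c).1 hc)
      calc c * (g * a * g⁻¹) = g * (g⁻¹ * c * g * a) * g⁻¹ := by group
        _ = _ := by rw [this]; group
    refine mem_normalizer_iff.2 fun a => ⟨key g hg a, fun ha => ?_⟩
    simpa [mul_assoc] using key _ (inv_mem hg) _ ha
  · have : IsMulCommutative
        (centralizer ((centralizer ({y} : Set G) : Subgroup G) : Set G) : Subgroup G) :=
      ⟨⟨fun a b => Subtype.ext (b.2 a (h1 a.2))⟩⟩
    open scoped IsMulCommutative in infer_instance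

theorem exists_K [Finite G] {x : G} (hx : x ≠ 1) : ∃ z : G, z ≠ 1 ∧ x * z = z * x ∧
    CL.CCZ.CC (centralizer ({z} : Set G)) ∧ Group.IsNilpotent (centralizer ({z} : Set G)) := by
  obtain ⟨K, hK⟩ : ∃ K, K = fittingOf (normalizer (centralizer ({x} : Set G) : Set G)) := ⟨_, rfl⟩
  have hxK : x ∈ K := hK ▸ mem_fit x
  have hn : Group.IsNilpotent K := hK ▸ CL.isNilpotent_fittingOf _
  obtain ⟨z, hz, hz1, hzc⟩ := exists_cen hn (fun e => hx (by simpa [e] using hxK))
  have hcc : CL.CCZ.CC K := fun k hk hk1 g hg => by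
    by_cases hg1 : g = 1
    · exact hg1 ▸ K.one_mem
    have := mem_fit g
    rwa [norm_eq hTI hg1 hk1 hg, norm_eq hTI hk1 hz1 (hzc k hk), ← norm_eq hTI hx hz1 (hzc x hxK),
      ← hK] at this
  have : K = centralizer ({z} : Set G) := le_antisymm
    (fun k hk => mem_centralizer_singleton_iff.2 (hzc k hk))
    fun g hg => hcc z hz hz1 g (mem_centralizer_singleton_iff.1 hg)
  exact ⟨z, hz1, hzc x hxK, this ▸ hcc, this ▸ hn⟩

theorem isCN [Finite G] : IsCNGroup G := fun x hx => by
  obtain ⟨z, -, h1, h2, h3⟩ := exists_K hTI hx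
  have : centralizer ({x} : Set G) ≤ centralizer ({z} : Set G) := fun g hg =>
    h2 x (mem_centralizer_singleton_iff.2 h1) hx g (mem_centralizer_singleton_iff.1 hg)
  exact Group.nilpotent_of_mulEquiv (subgroupOfEquivOfLe this)

theorem not_sz (h : Lie.IsoSuzuki G) : False := by
  obtain ⟨F, _, _, _, m, hm, hF, ⟨M⟩⟩ := CL.S4F.exists_model h
  obtain ⟨t, ht0, ht1⟩ := CL.Sz.exists_ne_zero_one hm hF
  obtain ⟨l, hl⟩ := CL.Sz.Model.exists_θ_eq (θ := CL.Sz.theta F m) ht0
  have h1 : M.u 0 1 ≠ 1 := by simp [M.u_eq_one_iff]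
  have h2 : centralizer ({M.u 0 1} : Set G) = M.U := le_antisymm
    (fun g hg => M.mem_U_of_commute (M.u_mem_U _ _) h1 (mem_centralizer_singleton_iff.1 hg))
    fun g hg => mem_centralizer_singleton_iff.2 (M.Z_comm_U (M.u_mem_Z 1) hg).symm
  have h3 := norm_le hTI h1 (M.u_zero_comm 1 1 0)
  rw [h2, M.normalizer_U] at h3
  have h4 := mem_centralizer_singleton_iff.1 ((mem_normalizer_iff.1 (h3 (M.h_mem_B l)) (M.u 1 0)).1
    (mem_centralizer_singleton_iff.2 rfl))
  rw [M.h_conj_u, M.u_comm_iff, hl] at h4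
  simp only [mul_one, map_one, one_mul] at h4
  have h5 := M.tits t
  rw [h4, h4] at h5
  exact ht1 (mul_left_cancel₀ ht0 (by linear_combination -h5))

end

open QuaternionGroup in
theorem quat_le {n : ℕ} (h : (a 1 * xa 0 * (a 1)⁻¹ : QuaternionGroup (2 ^ n)) * xa 0 =
    xa 0 * (a 1 * xa 0 * (a 1)⁻¹)) : n ≤ 1 := by
  have h0 : (a 1 : QuaternionGroup (2 ^ n))⁻¹ = a (-1) := rfl
  simp only [h0, a_mul_xa, xa_mul_a, xa_mul_xa, a.injEq] at h
  have h1 : ((4 : ℕ) : ZMod (2 * 2 ^ n)) = 0 := by push_cast; linear_combination h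
  rw [ZMod.natCast_eq_zero_iff] at h1
  have h2 := Nat.le_of_dvd (by norm_num) h1
  by_contra hn
  have : 2 ^ 2 ≤ 2 ^ n := Nat.pow_le_pow_right two_pos (by omega)
  omega


/-- Let G be a finite group in which the centralizer of every element meets each of its conjugates by elements outside its normalizer trivially. Then G is nilpotent; or G is a Frobenius group with a complement that is cyclic or isomorphic to the direct product of a cyclic group of odd order and the quaternion group of order 8; or G is isomorphic to PSL₂(2ⁿ) for some n ≥ 2. -/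
theorem result {G : Type*} [Group G] [Finite G] (hTI : ∀ x : G, Cfsg.IsTISubset (Subgroup.centralizer ({x} : Set G) : Set G)) :
    Group.IsNilpotent G ∨
    (∃ H : Subgroup G, Cfsg.IsFrobeniusComplement H ∧
      (IsCyclic H ∨ ∃ m : ℕ, Odd m ∧ Nonempty (H ≃* Multiplicative (ZMod m) × QuaternionGroup 2))) ∨
    (∃ n : ℕ, 2 ≤ n ∧ Nonempty (G ≃* Matrix.ProjectiveSpecialLinearGroup (Fin 2) (GaloisField 2 n))) := by
  classical
  by_cases hn : ∃ x : G, x ≠ 1 ∧ normalizer (centralizer ({x} : Set G) : Set G) = ⊤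
  · obtain ⟨x, hx, hN⟩ := hn
    obtain ⟨z, hz, h1, hK, hnil⟩ := exists_K hTI hx
    rw [norm_eq hTI hx hz h1] at hN
    have hzK : z ∈ centralizer ({z} : Set G) := mem_centralizer_singleton_iff.2 rfl
    generalize centralizer ({z} : Set G) = K at hK hnil hN hzK
    have : K.Normal := normalizer_eq_top_iff.1 hN
    by_cases hT : K = ⊤
    · left
      subst hT
      exact Group.nilpotent_of_mulEquiv topEquiv
    right; left
    have hK1 : K ≠ ⊥ := fun e => hz (by simpa [e] using hzK)
    obtain ⟨H, hH⟩ := exists_right_complement'_of_coprime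
      (CL.Frob.coprime_index_of_centralizer_le K fun k hk hk1 g hg =>
        hK k hk hk1 g (mem_centralizer_singleton_iff.1 hg))
    have hH1 : H ≠ ⊥ := fun e => hT (by simpa [e] using hH.sup_eq_top)
    have hf : ∀ h ∈ H, h ≠ 1 → K ⊓ centralizer {h} = ⊥ := fun h hh h4 =>
      eq_bot_iff.mpr fun k hk => hK.fpf (fun e => h4 (disjoint_def.mp hH.disjoint e hh)) hk.1
        (mem_centralizer_singleton_iff.mp hk.2).symm
    have hHK : H ≤ normalizer (K : Set G) := hN ▸ le_top
    refine ⟨H, CL.Frob.isFrobeniusComplement_of_fpf hH hK1 hH1 hf, ?_⟩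
    rcases CL.CN.nil_compl_structure (CL.CN.nil_of_fpf (isCN hTI) hK1 hHK hf) hK1 hHK hf with
      h | ⟨C, Q, hCQ, hc, hC, hodd, n, ⟨e⟩⟩
    · exact Or.inl h
    obtain ⟨ζ, hζ, hζ1, hζc⟩ := CL.Frob.exists_central hK1 hH1 hHK hf
    have hQH : Q ≤ H := hCQ ▸ le_sup_right
    have hn1 : n ≤ 1 := by
      refine quat_le ?_
      obtain ⟨q, hq⟩ := e.surjective (QuaternionGroup.xa 0)
      obtain ⟨g, hg⟩ := e.surjective (QuaternionGroup.a 1)
      have hq1 : (q : G) ≠ 1 := fun h => by
        rw [show q = 1 from Subtype.ext h, map_one] at hq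
        cases hq
      have h2 := norm_le hTI hζ1 (hζc q (hQH q.2)).symm
        (le_normalizer (mem_centralizer_singleton_iff.2 (hζc g (hQH g.2))))
      have h3 := mem_centralizer_singleton_iff.1 ((mem_normalizer_iff.1 h2 q).1
        (mem_centralizer_singleton_iff.2 rfl))
      rw [← hq, ← hg, ← map_inv, ← map_mul, ← map_mul, ← map_mul, ← map_mul]
      exact congrArg e (Subtype.ext h3)
    have hcQ : Nat.card Q = 2 ^ (n + 2) := by
      rw [Nat.card_congr e.toEquiv, Nat.card_eq_fintype_card, QuaternionGroup.card]; ring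
    have hcop : (Nat.card C).Coprime (Nat.card Q) := by
      rw [hcQ]; exact (Nat.coprime_two_right.2 hodd).pow_right _
    have hcomm : ∀ (a : C) (b : Q), Commute (C.subtype a) (Q.subtype b) := fun a b =>
      hc a a.2 b b.2
    have hinj : Function.Injective (C.subtype.noncommCoprod Q.subtype hcomm) := by
      rw [MonoidHom.noncommCoprod_injective]
      refine ⟨C.subtype_injective, Q.subtype_injective, ?_⟩
      rw [range_subtype, range_subtype]
      exact disjoint_of_coprime_natCard hcop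
    have hr : (C.subtype.noncommCoprod Q.subtype hcomm).range = H := by
      rw [MonoidHom.noncommCoprod_range, range_subtype, range_subtype, hCQ]
    let e0 : C × Q ≃* H := (MonoidHom.ofInjective hinj).trans (MulEquiv.subgroupCongr hr)
    obtain rfl | rfl : n = 0 ∨ n = 1 := by omega
    · left
      have : IsCyclic Q := @isCyclic_of_surjective _ _ _ _ _
        QuaternionGroup.quaternionGroup_one_isCyclic _ _ e.symm e.symm.surjective
      have : IsCyclic (C × Q) := Group.isCyclic_prod_iff.2 ⟨hC, this, hcop⟩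
      exact isCyclic_of_surjective e0 e0.surjective
    · exact Or.inr ⟨Nat.card C, hodd, ⟨e0.symm.trans
        (MulEquiv.prodCongr (zmodCyclicMulEquiv hC).symm e)⟩⟩
  push Not at hn
  rcases subsingleton_or_nontrivial G with h | h
  · left; infer_instance
  right; right
  have hrad : ∀ R : Subgroup G, R.Normal → Group.IsNilpotent R → R = ⊥ := fun R hR hRn => by
    by_contra h1
    obtain ⟨z, hz, hz1, hzc⟩ := exists_cen hRn h1
    exact hn z hz1 (eq_top_iff.2 fun g _ => ti hTI rfl hz1 (hzc _ (hR.conj_mem z hz g)))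
  have hev : ∀ N : Subgroup G, N.Normal → N ≠ ⊥ → 2 ∣ Nat.card N := fun N hN hN1 => by
    by_contra h6
    refine CL.fittingSubgroup_inf_ne_bot N (CL.isSolvable_of_not_two_dvd _ h6) hN1 ?_
    rw [hrad (fittingSubgroup G) inferInstance (CL.isNilpotent_fittingSubgroup G), bot_inf_eq]
  have h6 := hev ⊤ inferInstance top_ne_bot
  rw [card_top] at h6
  obtain ⟨t, ht⟩ := exists_prime_orderOf_dvd_card' 2 h6
  have ht1 : t ≠ 1 := by rintro rfl; simp at ht
  obtain ⟨z, hz, h1, hK, hnil⟩ := exists_K hTI ht1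
  have hK1 : centralizer ({z} : Set G) ≠ ⊥ := fun e =>
    hz (mem_bot.1 (e ▸ mem_centralizer_singleton_iff.2 rfl))
  obtain ⟨w, hw⟩ := CL.CCZ.exists_cinv_of_nilpotent hnil
    (ht ▸ orderOf_dvd_natCard _ (mem_centralizer_singleton_iff.2 h1))
  have hnn : ¬ (centralizer ({z} : Set G)).Normal := fun hn => hK1 (hrad _ hn hnil)
  have hT : centralizer ({z} : Set G) ≠ ⊤ := fun e => hnn (e ▸ inferInstance)
  obtain ⟨y, hyn, hy⟩ : ∃ y ∈ normalizer (centralizer ({z} : Set G) : Set G),
      y ∉ centralizer ({z} : Set G) := by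
    by_contra h2
    push Not at h2
    have hF : IsFrobeniusComplement (centralizer ({z} : Set G)) :=
      ⟨hK1, hT, CL.Frob.malnormal_iff.2 fun g hg x hx hx' => hTI z g (fun e => hg (h2 g e)) x hx hx'⟩
    obtain ⟨N, h3, -, -, h4, -⟩ := CL.Frob.exists_kernel hF
    obtain ⟨N', h5, h7, h8⟩ := Cfsg.Agent.S0042.result _ hF
    obtain rfl : N = N' := SetLike.coe_injective (h3.trans h5.symm)
    exact h4 (hrad N h7 h8)
  have : IsSimpleGroup G := ⟨fun N hN => by
    by_cases hN1 : N = ⊥
    · exact Or.inl hN1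
    · exact Or.inr (CL.CCZ.eq_top_of_two_dvd hK hw hnn hy hyn (hev N hN hN1))⟩
  rcases CL.CCZ.psl_or_suzuki hK hw hT with ⟨-, h⟩ | ⟨-, -, h⟩
  · exact h
  · exact (not_sz hTI h).elim

end Cfsg.Agent.S4064
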