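import Mathlib
import Cfsg.Statements.S4073
import Cfsg.Agent.FGS.PSL2Even
import Cfsg.Agent.PLOC.FrobeniusNPC
import Cfsg.Agent.PLOC.Fusion
import Cfsg.Agent.INV.SmallInter
import Cfsg.Agent.KSG.SL2SylNorm

set_option autoImplicit false
open Cfsg

namespace Cfsg.Agent.S4073

open Subgroup CL.PGL2 CL.Dk
open scoped MatrixGroups

/-- Every non-abelian subgroup is self-normalizing. -/
def SN (G : Type*) [Group G] : Prop :=
  ∀ H : Subgroup G, ¬ IsMulCommutative H → Subgroup.normalizer (H : Set G) = H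

theorem eq_one_aux {n p k : ℕ} (h : n = p ^ k) (hc : n.Coprime p) : n = 1 :=
  (hc.pow_right k).eq_one_of_dvd (h ▸ dvd_rfl)

section general
variable {G : Type*} [Group G]

theorem comm_iff {H : Subgroup G} : IsMulCommutative H ↔ ∀ a ∈ H, ∀ b ∈ H, a * b = b * a :=
  ⟨fun h a ha b hb => congrArg Subtype.val (h.is_comm.comm ⟨a, ha⟩ ⟨b, hb⟩),
    fun h => ⟨⟨fun a b => Subtype.ext (h a a.2 b b.2)⟩⟩⟩

theorem SN.of_injective (h : SN G) {H : Type*} [Group H] (f : H →* G)
    (hf : Function.Injective f) : SN H := by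
  intro K hK
  refine le_antisymm (fun g hg => ?_) le_normalizer
  have h1 : ¬ IsMulCommutative (K.map f) := fun h1 => hK (comm_iff.2 fun a ha b hb => hf (by
    rw [map_mul, map_mul]
    exact comm_iff.1 h1 _ (mem_map_of_mem f ha) _ (mem_map_of_mem f hb)))
  have h2 := le_normalizer_map (H := K) f (mem_map_of_mem f hg)
  rw [h _ h1] at h2
  exact (mem_map_iff_mem hf).1 h2

theorem SN.comm (h : SN G) {K : Subgroup G} {g : G} (hg : g ∈ normalizer (K : Set G))
    (hgK : g ∉ K) : ∀ a ∈ K, ∀ b ∈ K, a * b = b * a := by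
  by_contra hc
  rw [h K (fun h1 => hc (comm_iff.1 h1))] at hg
  exact hgK hg

theorem isPGroup_of_selfnorm [Finite G] (h : ∀ K : Subgroup G, K ≠ ⊥ → K.Normal → K = ⊤)
    {p : ℕ} [hp : Fact p.Prime] (h' : ∀ z : G, orderOf z = p →
      normalizer ((zpowers z : Subgroup G) : Set G) = zpowers z) (hd : p ∣ Nat.card G) :
    IsPGroup p G := by
  obtain ⟨P⟩ : Nonempty (Sylow p G) := inferInstance
  obtain ⟨z, hzP, hz, hzc⟩ := CL.GL2.exists_central_prime P.isPGroup' (P.ne_bot_of_dvd_card hd)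
  have h1 : (P : Subgroup G) = zpowers z := by
    refine le_antisymm (fun g hg => ?_) (zpowers_le.2 hzP)
    rw [← h' z hz]
    refine centralizer_le_normalizer _ (fun w hw => ?_)
    obtain ⟨k, rfl⟩ := mem_zpowers_iff.1 hw
    exact ((show Commute g z from hzc g hg).zpow_right k).eq.symm
  have hle : normalizer ((P : Subgroup G) : Set G) ≤ centralizer ((P : Subgroup G) : Set G) := by
    rw [h1, h' z hz]
    exact le_centralizer _
  have hc := MonoidHom.ker_transferSylow_isComplement' P hle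
  by_cases h2 : (MonoidHom.transferSylow P hle).ker = ⊥
  · have h3 : (P : Subgroup G) = ⊤ := isComplement'_bot_left.mp (h2 ▸ hc)
    exact (h3 ▸ P.isPGroup' : IsPGroup p (⊤ : Subgroup G)).of_equiv topEquiv
  · exact absurd (isComplement'_top_left.mp (h _ h2 inferInstance ▸ hc)) (P.ne_bot_of_dvd_card hd)

theorem SN.npc [Finite G] (h : SN G) {p : ℕ} [hp : Fact p.Prime] (P : Sylow p G)
    (hP : ¬ IsMulCommutative (P : Subgroup G)) : HasNormalPComplement p G := by
  refine CL.Tr.hasNPC_of_local_centric P fun E hEP _ _ hCE x hx hxp => ?_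
  by_contra hxC
  have hE : IsPGroup p E := P.isPGroup'.to_le hEP
  have hxE : x ∉ E := fun hxE => by
    obtain ⟨k, hk⟩ := IsPGroup.iff_orderOf.1 hE ⟨x, hxE⟩
    rw [← Subgroup.orderOf_coe] at hk
    have h1 : orderOf x = 1 := by
      apply eq_one_aux hk hxp
    exact hxC (orderOf_eq_one_iff.1 h1 ▸ one_mem _)
  have hEc := h.comm hx hxE
  have hlt : E < P := lt_of_le_of_ne hEP fun e => hP (e ▸ comm_iff.2 hEc)
  obtain ⟨y, ⟨hyN, hyP⟩, hyE⟩ := SetLike.exists_of_lt (CL.Small.lt_normalizer_inf P.isPGroup' hlt)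
  have hyC : y ∉ centralizer (E : Set G) := fun h1 => hyE (hCE ⟨hyP, h1⟩)
  set N := normalizer (E : Set G) with hN
  let C : Subgroup N := (centralizer (E : Set G)).subgroupOf N
  have hCn : C.Normal := inferInstance
  have hSN : SN N := h.of_injective N.subtype N.subtype_injective
  have key : ∀ K : Subgroup (N ⧸ C), K ≠ ⊥ → normalizer (K : Set (N ⧸ C)) = K := by
    intro K hK
    obtain ⟨⟨k, hk⟩, hk1⟩ := ne_bot_iff_exists_ne_one.1 hK
    obtain ⟨k, rfl⟩ := QuotientGroup.mk_surjective k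
    have h1 : ¬ IsMulCommutative (K.comap (QuotientGroup.mk' C)) := fun h1 => by
      apply hk1
      refine Subtype.ext ((QuotientGroup.eq_one_iff k).2 fun e he => ?_)
      have h2 : (⟨e, le_normalizer he⟩ : N) ∈ K.comap (QuotientGroup.mk' C) := by
        have : QuotientGroup.mk' C ⟨e, le_normalizer he⟩ = 1 :=
          (QuotientGroup.eq_one_iff _).2 fun e' he' => hEc e' he' e he
        rw [mem_comap, this]
        exact one_mem _
      exact congrArg Subtype.val (comm_iff.1 h1 _ h2 k hk)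
    refine le_antisymm (fun g hg => ?_) le_normalizer
    obtain ⟨g, rfl⟩ := QuotientGroup.mk_surjective g
    have h2 := le_normalizer_comap (H := K) (QuotientGroup.mk' C) (x := g) hg
    rw [hSN _ h1] at h2
    exact h2
  have hy1 : ((⟨y, hyN⟩ : N) : N ⧸ C) ≠ 1 := fun e =>
    hyC ((QuotientGroup.eq_one_iff (N := C) (⟨y, hyN⟩ : N)).1 e)
  have hx1 : ((⟨x, hx⟩ : N) : N ⧸ C) ≠ 1 := fun e =>
    hxC ((QuotientGroup.eq_one_iff (N := C) (⟨x, hx⟩ : N)).1 e)
  have hd : p ∣ Nat.card (N ⧸ C) := by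
    obtain ⟨k, hk⟩ := P.isPGroup' ⟨y, hyP⟩
    have h1 : ((⟨y, hyN⟩ : N) : N ⧸ C) ^ p ^ k = 1 := by
      rw [← QuotientGroup.mk_pow]
      have : (⟨y, hyN⟩ : N) ^ p ^ k = 1 := Subtype.ext (congrArg (Subtype.val (p := (· ∈ (P : Subgroup G)))) hk :)
      rw [this, QuotientGroup.mk_one]
    obtain ⟨j, -, hj⟩ := (Nat.dvd_prime_pow hp.out).1 (orderOf_dvd_of_pow_eq_one h1)
    rcases j with _ | j
    · exact absurd (orderOf_eq_one_iff.1 hj) hy1
    · exact (dvd_pow_self p j.succ_ne_zero).trans (hj ▸ orderOf_dvd_natCard _)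
  have hQ : IsPGroup p (N ⧸ C) := isPGroup_of_selfnorm
    (fun K hK hn => by rw [← key K hK]; exact normalizer_eq_top K)
    (fun z hz => key _ (zpowers_ne_bot.2 fun e => hp.out.one_lt.ne (by rw [← hz, e, orderOf_one])))
    hd
  obtain ⟨k, hk⟩ := IsPGroup.iff_orderOf.1 hQ ((⟨x, hx⟩ : N) : N ⧸ C)
  have h1 : orderOf ((⟨x, hx⟩ : N) : N ⧸ C) ∣ orderOf x := by
    rw [← Subgroup.orderOf_mk x hx]
    exact orderOf_map_dvd (QuotientGroup.mk' C) _
  exact hx1 (orderOf_eq_one_iff.1 (eq_one_aux hk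
    (Nat.Coprime.coprime_dvd_left h1 hxp)))

theorem SN.comm_or_cyclic [Finite G] (h : SN G) (S : Sylow 2 G)
    (hS : IsMulCommutative (S : Subgroup G)) {t : G} (ht : orderOf t = 2) (htc : t ∈ center G) :
    IsMulCommutative G ∨ IsCyclic (S : Subgroup G) := by
  set m := (S : Subgroup G).index with hm
  have hodd : ¬ 2 ∣ m := S.not_dvd_index
  have ht' : t ∉ commutator G := fun h1 => hodd (ht ▸ orderOf_dvd_of_pow_eq_one
    (CL.Tr.pow_index_eq_one_of_mem_center_commutator (H := (S : Subgroup G)) hS htc h1))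
  let φ : G →* Abelianization G := (powMonoidHom m).comp Abelianization.of
  have hφ : t ∉ φ.ker := fun h1 => by
    have h2 : Abelianization.of (t ^ m) = 1 := by rw [map_pow]; exact h1
    have h3 : t ^ m = t := by
      rw [← pow_mod_orderOf, ht, show m % 2 = 1 by omega, pow_one]
    rw [h3] at h2
    exact ht' (Abelianization.ker_of (G := G) ▸ h2)
  have hM := h.comm (K := φ.ker) (g := t) (by rw [normalizer_eq_top]; trivial) hφ
  have hmem : ∀ a : G, a ^ m = 1 → a ∈ φ.ker := fun a ha => by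
    show Abelianization.of a ^ m = 1
    rw [← map_pow, ha, map_one]
  let K : Subgroup G :=
    { carrier := {a | a ^ m = 1}
      one_mem' := one_pow m
      mul_mem' := fun {a b} ha hb => by
        show (a * b) ^ m = 1
        rw [(show Commute a b from hM a (hmem a ha) b (hmem b hb)).mul_pow, ha, hb, one_mul]
      inv_mem' := fun {a} ha => by
        show a⁻¹ ^ m = 1
        rw [inv_pow, ha, inv_one] }
  have hKn : K.Normal := ⟨fun a ha g => by
    show (g * a * g⁻¹) ^ m = 1
    rw [conj_pow, ha, mul_one, mul_inv_cancel]⟩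
  obtain ⟨k, hk⟩ := IsPGroup.iff_card.1 S.isPGroup'
  have htop : K ⊔ (S : Subgroup G) = ⊤ := by
    have h1 : IsPGroup 2 (G ⧸ K) := fun g => by
      obtain ⟨g, rfl⟩ := QuotientGroup.mk_surjective g
      refine ⟨k, ?_⟩
      rw [← QuotientGroup.mk_pow, QuotientGroup.eq_one_iff]
      show (g ^ 2 ^ k) ^ m = 1
      rw [← pow_mul, ← hk, hm, card_mul_index, pow_card_eq_one']
    obtain ⟨j, hj⟩ := IsPGroup.iff_card.1 h1
    have h2 : (K ⊔ (S : Subgroup G)).index ∣ 2 ^ j := hj ▸ index_dvd_of_le le_sup_left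
    have h3 : (K ⊔ (S : Subgroup G)).index ∣ m := index_dvd_of_le le_sup_right
    exact index_eq_one.1 (Nat.eq_one_of_dvd_coprimes
      (Nat.Coprime.pow_left j ((Nat.Prime.coprime_iff_not_dvd Nat.prime_two).2 hodd)) h2 h3)
  by_cases hc : ∀ s ∈ (S : Subgroup G), ∀ a ∈ K, s * a = a * s
  · left
    have h1 : K ⊔ (S : Subgroup G) ≤ center G := by
      refine sup_le (fun a ha => mem_center_iff.2 fun g => ?_) (fun s hs => mem_center_iff.2 fun g => ?_)
      · have : K ⊔ (S : Subgroup G) ≤ centralizer {a} := sup_le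
          (fun b hb => mem_centralizer_singleton_iff.2 (hM b (hmem b hb) a (hmem a ha)))
          (fun s hs => mem_centralizer_singleton_iff.2 (hc s hs a ha))
        exact mem_centralizer_singleton_iff.1 (this (htop ▸ mem_top g))
      · have : K ⊔ (S : Subgroup G) ≤ centralizer {s} := sup_le
          (fun b hb => mem_centralizer_singleton_iff.2 (hc s hs b hb).symm)
          (fun s' hs' => mem_centralizer_singleton_iff.2 (comm_iff.1 hS s' hs' s hs))
        exact mem_centralizer_singleton_iff.1 (this (htop ▸ mem_top g))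
    exact ⟨⟨fun a b => mem_center_iff.1 (h1 (htop ▸ mem_top b)) a⟩⟩
  · right
    push Not at hc
    obtain ⟨s, hs, a, ha, hsa⟩ := hc
    have h1 : ¬ IsMulCommutative ↥(K ⊔ zpowers s) := fun h1 => hsa
      (comm_iff.1 h1 s (mem_sup_right (mem_zpowers s)) a (mem_sup_left ha))
    have h2 : (S : Subgroup G) = zpowers s := by
      refine le_antisymm (fun g hg => ?_) (zpowers_le.2 hs)
      have h3 : g ∈ normalizer ((K ⊔ zpowers s : Subgroup G) : Set G) := by
        refine normalizer_inf_normalizer_le_normalizer_sup K (zpowers s) ⟨by rw [normalizer_eq_top]; trivial, ?_⟩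
        refine centralizer_le_normalizer _ (fun w hw => ?_)
        exact comm_iff.1 hS w (zpowers_le.2 hs hw) g hg
      rw [h _ h1, ← SetLike.mem_coe, normal_mul] at h3
      obtain ⟨b, hb, w, hw, rfl⟩ := h3
      have h4 : b ∈ (S : Subgroup G) := (mul_mem_cancel_right (zpowers_le.2 hs hw)).1 hg
      have h5 : orderOf b ∣ 2 ^ k := by
        rw [← hk, ← Subgroup.orderOf_mk b h4]
        exact orderOf_dvd_natCard _
      have h6 : b = 1 := orderOf_eq_one_iff.1 (Nat.eq_one_of_dvd_coprimes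
        (Nat.Coprime.pow_left k ((Nat.Prime.coprime_iff_not_dvd Nat.prime_two).2 hodd)) h5
        (orderOf_dvd_of_pow_eq_one hb))
      simpa [h6] using hw
    rw [h2]
    infer_instance

theorem SN.cent_comm [Finite G] [IsSimpleGroup G] (h : SN G) (hna : ¬ IsMulCommutative G)
    (t : G) (ht : orderOf t = 2) : IsMulCommutative (centralizer ({t} : Set G)) := by
  have hev := CL.PSL2E.even_card_of_simple hna
  have hab : ∀ P : Sylow 2 G, IsMulCommutative (P : Subgroup G) := fun P => by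
    by_contra hP
    obtain ⟨Q, N, hN, hc⟩ := h.npc P hP
    rcases hN.eq_bot_or_eq_top with e | e
    · have h3 : (Q : Subgroup G) = ⊤ := isComplement'_bot_left.mp (e ▸ hc)
      have h4 : IsPGroup 2 G := (h3 ▸ Q.isPGroup' : IsPGroup 2 (⊤ : Subgroup G)).of_equiv topEquiv
      have := h4.isNilpotent
      exact CL.PSL2E.not_solvable_of_simple hna inferInstance
    · exact Q.ne_bot_of_dvd_card hev.two_dvd (isComplement'_top_left.mp (e ▸ hc))
  have h1 : IsPGroup 2 (zpowers t) := IsPGroup.of_card (n := 1) (by rw [Nat.card_zpowers, ht]; rfl)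
  obtain ⟨P, hP⟩ := h1.exists_le_sylow
  have hle : (P : Subgroup G) ≤ centralizer {t} := fun g hg =>
    mem_centralizer_singleton_iff.2 (comm_iff.1 (hab P) g hg t (hP (mem_zpowers t)))
  have hS : IsMulCommutative ((P.subtype hle : Sylow 2 _) : Subgroup (centralizer ({t} : Set G))) :=
    comm_iff.2 fun a ha b hb => Subtype.ext (comm_iff.1 (hab P) a ha b hb)
  rcases (h.of_injective _ (centralizer ({t} : Set G)).subtype_injective).comm_or_cyclic
    (P.subtype hle) hS (t := ⟨t, mem_centralizer_singleton_iff.2 rfl⟩)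
    (by rw [Subgroup.orderOf_mk, ht])
    (mem_center_iff.2 fun g => Subtype.ext (mem_centralizer_singleton_iff.1 g.2)) with h2 | h2
  · exact h2
  · have h3 : IsCyclic (P : Subgroup G) :=
      isCyclic_of_surjective (hH := h2) _ (subgroupOfEquivOfLe hle).surjective
    exact absurd (CL.PSyl.odd_card_of_isCyclic_sylow_two hna P h3) (Nat.not_odd_iff_even.2 hev)

end general

section pgl
variable {F : Type*} [Field F] [Finite F]

theorem prime_of_SN (h : SN PGL(2, F)) (h3 : 3 ≤ Nat.card F) : (Nat.card F - 1).Prime := by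
  have hp := Fact.mk (Nat.minFac_prime (n := Nat.card F - 1) (by omega))
  obtain ⟨a, ha⟩ := exists_prime_orderOf_dvd_card' (G := Fˣ) (Nat.card F - 1).minFac
    (by rw [Nat.card_units]; exact Nat.minFac_dvd _)
  have ha1 : a ≠ 1 := fun e => hp.out.one_lt.ne (by rw [← ha, e, orderOf_one])
  have hS := h.of_injective _ (MulAction.stabilizer PGL(2, F) (inf : P1 F)).subtype_injective
  let K := (zpowers a).comap (multInf (F := F))
  have hK : ¬ IsMulCommutative K := fun hc => by
    have h1 := congrArg Subtype.val (comm_iff.1 hc ⟨aff a 0, aff_smul_inf _ _⟩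
      (by rw [mem_comap, multInf_eq rfl]; exact mem_zpowers a) ⟨aff 1 1, aff_smul_inf _ _⟩
      (by rw [mem_comap, multInf_eq rfl]; exact one_mem _))
    simp only [Subgroup.coe_mul, aff_mul, aff_inj] at h1
    apply ha1
    ext
    simpa using h1.2
  have h2 : zpowers a = ⊤ := eq_top_iff.2 fun d _ => by
    have h4 : (⟨aff d 0, aff_smul_inf _ _⟩ : MulAction.stabilizer PGL(2, F) (inf : P1 F)) ∈ K := by
      rw [← hS K hK, normalizer_eq_top]
      trivial
    rwa [mem_comap, multInf_eq rfl] at h4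
  have h4 : Nat.card F - 1 = (Nat.card F - 1).minFac := by
    rw [← ha, ← Nat.card_zpowers, h2, card_top, Nat.card_units]
  rw [h4]
  exact hp.out

theorem eq_stab_of_prime (hp : (Nat.card F - 1).Prime) {H : Subgroup PGL(2, F)}
    (hH : ¬ IsMulCommutative H) {x : P1 F} (hx : H ≤ MulAction.stabilizer PGL(2, F) x) :
    MulAction.stabilizer PGL(2, F) x ≤ H := by
  obtain ⟨h, rfl⟩ := exists_smul_inf x
  let ρ := cj h H.subtype
  have hρ : Function.Injective ρ := cj_injective h H.subtype_injective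
  have hall : ∀ g : H, ∃ a b, ρ g = aff a b := fun g =>
    exists_aff_of_smul_inf ((cj_smul_eq_iff h H.subtype g _ _).2 (hx g.2))
  have : Fact (Nat.card Fˣ).Prime := ⟨by rwa [Nat.card_units]⟩
  have hC : mulC ρ = ⊤ := by
    refine (mulC ρ).eq_bot_or_eq_top_of_prime_card.resolve_left fun e => hH ⟨⟨fun g g' => hρ ?_⟩⟩
    obtain ⟨a, b, hg⟩ := hall g
    obtain ⟨a', b', hg'⟩ := hall g'
    obtain rfl : a = 1 := mem_bot.1 (e ▸ mem_mulC.2 ⟨g, b, hg⟩)
    obtain rfl : a' = 1 := mem_bot.1 (e ▸ mem_mulC.2 ⟨g', b', hg'⟩)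
    rw [map_mul, map_mul, hg, hg', aff_mul, aff_mul, aff_inj]
    simp [add_comm]
  have hA : ∃ b ∈ trA ρ, b ≠ 0 := by
    by_contra hc
    push Not at hc
    refine hH ⟨⟨fun g g' => ?_⟩⟩
    obtain ⟨a, b, hg⟩ := hall g
    obtain ⟨a', b', hg'⟩ := hall g'
    obtain ⟨c, d, hd⟩ := hall (g * g' * (g' * g)⁻¹)
    have h1 := hd
    rw [map_mul, map_inv, map_mul, map_mul, hg, hg', aff_mul, aff_mul, aff_inv, aff_mul,
      aff_inj] at h1
    obtain rfl : c = 1 := by rw [← h1.1, mul_comm a, mul_inv_cancel]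
    rw [hc d (mem_trA.2 ⟨_, hd⟩), aff_one_zero, ← map_one ρ] at hd
    exact mul_inv_eq_one.1 (hρ hd)
  obtain ⟨b₀, hb₀, hb0⟩ := hA
  have hT : ∀ b, b ∈ trA ρ := fun b => by
    by_cases hb : b = 0
    · rw [hb]; exact zero_mem _
    · have := mul_mem_trA (a := Units.mk0 (b / b₀) (div_ne_zero hb hb0)) (hC ▸ mem_top _) hb₀
      simpa [hb0] using this
  intro g hg
  obtain ⟨a, b, hab⟩ := exists_aff_of_smul_inf (g := h⁻¹ * g * h) (by
    rw [mul_smul, mul_smul, (hg : g • h • inf = h • inf), inv_smul_smul])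
  obtain ⟨k, b', hk⟩ := mem_mulC.1 (hC ▸ mem_top a : a ∈ mulC ρ)
  obtain ⟨u, hu⟩ := mem_trA.1 (hT (b - b'))
  have h1 : ρ (u * k) = h⁻¹ * g * h := by
    rw [map_mul, hu, hk, aff_mul, hab]
    simp
  rw [cj_apply, mul_left_inj, mul_right_inj] at h1
  exact h1 ▸ (u * k).2

theorem SN_of_prime [CharP F 2] [IsSimpleGroup PGL(2, F)] (hp : (Nat.card F - 1).Prime) :
    SN PGL(2, F) := by
  intro H hH
  refine le_antisymm ?_ le_normalizer
  have hev : 2 ∣ Nat.card F := char_dvd_card 2
  have hpos : 0 < Nat.card F := Nat.card_pos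
  let f := algebraMap F (AlgebraicClosure F)
  rcases dickson_sub f 2 (normalizer (H : Set PGL(2, F))) with ⟨x, hx⟩ | ⟨x, y, hxy, hne, hN⟩ |
    ⟨h1, h2⟩ | ⟨-, h⟩ | ⟨k, h, h3, hk⟩
  · exact hx.trans (eq_stab_of_prime hp hH (le_normalizer.trans hx))
  · have hinj := mapG_injective f
    have hcyc := isCyclic_pairT hinj hxy
    have hodd : Odd (Nat.card (pairT (mapG f) x y)) := by
      rcases (torus_data f hxy hne).1 with ⟨-, -, e⟩ | ⟨-, -, e⟩ <;> rw [e, Nat.odd_iff] <;> omega
    obtain ⟨s, hsH, hsT⟩ : ∃ s ∈ H, s ∉ pairT (mapG f) x y := by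
      by_contra hc
      push Not at hc
      exact hH (comm_iff.2 fun a ha b hb =>
        comm_iff.1 (inferInstance : IsMulCommutative (pairT (mapG f) x y)) a (hc a ha) b (hc b hb))
    have key : ∀ g ∈ normalizer (H : Set PGL(2, F)), g ∈ pairT (mapG f) x y → g ∈ H := by
      intro g hg hgT
      have h1 := conj_eq_inv_of_mem_pairN hinj hxy (hN (le_normalizer hsH)) hsT (inv_mem hgT)
      have h2 : g * g ∈ H := by
        have h3 := mul_mem ((mem_normalizer_iff.1 hg s).1 hsH) (inv_mem hsH)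
        rwa [mul_assoc g, mul_assoc g, h1, inv_inv] at h3
      obtain ⟨m, hm⟩ := hodd
      have h4 : g ^ (2 * m + 1) = 1 := by
        rw [← hm]
        exact congrArg Subtype.val (pow_card_eq_one' (x := (⟨g, hgT⟩ : pairT (mapG f) x y)))
      have h5 : g = ((g * g) ^ m)⁻¹ := by
        rw [← sq, ← pow_mul, eq_inv_iff_mul_eq_one, ← pow_succ', h4]
      rw [h5]
      exact inv_mem (pow_mem h2 m)
    intro g hg
    by_cases hgT : g ∈ pairT (mapG f) x y
    · exact key g hg hgT
    · exact (mul_mem_cancel_right hsH).1 (key _ (mul_mem hg (le_normalizer hsH))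
        (mul_mem_pairT_of_not_mem (hN hg) hgT (hN (le_normalizer hsH)) hsT))
  · rcases card_of_isPoly h1 with e | e | e <;> rw [e] at h2 <;> omega
  · omega
  · have hsurj : Function.Surjective k.subtype := by
      refine (surjective_or_exists_pow k.subtype).resolve_right ?_
      rintro ⟨m, hm, e⟩
      have h4 : Nat.card k - 1 ∣ Nat.card F - 1 := e ▸ Nat.sub_one_dvd_pow_sub_one _ _
      have h5 := (Nat.dvd_prime hp).1 h4
      have h6 : Nat.card k ^ 1 < Nat.card k ^ m := Nat.pow_lt_pow_right (by omega) (by omega)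
      rw [pow_one] at h6
      omega
    have h7 : normalizer (H : Set PGL(2, F)) = ⊤ := by
      rcases hk with e | ⟨e, -⟩
      · rw [e, pglOf_eq_top hsurj, cjs_of_normal]
      · rw [Nat.card_congr (Equiv.ofBijective _ ⟨k.subtype_injective, hsurj⟩), Nat.odd_iff] at e
        omega
    rcases (normalizer_eq_top_iff.1 h7).eq_bot_or_eq_top with e | e
    · exact absurd (e ▸ inferInstance) hH
    · rw [e]
      exact le_top

end pgl

/-- Let G be a finite non-abelian simple group. Every non-abelian subgroup of G is self-normalizing if and only if G is isomorphic to PSL₂(2ⁿ) for some n ≥ 2 with 2ⁿ − 1 prime (this includes the alternating group of degree 5 as PSL₂(4)). -/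
theorem result {G : Type*} [Group G] [Finite G] [IsSimpleGroup G]
    (hna : ¬ IsMulCommutative G) :
    (∀ H : Subgroup G, ¬ IsMulCommutative H → Subgroup.normalizer (H : Set G) = H) ↔
    ∃ n : ℕ, 2 ≤ n ∧ (2 ^ n - 1).Prime ∧ Nonempty (G ≃* Matrix.ProjectiveSpecialLinearGroup (Fin 2) (GaloisField 2 n)) := by
  constructor
  · intro h
    obtain ⟨n, hn, ⟨e⟩⟩ := CL.PSL2E.exists_psl_of_simple hna (SN.cent_comm h hna)
    have hc := GaloisField.card 2 n (by omega)
    have h1 := prime_of_SN (SN.of_injective h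
      (e.trans (CL.PSL2E.pslEquivPgl _)).symm.toMonoidHom (MulEquiv.injective _))
      (by rw [hc]; exact le_trans (by norm_num) (Nat.pow_le_pow_right (by norm_num) hn))
    exact ⟨n, hn, hc ▸ h1, ⟨e⟩⟩
  · rintro ⟨n, hn, hp, ⟨e⟩⟩
    have hc := GaloisField.card 2 n (by omega)
    have e' := e.trans (CL.PSL2E.pslEquivPgl _)
    have := e'.symm.isSimpleGroup
    exact (SN_of_prime (hc ▸ hp)).of_injective e'.toMonoidHom e'.injective

end Cfsg.Agent.S4073
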