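import Cfsg.Statements.S4078
import Cfsg.Agent.S0489
import Cfsg.Agent.S0205
import Cfsg.Agent.FGS.FpfTower

set_option autoImplicit false
open Cfsg

namespace Cfsg.Agent.S4078

open Subgroup CL CL.MSS

theorem solv_sup {G : Type*} [Group G] {A B : Subgroup G} (hA : Group.IsSolvable A)
    (hB : Group.IsSolvable B) (h : A ≤ normalizer (B : Set G)) : Group.IsSolvable ↥(A ⊔ B) :=
  isSolvable_sup_of_le_normalizer h hA hB

theorem solv_of_le {G : Type*} [Group G] {A B : Subgroup G} (hB : Group.IsSolvable B) (h : A ≤ B) :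
    Group.IsSolvable A :=
  Group.isSolvable_of_isSolvable_injective (inclusion_injective h)

theorem solv_invol {G : Type*} [Group G] {s t : G} (hs : s * s = 1) (ht : t * t = 1) :
    Group.IsSolvable (closure ({s, t} : Set G)) := by
  have h1 : s * (s * t) * s⁻¹ = (s * t)⁻¹ := by
    rw [← mul_assoc, hs, one_mul, mul_inv_rev, inv_eq_of_mul_eq_one_left ht]
  have h2 : zpowers s ≤ normalizer (zpowers (s * t) : Set G) := by
    rw [zpowers_le, mem_normalizer_iff_cj, cj_zpowers, h1, zpowers_inv]
  refine solv_of_le (solv_sup (HH.isSolvable_zpowers s) (HH.isSolvable_zpowers _) h2) ?_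
  rw [closure_le, Set.insert_subset_iff, Set.singleton_subset_iff]
  refine ⟨mem_sup_left (mem_zpowers s), ?_⟩
  have := mul_mem_sup (mem_zpowers s) (mem_zpowers (s * t))
  rwa [← mul_assoc, hs, one_mul] at this

universe u

theorem aux (n : ℕ) : ∀ (G : Type u) [Group G] [Finite G], Nat.card G = n →
    (∀ x : G, ∃ H : Subgroup G,
      (H : Set G) = {y : G | Group.IsSolvable ↥(closure ({x, y} : Set G))}) →
    Group.IsSolvable G := by
  induction n using Nat.strong_induction_on with | _ n ih => ?_
  intro G _ _ hn h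
  choose S hS using h
  have hm : ∀ x y, y ∈ S x ↔ Group.IsSolvable ↥(closure ({x, y} : Set G)) := fun x y =>
    Set.ext_iff.1 (hS x) y
  set N := closure {t : G | t * t = 1}
  have : N.Normal := ⟨fun x hx g => by
    refine closure_induction (fun t ht => subset_closure ?_) (by simp) (fun a b _ _ ha hb => ?_)
      (fun a _ ha => ?_) hx
    · change g * t * g⁻¹ * (g * t * g⁻¹) = 1
      rw [show g * t * g⁻¹ * (g * t * g⁻¹) = g * (t * t) * g⁻¹ by group, ht]; simp
    · simpa [mul_assoc] using mul_mem ha hb
    · simpa [mul_assoc] using inv_mem ha⟩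
  have h1 : ∀ x ∈ N, N ≤ S x := fun x hx => (closure_le _).2 fun t ht => by
    have h2 : N ≤ S t := (closure_le _).2 fun s hs => (hm _ _).2 (solv_invol ht hs)
    have := (hm _ _).1 (h2 hx)
    rw [Set.pair_comm] at this
    exact (hm _ _).2 this
  have hN : Group.IsSolvable N := Cfsg.Agent.S0489.result fun a b => by
    have := (hm _ _).1 (h1 a a.2 b.2)
    rw [show ({(a : G), (b : G)} : Set G) = N.subtype '' {a, b} from (Set.image_pair _ _ _).symm,
      ← MonoidHom.map_closure] at this
    exact Group.isSolvable_of_isSolvable_injective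
      (f := (equivMapOfInjective _ _ N.subtype_injective).toMonoidHom) (MulEquiv.injective _)
  by_cases h0 : N = ⊥
  · refine Cfsg.Agent.S0205.result (Nat.not_even_iff_odd.1 fun he => ?_)
    obtain ⟨t, ht⟩ := exists_prime_orderOf_dvd_card' 2 he.two_dvd
    have : t ∈ N := subset_closure (by rw [Set.mem_ofPred_eq, ← sq, ← ht, pow_orderOf_eq_one])
    rw [h0, mem_bot] at this
    simp [this] at ht
  have key : ∀ x y : G, Group.IsSolvable (closure ({(x : G ⧸ N), (y : G ⧸ N)} : Set (G ⧸ N))) ↔
      y ∈ S x := fun x y => by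
    have e : closure ({(x : G ⧸ N), (y : G ⧸ N)} : Set (G ⧸ N)) =
        (closure ({x, y} : Set G)).map (QuotientGroup.mk' N) := by
      rw [MonoidHom.map_closure, Set.image_pair]; rfl
    rw [hm, e]
    refine ⟨fun hs => ?_, fun hs => FH.isSolvable_map hs _⟩
    exact solv_of_le (isSolvable_comap (QuotientGroup.mk' N) _ hs
      (by rwa [QuotientGroup.ker_mk'])) (le_comap_map _ _)
  have h2 := ih _ (hn ▸ card_quotient_lt h0) (G ⧸ N) rfl fun x => by
    obtain ⟨x, rfl⟩ := QuotientGroup.mk_surjective x
    refine ⟨(S x).map (QuotientGroup.mk' N), Set.ext fun y => ⟨?_, fun hy => ?_⟩⟩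
    · rintro ⟨y, hy, rfl⟩
      exact (key x y).2 hy
    · obtain ⟨y, rfl⟩ := QuotientGroup.mk_surjective y
      exact ⟨y, (key x y).1 hy, rfl⟩
  exact Group.isSolvable_of_ker_le_range N.subtype (QuotientGroup.mk' N) (by simp)


/-- For an element x of a finite group G let Sol(x) be the set of y ∈ G such that x and y generate a solvable subgroup. Then G is solvable if and only if Sol(x) is (the carrier of) a subgroup of G for every x ∈ G. -/
theorem result {G : Type*} [Group G] [Finite G] :
    Group.IsSolvable G ↔ ∀ x : G, ∃ H : Subgroup G, (H : Set G) = {y : G | Group.IsSolvable ↥(Subgroup.closure ({x, y} : Set G))} := by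
  exact ⟨fun h x => ⟨⊤, Set.ext fun y => ⟨fun _ => (inferInstance : Group.IsSolvable _),
    fun _ => trivial⟩⟩, aux _ G rfl⟩

end Cfsg.Agent.S4078
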