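import Cfsg.Statements.S4087
import Cfsg.Agent.FGS.CITSpec
set_option autoImplicit false
open Cfsg

namespace Cfsg.Agent.S4087

open CL CL.CITC Subgroup

/-- Let G be a finite group in which every non-identity element has prime-power order (its prime graph has no edges). Then the order of G has at most four distinct prime divisors; and if it has exactly four, then either G is isomorphic to PSL(3,4), or G has a normal 2-subgroup N with G/N isomorphic to the Suzuki group over the field with 8 or with 32 elements. -/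
theorem result {G : Type*} [Group G] [Finite G] (h : ∀ g : G, g ≠ 1 → IsPrimePow (orderOf g)) :
    (Nat.card G).primeFactors.card ≤ 4 ∧
    ((Nat.card G).primeFactors.card = 4 →
      (∃ (F : Type) (_ : Field F) (_ : Fintype F), Fintype.card F = 4 ∧
        Nonempty (G ≃* Matrix.ProjectiveSpecialLinearGroup (Fin 3) F)) ∨
      (∃ (N : Subgroup G) (_ : N.Normal), IsPGroup 2 ↥N ∧
        ∃ (F : Type) (_ : Field F) (_ : Fintype F),
          (Fintype.card F = 8 ∧ Nonempty (G ⧸ N ≃* ↥(Cfsg.Lie.Sz F 4))) ∨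
          (Fintype.card F = 32 ∧ Nonempty (G ⧸ N ≃* ↥(Cfsg.Lie.Sz F 8))))) := by
  by_cases hs : Group.IsSolvable G
  · have := Agent.S1475.result (G := G) fun g => or_iff_not_imp_right.2 (h g)
    exact ⟨by omega, by omega⟩
  have h3 : (Nat.card G).primeFactors.card = 3 → ∀ P : Prop,
      (Nat.card G).primeFactors.card ≤ 4 ∧ ((Nat.card G).primeFactors.card = 4 → P) :=
    fun h _ => ⟨by omega, by omega⟩
  have hQ := primeFactors_quotient (isPGroup_pCore 2 G)
  rcases Eppo.struct h hs with ⟨F, _, _, h1, ⟨e⟩⟩ | ⟨F, _, _, h1⟩ | ⟨-, ⟨F, _, _, h1, ⟨e⟩⟩ |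
    ⟨F, _, _, h1, ⟨e⟩⟩ | ⟨N, hN, h1, ⟨e⟩⟩⟩
  · refine h3 ?_ _
    rcases h1 with h1 | h1
    · have h2 := card_psl2_even (n := 2) h1 e
      rw [hQ (by omega), h2]; simp [Nat.primeFactors]
    · have h2 := card_psl2_even (n := 3) h1 e
      rw [hQ (by omega), h2]; simp [Nat.primeFactors]
  · refine ⟨?_, fun _ => .inr ⟨_, inferInstance, isPGroup_pCore 2 G, F, _, _, h1⟩⟩
    rcases h1 with ⟨h1, ⟨e⟩⟩ | ⟨h1, ⟨e⟩⟩
    · have h2 := card_suzuki (m := 1) h1 e
      rw [hQ (by omega), h2]; simp [Nat.primeFactors]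
    · have h2 := card_suzuki (m := 2) h1 e
      rw [hQ (by omega), h2]; simp [Nat.primeFactors]
  · refine h3 ?_ _
    have h2 := card_psl2_odd (by rcases h1 with h | h <;> rw [h] <;> decide) e
    rcases h1 with h1 | h1 <;> rw [h1] at h2
    · rw [show Nat.card G = 168 by omega]; simp [Nat.primeFactors]
    · rw [show Nat.card G = 2448 by omega]; simp [Nat.primeFactors]
  · refine ⟨?_, fun _ => .inl ⟨F, _, _, h1, ⟨e⟩⟩⟩
    rw [Nat.card_congr e.toEquiv, card_psl3_four h1]; simp [Nat.primeFactors]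
  · refine h3 ?_ _
    rw [← N.card_mul_index, Nat.card_congr e.toEquiv, nat_card_alternatingGroup]
    rcases (Nat.dvd_prime Nat.prime_two).1 h1 with h | h <;> simp [h, Nat.primeFactors, Nat.factorial]

end Cfsg.Agent.S4087
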