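import Mathlib
import Cfsg.Statements.S4103
import Cfsg.Agent.FGS.HHLenB
import Cfsg.Agent.FGS.MinWit2

set_option autoImplicit false
open Cfsg

namespace Cfsg.Agent.S4103

/-- A finite group G is solvable if and only if for every x ∈ G of odd prime-power order and every y ∈ G of 2-power order the subgroup generated by x and yxy⁻¹ is solvable. -/
theorem result {G : Type*} [Group G] [Finite G] :
    Group.IsSolvable G ↔ ∀ x y : G, (∃ p k : ℕ, p.Prime ∧ p ≠ 2 ∧ orderOf x = p ^ k) → (∃ k : ℕ, orderOf y = 2 ^ k) →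
      Group.IsSolvable (Subgroup.closure ({x, y * x * y⁻¹} : Set G)) := by
  refine ⟨fun hG x y _ _ => inferInstance, fun h => ?_⟩
  by_contra hG
  obtain ⟨H, -, h2, h3⟩ := CL.S2L.exists_section hG
  obtain ⟨y, x, r, hr, hr2, hx, hy, hn⟩ :=
    CL.MinW.ip_minList (CL.MinW.not_solvable_of_isMinimalSimple h2) h3
  have := Fact.mk hr
  have hf := QuotientGroup.mk'_surjective (frattini H)
  obtain ⟨x', ⟨j, hj⟩, rfl⟩ := CL.HHL.PEl.exists_lift (p := r) hf (y := x)
    ⟨1, by rw [pow_one, ← hx, pow_orderOf_eq_one]⟩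
  obtain ⟨y', ⟨k, hk⟩, rfl⟩ := CL.HHL.PEl.exists_lift (p := 2) hf (y := y)
    ⟨1, by rw [pow_one, pow_two, hy]⟩
  obtain ⟨a, -, ha⟩ := (Nat.dvd_prime_pow hr).1 (orderOf_dvd_of_pow_eq_one hj)
  obtain ⟨b, -, hb⟩ := (Nat.dvd_prime_pow Nat.prime_two).1 (orderOf_dvd_of_pow_eq_one hk)
  have h4 := h x' y' ⟨r, a, hr, hr2, by rw [Subgroup.orderOf_coe, ha]⟩
    ⟨b, by rw [Subgroup.orderOf_coe, hb]⟩
  have h5 : Group.IsSolvable (Subgroup.closure ({x', y' * x' * y'⁻¹} : Set H)) := by
    have e : Subgroup.closure ({(x' : G), y' * x' * (y' : G)⁻¹} : Set G) =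
        (Subgroup.closure ({x', y' * x' * y'⁻¹} : Set H)).map H.subtype := by
      rw [MonoidHom.map_closure, Set.image_pair]; rfl
    rw [e] at h4
    exact Group.isSolvable_of_surjective
      (f := (Subgroup.equivMapOfInjective _ _ H.subtype_injective).symm.toMonoidHom)
      (MulEquiv.surjective _)
  refine CL.MinW.not_solvable_map (QuotientGroup.mk' (frattini H)) (fun h6 => hn ?_) h5
  refine CL.MinW.solvable_of_conj hy ?_
  rwa [map_mul, map_mul, map_inv] at h6

end Cfsg.Agent.S4103
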