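import Cfsg.Statements.S4112
import Mathlib
import Cfsg.Agent.PLOC.PNormal

set_option autoImplicit false
open Cfsg

namespace Cfsg.Agent.S4112

theorem exists_supplement {G : Type*} [Group G] [Finite G] (N : Subgroup G) [N.Normal] :
    ∃ H : Subgroup G, H ⊔ N = ⊤ ∧ ∀ p : ℕ, p.Prime → p ∣ Nat.card H → p ∣ N.index := by
  classical
  obtain ⟨H, hH, hmin⟩ := (wellFounded_lt (α := Subgroup G)).has_min {H | H ⊔ N = ⊤} ⟨⊤, by simp⟩
  refine ⟨H, hH, ?_⟩
  intro p hp hpH
  by_contra hpN
  haveI : Fact p.Prime := ⟨hp⟩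
  have hmin' : ∀ K : Subgroup H, K ⊔ N.subgroupOf H = ⊤ → K = ⊤ := by
    intro K hK
    by_contra hne
    apply hmin (K.map H.subtype)
    · show K.map H.subtype ⊔ N = ⊤
      rw [eq_top_iff, ← (show H ⊔ N = ⊤ from hH)]
      apply sup_le _ le_sup_right
      intro h hh
      have : (⟨h, hh⟩ : H) ∈ K ⊔ N.subgroupOf H := by rw [hK]; trivial
      have h2 : h ∈ (K ⊔ N.subgroupOf H).map H.subtype := ⟨_, this, rfl⟩
      rw [Subgroup.map_sup] at h2
      refine (sup_le_sup_left ?_ _ : _ ≤ K.map H.subtype ⊔ N) h2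
      rw [Subgroup.subgroupOf_map_subtype]; exact inf_le_left
    · refine lt_of_le_of_ne (Subgroup.map_subtype_le K) ?_
      intro h
      apply hne
      rw [eq_top_iff]
      intro x _
      have : (x : G) ∈ K.map H.subtype := by rw [h]; exact x.2
      obtain ⟨y, hy, hyx⟩ := this
      have : y = x := Subtype.ext hyx
      rwa [← this]
  set M := N.subgroupOf H with hM
  have hidx : M.index = N.index := by
    have := Subgroup.relIndex_sup_right H N
    rw [hH, Subgroup.relIndex_top_right] at this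
    exact this.symm
  obtain ⟨P⟩ : Nonempty (Sylow p H) := inferInstance
  have hPM : (P : Subgroup H) ≤ M := by
    intro x hx
    obtain ⟨k, hk⟩ := P.isPGroup' ⟨x, hx⟩
    have hk' : x ^ p ^ k = 1 := by simpa using congrArg Subtype.val hk
    have h1 : (x : H ⧸ M) ^ p ^ k = 1 := by rw [← QuotientGroup.mk_pow, hk']; rfl
    have h2 : (x : H ⧸ M) ^ M.index = 1 := pow_card_eq_one'
    have hc : Nat.Coprime (p ^ k) M.index := by
      rw [hidx]; exact Nat.Coprime.pow_left _ ((Nat.Prime.coprime_iff_not_dvd hp).mpr hpN)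
    have h3 : orderOf (x : H ⧸ M) ∣ 1 := by
      rw [← hc]
      exact Nat.dvd_gcd (orderOf_dvd_of_pow_eq_one h1) (orderOf_dvd_of_pow_eq_one h2)
    rw [Nat.dvd_one, orderOf_eq_one_iff] at h3
    exact (QuotientGroup.eq_one_iff x).mp h3
  have hnorm := hmin' _ (Sylow.normalizer_sup_eq_top' P hPM)
  haveI : (P : Subgroup H).Normal := Subgroup.normalizer_eq_top_iff.mp hnorm
  obtain ⟨K, hK⟩ := Subgroup.exists_right_complement'_of_coprime (N := (P : Subgroup H)) P.card_coprime_index
  have hK2 : K = ⊤ := by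
    apply hmin'
    rw [eq_top_iff, ← hK.sup_eq_top, sup_comm]
    exact sup_le_sup_left hPM _
  have h3 := hK.disjoint
  rw [hK2, disjoint_top] at h3
  exact P.ne_bot_of_dvd_card hpH h3

/-- Let G be a finite group and M ≤ N non-trivial proper normal subgroups such that for every g outside N the conjugacy class of g is a union of cosets of M (equivalently gm is conjugate to g for every m ∈ M). Then (1) and (2) below are equivalent, and they imply (3): (1) every g outside N acts fixed-point-freely on M, that is C_G(x) ≤ N for every x ∈ M, x ≠ 1; (2) the index of N in G is coprime to the order of M; (3) there is a subgroup H of G with HN = G and H ∩ M = 1. -/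
theorem result {G : Type*} [Group G] [Finite G] (N M : Subgroup G) [N.Normal] [M.Normal] (hMN : M ≤ N) (hM1 : M ≠ ⊥) (hN2 : N ≠ ⊤)
    (hcam : ∀ g : G, g ∉ N → ∀ m ∈ M, ∃ x : G, x * g * x⁻¹ = g * m) :
    ((∀ x ∈ M, x ≠ 1 → Subgroup.centralizer ({x} : Set G) ≤ N) ↔ N.index.Coprime (Nat.card M)) ∧
    ((∀ x ∈ M, x ≠ 1 → Subgroup.centralizer ({x} : Set G) ≤ N) → ∃ H : Subgroup G, H ⊔ N = ⊤ ∧ H ⊓ M = ⊥) := by
  classical
  have h12 : (∀ x ∈ M, x ≠ 1 → Subgroup.centralizer ({x} : Set G) ≤ N) →
      N.index.Coprime (Nat.card M) := by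
    intro h
    by_contra hc
    obtain ⟨p, hp, hp1, hp2⟩ := Nat.Prime.not_coprime_iff_dvd.mp hc
    haveI : Fact p.Prime := ⟨hp⟩
    obtain ⟨P⟩ : Nonempty (Sylow p G) := inferInstance
    obtain ⟨y, hy⟩ := exists_prime_orderOf_dvd_card' p hp2
    have hyP : IsPGroup p (Subgroup.zpowers (y : G)) := by
      apply IsPGroup.of_card (n := 1)
      rw [Nat.card_zpowers, Subgroup.orderOf_coe, hy, pow_one]
    obtain ⟨Q, hQ⟩ := hyP.exists_le_sylow
    have hyQ : (y : G) ∈ (Q : Subgroup G) := hQ (Subgroup.mem_zpowers _)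
    have hne : (M.subgroupOf Q) ≠ ⊥ := by
      intro hb
      have : (⟨y, hyQ⟩ : Q) ∈ M.subgroupOf Q := y.2
      rw [hb, Subgroup.mem_bot] at this
      have h1 : (y : G) = 1 := congrArg Subtype.val this
      have h2 : y = 1 := Subtype.ext h1
      rw [h2, orderOf_one] at hy
      exact hp.one_lt.ne hy
    haveI : Group.IsNilpotent Q := Q.isPGroup'.isNilpotent
    have hz := CL.PN.inf_center_ne_bot (M.subgroupOf Q) hne
    obtain ⟨⟨z, hz1, hz2⟩, hz3⟩ := (Subgroup.ne_bot_iff_exists_ne_one).mp hz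
    have hz4 : (z : G) ≠ 1 := fun h => hz3 (Subtype.ext (Subtype.ext h))
    have hQN : (Q : Subgroup G) ≤ N := by
      refine le_trans ?_ (h z hz1 hz4)
      intro q hq
      rw [Subgroup.mem_centralizer_singleton_iff]
      exact congrArg Subtype.val (Subgroup.mem_center_iff.mp hz2 ⟨q, hq⟩)
    exact Q.not_dvd_index (hp1.trans (Subgroup.index_dvd_of_le hQN))
  refine ⟨⟨h12, ?_⟩, ?_⟩
  · intro hc x hx hx1 g hg
    by_contra hgN
    have hcomm : Commute g x := Subgroup.mem_centralizer_singleton_iff.mp hg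
    -- replace `g` by a power of order prime to `|M|`
    set m := Nat.card M ^ Nat.card G with hm
    have hgm : g ^ m ∉ N := by
      intro h
      apply hgN
      have h1 : (g : G ⧸ N) ^ m = 1 := by
        rw [← QuotientGroup.mk_pow]; exact (QuotientGroup.eq_one_iff _).mpr h
      have h2 : (g : G ⧸ N) ^ N.index = 1 := pow_card_eq_one'
      have hc' : Nat.Coprime m N.index := Nat.Coprime.pow_left _ hc.symm
      have h3 : orderOf (g : G ⧸ N) ∣ 1 := by
        rw [← hc']
        exact Nat.dvd_gcd (orderOf_dvd_of_pow_eq_one h1) (orderOf_dvd_of_pow_eq_one h2)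
      rw [Nat.dvd_one, orderOf_eq_one_iff] at h3
      exact (QuotientGroup.eq_one_iff g).mp h3
    have hcop : Nat.Coprime (orderOf (g ^ m)) (orderOf x) := by
      have hxM : orderOf x ∣ Nat.card M := Subgroup.orderOf_dvd_natCard M hx
      refine Nat.Coprime.coprime_dvd_right hxM ?_
      rw [orderOf_pow' g (pow_ne_zero _ Nat.card_pos.ne')]
      apply Nat.coprime_of_dvd
      intro q hq hq1 hq2
      have hg0 : orderOf g ≠ 0 := (orderOf_pos g).ne'
      have hle : (orderOf g).factorization q ≤ (Nat.gcd (orderOf g) m).factorization q := by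
        rw [← Nat.Prime.pow_dvd_iff_le_factorization hq (Nat.gcd_ne_zero_left hg0)]
        refine Nat.dvd_gcd (Nat.ordProj_dvd _ _) ?_
        refine (pow_dvd_pow q ?_).trans (pow_dvd_pow_of_dvd hq2 _)
        exact ((Nat.factorization_lt q hg0).le).trans orderOf_le_card
      have h5 := (Nat.Prime.dvd_iff_one_le_factorization hq (by
        exact (Nat.div_pos (Nat.gcd_le_left _ (orderOf_pos g)) (Nat.gcd_pos_of_pos_left _ (orderOf_pos g))).ne')).mp hq1
      rw [Nat.factorization_div (Nat.gcd_dvd_left _ _)] at h5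
      simp only [Finsupp.coe_tsub, Pi.sub_apply, ← hm] at h5
      omega
    obtain ⟨y, hy⟩ := hcam _ hgm x hx
    have h6 : orderOf (g ^ m * x) = orderOf (g ^ m) * orderOf x :=
      (hcomm.pow_left m).orderOf_mul_eq_mul_orderOf_of_coprime hcop
    have h7 : orderOf (g ^ m * x) = orderOf (g ^ m) := by
      rw [← hy]
      exact (MulAut.conj y).orderOf_eq (g ^ m)
    rw [h7] at h6
    have h8 : orderOf x = 1 := by
      have := orderOf_pos (g ^ m)
      nlinarith [orderOf_pos x]
    exact hx1 (orderOf_eq_one_iff.mp h8)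
  · intro h
    obtain ⟨H, hH, hp⟩ := exists_supplement N
    refine ⟨H, hH, ?_⟩
    apply Subgroup.inf_eq_bot_of_coprime
    apply Nat.coprime_of_dvd
    intro q hq hq1 hq2
    exact (Nat.Prime.not_coprime_iff_dvd.mpr ⟨q, hq, hp q hq hq1, hq2⟩) (h12 h)

end Cfsg.Agent.S4112
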