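import Cfsg.Statements.S4113

set_option autoImplicit false
open Cfsg

namespace Cfsg.Agent.S4113

open Subgroup


/-- Let G be a finite group, M ≤ N non-trivial proper normal subgroups, and H a subgroup with HM = G and H ∩ M = 1. Then every element of G outside N acts fixed-point-freely on M (C_G(x) ≤ N for every x ∈ M, x ≠ 1) if and only if H ∩ gHg⁻¹ ≤ H ∩ N for every g outside H, with H proper and non-trivial and H ∩ N proper in H. -/
theorem result {G : Type*} [Group G] [Finite G] (N M : Subgroup G) [N.Normal] [M.Normal] (hMN : M ≤ N) (hM1 : M ≠ ⊥) (hN2 : N ≠ ⊤)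
    (H : Subgroup G) (hHM : H ⊔ M = ⊤) (hHM' : H ⊓ M = ⊥) :
    (∀ x ∈ M, x ≠ 1 → Subgroup.centralizer ({x} : Set G) ≤ N) ↔
      (H ≠ ⊥ ∧ H ≠ ⊤ ∧ H ⊓ N < H ∧ ∀ g : G, g ∉ H → H ⊓ H.map (MulAut.conj g).toMonoidHom ≤ N) := by
  have hdec : ∀ g : G, ∃ m ∈ M, ∃ h ∈ H, m * h = g := fun g =>
    mem_sup_of_normal_left.1 (by rw [sup_comm, hHM]; trivial)
  have hone : ∀ x ∈ H, x ∈ M → x = 1 := fun x h1 h2 => mem_bot.1 (hHM' ▸ mem_inf.2 ⟨h1, h2⟩)
  have hHN : ¬ H ≤ N := fun h => hN2 (eq_top_iff.2 (hHM ▸ sup_le h hMN))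
  constructor
  · intro h
    refine ⟨fun h1 => hHN (h1 ▸ bot_le), fun h1 => hM1 (by rwa [h1, top_inf_eq] at hHM'),
      inf_lt_left.2 hHN, fun g hg => ?_⟩
    obtain ⟨m, hm, k, hk, rfl⟩ := hdec g
    rintro _ ⟨h1, y, hy, rfl⟩
    have h2 : k * y * k⁻¹ ∈ H := mul_mem (mul_mem hk hy) (inv_mem hk)
    have h3 : (MulAut.conj (m * k)).toMonoidHom y = m * (k * y * k⁻¹) * m⁻¹ := by simp [mul_assoc]
    rw [h3] at h1 ⊢
    generalize k * y * k⁻¹ = w at *
    have h4 : m * w * m⁻¹ * w⁻¹ = 1 := hone _ (mul_mem h1 (inv_mem h2)) (by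
      have := mul_mem hm (‹M.Normal›.conj_mem _ (inv_mem hm) w)
      simpa only [mul_assoc] using this)
    rw [mul_inv_eq_one] at h4
    rw [h4]
    refine h m hm (fun h5 => hg (by rw [h5, one_mul]; exact hk)) (mem_centralizer_singleton_iff.2 ?_)
    rw [mul_inv_eq_iff_eq_mul] at h4
    exact h4.symm
  · rintro ⟨-, -, -, h⟩ x hx hx1 c hc
    by_contra hcN
    have h1 : ∀ k ∈ H, k ∉ N → ∀ m ∈ M, m * k = k * m → m = 1 := fun k hk hkN m hm hmk => by
      by_contra h2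
      exact hkN (h m (fun h3 => h2 (hone m h3 hm)) ⟨hk, k, hk, by simp [hmk]⟩)
    obtain ⟨m, hm, k, hk, rfl⟩ := hdec c
    have hkN : k ∉ N := fun h => hcN (mul_mem (hMN hm) h)
    let f : M → M := fun u => ⟨u * (k * (u : G)⁻¹ * k⁻¹), mul_mem u.2 (‹M.Normal›.conj_mem _ (inv_mem u.2) k)⟩
    have hf : Function.Injective f := fun u v huv => by
      have h2 : (u : G) * (k * (u : G)⁻¹ * k⁻¹) = v * (k * (v : G)⁻¹ * k⁻¹) := congrArg Subtype.val huv
      have h3 := h1 k hk hkN ((v : G)⁻¹ * u) (mul_mem (inv_mem v.2) u.2) (by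
        calc _ = (v : G)⁻¹ * (u * (k * (u : G)⁻¹ * k⁻¹)) * k * u := by group
          _ = _ := by rw [h2]; group)
      exact Subtype.ext (inv_mul_eq_one.1 h3).symm
    obtain ⟨u, hu⟩ := Finite.surjective_of_injective hf ⟨m, hm⟩
    have h2 : (u : G) * (k * (u : G)⁻¹ * k⁻¹) = m := congrArg Subtype.val hu
    have h3 := mem_centralizer_singleton_iff.1 hc
    have h4 := h1 k hk hkN ((u : G)⁻¹ * x * u) (mul_mem (mul_mem (inv_mem u.2) hx) u.2) (by
      calc _ = (u : G)⁻¹ * (x * (u * (k * (u : G)⁻¹ * k⁻¹) * k)) * u := by group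
        _ = _ := by rw [h2, ← h3, ← h2]; group)
    exact hx1 (by simpa [mul_assoc, inv_mul_eq_one] using h4)

end Cfsg.Agent.S4113
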