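import Cfsg.Statements.S4132
import Cfsg.Agent.FGS.PP4e

set_option autoImplicit false
open Cfsg

namespace Cfsg.Agent.S4132

/-- Let G be a finite group in which every element of prime-power order has a conjugacy class of square-free size. Then G is supersolvable, its third derived subgroup is trivial, G/F(G) is abelian of square-free exponent (a direct product of elementary abelian groups), and the derived subgroup of F(G) has square-free order. -/
theorem result {G : Type*} [Group G] [Finite G]
    (h : ∀ x : G, (∃ (r : ℕ) (k : ℕ), r.Prime ∧ orderOf x = r ^ k) → Squarefree (Subgroup.centralizer ({x} : Set G)).index) :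
    Cfsg.IsSupersolvable G ∧ derivedSeries G 3 = ⊥ ∧
    (∀ _h : (Cfsg.fittingSubgroup G).Normal, IsMulCommutative (G ⧸ Cfsg.fittingSubgroup G) ∧ Squarefree (Monoid.exponent (G ⧸ Cfsg.fittingSubgroup G))) ∧
    Squarefree (Nat.card (commutator ↥(Cfsg.fittingSubgroup G))) := by
  exact CL.PP4.SQ.main h

end Cfsg.Agent.S4132
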