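import Cfsg.Statements.S4136
import Cfsg.Agent.FGS.PP4d

set_option autoImplicit false
open Cfsg

namespace Cfsg.Agent.S4136

open Subgroup CL.PP4

/-- A subgroup without normal `p`-complement has a non-central `p`-element. -/
theorem exists_noncentral {G : Type*} [Group G] [Finite G] {p : ℕ} [Fact p.Prime] {C : Subgroup G}
    (h : ¬ NC p C) : ∃ y ∈ C, (∃ k, y ^ p ^ k = 1) ∧ ∃ c ∈ C, c * y ≠ y * c := by
  by_contra! hc
  obtain ⟨P⟩ : Nonempty (Sylow p C) := inferInstance
  have hP : normalizer (P : Set C) ≤ centralizer (P : Set C) := by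
    intro n _
    rw [mem_centralizer_iff]
    intro x hx
    obtain ⟨k, hk⟩ := P.isPGroup' ⟨x, hx⟩
    exact Subtype.ext (hc x x.2 ⟨k, congrArg (fun z : P => ((z : C) : G)) hk⟩ n n.2).symm
  exact h (nc_iff_npc.2 ⟨P, _, inferInstance, MonoidHom.ker_transferSylow_isComplement' P hP⟩)

theorem npc {G : Type*} [Group G] [Finite G] {p : ℕ} [hp : Fact p.Prime] (hs : p = 2 ∨ Group.IsSolvable G)
    (h : ∀ x y : G, (∃ r k : ℕ, r.Prime ∧ r ≠ p ∧ orderOf x = r ^ k) → (∃ k, orderOf y = p ^ k) → y ∉ center G →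
      (Nat.card (centralizer ({y} : Set G))).factorization p ≤ (Nat.card (centralizer ({x} : Set G))).factorization p) :
    HasNormalPComplement p G := by
  by_contra hG
  obtain ⟨R, h1, h2, h3⟩ := exists_max hG
  obtain ⟨x, -, h4, h5⟩ := exists_defect hs h1 h2 h3
  obtain ⟨y, hy, ⟨k, hk⟩, c, hc, hcy⟩ := exists_noncentral h2
  obtain ⟨i, -, hi⟩ := (Nat.dvd_prime_pow hp.out).1 (orderOf_dvd_of_pow_eq_one hk)
  have h6 := h x y h4 ⟨i, hi⟩ fun e => hcy (mem_center_iff.1 e c)
  have yR : y ∉ R := fun e => hcy (hc y e).symm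
  have py : IsPGroup p (zpowers y) := IsPGroup.of_card (by rw [Nat.card_zpowers, hi])
  have nR : zpowers y ≤ normalizer (R : Set G) := (zpowers_le.2 hy).trans (centralizer_le_normalizer _)
  have pS : IsPGroup p (zpowers y ⊔ R : Subgroup G) := py.to_sup_of_normal_right' h1 nR
  have lS : zpowers y ⊔ R ≤ centralizer ({y} : Set G) :=
    sup_le (zpowers_le.2 (mem_centralizer_singleton_iff.2 rfl))
      fun r hr => mem_centralizer_singleton_iff.2 (hy r hr)
  obtain ⟨n, hn⟩ := IsPGroup.iff_card.1 pS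
  have d1 : p ^ n ∣ Nat.card (centralizer ({y} : Set G)) := hn ▸ card_dvd_of_le lS
  have d2 := (hp.out.pow_dvd_iff_le_factorization Nat.card_pos.ne').1 d1
  have d3 : Nat.card (zpowers y ⊔ R : Subgroup G) ≤ Nat.card R := by
    rw [hn, h5.card_eq_pow_factorization]
    exact Nat.pow_le_pow_right hp.out.pos (d2.trans h6)
  have e : R = zpowers y ⊔ R := eq_of_le_of_card_ge le_sup_right d3
  exact yR (e.ge (mem_sup_left (mem_zpowers y)))

/-- Let G be a finite group and m a natural number such that every element of prime-power order has a conjugacy class of size 1 or m. Then G is solvable. -/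
theorem result {G : Type*} [Group G] [Finite G] (m : ℕ)
    (h : ∀ x : G, (∃ (r : ℕ) (k : ℕ), r.Prime ∧ orderOf x = r ^ k) → (Subgroup.centralizer ({x} : Set G)).index = 1 ∨ (Subgroup.centralizer ({x} : Set G)).index = m) : Group.IsSolvable G := by
  refine solvable_of_npc_two (npc (.inl rfl) fun x y ⟨r, k, hr, _, hx⟩ ⟨j, hy⟩ yZ => ?_)
  have iy : (centralizer ({y} : Set G)).index = m := (h y ⟨2, j, Nat.prime_two, hy⟩).resolve_left fun e =>
    yZ (mem_center_iff.2 fun g => mem_centralizer_singleton_iff.1 ((index_eq_one.1 e).ge (mem_top g)))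
  refine (Nat.factorization_le_iff_dvd Nat.card_pos.ne' Nat.card_pos.ne').2 ?_ 2
  rcases h x ⟨r, k, hr, hx⟩ with e | e
  · exact card_dvd_of_le ((index_eq_one.1 e).symm ▸ le_top)
  · have e1 := (centralizer ({y} : Set G)).card_mul_index
    have e2 := (centralizer ({x} : Set G)).card_mul_index
    rw [iy] at e1
    rw [e, ← e1] at e2
    have m0 : 0 < m := iy ▸ Nat.pos_of_ne_zero index_ne_zero_of_finite
    rw [Nat.eq_of_mul_eq_mul_right m0 e2]

end Cfsg.Agent.S4136
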