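import Cfsg.Statements.S4142
import Cfsg.Agent.FGS.ClassCount

set_option autoImplicit false
open Cfsg

namespace Cfsg.Agent.S4142

theorem aux {G : Type*} [Group G] [Finite G] (N : Subgroup G) [N.Normal] (g : G) :
    (∀ n ∈ N, ∃ x : G, x * g * x⁻¹ = g * n) ↔
      Nat.card (Subgroup.centralizer ({g} : Set G)) =
        Nat.card (Subgroup.centralizer ({(QuotientGroup.mk g : G ⧸ N)} : Set (G ⧸ N))) := by
  set A : Set G := {y | IsConj g y} with hA
  set B : Set (G ⧸ N) := {y | IsConj (g : G ⧸ N) y} with hB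
  have hsub : A ⊆ (QuotientGroup.mk : G → G ⧸ N) ⁻¹' B := by
    intro y hy
    exact (QuotientGroup.mk' N).map_isConj hy
  have h1 : (∀ n ∈ N, ∃ x : G, x * g * x⁻¹ = g * n) ↔ A = (QuotientGroup.mk : G → G ⧸ N) ⁻¹' B := by
    constructor
    · intro h
      apply Set.Subset.antisymm hsub
      intro y hy
      obtain ⟨x, hx⟩ := isConj_iff.mp hy
      induction x using QuotientGroup.induction_on with
      | H x =>
        have hx' : ((x * g * x⁻¹ : G) : G ⧸ N) = (y : G ⧸ N) := by simpa using hx
        have hn : (x * g * x⁻¹)⁻¹ * y ∈ N := QuotientGroup.eq.mp hx'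
        have hn' : x⁻¹ * ((x * g * x⁻¹)⁻¹ * y) * x⁻¹⁻¹ ∈ N := ‹N.Normal›.conj_mem _ hn _
        obtain ⟨z, hz⟩ := h _ hn'
        refine isConj_iff.mpr ⟨x * z, ?_⟩
        calc x * z * g * (x * z)⁻¹ = x * (z * g * z⁻¹) * x⁻¹ := by group
          _ = y := by rw [hz]; group
    · intro h n hn
      have : g * n ∈ A := by
        rw [h]
        show IsConj (g : G ⧸ N) ((g * n : G) : G ⧸ N)
        have : ((g * n : G) : G ⧸ N) = g := by
          rw [QuotientGroup.mk_mul, (QuotientGroup.eq_one_iff n).mpr hn, mul_one]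
        rw [this]
      exact isConj_iff.mp this
  have h2 : A = (QuotientGroup.mk : G → G ⧸ N) ⁻¹' B ↔
      A.ncard = ((QuotientGroup.mk : G → G ⧸ N) ⁻¹' B).ncard :=
    ⟨fun h => by rw [h], fun h => Set.eq_of_subset_of_ncard_le hsub h.ge (Set.toFinite _)⟩
  rw [h1, h2, CL.ncard_preimage_mk, hA, hB, CL.ncard_isConj_eq_index, CL.ncard_isConj_eq_index]
  set C := Subgroup.centralizer ({g} : Set G)
  set D := Subgroup.centralizer ({(QuotientGroup.mk g : G ⧸ N)} : Set (G ⧸ N))
  have e1 := C.card_mul_index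
  have e2 := D.card_mul_index
  have e3 := N.card_mul_index
  have e4 : N.index = Nat.card (G ⧸ N) := rfl
  have p1 : 0 < Nat.card C := Nat.card_pos
  have p2 : 0 < Nat.card D := Nat.card_pos
  have p3 : 0 < C.index := Nat.pos_of_ne_zero Subgroup.index_ne_zero_of_finite
  have e5 : Nat.card C * C.index = Nat.card D * (Nat.card N * D.index) := by
    rw [e1, ← e3, e4, ← e2]; ring
  constructor
  · intro h
    rw [← h] at e5
    exact Nat.eq_of_mul_eq_mul_right p3 e5
  · intro h
    rw [h] at e5
    exact Nat.eq_of_mul_eq_mul_left p2 e5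

/-- Let G be a finite group and N a normal subgroup. Then the conjugacy class of every element g outside N is a union of cosets of N (gn is conjugate to g for all n ∈ N) if and only if for every g outside N the centralizer of g in G has the same order as the centralizer of gN in G/N. -/
theorem result {G : Type*} [Group G] [Finite G] (N : Subgroup G) [N.Normal] :
    (∀ g : G, g ∉ N → ∀ n ∈ N, ∃ x : G, x * g * x⁻¹ = g * n) ↔
      ∀ g : G, g ∉ N → Nat.card (Subgroup.centralizer ({g} : Set G)) =
        Nat.card (Subgroup.centralizer ({(QuotientGroup.mk g : G ⧸ N)} : Set (G ⧸ N))) := by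
  exact forall_congr' fun g => forall_congr' fun _ => aux N g

end Cfsg.Agent.S4142
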