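import Cfsg.Statements.S4140
import Cfsg.Agent.FGS.EqOrder
import Cfsg.Agent.S4142
import Cfsg.Agent.S4112

set_option autoImplicit false
open Cfsg

namespace Cfsg.Agent.S4140

open Subgroup CL CL.EqOrd CL.MSS


/-- Let G be a finite group and N a proper non-trivial normal subgroup such that for every g outside N the conjugacy class of g is a union of cosets of N (equivalently gn is conjugate to g for every n ∈ N). Then either every element of G outside N acts fixed-point-freely on N (C_G(x) ≤ N for all x ∈ N, x ≠ 1, so G is a Frobenius group with kernel N), or N has prime-power order, or G/N has prime-power order. -/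
theorem result {G : Type*} [Group G] [Finite G] (N : Subgroup G) [N.Normal] (hN1 : N ≠ ⊥) (hN2 : N ≠ ⊤)
    (hcam : ∀ g : G, g ∉ N → ∀ n ∈ N, ∃ x : G, x * g * x⁻¹ = g * n) :
    (∀ x ∈ N, x ≠ 1 → Subgroup.centralizer ({x} : Set G) ≤ N) ∨ IsPrimePow (Nat.card N) ∨ IsPrimePow N.index := by
  have heq := eq_order_of_camina hcam
  have hc := (Cfsg.Agent.S4142.result N).1 hcam
  by_cases hcop : N.index.Coprime (Nat.card N)
  · exact Or.inl ((Cfsg.Agent.S4112.result N N le_rfl hN1 hN2 hcam).1.2 hcop)
  obtain ⟨p, hp, h1, h2⟩ := Nat.Prime.not_coprime_iff_dvd.1 hcop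
  have := Fact.mk hp
  refine Or.inr (or_iff_not_imp_right.2 fun h => isPrimePow_card (p := p) (by_contra fun h3 => ?_) hN1)
  obtain ⟨q, hq, h4, hqp⟩ : ∃ q : ℕ, q.Prime ∧ q ∣ N.index ∧ q ≠ p := by
    by_contra hcon
    push Not at hcon
    obtain ⟨k, hk⟩ := (isPiNum_singleton_iff hp (index_ne_zero_of_finite (H := N))).1 hcon
    refine h ((isPrimePow_nat_iff _).2 ⟨p, k, hp, Nat.pos_of_ne_zero ?_, hk.symm⟩)
    rintro rfl
    exact hN2 (index_eq_one.1 hk)
  have := Fact.mk hq
  by_cases h5 : q ∣ Nat.card N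
  · have : ((pResidual q N).map N.subtype).Normal := ConjAct.normal_of_characteristic_of_normal
    refine not_dvd_card_of_pResidual_eq_top hcam h4 ?_ h5
    have h6 := le_of_not_dvd heq hc h2 h1 ((pResidual q N).map N.subtype) (map_subtype_le _) (by
      obtain ⟨k, hk⟩ := exists_pResidual_index (p := q) (G := N)
      rw [relIndex, subgroupOf, comap_map_eq_self_of_injective N.subtype_injective, hk]
      exact fun h => hqp ((Nat.prime_dvd_prime_iff_eq hp hq).1 (hp.dvd_of_dvd_pow h)).symm)
    exact eq_top_iff.2 fun x _ => mem_map_iff_mem N.subtype_injective |>.1 (h6 x.2)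
  · let Q : Sylow q G := default
    have hnil : Group.IsNilpotent N := by
      refine CL.Frob.isNilpotent_of_fpf (R := Q) (by rw [normalizer_eq_top]; exact le_top)
        ((sylIn_top Q).ne_bot (by rw [card_top]; exact h4.trans N.index_dvd_card))
        fun x hx hx1 => eq_bot_iff.2 fun n hn => ?_
      obtain ⟨k, hk⟩ := isPGroup_iff_forall_mem.1 Q.isPGroup' x hx
      have h6 : ∀ y ∈ N, y ^ q ^ k = 1 → y = 1 := fun y hy h => orderOf_eq_one_iff.1
        (Nat.eq_one_of_dvd_coprimes ((hq.coprime_iff_not_dvd.2 h5).pow_left k)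
          (orderOf_dvd_iff_pow_eq_one.2 h) (orderOf_dvd_natCard _ hy))
      have h7 : (x * n) ^ q ^ k = 1 := by
        rwa [← orderOf_dvd_iff_pow_eq_one, heq x (fun h => hx1 (h6 x h hk)) n hn.1,
          orderOf_dvd_iff_pow_eq_one]
      have h8 : Commute x n := (mem_centralizer_singleton_iff.1 hn.2).symm
      rw [h8.mul_pow, hk, one_mul] at h7
      exact h6 n hn.1 h7
    obtain ⟨K, hK, h6, h7, h8⟩ := exists_of_isNilpotent hnil h3
    exact h8 (le_of_not_dvd heq hc h2 h1 K h6 h7)

end Cfsg.Agent.S4140
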