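import Cfsg.Statements.S4159
import Cfsg.Agent.S3861
import Cfsg.Agent.S0205
import Cfsg.Agent.FGS.HHScal
import Cfsg.Agent.TECH.Conj

set_option autoImplicit false
open Cfsg

namespace Cfsg.Agent.S4159

open Subgroup CL CL.MSS

theorem odd_inv {G : Type*} [Group G] {g x : G} (h : g * x * g⁻¹ = x⁻¹) (n : ℕ) :
    g ^ (2 * n + 1) * x * (g ^ (2 * n + 1))⁻¹ = x⁻¹ := by
  induction n with
  | zero => simpa using h
  | succ n ih =>
    have h' : g * x⁻¹ * g⁻¹ = x := by
      rw [show g * x⁻¹ * g⁻¹ = (g * x * g⁻¹)⁻¹ by group, h, inv_inv]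
    calc _ = g * (g * (g ^ (2 * n + 1) * x * (g ^ (2 * n + 1))⁻¹) * g⁻¹) * g⁻¹ := by
          rw [show 2 * (n + 1) + 1 = 1 + 1 + (2 * n + 1) by ring, pow_add, pow_add]; group
      _ = _ := by rw [ih, h', h]

theorem index_dvd {G : Type*} [Group G] {H : Subgroup G} (x : H) :
    (centralizer ({x} : Set H)).index ∣ (zpowers (x : G)).relIndex H :=
  index_dvd_of_le fun y hy => mem_centralizer_singleton_iff.2 (Subtype.ext (by
    obtain ⟨k, hk⟩ := hy
    change (y : G) * x = x * y
    rw [← show (x : G) ^ k = y from hk]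
    exact (Commute.zpow_self _ _)))

theorem one_lt_index {G : Type*} [Group G] [Finite G] {x y : G} (h : y * x ≠ x * y) :
    1 < (centralizer ({x} : Set G)).index := by
  refine Nat.one_lt_iff_ne_zero_and_ne_one.2 ⟨index_ne_zero_of_finite, fun e => h ?_⟩
  exact mem_centralizer_singleton_iff.1 (index_eq_one.1 e ▸ mem_top y)


/-- Let G be a finite group such that in every subgroup H of G, any two conjugacy classes of H of size greater than 1 have non-coprime sizes. Then G is solvable. -/
theorem result {G : Type*} [Group G] [Finite G]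
    (h : ∀ (H : Subgroup G) (x y : H), 1 < (Subgroup.centralizer ({x} : Set H)).index → 1 < (Subgroup.centralizer ({y} : Set H)).index →
      ¬ ((Subgroup.centralizer ({x} : Set H)).index).Coprime (Subgroup.centralizer ({y} : Set H)).index) : Group.IsSolvable G := by
  obtain ⟨P⟩ : Nonempty (Sylow 2 G) := inferInstance
  have hP : (P : Subgroup G).Normal := by
    refine (Cfsg.Agent.S3861.result P).1 fun x hx1 hx hc => ?_
    obtain ⟨g, hg⟩ := isConj_iff.1 hc
    obtain ⟨k, m, ⟨n, rfl⟩, hk⟩ := Nat.exists_eq_two_pow_mul_odd (orderOf_pos g).ne'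
    have ht := odd_inv hg n
    set t := g ^ (2 * n + 1) with ht'
    have h1 : orderOf t ∣ 2 ^ k := orderOf_dvd_of_pow_eq_one (by
      rw [ht', ← pow_mul, mul_comm, ← hk, pow_orderOf_eq_one])
    have hne : t * x ≠ x * t := fun e => hx1 (by
      rw [e, mul_inv_cancel_right, eq_inv_iff_mul_eq_one, ← sq] at ht
      exact orderOf_eq_one_iff.1 (Nat.eq_one_of_dvd_coprimes (Nat.coprime_two_right.2 hx) dvd_rfl
        (orderOf_dvd_of_pow_eq_one ht)))
    have hn : zpowers t ≤ normalizer (zpowers x : Set G) := by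
      rw [zpowers_le, mem_normalizer_iff_cj, cj_zpowers, ht, zpowers_inv]
    have h2 : (zpowers x).relIndex (zpowers t ⊔ zpowers x) ∣ orderOf t := by
      rw [HH.relIndex_sup_of_le_normalizer hn, ← Nat.card_zpowers]
      exact relIndex_dvd_card _ _
    have h3 : (zpowers t).relIndex (zpowers t ⊔ zpowers x) ∣ orderOf x := by
      have e1 := card_mul_relIndex_of_le (H := zpowers x) (K := zpowers t ⊔ zpowers x) le_sup_right
      have e2 := card_mul_relIndex_of_le (H := zpowers t) (K := zpowers t ⊔ zpowers x) le_sup_left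
      rw [Nat.card_zpowers] at e1 e2
      refine Nat.dvd_of_mul_dvd_mul_left (orderOf_pos t) ?_
      rw [e2, ← e1, mul_comm]
      exact Nat.mul_dvd_mul_right h2 _
    refine h (zpowers t ⊔ zpowers x) ⟨x, mem_sup_right (mem_zpowers x)⟩
      ⟨t, mem_sup_left (mem_zpowers t)⟩
      (one_lt_index (y := ⟨t, mem_sup_left (mem_zpowers t)⟩) fun e => hne (congrArg Subtype.val e))
      (one_lt_index (y := ⟨x, mem_sup_right (mem_zpowers x)⟩) fun e =>
        hne (congrArg Subtype.val e).symm) ?_
    have h4 := index_dvd (H := zpowers t ⊔ zpowers x) ⟨x, mem_sup_right (mem_zpowers x)⟩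
    have h5 := index_dvd (H := zpowers t ⊔ zpowers x) ⟨t, mem_sup_left (mem_zpowers t)⟩
    have h6 : (2 ^ k).Coprime (orderOf x) := (Nat.coprime_two_left.2 hx).pow_left k
    exact (h6.coprime_dvd_right (h5.trans h3)).coprime_dvd_left ((h4.trans h2).trans h1)
  have h1 := isSolvable_of_isPGroup P.isPGroup'
  have h2 : Group.IsSolvable (G ⧸ (P : Subgroup G)) := Cfsg.Agent.S0205.result
    (Nat.not_even_iff_odd.1 fun e => P.not_dvd_index e.two_dvd)
  exact Group.isSolvable_of_ker_le_range (P : Subgroup G).subtype (QuotientGroup.mk' P) (by simp)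

end Cfsg.Agent.S4159
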