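import Mathlib
import Cfsg.Statements.S4321
import Cfsg.Agent.INV.BaerSuzuki
import Cfsg.Agent.FGS.ClassSizeReg
import Cfsg.Agent.FGS.BWCrit
import Cfsg.Agent.FGS.QBaer
import Cfsg.Agent.FGS.CoprimeCS

set_option autoImplicit false
open Cfsg

namespace Cfsg.Agent.S4321

set_option linter.style.haveILetI false

open Subgroup CL CL.CS in
theorem dvd_orderOf {G : Type*} [Group G] {p i : ℕ} (hp : p.Prime) {x : G} (hx : x ^ p ^ i = 1)
    (h1 : x ≠ 1) : p ∣ orderOf x := by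
  obtain ⟨j, -, hj⟩ := (Nat.dvd_prime_pow hp).1 (orderOf_dvd_of_pow_eq_one hx)
  rw [hj]
  refine dvd_pow_self p fun e => h1 ?_
  rw [e, pow_zero] at hj
  exact orderOf_eq_one_iff.1 hj

open Subgroup CL CL.CS in
theorem comm_of_cop {G : Type*} [Group G] [Finite G] {p i : ℕ} [Fact p.Prime] {u v : G}
    (hu : u ^ p ^ i = 1) (hco : (𝐂[u]).index.Coprime (𝐂[v]).index) (hv : ¬ p ∣ (𝐂[v]).index) :
    Commute u v := by
  obtain ⟨P, hP⟩ := exists_sylow_le_of_not_dvd_index hv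
  obtain ⟨g, hg⟩ := exists_conj_mem_sylow P hu
  obtain ⟨d, hd, c, hc, rfl⟩ := exists_mul_eq_of_coprime_index _ _ hco.symm g
  have h1 : d * c * u * (d * c)⁻¹ = d * u * d⁻¹ := by
    rw [mul_assoc d c u, (mem_cen.1 hc).eq]; group
  rw [h1] at hg
  have h2 := mul_mem (mul_mem (inv_mem hd) (hP hg)) hd
  exact mem_cen.1 (by simpa [mul_assoc] using h2)

open Subgroup CL CL.CS in
theorem conj_mul {G : Type*} [Group G] [Finite G] {a b : G}
    (hco : (𝐂[a]).index.Coprime (𝐂[b]).index) (he : (𝐂[a * b]).index = (𝐂[b]).index) (g : G) :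
    IsConj b (b * (g * a * g⁻¹ * a⁻¹)) := by
  have h1 : (fun k => k * a) '' {k | IsConj b k} ⊆ {k | IsConj (b * a) k} := by
    rintro _ ⟨k, hk, rfl⟩
    obtain ⟨c, rfl⟩ := isConj_iff.1 hk
    simpa using isConj_mul_of_coprime_index hco.symm c 1
  have h2 := Set.eq_of_subset_of_ncard_le h1 (by
    rw [Set.ncard_image_of_injective _ (mul_left_injective _), ncard_isConj_eq_index,
      ncard_isConj_eq_index, ← he]
    have : b * a = b * (a * b) * b⁻¹ := by group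
    rw [this, index_cen_conj]) (Set.toFinite _)
  obtain ⟨k, hk, e⟩ := h2.ge (show b * (g * a * g⁻¹) ∈ {k | IsConj (b * a) k} by
    simpa using isConj_mul_of_coprime_index hco.symm 1 g)
  have : k = b * (g * a * g⁻¹ * a⁻¹) := by
    rw [← mul_assoc, ← e]; group
  exact this ▸ hk

open Subgroup CL CL.CS in
/-- `p'`-elements act trivially on `Q / Z(Q)` when the classes of the noncentral elements of `Q` are
classes under a `p`-subgroup. -/
theorem act_triv {G : Type*} [Group G] [Finite G] {p : ℕ} [Fact p.Prime] {P Q : Subgroup G} [Q.Normal]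
    (hP : IsPGroup p P) (hQP : Q ≤ P)
    (h : ∀ k ∈ Q, k ∉ centralizer (Q : Set G) → ∀ g : G, ∃ y ∈ P, g * k * g⁻¹ = y * k * y⁻¹)
    {g : G} (hg : (orderOf g).Coprime p) {k : G} (hk : k ∈ Q) :
    g * k * g⁻¹ * k⁻¹ ∈ centralizer (Q : Set G) := by
  have hn : g ∈ normalizer (Q : Set G) := by rw [normalizer_eq_top]; trivial
  have h1 : ∀ n, BW.it k g n ∈ centralizer (Q : Set G) ∨ BW.it k g n ∈ P.lowerCentralSeries n := by
    intro n
    induction n with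
    | zero => exact Or.inr (hQP hk)
    | succ n ih =>
      by_cases hz : BW.it k g n ∈ centralizer (Q : Set G)
      · left
        have := mul_mem hz ((inferInstance : (centralizer (Q : Set G)).Normal).conj_mem _ (inv_mem hz) g)
        simpa [BW.it, mul_assoc] using this
      · right
        obtain ⟨y, hy, e⟩ := h _ (BW.it_mem hk hn n) hz g
        have e2 : BW.it k g (n + 1) = BW.it k g n * y * (BW.it k g n)⁻¹ * y⁻¹ := by
          calc BW.it k g (n + 1) = BW.it k g n * (g * BW.it k g n * g⁻¹)⁻¹ := by rw [BW.it]; group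
            _ = _ := by rw [e]; group
        rw [e2]
        exact commutator_mem_commutator (ih.resolve_left hz) hy
  haveI := hP.isNilpotent
  obtain ⟨n, hn'⟩ := (isNilpotent_iff_lowerCentralSeries P).1 inferInstance
  have h2 : BW.it k g n ∈ centralizer (Q : Set G) := by
    rcases h1 n with h | h
    · exact h
    · rw [hn', mem_bot] at h
      rw [h]; exact one_mem _
  let f := QuotientGroup.mk' (centralizer (Q : Set G))
  haveI : (Q.map f).Normal := Normal.map inferInstance _ (QuotientGroup.mk'_surjective _)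
  obtain ⟨j, hj⟩ := IsPGroup.iff_card.1 ((hP.to_le hQP).map f)
  have h3 : f g * f k = f k * f g := by
    by_contra hne
    refine BW.it_not_comm (V := Q.map f) (mem_map_of_mem f hk) (by rw [normalizer_eq_top]; trivial)
      (hj ▸ (hg.symm.coprime_dvd_right (orderOf_map_dvd f g)).pow_left j) hne n ?_
    rw [← BW.map_it, show f (BW.it k g n) = 1 from (QuotientGroup.eq_one_iff _).2 h2, mul_one, one_mul]
  rw [← QuotientGroup.eq_one_iff]
  show f _ = 1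
  rw [map_mul, map_mul, map_mul, h3, map_inv, map_inv]
  group

open Subgroup CL CL.CS in
theorem core {G : Type*} [Group G] [Finite G] {p : ℕ} [hp : Fact p.Prime] {u v : G} {i j : ℕ}
    (hu : u ^ p ^ i = 1) (hv : v ^ p ^ j = 1) (hv1 : v ∉ center G)
    (hlt : (𝐂[v]).index < (𝐂[u]).index)
    (H : ∀ z : G, p ∣ orderOf z → ∀ q r : ℕ, q.Prime → r.Prime → q ∣ (𝐂[u]).index →
      r ∣ (𝐂[v]).index → q ∣ (𝐂[z]).index → r ∣ (𝐂[z]).index → False) : False := by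
  have hv0 : v ≠ 1 := fun e => hv1 (e ▸ one_mem _)
  have hu0 : u ≠ 1 := by
    rintro rfl
    rw [index_cen_one] at hlt
    have := index_cen_pos v
    omega
  have hpu := dvd_orderOf hp.out hu hu0
  have hpv := dvd_orderOf hp.out hv hv0
  have hco : (𝐂[u]).index.Coprime (𝐂[v]).index :=
    Nat.coprime_of_dvd fun q hq h1 h2 => H u hpu q q hq hq h1 h2 h1 h1
  have huv : Commute u v := by
    by_cases h : p ∣ (𝐂[v]).index
    · exact (comm_of_cop hv hco.symm fun h' => H u hpu p p hp.out hp.out h' h h' h').symm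
    · exact comm_of_cop hu hco h
  have he : (𝐂[v * u]).index = (𝐂[u]).index := by
    have h0 : v * u ≠ 1 := fun e => by
      rw [eq_inv_of_mul_eq_one_left e, cen_inv] at hlt
      exact lt_irrefl _ hlt
    have h1 : (v * u) ^ p ^ (i + j) = 1 := by
      rw [huv.symm.mul_pow, pow_add, mul_comm (p ^ i), pow_mul, hv, one_pow, mul_comm (p ^ j),
        pow_mul, hu, one_pow, one_mul]
    have h2 := dvd_orderOf hp.out h1 h0
    have h3 := index_cen_mul_dvd_of_coprime_index hco.symm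
    have h4 := index_cen_le_mul_of_coprime_index' hco.symm
    have h5 : (𝐂[v * u]).index.Coprime (𝐂[v]).index := Nat.coprime_of_dvd fun r hr a1 a2 => by
      have h6 : (𝐂[v * u]).index.Coprime (𝐂[u]).index :=
        Nat.coprime_of_dvd fun q hq b1 b2 => H _ h2 q r hq hr b2 a2 b1 a1
      have := Nat.le_of_dvd (index_cen_pos v) (h6.dvd_of_dvd_mul_right h3)
      omega
    exact le_antisymm (Nat.le_of_dvd (index_cen_pos u) (h5.dvd_of_dvd_mul_left h3)) h4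
  have hcc := commute_conj_of_index_mul_eq hco.symm he
  have hpa : p ∣ (𝐂[u]).index := by
    by_contra h
    refine hv1 (mem_center_of_index_mul_eq hco.symm he ?_)
    exact (((Nat.Prime.coprime_iff_not_dvd hp.out).2 h).pow_left j).coprime_dvd_left
      (orderOf_dvd_of_pow_eq_one hv)
  have hpb : ¬ p ∣ (𝐂[v]).index := fun h => H u hpu p p hp.out hp.out hpa h hpa hpa
  have HP : ∀ z : G, p ∣ orderOf z → p ∣ (𝐂[z]).index → (𝐂[z]).index.Coprime (𝐂[v]).index :=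
    fun z h1 h2 => Nat.coprime_of_dvd fun r hr a1 a2 => H z h1 p r hp.out hr hpa a2 h2 a1
  obtain ⟨t, ht, htb⟩ := Nat.exists_prime_and_dvd (one_lt_index_cen_iff.2 hv1).ne'
  have htp : t ≠ p := fun e => hpb (e ▸ htb)
  -- the structure of `B = C(v)`
  have hreg : ∀ c : 𝐂[v], (orderOf c).Coprime p → ¬ p ∣ (𝐂[c]).index := by
    intro c hc hd
    rw [← Subgroup.orderOf_coe] at hc
    have h1 : Commute v c := mem_cen'.1 c.2
    have h2 : (orderOf v).Coprime (orderOf (c : G)) :=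
      (hc.symm.pow_left j).coprime_dvd_left (orderOf_dvd_of_pow_eq_one hv)
    have h3 := index_cen_mul_of_coprime h1 h2
    rw [index_cen_subgroup] at hd
    have h4 := HP (v * c) (by rw [h1.orderOf_mul_eq_mul_orderOf_of_coprime h2]; exact hpv.mul_right _)
      (h3 ▸ hd.mul_right _)
    exact ht.one_lt.ne' (Nat.eq_one_of_dvd_coprimes h4 (h3 ▸ htb.mul_left _) htb)
  obtain ⟨P'⟩ : Nonempty (Sylow p 𝐂[v]) := inferInstance
  haveI hP'n := sylow_normal_of_regular hreg P'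
  have hP's := centralizer_sup_sylow_eq_top_of_regular hreg P'
  obtain ⟨P, hPd⟩ : ∃ P : Subgroup G, P = (P' : Subgroup 𝐂[v]).map (𝐂[v]).subtype := ⟨_, rfl⟩
  have hPp : IsPGroup p P := hPd ▸ P'.isPGroup'.map _
  have hPB : P ≤ 𝐂[v] := hPd ▸ map_subtype_le _
  have hP1 : ∀ x ∈ 𝐂[v], ∀ n : ℕ, x ^ p ^ n = 1 → x ∈ P := by
    intro x hx n hn
    obtain ⟨g, hg⟩ := exists_conj_mem_sylow P' (y := ⟨x, hx⟩) (k := n) (Subtype.ext hn)
    have := hP'n.conj_mem _ hg g⁻¹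
    rw [hPd]
    refine ⟨⟨x, hx⟩, ?_, rfl⟩
    rwa [show g⁻¹ * (g * ⟨x, hx⟩ * g⁻¹) * g⁻¹⁻¹ = ⟨x, hx⟩ by group] at this
  have hP2 : ∀ b ∈ 𝐂[v], ∃ y ∈ P, ∃ c ∈ centralizer (P : Set G), b = y * c := by
    intro b hb
    have : (⟨b, hb⟩ : 𝐂[v]) ∈ (P' : Subgroup 𝐂[v]) ⊔ centralizer ((P' : Subgroup 𝐂[v]) : Set 𝐂[v]) := by
      rw [sup_comm, hP's]; trivial
    obtain ⟨y, hy, c, hc, e⟩ := mem_sup_of_normal_left.1 this
    refine ⟨y, hPd ▸ ⟨y, hy, rfl⟩, c, ?_, (congrArg Subtype.val e).symm⟩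
    rw [hPd]
    rintro _ ⟨x, hx, rfl⟩
    exact congrArg Subtype.val (hc x hx)
  obtain ⟨C, hCd⟩ : ∃ C : Subgroup G, C = (𝐂[v]).normalCore := ⟨_, rfl⟩
  haveI hCn : C.Normal := hCd ▸ normalCore_normal _
  have hC : ∀ {x : G}, x ∈ C ↔ ∀ g : G, g * x * g⁻¹ ∈ 𝐂[v] := fun {x} => by rw [hCd]; rfl
  have hCB : C ≤ 𝐂[v] := hCd ▸ normalCore_le _
  have hPpow : ∀ x ∈ P, ∃ n : ℕ, x ^ p ^ n = 1 := fun x hx => by
    obtain ⟨n, hn⟩ := hPp ⟨x, hx⟩
    exact ⟨n, congrArg Subtype.val hn⟩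
  haveI hQn : (P ⊓ C).Normal := ⟨fun k hk g => by
    obtain ⟨n, hn⟩ := hPpow k hk.1
    exact ⟨hP1 _ (hC.1 hk.2 g) n (by rw [conj_pow, hn]; group), hCn.conj_mem k hk.2 g⟩⟩
  have hvQ : v ∈ P ⊓ C := ⟨hP1 v (self_mem_cen v) j hv, hC.2 fun g => mem_cen.2 (hcc g)⟩
  have huQ : u ∈ P ⊓ C := ⟨hP1 u (mem_cen.2 huv) i hu, hC.2 fun g => by
    obtain ⟨d, hd, c, hc, rfl⟩ := exists_mul_eq_of_coprime_index _ _ hco.symm g
    have h1 : d * c * u * (d * c)⁻¹ = d * u * d⁻¹ := by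
      rw [mul_assoc d c u, (mem_cen.1 hc).eq]; group
    rw [h1]
    exact mul_mem (mul_mem hd (mem_cen.2 huv)) (inv_mem hd)⟩
  have hPC : centralizer (P : Set G) ≤ C := fun c hc => hC.2 fun g => by
    have h1 := hc _ (hQn.conj_mem v hvQ g⁻¹).1
    rw [mem_cen]
    calc g * c * g⁻¹ * v = g * (c * (g⁻¹ * v * g⁻¹⁻¹)) * g⁻¹ := by group
      _ = v * (g * c * g⁻¹) := by rw [← h1]; group
  have hCP : ∀ k ∈ P, (𝐂[k]).index.Coprime (𝐂[v]).index → ∀ g : G, ∃ y ∈ P,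
      g * k * g⁻¹ = y * k * y⁻¹ := by
    intro k hk h g
    obtain ⟨b, hb, d, hd, rfl⟩ := exists_mul_eq_of_coprime_index _ _ h.symm g
    obtain ⟨y, hy, c, hc, rfl⟩ := hP2 b hb
    refine ⟨y, hy, ?_⟩
    calc y * c * d * k * (y * c * d)⁻¹ = y * c * (d * k) * (y * c * d)⁻¹ := by group
      _ = y * (c * k) * c⁻¹ * y⁻¹ := by rw [(mem_cen.1 hd).eq]; group
      _ = y * k * y⁻¹ := by rw [← hc k hk]; group
  have hT1 := fun {g : G} (hg : (orderOf g).Coprime p) {k : G} (hk : k ∈ P ⊓ C) =>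
    act_triv hPp inf_le_left (fun k hk hz => by
      obtain ⟨n, hn⟩ := hPpow k hk.1
      refine hCP k hk.1 (HP k (dvd_orderOf hp.out hn fun e => hz (e ▸ one_mem _)) ?_)
      by_contra h
      exact hz (le_cen_iff.1 (le_cen_of_normal_isPGroup h (hPp.to_le inf_le_left)))) hg hk
  have hT2 : ∀ {g : G}, (orderOf g).Coprime p → ∀ a ∈ P ⊓ C, ∀ b ∈ P ⊓ C,
      g * (a * b * a⁻¹ * b⁻¹) * g⁻¹ = a * b * a⁻¹ * b⁻¹ := by
    intro g hg a ha b hb
    obtain ⟨x, hx⟩ : ∃ x, x = g * a * g⁻¹ * a⁻¹ := ⟨_, rfl⟩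
    obtain ⟨y, hy⟩ : ∃ y, y = g * b * g⁻¹ * b⁻¹ := ⟨_, rfl⟩
    have hx1 : x ∈ centralizer ((P ⊓ C : Subgroup G) : Set G) := hx ▸ hT1 hg ha
    have hy1 : y ∈ centralizer ((P ⊓ C : Subgroup G) : Set G) := hy ▸ hT1 hg hb
    have hy2 : y ∈ P ⊓ C := hy ▸ mul_mem (hQn.conj_mem b hb g) (inv_mem hb)
    have c1 : Commute a y := hy1 a ha
    have c2 : Commute b y := hy1 b hb
    have c3 : Commute (a * b * a⁻¹) x := hx1 _ (mul_mem (mul_mem ha hb) (inv_mem ha))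
    have c4 : Commute y x := hx1 _ hy2
    have hx2 : x ∈ P ⊓ C := hx ▸ mul_mem (hQn.conj_mem a ha g) (inv_mem ha)
    calc g * (a * b * a⁻¹ * b⁻¹) * g⁻¹ = (x * a) * (y * b) * (x * a)⁻¹ * (y * b)⁻¹ := by
          rw [hx, hy]; group
      _ = x * (a * y) * b * a⁻¹ * x⁻¹ * b⁻¹ * y⁻¹ := by group
      _ = (x * y) * (a * b * a⁻¹) * x⁻¹ * b⁻¹ * y⁻¹ := by rw [c1.eq]; group
      _ = y * (x * (a * b * a⁻¹)) * x⁻¹ * b⁻¹ * y⁻¹ := by rw [← c4.eq]; group
      _ = y * (a * b * a⁻¹ * b⁻¹) * y⁻¹ := by rw [← c3.eq]; group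
      _ = a * b * a⁻¹ * b⁻¹ := by
          rw [← (((c1.mul_left c2).mul_left c1.inv_left).mul_left c2.inv_left).eq]; group
  -- a `t`-element centralising `u` but not `v`
  haveI := Fact.mk ht
  obtain ⟨T, hT⟩ := exists_sylow_le_of_not_dvd_index (p := t) (H := 𝐂[u]) fun h =>
    ht.one_lt.ne' (Nat.eq_one_of_dvd_coprimes hco h htb)
  obtain ⟨g, hgT, hgB⟩ : ∃ g ∈ (T : Subgroup G), g ∉ 𝐂[v] := by
    by_contra h
    push Not at h
    exact not_dvd_index_of_sylow_le h htb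
  obtain ⟨m, hm⟩ : ∃ m : ℕ, g ^ t ^ m = 1 := by
    obtain ⟨n, hn⟩ := T.isPGroup' ⟨g, hgT⟩
    exact ⟨n, congrArg Subtype.val hn⟩
  have hgu : Commute u g := mem_cen'.1 (hT hgT)
  have hgp : (orderOf g).Coprime p :=
    (((Nat.coprime_primes ht hp.out).2 htp).pow_left m).coprime_dvd_left (orderOf_dvd_of_pow_eq_one hm)
  obtain ⟨np, hnp⟩ := IsPGroup.iff_card.1 hPp
  let f := QuotientGroup.mk' C
  have hf : Function.Surjective f := QuotientGroup.mk'_surjective C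
  have hidx : ∃ k, (𝐂[f g]).index = p ^ k := by
    have h2 : (orderOf u).Coprime (orderOf g) :=
      (hgp.symm.pow_left i).coprime_dvd_left (orderOf_dvd_of_pow_eq_one hu)
    have h3 := HP (u * g) (by rw [hgu.orderOf_mul_eq_mul_orderOf_of_coprime h2]; exact hpu.mul_right _)
      (hpa.trans (index_cen_dvd_mul_left hgu h2))
    have h4 := (index_cen_map_dvd hf g).trans (index_cen_dvd_mul_right hgu h2)
    have h5 : 𝐂[v] = P ⊔ C := le_antisymm (fun b hb => by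
      obtain ⟨y, hy, c, hc, rfl⟩ := hP2 b hb
      exact mul_mem (mem_sup_left hy) (mem_sup_right (hPC hc))) (sup_le hPB hCB)
    have h6 : (𝐂[f g]).index ∣ C.relIndex 𝐂[v] * (𝐂[v]).index := by
      rw [relIndex_mul_index hCB]; exact index_dvd_card _
    have h7 := (h3.coprime_dvd_left h4).dvd_of_dvd_mul_right h6
    rw [h5, relIndex_sup_right] at h7
    obtain ⟨k, -, hk⟩ := (Nat.dvd_prime_pow hp.out).1 (hnp ▸ h7.trans (relIndex_dvd_card C P))
    exact ⟨k, hk⟩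
  obtain ⟨kk, hkk⟩ := hidx
  have hO : pCore p (G ⧸ C) = ⊥ := by
    rw [eq_bot_iff]
    intro x hx
    obtain ⟨x, rfl⟩ := hf x
    have h1 : (pCore p (G ⧸ C)).comap f ≤ 𝐂[v] := by
      rw [← subgroupOf_eq_top, ← index_eq_one]
      have h2 := relIndex_dvd_index_of_normal_right 𝐂[v] ((pCore p (G ⧸ C)).comap f)
      have h3 := relIndex_dvd_of_le_left ((pCore p (G ⧸ C)).comap f) hCB
      obtain ⟨n, hn⟩ := IsPGroup.iff_card.1 (isPGroup_pCore p (G ⧸ C))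
      rw [← card_map_mk'_eq_relIndex _ C, map_comap_mk', hn] at h3
      exact Nat.eq_one_of_dvd_coprimes
        (((Nat.Prime.coprime_iff_not_dvd hp.out).2 hpb).pow_left n) h3 h2
    exact (QuotientGroup.eq_one_iff x).2 (hCd ▸ normal_le_normalCore.2 h1 hx)
  obtain ⟨N, hN, hNt, hgN⟩ := Inv.baer_suzuki_exists_normal (p := t) (x := f g) fun h => by
    have h1 := commutator_mem_pCore_of_index_eq_pow hkk ((index_cen_conj h (f g)).trans hkk)
    rw [hO, mem_bot, mul_inv_eq_one, mul_inv_eq_iff_eq_mul] at h1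
    have h2 : IsPGroup t (zpowers (f g)) := by
      obtain ⟨n, -, hn⟩ := (Nat.dvd_prime_pow ht).1 (orderOf_dvd_of_pow_eq_one
        (show f g ^ t ^ m = 1 by rw [← map_pow, hm, map_one]))
      exact IsPGroup.of_card (by rw [Nat.card_zpowers, hn])
    have h3 : IsPGroup t (zpowers (h * f g * h⁻¹)) := by
      obtain ⟨n, -, hn⟩ := (Nat.dvd_prime_pow ht).1 (orderOf_dvd_of_pow_eq_one
        (show (h * f g * h⁻¹) ^ t ^ m = 1 by rw [conj_pow, ← map_pow, hm, map_one]; group))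
      exact IsPGroup.of_card (by rw [Nat.card_zpowers, hn])
    refine (h2.to_sup_of_normal_right' h3 (zpowers_le.2 (MaxN.mem_norm_zpowers ?_))).to_le ?_
    · rw [h1, mul_inv_cancel_right]; exact mem_zpowers _
    · rw [closure_le]
      rintro _ (rfl | rfl)
      · exact mem_sup_left (mem_zpowers _)
      · exact mem_sup_right (mem_zpowers _)
  obtain ⟨n, hn⟩ : ∃ n, n = g * v * g⁻¹ * v⁻¹ := ⟨_, rfl⟩
  have hnQ : n ∈ P ⊓ C := hn ▸ mul_mem (hQn.conj_mem v hvQ g) (inv_mem hvQ)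
  obtain ⟨y, hy, ey⟩ : ∃ y ∈ P, y * u * y⁻¹ = u * n := by
    obtain ⟨h, hh⟩ := isConj_iff.1 (conj_mul hco.symm he g)
    obtain ⟨y, hy, e⟩ := hCP u huQ.1 hco h
    exact ⟨y, hy, by rw [← e, hh, hn]⟩
  have heS : y⁻¹ * g * y * g⁻¹ ∈ N.comap f := by
    have := mul_mem (hN.conj_mem _ hgN (f y)⁻¹) (inv_mem hgN)
    simpa [mem_comap] using this
  obtain ⟨q, hq, c, hc, eqc⟩ := exists_mul_eq_of_coprime_index (C.subgroupOf (N.comap f))
    ((𝐂[u]).subgroupOf (N.comap f)) (by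
      obtain ⟨n1, hn1⟩ := IsPGroup.iff_card.1 hNt
      have h1 : C.relIndex (N.comap f) = t ^ n1 := by
        rw [← card_map_mk'_eq_relIndex, map_comap_mk', hn1]
      have h2 := relIndex_dvd_index_of_normal_right 𝐂[u] (N.comap f)
      show (C.relIndex (N.comap f)).Coprime ((𝐂[u]).relIndex (N.comap f))
      rw [h1]
      exact (((Nat.Prime.coprime_iff_not_dvd ht).2 fun h =>
        ht.one_lt.ne' (Nat.eq_one_of_dvd_coprimes hco h htb)).coprime_dvd_right h2).pow_left _)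
    ⟨_, heS⟩
  have eqc' : y⁻¹ * g * y * g⁻¹ = q * c := congrArg Subtype.val eqc
  have hq' : (q : G) ∈ C := hq
  have hc' : Commute (c : G) u := mem_cen.1 hc
  obtain ⟨y', hy', c', hc'', eq'⟩ := hP2 q (hCB hq')
  have hy'Q : y' ∈ P ⊓ C := ⟨hy', by
    have := mul_mem hq' (inv_mem (hPC hc''))
    rwa [eq', mul_inv_cancel_right] at this⟩
  have e1 : (y⁻¹ * g * y * g⁻¹) * u * (y⁻¹ * g * y * g⁻¹)⁻¹ = y' * u * y'⁻¹ := by
    rw [eqc', eq']
    calc y' * c' * c * u * (y' * c' * c)⁻¹ = y' * c' * (c * u) * (y' * c' * c)⁻¹ := by group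
      _ = y' * (c' * u) * c'⁻¹ * y'⁻¹ := by rw [hc'.eq]; group
      _ = y' * u * y'⁻¹ := by rw [← hc'' u huQ.1]; group
  have e2 : u⁻¹ * y' * u⁻¹⁻¹ * y'⁻¹ = y⁻¹ * (n⁻¹ * g * n * g⁻¹) * y := by
    have e3 : g⁻¹ * u * g = u := by rw [mul_assoc, hgu.eq]; group
    have e4 : g * u * g⁻¹ = u := by rw [← hgu.eq]; group
    have e5 : u⁻¹ = y⁻¹ * (n⁻¹ * u⁻¹) * y := by rw [← mul_inv_rev, ← ey]; group
    calc u⁻¹ * y' * u⁻¹⁻¹ * y'⁻¹ = u⁻¹ * (y' * u * y'⁻¹) := by group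
      _ = u⁻¹ * (y⁻¹ * g * (y * (g⁻¹ * u * g) * y⁻¹) * g⁻¹ * y) := by rw [← e1]; group
      _ = u⁻¹ * (y⁻¹ * (g * u * g⁻¹) * (g * n * g⁻¹) * y) := by rw [e3, ey]; group
      _ = (y⁻¹ * (n⁻¹ * u⁻¹) * y) * (y⁻¹ * u * (g * n * g⁻¹) * y) := by rw [e4, ← e5]
      _ = _ := by group
  have e6 := hT2 (g := y⁻¹ * g * y⁻¹⁻¹) (by
    rwa [show orderOf (y⁻¹ * g * y⁻¹⁻¹) = orderOf g from (MulAut.conj y⁻¹).orderOf_eq g]) _
    (inv_mem huQ) _ hy'Q
  rw [e2] at e6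
  obtain ⟨nq, hnq⟩ := IsPGroup.iff_card.1 (hPp.to_le (inf_le_left : P ⊓ C ≤ P))
  refine BW.it_not_comm hvQ (by rw [normalizer_eq_top]; trivial) (hnq ▸ hgp.symm.pow_left nq)
    (fun e => hgB (mem_cen.2 e)) 2 ?_
  have e7 : BW.it v g 2 = n⁻¹ * g * n * g⁻¹ := by simp only [BW.it, hn]; group
  rw [e7]
  calc g * (n⁻¹ * g * n * g⁻¹) = y * (y⁻¹ * g * y⁻¹⁻¹ * (y⁻¹ * (n⁻¹ * g * n * g⁻¹) * y) *
        (y⁻¹ * g * y⁻¹⁻¹)⁻¹) * y⁻¹ * g := by group
    _ = _ := by rw [e6]; group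

open Subgroup CL CL.CS in
theorem exists_edge {G : Type*} [Group G] [Finite G] {p : ℕ} [hp : Fact p.Prime]
    (hZ : ¬ p ∣ Nat.card (center G)) {x y : G} (hx : p ∣ orderOf x) (hy : p ∣ orderOf y) :
    ∃ z : G, p ∣ orderOf z ∧ ∃ q r : ℕ, q.Prime ∧ r.Prime ∧ q ∣ (𝐂[x]).index ∧
      r ∣ (𝐂[y]).index ∧ q ∣ (𝐂[z]).index ∧ r ∣ (𝐂[z]).index := by
  have part : ∀ {x : G}, p ∣ orderOf x → ∃ u : G, u ^ p ^ 1 = 1 ∧ u ∉ center G ∧ p ∣ orderOf u ∧
      (𝐂[u]).index ∣ (𝐂[x]).index := fun {x} hx => by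
    have h := orderOf_pow_orderOf_div (orderOf_pos x).ne' hx
    refine ⟨x ^ (orderOf x / p), by rw [pow_one]; exact orderOf_dvd_iff_pow_eq_one.1 h.dvd,
      fun hc => hZ ?_, h.symm.dvd, index_cen_pow_dvd _ _⟩
    exact h.symm.dvd.trans (Subgroup.orderOf_dvd_natCard _ hc)
  obtain ⟨u, u1, u2, u3, u4⟩ := part hx
  obtain ⟨v, v1, v2, v3, v4⟩ := part hy
  by_contra hne
  have H : ∀ z : G, p ∣ orderOf z → ∀ q r : ℕ, q.Prime → r.Prime → q ∣ (𝐂[u]).index →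
      r ∣ (𝐂[v]).index → q ∣ (𝐂[z]).index → r ∣ (𝐂[z]).index → False :=
    fun z hz q r hq hr a b c d => hne ⟨z, hz, q, r, hq, hr, a.trans u4, b.trans v4, c, d⟩
  rcases lt_trichotomy (𝐂[v]).index (𝐂[u]).index with h | h | h
  · exact core u1 v1 v2 h H
  · obtain ⟨q, hq, hd⟩ := Nat.exists_prime_and_dvd (one_lt_index_cen_iff.2 v2).ne'
    exact H u u3 q q hq hq (h ▸ hd) hd (h ▸ hd) (h ▸ hd)
  · exact core v1 u1 u2 h fun z hz q r hq hr a b c d => H z hz r q hr hq b a d c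


/-- Let `G` be a finite group and `p` a prime not dividing the order of the centre of `G`. Consider the primes dividing the size of some conjugacy class of a `p`-singular element (an element of order divisible by `p`), two of them adjacent when their product divides such a class size. Then any two distinct such primes are joined by a path with at most 3 edges (the graph is connected of diameter at most 3). -/
theorem result {G : Type*} [Group G] [Finite G] (p : ℕ) [Fact p.Prime]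
    (hZ : ¬ p ∣ Nat.card ↥(Subgroup.center G)) (r s : ℕ) (hr : (r.Prime ∧ ∃ x : G, p ∣ orderOf x ∧ r ∣ (Subgroup.centralizer ({x} : Set G)).index)) (hs : (s.Prime ∧ ∃ x : G, p ∣ orderOf x ∧ s ∣ (Subgroup.centralizer ({x} : Set G)).index)) (hrs : r ≠ s) :
    (∃ x : G, p ∣ orderOf x ∧ r * s ∣ (Subgroup.centralizer ({x} : Set G)).index) ∨ (∃ t : ℕ, (t.Prime ∧ ∃ x : G, p ∣ orderOf x ∧ t ∣ (Subgroup.centralizer ({x} : Set G)).index) ∧ t ≠ r ∧ t ≠ s ∧ (∃ x : G, p ∣ orderOf x ∧ r * t ∣ (Subgroup.centralizer ({x} : Set G)).index) ∧ (∃ x : G, p ∣ orderOf x ∧ t * s ∣ (Subgroup.centralizer ({x} : Set G)).index)) ∨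
      (∃ t u : ℕ, (t.Prime ∧ ∃ x : G, p ∣ orderOf x ∧ t ∣ (Subgroup.centralizer ({x} : Set G)).index) ∧ (u.Prime ∧ ∃ x : G, p ∣ orderOf x ∧ u ∣ (Subgroup.centralizer ({x} : Set G)).index) ∧ t ≠ r ∧ u ≠ s ∧ t ≠ u ∧ (∃ x : G, p ∣ orderOf x ∧ r * t ∣ (Subgroup.centralizer ({x} : Set G)).index) ∧ (∃ x : G, p ∣ orderOf x ∧ t * u ∣ (Subgroup.centralizer ({x} : Set G)).index) ∧ (∃ x : G, p ∣ orderOf x ∧ u * s ∣ (Subgroup.centralizer ({x} : Set G)).index)) := by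
  obtain ⟨hr1, x, hx, hrx⟩ := hr
  obtain ⟨hs1, y, hy, hsy⟩ := hs
  obtain ⟨z, hz, q, t, hq, ht, a, b, c, d⟩ := exists_edge hZ hx hy
  have m : ∀ {a b n : ℕ}, a.Prime → b.Prime → a ≠ b → a ∣ n → b ∣ n → a * b ∣ n :=
    fun ha hb hab h1 h2 => ((Nat.coprime_primes ha hb).2 hab).mul_dvd_of_dvd_of_dvd h1 h2
  by_cases e1 : q = r
  · subst e1
    by_cases e2 : t = s
    · subst e2
      exact Or.inl ⟨z, hz, m hq ht hrs c d⟩
    · by_cases e3 : t = q
      · subst e3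
        exact Or.inl ⟨y, hy, m hq hs1 hrs b hsy⟩
      · exact Or.inr (Or.inl ⟨t, ⟨ht, z, hz, d⟩, e3, e2, ⟨z, hz, m hq ht (Ne.symm e3) c d⟩,
          ⟨y, hy, m ht hs1 e2 b hsy⟩⟩)
  · by_cases e4 : q = s
    · subst e4
      exact Or.inl ⟨x, hx, m hr1 hq hrs hrx a⟩
    by_cases e2 : t = s
    · subst e2
      exact Or.inr (Or.inl ⟨q, ⟨hq, z, hz, c⟩, e1, e4, ⟨x, hx, m hr1 hq (Ne.symm e1) hrx a⟩,
        ⟨z, hz, m hq ht e4 c d⟩⟩)
    · by_cases e3 : q = t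
      · subst e3
        exact Or.inr (Or.inl ⟨q, ⟨hq, z, hz, c⟩, e1, e4, ⟨x, hx, m hr1 hq (Ne.symm e1) hrx a⟩,
          ⟨y, hy, m hq hs1 e4 b hsy⟩⟩)
      · exact Or.inr (Or.inr ⟨q, t, ⟨hq, z, hz, c⟩, ⟨ht, z, hz, d⟩, e1, e2, e3,
          ⟨x, hx, m hr1 hq (Ne.symm e1) hrx a⟩, ⟨z, hz, m hq ht e3 c d⟩, ⟨y, hy, m ht hs1 e2 b hsy⟩⟩)

end Cfsg.Agent.S4321
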