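import Cfsg.Statements.S4172
import Cfsg.Agent.SIG.PumpUp
import Cfsg.Agent.SIG.FStar
import Cfsg.Agent.SIG.PLocal
import Cfsg.Agent.PLOC.Tate
import Cfsg.Agent.TECH.CFSection
import Cfsg.Agent.SOLV.Frattini
import Cfsg.Agent.SOLV.Coprime

set_option autoImplicit false
open Cfsg

namespace Cfsg.Agent.S4172

open Subgroup CL CL.Comp CL.PComp CL.MSS

section
variable {G : Type*} [Group G] [Finite G] {p : ℕ} [hp : Fact p.Prime]

theorem inf_center_le {S H : Subgroup G} (hS : SylIn p S H) :
    S ⊓ ⁅H, H⁆ ⊓ centralizer (H : Set G) ≤ ⁅S, S⁆ := by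
  have h1 := hS.subgroupOf le_rfl
  rw [subgroupOf_self] at h1
  have h2 := CL.CF.inf_center_commutator_le h1
  rw [← subgroupOf_commutator' hS.le hS.le, ← subgroupOf_self, ← subgroupOf_commutator' le_rfl le_rfl]
    at h2
  intro z hz
  exact h2 (show (⟨z, hS.le hz.1.1⟩ : H) ∈ _ from
    ⟨⟨hz.1.1, hz.1.2⟩, mem_center_iff.2 fun g => Subtype.ext (hz.2 g g.2)⟩)

theorem inf_ne_bot_of_cyclic' {Q X Y : Subgroup G} (hQ : IsPGroup p Q) (hc : IsCyclic Q)
    (hX : X ≤ Q) (hY : Y ≤ Q) (hX1 : X ≠ ⊥) (hY1 : Y ≠ ⊥) : X ⊓ Y ≠ ⊥ := by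
  classical
  obtain ⟨x, hx⟩ := exists_prime_orderOf_dvd_card' (G := X) p
    (dvd_card_of_isPGroup_le (hQ.to_le hX) hX1 le_rfl)
  obtain ⟨y, hy⟩ := exists_prime_orderOf_dvd_card' (G := Y) p
    (dvd_card_of_isPGroup_le (hQ.to_le hY) hY1 le_rfl)
  let x' : Q := ⟨x, hX x.2⟩
  let y' : Q := ⟨y, hY y.2⟩
  have hx' : orderOf x' = p := by rw [← Subgroup.orderOf_coe, ← hx, ← Subgroup.orderOf_coe x]
  have hy' : orderOf y' = p := by rw [← Subgroup.orderOf_coe, ← hy, ← Subgroup.orderOf_coe y]
  have := Fintype.ofFinite Q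
  have h1 := IsCyclic.card_pow_eq_one_le (α := Q) hp.out.pos
  have h2 : y' ∈ zpowers x' := by
    have h3 : (Finset.univ.filter fun a : Q => a ∈ zpowers x') ⊆
        Finset.univ.filter fun a : Q => a ^ p = 1 := by
      intro a ha
      simp only [Finset.mem_filter, Finset.mem_univ, true_and] at ha ⊢
      rw [← orderOf_dvd_iff_pow_eq_one, ← hx']
      exact orderOf_dvd_of_mem_zpowers ha
    have h4 : (Finset.univ.filter fun a : Q => a ∈ zpowers x').card = p := by
      rw [← hx', ← Nat.card_zpowers, Nat.card_eq_fintype_card, Fintype.card_subtype]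
    have h5 := Finset.eq_of_subset_of_card_le h3 (by rw [h4]; exact h1)
    have h6 : y' ∈ Finset.univ.filter fun a : Q => a ^ p = 1 := by
      simp only [Finset.mem_filter, Finset.mem_univ, true_and]
      rw [← hy', pow_orderOf_eq_one]
    rw [← h5] at h6
    simpa using h6
  intro h
  have h3 : (y : G) ∈ X ⊓ Y := ⟨by
    obtain ⟨n, hn⟩ := mem_zpowers_iff.1 h2
    have : (y : G) = (x : G) ^ n := (congrArg Subtype.val hn).symm
    rw [this]; exact zpow_mem x.2 n, y.2⟩
  rw [h, mem_bot] at h3
  rw [show y = 1 from Subtype.ext h3, orderOf_one] at hy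
  exact hp.out.one_lt.ne hy

omit [Finite G] in
theorem exists_sup_zpowers {P : Type*} [Group P] [Finite P] (hgen : (frattini P).index = p ^ 2)
    {A : Subgroup P} (hA : ¬ A ≤ frattini P) : ∃ x : P, A ⊔ zpowers x = ⊤ := by
  have h1 : (A ⊔ frattini P).index ∣ p ^ 2 := hgen ▸ index_dvd_of_le le_sup_right
  have h2 : (A ⊔ frattini P).index ≠ p ^ 2 := fun h => hA (by
    have h5 := relIndex_mul_index (le_sup_right : frattini P ≤ A ⊔ frattini P)
    rw [h, hgen] at h5
    exact le_sup_left.trans (relIndex_eq_one.1 (Nat.eq_of_mul_eq_mul_right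
      (pow_pos hp.out.pos 2) (h5.trans (one_mul _).symm))))
  obtain ⟨k, hk, h3⟩ := (Nat.dvd_prime_pow hp.out).1 h1
  have key : ∀ x : P, A ⊔ frattini P ⊔ zpowers x = ⊤ → A ⊔ zpowers x = ⊤ := fun x h =>
    eq_top_of_sup_eq_top_of_le_frattini le_rfl (by rw [← h, ← sup_assoc, sup_comm (frattini P)])
  interval_cases k
  · exact ⟨1, key 1 (by rw [index_eq_one.1 h3, top_sup_eq])⟩
  · have h4 := CL.Tr.isCoatom_of_index_prime (K := A ⊔ frattini P) (by rw [h3, pow_one]; exact hp.out)
    obtain ⟨x, -, hx⟩ := SetLike.exists_of_lt h4.lt_top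
    exact ⟨x, key x (h4.2 _ (lt_of_le_of_ne le_sup_left fun h =>
      hx (h ▸ mem_sup_right (mem_zpowers x))))⟩
  · exact absurd h3 h2

theorem isPGroup_of_hasNPC (hcore : pPrimeCore p G = ⊥) {H : Subgroup G} (hH : H.IsSubnormal)
    (h : HasNormalPComplement p H) : IsPGroup p H := by
  rw [isPGroup_iff_pResidual_eq_bot, ← le_bot_iff]
  have h1 := CL.le_pPrimeCore (hasNPC_iff_coprime_card_pResidual.1 h)
  rw [← opOf_subgroupOf, le_bot_iff.1 ((PComp.le_pPrimeCore_of_isSubnormal hH).trans hcore.le),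
    bot_subgroupOf] at h1
  exact h1

theorem exists_sup_of_not_hasNPC (P : Sylow p G) (hgen : (frattini P).index = p ^ 2)
    {N : Subgroup G} (hn : (P : Subgroup G) ≤ normalizer (N : Set G))
    (h : ¬ HasNormalPComplement p N) : ∃ x ∈ (P : Subgroup G), (N ⊓ P) ⊔ zpowers x = P := by
  have h1 : ¬ N ⊓ P ≤ (frattini P).map (P : Subgroup G).subtype := by
    intro hle
    apply h
    set X := N ⊔ P with hX
    have hS := sylIn_sylow P (le_sup_right : (P : Subgroup G) ≤ X)
    have hNn : (N.subgroupOf X).Normal :=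
      (normal_subgroupOf_iff_le_normalizer le_sup_left).2 (sup_le le_normalizer hn)
    have := CL.Tr.hasNPC_of_normal_inf_le_frattini hS.toSylow (N.subgroupOf X) (by
      let e := subgroupOfEquivOfLe (le_sup_right : (P : Subgroup G) ≤ X)
      intro z hz
      obtain ⟨w, hw, hwz⟩ := hle (show (z : G) ∈ N ⊓ P from ⟨hz.1, hz.2⟩)
      refine ⟨e.symm w, ?_, Subtype.ext hwz⟩
      have h3 := map_frattini_equiv e.symm
      exact h3.le ⟨w, hw, rfl⟩)
    exact hasNPC_of_equiv this (subgroupOfEquivOfLe le_sup_left)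
  obtain ⟨x, hx⟩ := exists_sup_zpowers hgen (A := (N ⊓ P).subgroupOf P) fun h2 => h1 (by
    rw [← map_subgroupOf_eq_of_le (inf_le_right : N ⊓ P ≤ P)]
    exact map_mono h2)
  refine ⟨x, x.2, ?_⟩
  have := congrArg (map (P : Subgroup G).subtype) hx
  rwa [Subgroup.map_sup, map_subgroupOf_eq_of_le inf_le_right, MonoidHom.map_zpowers,
    ← MonoidHom.range_eq_map, range_subtype] at this

omit [Finite G] hp in
theorem commutator_le_of_sup {P A : Subgroup G} {x : G} (hn : P ≤ normalizer (A : Set G))
    (h : A ⊔ zpowers x = P) : ⁅P, P⁆ ≤ A := by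
  have h1 : A ≤ normalizer (A : Set G) := le_normalizer
  have h2 : zpowers x ≤ normalizer (A : Set G) := (le_sup_right.trans h.le).trans hn
  rw [← h]
  refine sup_commutator_le h1 h2 (commutator_le_left_of_normalizes (sup_le h1 h2))
    (commutator_sup_le h1 h2 (commutator_le_right_of_normalizes h2) ?_)
  rw [Subgroup.commutator_eq_bot_iff_le_centralizer.2 (le_centralizer _)]
  exact bot_le

theorem commutator_le_of_not_hasNPC (P : Sylow p G) (hgen : (frattini P).index = p ^ 2)
    {N : Subgroup G} (hn : (P : Subgroup G) ≤ normalizer (N : Set G))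
    (h : ¬ HasNormalPComplement p N) : ⁅(P : Subgroup G), (P : Subgroup G)⁆ ≤ N := by
  obtain ⟨x, -, hx⟩ := exists_sup_of_not_hasNPC P hgen hn h
  exact (commutator_le_of_sup (MSS.le_normalizer_inf hn le_normalizer) hx).trans inf_le_left

end

/-- Let p be a prime and G a finite group with a non-commutative Sylow p-subgroup P whose Frattini subgroup has index p² in P (P is generated by two elements). Suppose G has no nontrivial normal subgroup of order prime to p and the Frattini subgroup of P contains no nontrivial normal subgroup of G. Then the generalized Fitting subgroup F*(G) is the unique minimal normal subgroup of G, the image of P in G/F*(G) is cyclic, and if F*(G) is not commutative then P permutes the components of G transitively by conjugation. -/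
theorem result {G : Type*} [Group G] [Finite G] (p : ℕ) [Fact p.Prime] (P : Sylow p G) (hna : ¬ IsMulCommutative (P : Subgroup G)) (hgen : (frattini ↥(P : Subgroup G)).index = p ^ 2) (hcore : Cfsg.pPrimeCore p G = ⊥) (hfrat : ((frattini ↥(P : Subgroup G)).map (P : Subgroup G).subtype).normalCore = ⊥) [hFn : (Cfsg.generalizedFittingSubgroup G).Normal] :
    (Cfsg.generalizedFittingSubgroup G ≠ ⊥ ∧ ∀ K : Subgroup G, K.Normal → K ≠ ⊥ → Cfsg.generalizedFittingSubgroup G ≤ K) ∧
      IsCyclic ↥((P : Subgroup G).map (QuotientGroup.mk' (Cfsg.generalizedFittingSubgroup G))) ∧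
      (¬ IsMulCommutative (Cfsg.generalizedFittingSubgroup G) → ∀ K L : Subgroup G, Cfsg.IsComponent K → Cfsg.IsComponent L → ∃ x ∈ (P : Subgroup G), L = K.map (MulAut.conj x).toMonoidHom) := by
  set Φ := (frattini P).map (P : Subgroup G).subtype with hΦ
  have hΦ0 : ∀ N : Subgroup G, N.Normal → N ≤ Φ → N = ⊥ := fun N hN h =>
    le_bot_iff.1 (hfrat ▸ normal_le_normalCore.2 h)
  have hP' : ⁅(P : Subgroup G), (P : Subgroup G)⁆ ≤ Φ := by
    have := P.isPGroup'.isNilpotent
    rw [← map_subtype_commutator]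
    exact map_mono (commutator_le_frattini_of_isNilpotent P)
  have hP1 : ⁅(P : Subgroup G), (P : Subgroup G)⁆ ≠ ⊥ := fun h =>
    hna (isMulCommutative_of_le_centralizer (Subgroup.commutator_eq_bot_iff_le_centralizer.1 h))
  have hinf : ∀ N : Subgroup G, N.Normal → N ≠ ⊥ → ¬ N ⊓ P ≤ Φ := by
    intro N hN h1 h
    have h2 := isPGroup_of_hasNPC hcore hN.isSubnormal
      (CL.Tr.hasNPC_of_normal_inf_le_frattini P N h)
    exact h1 (hΦ0 N hN ((le_inf le_rfl (h2.le_sylow_of_normal P)).trans h))
  have hsup : ∀ N : Subgroup G, N.Normal → N ≠ ⊥ → ∃ x ∈ (P : Subgroup G),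
      (N ⊓ P) ⊔ zpowers x = P := by
    intro N hN h1
    obtain ⟨x, hx⟩ := exists_sup_zpowers hgen (A := (N ⊓ P).subgroupOf P) fun h2 =>
      hinf N hN h1 (by
        rw [← map_subgroupOf_eq_of_le (inf_le_right : N ⊓ P ≤ P)]
        exact map_mono h2)
    refine ⟨x, x.2, ?_⟩
    have := congrArg (map (P : Subgroup G).subtype) hx
    rwa [Subgroup.map_sup, map_subgroupOf_eq_of_le inf_le_right, MonoidHom.map_zpowers,
      ← MonoidHom.range_eq_map, range_subtype] at this
  have hcyc : ∀ (N : Subgroup G) [N.Normal], N ≠ ⊥ →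
      IsCyclic ((P : Subgroup G).map (QuotientGroup.mk' N)) := by
    intro N hN h1
    obtain ⟨x, -, hx⟩ := hsup N hN h1
    rw [← hx, Subgroup.map_sup, (Subgroup.map_eq_bot_iff _).2 (by
      rw [QuotientGroup.ker_mk']; exact inf_le_left), bot_sup_eq, MonoidHom.map_zpowers]
    infer_instance
  set N₀ := normalClosure ((⁅(P : Subgroup G), (P : Subgroup G)⁆ : Subgroup G) : Set G) with hN₀
  have hN₀1 : N₀ ≠ ⊥ := fun h => hP1 (le_bot_iff.1 (h ▸ le_normalClosure))
  have hmin : ∀ N : Subgroup G, N.Normal → N ≠ ⊥ → N₀ ≤ N := by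
    intro N hN h1
    obtain ⟨x, -, hx⟩ := hsup N hN h1
    exact normalClosure_le_normal ((commutator_le_of_sup
      (MSS.le_normalizer_inf le_normalizer_of_normal le_normalizer) hx).trans inf_le_left)
  have hF := fstar_eq_layer_sup_pCore hcore
  have hFit := fittingSubgroup_eq_pCore hcore
  -- the case `O_p(G) ≠ 1`
  have hV : pCore p G ≠ ⊥ → layer G = ⊥ ∧ pCore p G ≤ centralizer (pCore p G : Set G) ∧
      pCore p G ≤ N₀ := by
    intro hV1
    set V := pCore p G with hVd
    have hVp : IsPGroup p V := pCore_isPGroup p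
    have hVP : V ≤ P := hVp.le_sylow_of_normal P
    have hN₀V := hmin V inferInstance hV1
    have hE : layer G = ⊥ := by
      by_contra hE
      have h1 := hmin _ inferInstance hE
      refine hinf N₀ inferInstance hN₀1 (inf_le_left.trans (le_trans ?_
        ((inf_center_le (sylIn_inf_normal P (layer G))).trans
          ((commutator_mono inf_le_left inf_le_left).trans hP'))))
      rw [commutator_layer_self]
      refine le_inf (le_inf (le_inf (hN₀V.trans hVP) h1) h1) (hN₀V.trans ?_)
      exact le_centralizer_comm.1 (Subgroup.commutator_eq_bot_iff_le_centralizer.1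
        layer_commutator_pCore)
    have hab : V ≤ centralizer (V : Set G) := by
      rw [← Subgroup.commutator_eq_bot_iff_le_centralizer]
      exact hΦ0 _ inferInstance ((commutator_mono hVP hVP).trans hP')
    have hCV : centralizer (V : Set G) ≤ V :=
      fstar_eq_pCore_iff_centralizer.1 (by rw [hF, hE, bot_sup_eq])
    refine ⟨hE, hab, ?_⟩
    by_contra hVN
    set π := QuotientGroup.mk' N₀ with hπ
    have hπs : Function.Surjective π := QuotientGroup.mk'_surjective N₀
    have hN₀p : IsPGroup p N₀ := hVp.to_le hN₀V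
    have hVb : V.map π = pCore p (G ⧸ N₀) := map_mk'_pCore N₀ hN₀p
    have hVb1 : V.map π ≠ ⊥ := fun h => hVN (by
      rwa [Subgroup.map_eq_bot_iff, hπ, QuotientGroup.ker_mk'] at h)
    -- `O_{p'}(G / N₀) = 1`
    have hO : pPrimeCore p (G ⧸ N₀) = ⊥ := by
      set K := (pPrimeCore p (G ⧸ N₀)).comap π with hK
      have hN₀K : N₀ ≤ K := by
        intro g hg
        rw [hK, mem_comap, show π g = 1 from (QuotientGroup.eq_one_iff g).2 hg]
        exact one_mem _
      have hidx : (N₀.subgroupOf K).index = Nat.card (pPrimeCore p (G ⧸ N₀)) := by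
        have := relIndex_comap (⊥ : Subgroup (G ⧸ N₀)) π K
        rw [MonoidHom.comap_bot, hπ, QuotientGroup.ker_mk', hK,
          map_comap_eq_self_of_surjective hπs, relIndex_bot_left] at this
        exact this
      obtain ⟨k, hk⟩ := IsPGroup.iff_card.1 hN₀p
      obtain ⟨H, hH⟩ := exists_right_complement'_of_coprime (N := N₀.subgroupOf K) (by
        rw [hidx, Nat.card_congr (subgroupOfEquivOfLe hN₀K).toEquiv, hk]
        exact (pPrimeCore_coprime p).symm.pow_left k)
      set H' := H.map K.subtype with hH'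
      have hH'c : (Nat.card H').Coprime p := by
        rw [hH', card_map_of_injective K.subtype_injective, ← hH.symm.index_eq_card, hidx]
        exact pPrimeCore_coprime p
      have hKH : N₀ ⊔ H' = K := by
        have := congrArg (map K.subtype) hH.sup_eq_top
        rwa [Subgroup.map_sup, map_subgroupOf_eq_of_le hN₀K, ← MonoidHom.range_eq_map,
          range_subtype] at this
      have hVH : ⁅V, H'⁆ ≤ N₀ := by
        rw [commutator_le_iff_map_eq_bot]
        refine commutator_eq_bot_of_le (commutator_pCore_pPrimeCore p) hVb.le ?_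
        rw [map_le_iff_le_comap]
        exact map_subtype_le H
      obtain ⟨m, hm⟩ := IsPGroup.iff_card.1 hVp
      have hcop : (Nat.card H').Coprime (Nat.card V) := hm ▸ hH'c.pow_right m
      have hsolv : Group.IsSolvable H' ∨ Group.IsSolvable V :=
        Or.inr (isSolvable_of_isPGroup' hVp)
      have h1 := coprime_commutator_sup_centralizer H' V le_normalizer_of_normal hcop hsolv
      have h2 : V ⊓ centralizer (K : Set G) ≠ ⊥ := by
        intro h
        apply hVN
        rw [← h1]
        refine sup_le hVH (le_trans ?_ (h.le.trans bot_le))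
        rw [← hKH, centralizer_sup_eq]
        exact le_inf inf_le_left (le_inf (inf_le_left.trans (hab.trans (centralizer_le hN₀V)))
          inf_le_right)
      have h3 : N₀ ≤ centralizer (H' : Set G) :=
        (hmin _ inferInstance h2).trans (inf_le_right.trans (centralizer_le (map_subtype_le H)))
      have h4 := coprime_le_centralizer_of_commutator_le H' V le_normalizer_of_normal hcop hsolv
        (hVH.trans h3)
      have h5 : H' = ⊥ := eq_bot_of_isPGroup_of_coprime
        (hVp.to_le ((le_centralizer_comm.1 h4).trans hCV)) hH'c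
      rw [h5, sup_bot_eq] at hKH
      rw [← map_comap_eq_self_of_surjective hπs (pPrimeCore p (G ⧸ N₀)), ← hK, ← hKH,
        Subgroup.map_eq_bot_iff, hπ, QuotientGroup.ker_mk']
    set C := centralizer ((pCore p (G ⧸ N₀) : Subgroup (G ⧸ N₀)) : Set (G ⧸ N₀)) with hC
    set S := (P : Subgroup G).map π with hS
    have hSt : SylIn p S ⊤ := by
      have := (sylIn_top P).map π
      rwa [map_top_of_surjective _ hπs] at this
    have hSS : ⁅S, S⁆ = ⊥ := commutator_le_iff_map_eq_bot.1 le_normalClosure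
    have hVS : pCore p (G ⧸ N₀) ≤ S := hVb ▸ map_mono hVP
    have hSC : S ≤ C := Subgroup.commutator_eq_bot_iff_le_centralizer.1
      (commutator_eq_bot_of_le hSS le_rfl hVS)
    have h1 := inf_center_le (hSt.of_le hSC le_top)
    have h2 : S ⊓ ⁅C, C⁆ = ⊥ := by
      by_contra h
      refine inf_ne_bot_of_cyclic' hSt.pgroup (hcyc N₀ hN₀1) inf_le_left hVS h (hVb ▸ hVb1)
        (le_bot_iff.1 (le_trans ?_ (h1.trans hSS.le)))
      exact inf_le_inf_left _ (le_centralizer_comm.1 le_rfl)
    have h3 : ⁅C, C⁆ = ⊥ := by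
      rw [← le_bot_iff, ← hO]
      exact CL.le_pPrimeCore (coprime_card_of_inf_sylow_eq_bot hSt.toSylowTop _ h2)
    have h4 : C ≤ pCore p (G ⧸ N₀) := by
      rw [← fittingSubgroup_eq_pCore hO]
      exact le_fittingSubgroup (isNilpotent_of_le_centralizer
        (Subgroup.commutator_eq_bot_iff_le_centralizer.1 h3))
    have h5 : (P : Subgroup G) ≤ V := by
      have := hSC.trans (h4.trans hVb.ge)
      rw [hS, Subgroup.map_le_map_iff, hπ, QuotientGroup.ker_mk', sup_eq_left.2 hN₀V] at this
      exact this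
    exact hna (isMulCommutative_of_le_centralizer (h5.trans (hab.trans (centralizer_le h5))))
  have hFN : generalizedFittingSubgroup G ≤ N₀ := by
    rw [hF]
    by_cases hV1 : pCore p G = ⊥
    · rw [hV1, sup_bot_eq, layer_le_iff]
      intro K hK
      refine (hK.le_or_commutator_eq_bot (Normal.isSubnormal inferInstance)).resolve_right
        fun h => ?_
      have h1 : centralizer (N₀ : Set G) ≠ ⊥ := fun h1 => hK.ne_bot (le_bot_iff.1
        (h1 ▸ Subgroup.commutator_eq_bot_iff_le_centralizer.1 h))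
      have h2 := le_fittingSubgroup (isNilpotent_of_le_centralizer (hmin _ inferInstance h1))
      rw [hFit, hV1] at h2
      exact hN₀1 (le_bot_iff.1 h2)
    · obtain ⟨h1, -, h2⟩ := hV hV1
      rw [h1, bot_sup_eq]; exact h2
  have hF1 : generalizedFittingSubgroup G ≠ ⊥ := by
    have : Nontrivial G := by
      by_contra h
      rw [not_nontrivial_iff_subsingleton] at h
      exact hN₀1 (Subsingleton.elim _ _)
    exact fstar_ne_bot
  refine ⟨⟨hF1, fun K hK h1 => hFN.trans (hmin K hK h1)⟩, hcyc _ hF1, fun hnc K L hK hL => ?_⟩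
  have hV1 : pCore p G = ⊥ := by
    by_contra hV1
    obtain ⟨h1, h2, -⟩ := hV hV1
    rw [hF, h1, bot_sup_eq] at hnc
    exact hnc (isMulCommutative_of_le_centralizer h2)
  by_contra hcon
  have key : ∀ J : Subgroup G, IsComponent J → ⁅(P : Subgroup G), (P : Subgroup G)⁆ ≤
      sSup {M | ∃ x ∈ (P : Subgroup G), M = x •ᶜ J} := by
    intro J hJ
    refine commutator_le_of_not_hasNPC P hgen (le_normalizer_sSup ?_) fun h => ?_
    · rintro u hu _ ⟨x, hx, rfl⟩
      exact ⟨u * x, mul_mem hu hx, (cj_mul u x J).symm⟩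
    · have h1 : J ≤ sSup {M | ∃ x ∈ (P : Subgroup G), M = x •ᶜ J} :=
        le_sSup ⟨1, one_mem _, (cj_one J).symm⟩
      exact hJ.not_isSolvable (isSolvable_of_isPGroup'
        (isPGroup_of_hasNPC hcore hJ.isSubnormal (hasNPC_of_le h h1)))
  set N₁ := sSup {M | ∃ x ∈ (P : Subgroup G), M = x •ᶜ K} with hN₁
  have hc : sSup {M | ∃ x ∈ (P : Subgroup G), M = x •ᶜ L} ≤ centralizer (N₁ : Set G) := by
    refine sSup_le ?_
    rintro _ ⟨y, hy, rfl⟩
    rw [le_centralizer_comm]
    refine sSup_le ?_
    rintro _ ⟨x, hx, rfl⟩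
    refine (hK.conj x).le_centralizer_of_ne (hL.conj y) fun h => hcon ⟨y⁻¹ * x,
      mul_mem (inv_mem hy) hx, ?_⟩
    show L = (y⁻¹ * x) •ᶜ K
    rw [cj_mul, h, inv_cj_cj]
  have hEN : layer G ≤ normalizer (N₁ : Set G) :=
    le_normalizer_sSup_of_isPComponentOf (by
      rintro _ ⟨x, -, rfl⟩
      exact (hK.conj x).layer_le_normalizer)
  have hNE : N₁ ≤ layer G := sSup_le (by
    rintro _ ⟨x, -, rfl⟩
    exact (hK.conj x).le_layer)
  have hsn : (N₁ ⊓ centralizer (N₁ : Set G)).IsSubnormal := by
    rw [← subnormalIn_top]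
    exact subnormalIn_trans (inf_le_left.trans hNE) le_top (subnormalIn_of_le_normalizer
      (MSS.le_normalizer_inf hEN (MSS.le_normalizer_centralizer hEN)))
      (subnormalIn_of_le_normalizer le_normalizer_of_normal)
  have h1 := le_fittingSubgroup_of_isSubnormal hsn
    (isNilpotent_of_le_centralizer (inf_centralizer_le_centralizer N₁))
  rw [hFit, hV1] at h1
  exact hP1 (le_bot_iff.1 ((le_inf (key K hK) ((key L hL).trans hc)).trans h1))

end Cfsg.Agent.S4172
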