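import Cfsg.Statements.S4185
import Cfsg.Agent.KSG.PA5
-- import your own Cfsg.Agent.* helpers here

set_option autoImplicit false
open Cfsg

namespace Cfsg.Agent.S4185

/-- Let G be a finite group with normal subgroups K < H such that K is nilpotent and contains every solvable normal subgroup of G, H/K is a simple group of Lie type (in some characteristic p) and the centralizer of H/K in G/K is trivial. If G/H is not cyclic, then some prime r dividing #(G/H) is adjacent to every other vertex of the prime graph of G: for every prime s ≠ r dividing #G there is an element of order rs. -/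
theorem result {G : Type*} [Group G] [Finite G]
    (K H : Subgroup G) [K.Normal] [H.Normal] (hKH : K < H)
    (hrad : ∀ M : Subgroup G, M.Normal → Group.IsSolvable ↥M → M ≤ K) (hK : Group.IsNilpotent ↥K)
    (p : ℕ) (hS : IsSimpleGroup (↥H ⧸ K.subgroupOf H)) (hS' : Cfsg.IsLieTypeChar p (↥H ⧸ K.subgroupOf H))
    (hC : Subgroup.centralizer ((H.map (QuotientGroup.mk' K) : Subgroup (G ⧸ K)) : Set (G ⧸ K)) = ⊥)
    (hnc : ¬ IsCyclic (G ⧸ H)) :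
    ∃ r : ℕ, r.Prime ∧ r ∣ Nat.card (G ⧸ H) ∧
      ∀ s : ℕ, s.Prime → s ∣ Nat.card G → s ≠ r → ∃ g : G, orderOf g = r * s := by
  open CL.PAdj in
  rcases hS' with ⟨F, _, _, _, n, hn, h4, ⟨e⟩⟩ | ⟨F, _, _, _, n, hn, h3, ⟨e⟩⟩ | ⟨F, _, _, _, n, q, hF, hn, h, ⟨e⟩⟩ |
    ⟨F, _, _, _, n, hn, hF, ⟨e⟩⟩ | ⟨F, _, _, _, n, hn, ⟨e⟩⟩ | ⟨F, _, _, _, n, a, b, hn, hab, ⟨e⟩⟩ |
    ⟨F, _, _, _, ⟨h3, ⟨e⟩⟩ | ⟨⟨e⟩⟩ | ⟨⟨e⟩⟩ | ⟨⟨e⟩⟩ | ⟨⟨e⟩⟩⟩ | ⟨F, _, _, _, q, hq, ⟨hF, ⟨e⟩⟩ | ⟨hF, ⟨e⟩⟩⟩ |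
    ⟨-, F, _, _, m, hm, hF, ⟨e⟩⟩ | ⟨-, F, _, _, m, hm, hF, ⟨e⟩⟩ | ⟨-, F, _, _, m, hm, hF, ⟨e⟩⟩ <;>
    refine main hKH.le hC hnc e ?_ <;> try have := Fact.mk (CharP.char_is_prime F p)
  · obtain rfl | ⟨n, rfl⟩ : n = 2 ∨ ∃ k, n = k + 2 + 1 := hn.eq_or_lt.imp .symm fun h => ⟨n - 3, by omega⟩
    exacts [goal_L2 (p := p) (h4 rfl), goal_PSL (p := p) n]
  · obtain ⟨n, rfl⟩ : ∃ k, n = k + 1 + 1 := ⟨n - 2, by omega⟩
    exact goal_PSp (p := p) n fun e => h3 (by omega)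
  · obtain ⟨n, rfl⟩ : ∃ k, n = k + 2 + 1 := ⟨n - 3, by omega⟩
    exact goal_PSU (p := p) hF (by omega)
  · obtain ⟨n, rfl⟩ : ∃ k, n = k + 1 := ⟨n - 1, by omega⟩
    exact goal_odd (p := p) (by omega) hF
  · obtain ⟨n, rfl⟩ : ∃ k, n = k + 2 := ⟨n - 2, by omega⟩
    exact goal_plus (p := p) (by omega)
  · obtain ⟨n, rfl⟩ : ∃ k, n = k + 2 := ⟨n - 2, by omega⟩
    exact goal_minus (p := p) (n := n) (by omega) hab
  exacts [goal_G2 (p := p) h3, goal_F4 (p := p), goal_E6 (p := p), goal_E7 (p := p), goal_E8 (p := p),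
    goal_2E6 (p := p) hq hF, goal_3D4 hq hF, goal_Sz hm hF, goal_2F4 hm hF, goal_2G2 hm hF]

end Cfsg.Agent.S4185
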