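import Cfsg.Statements.S4190
import Cfsg.Agent.ORD.KLow6

set_option autoImplicit false
open Cfsg

namespace Cfsg.Agent.S4190

open MulAction Subgroup CL.SolvLin CL.Ord.PC CL.KLow

universe u

theorem four_pow_mono {a d : ℕ} (ha : 4 ≤ a) (h : a ≤ d) : 4 ^ a * d ^ 6 ≤ 4 ^ d * a ^ 6 := by
  induction d, h using Nat.le_induction with
  | base => exact le_rfl
  | succ n hn ih =>
    have h2 := Nat.pow_le_pow_left (show 4 * (n + 1) ≤ 5 * n by omega) 6
    rw [mul_pow, mul_pow] at h2
    calc _ ≤ 4 ^ a * (4 * n ^ 6) := Nat.mul_le_mul_left _ (by omega)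
      _ = 4 * (4 ^ a * n ^ 6) := by ring
      _ ≤ 4 * (4 ^ n * a ^ 6) := Nat.mul_le_mul_left _ ih
      _ = _ := by ring

theorem lin {A V : Type u} [Group A] [AddCommGroup V] [DistribMulAction A V] [Finite A] [Finite V]
    [Group.IsSolvable A] [Nontrivial V] (hf : ∀ a : A, (∀ v : V, a • v = v) → a = 1)
    (hirr : Irr A V) (P : Subgroup A) [P.Normal] {p : ℕ} [hp : Fact p.Prime] (hP : Nat.card P = p) :
    p ≤ 3 * Nat.log 2 p * (Nat.card (ConjClasses A) + nu A V) := by
  have := isCyclic_of_prime_card hP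
  set C := centralizer (P : Set A) with hC
  have hle : P ≤ C := fun a ha b hb => congrArg Subtype.val
    ((IsCyclic.isMulCommutative (α := P)).is_comm.comm ⟨b, hb⟩ ⟨a, ha⟩)
  have h1 := card_le_k (P.subgroupOf C) fun z hz g => Subtype.ext (g.2 z hz).symm
  rw [Nat.card_congr (subgroupOfEquivOfLe hle).toEquiv, hP] at h1
  replace h1 := h1.trans (Cfsg.Agent.S4200.result C).1
  have h2 : C.index ≤ Nat.card (ConjClasses A) := by
    let f : A →* MulAut P := MulAut.conjNormal
    have : Finite f.range := Finite.of_surjective _ f.rangeRestrict_surjective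
    have e : C = f.ker := Subgroup.ext fun a => ⟨fun ha => MulEquiv.ext fun y => Subtype.ext (by
      change a * y * a⁻¹ = y
      rw [← ha y y.2, mul_inv_cancel_right]), fun ha y hy => (mul_inv_eq_iff_eq_mul.1
        (congrArg Subtype.val (MulEquiv.congr_fun ha ⟨y, hy⟩))).symm⟩
    rw [e, index_ker, ← card_top]
    exact (card_le_k _ fun z _ g => Subtype.ext ((IsCyclic.mulAutMulEquiv P).injective (by
      rw [coe_mul, coe_mul, map_mul, map_mul, mul_comm]))).trans
      (k_le_of_surjective _ f.rangeRestrict_surjective)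
  have h3 := Nat.pow_log_le_self 2 hp.out.ne_zero
  have h4 := Nat.lt_pow_succ_log_self one_lt_two p
  have h5 : 1 ≤ Nat.log 2 p := Nat.log_pos one_lt_two hp.out.two_le
  generalize Nat.log 2 p = i at *
  by_cases c : C.index ≤ 3 * i
  · exact h1.trans (Nat.mul_le_mul c (Nat.le_add_right _ _))
  by_cases c' : p < 729
  · have : i < 10 := (Nat.pow_lt_pow_iff_right one_lt_two).1 (h3.trans_lt (by omega))
    interval_cases i <;> omega
  rcases psi _ A V P (hP ▸ hp.out) (by omega) hirr rfl fun x _ => hf x with k | ⟨L, k1, k2, k3⟩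
  · nlinarith
  have h6 := card_le_of_abelian (V := V) L fun a ha b hb => mul_inv_eq_one.1 (hf _ fun v => by
    rw [mul_smul, k2 a ha b hb, smul_inv_smul])
  rw [← relIndex_mul_index k1] at h6
  have h7 : 0 < L.relIndex C := Nat.pos_of_ne_zero FiniteIndex.index_ne_zero
  have h8 : 1 < Nat.card V := Finite.one_lt_card
  have h9 := four_pow_mono (a := 3 * i + 1) (d := C.index) (by omega) (by omega)
  have h10 : 0 < C.index := by omega
  rw [← hC] at k3 h6
  generalize L.relIndex C = β at *
  generalize C.index = d at *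
  generalize Nat.card (ConjClasses A) = k at *
  generalize nu A V = ν at *
  have a1 : 2 * Nat.card V ≤ (k + ν) ^ 2 * (β * d) ^ 2 := by
    have : 4 * (k * ν) ≤ (k + ν) ^ 2 := by zify; nlinarith [sq_nonneg ((k : ℤ) - ν)]
    nlinarith [Nat.mul_le_mul_right ((β * d) ^ 2) this]
  have a2 : 5832 * 4 ^ d ≤ (k + ν) ^ 6 * d ^ 6 := Nat.le_of_mul_le_mul_left (c := β ^ 6) (by
    have := Nat.pow_le_pow_left a1 3
    calc _ = 8 * ((3 * β) ^ 6 * 4 ^ d) := by ring
      _ ≤ (2 * Nat.card V) ^ 3 := by rw [mul_pow 2]; exact Nat.mul_le_mul_left _ k3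
      _ ≤ _ := this.trans_eq (by ring)) (by positivity)
  have a3 : 5832 * 4 ^ (3 * i + 1) ≤ ((k + ν) * (3 * i + 1)) ^ 6 :=
    Nat.le_of_mul_le_mul_left (c := d ^ 6) (by
      calc _ = 5832 * (4 ^ (3 * i + 1) * d ^ 6) := by ring
        _ ≤ 5832 * 4 ^ d * (3 * i + 1) ^ 6 := by rw [mul_assoc]; exact Nat.mul_le_mul_left _ h9
        _ ≤ _ := (Nat.mul_le_mul_right _ a2).trans_eq (by ring)) (by positivity)
  have a4 : 2 * 2 ^ (i + 1) ≤ (k + ν) * (3 * i + 1) :=
    (Nat.pow_le_pow_iff_left (n := 6) (by norm_num)).1 (le_trans (by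
      rw [pow_succ 4, pow_mul', show 4 ^ i = (2 ^ i) ^ 2 by rw [← pow_mul, pow_mul']; rfl, pow_succ 2]
      generalize 2 ^ i = x
      nlinarith [Nat.zero_le (x ^ 6)]) a3)
  have a5 := Nat.mul_le_mul_left (k + ν) (show 3 * i + 1 ≤ 2 * (3 * i) by omega)
  rw [Nat.succ_eq_add_one] at h4
  nlinarith

theorem aux {p : ℕ} [hp : Fact p.Prime] (n : ℕ) : ∀ (G : Type u) [Group G] [Finite G]
    [Group.IsSolvable G], Nat.card G = n → p ∣ (Cfsg.fittingSubgroup G).index →
    p ≤ 3 * Nat.log 2 p * Nat.card (ConjClasses G) := by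
  induction n using Nat.strong_induction_on with
  | _ n ih =>
  rintro G _ _ _ rfl hG
  by_cases h2 : p ^ 2 ∣ Nat.card G
  · have := hk_aux _ G rfl h2
    have h5 : 1 ≤ Nat.log 2 p := Nat.log_pos one_lt_two hp.out.two_le
    nlinarith
  have hd := hG.trans (index_dvd_card _)
  have : Nontrivial G := Finite.one_lt_card_iff_nontrivial.1
    (hp.out.one_lt.trans_le (Nat.le_of_dvd Nat.card_pos hd))
  obtain ⟨N, hN, h3, -, h4, h5⟩ := exists_step (A := G) (Z := ⊥) (D := ⊤) bot_lt_top
  have hab : ∀ a ∈ N, ∀ b ∈ N, a * b = b * a := fun a ha b hb =>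
    commutatorElement_eq_one_iff_mul_comm.1 (mem_bot.1 (h4 a ha b hb))
  by_cases h6 : p ∣ (Cfsg.fittingSubgroup (G ⧸ N)).index
  · exact (ih _ (by
      rw [← N.card_mul_index]
      exact lt_mul_of_one_lt_left (Nat.pos_of_ne_zero FiniteIndex.index_ne_zero)
        ((one_lt_card_iff_ne_bot _).2 h3.ne')) (G ⧸ N) rfl h6).trans (Nat.mul_le_mul_left _
      (k_le_of_surjective _ (QuotientGroup.mk'_surjective N)))
  obtain ⟨S⟩ : Nonempty (Sylow p G) := inferInstance
  have h7 : Nat.card S = p := by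
    obtain ⟨i, hi⟩ := S.isPGroup'.exists_card_eq
    have k1 := S.dvd_card_of_dvd_card hd
    have k2 := (S : Subgroup G).card_subgroup_dvd_card
    rw [hi] at k1 k2 ⊢
    have k3 : i < 2 := by
      by_contra k
      exact h2 ((pow_dvd_pow _ (by omega)).trans k2)
    interval_cases i
    · exact absurd (Nat.dvd_one.1 k1) hp.out.ne_one
    · exact pow_one p
  have h8 : ¬ (S : Subgroup G).Normal := fun k => S.not_dvd_index (hG.trans (index_dvd_of_le
    (CL.le_fittingSubgroup S.isPGroup'.isNilpotent)))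
  let T := S.mapSurjective (QuotientGroup.mk'_surjective N)
  have h9 : (T : Subgroup (G ⧸ N)) = Cfsg.pCore p (G ⧸ N) := by
    refine le_antisymm (CL.le_pCore_of_le_fittingSubgroup ?_ T.isPGroup')
      ((CL.isPGroup_pCore p _).le_sylow_of_normal T)
    intro x hx
    obtain ⟨j, hj⟩ := T.isPGroup' ⟨x, hx⟩
    exact (QuotientGroup.eq_one_iff x).1 ((pow_eq_one_iff_of_coprime (Nat.Coprime.pow_left j
      (hp.out.coprime_iff_not_dvd.2 h6))).1 ⟨by
        rw [← QuotientGroup.mk_pow, show x ^ p ^ j = 1 from congrArg Subtype.val hj]; rfl,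
        pow_card_eq_one'⟩)
  have h10 : ((S : Subgroup G) ⊔ N).Normal := by
    have := (h9 ▸ inferInstance : (T : Subgroup (G ⧸ N)).Normal).comap (QuotientGroup.mk' N)
    rwa [Sylow.coe_mapSurjective, comap_map_eq, QuotientGroup.ker_mk'] at this
  have hirr := irr_abMod hab h5
  have : Finite (AbMod N hab) := Finite.of_injective _ AbMod.val_inj
  have : Nontrivial (AbMod N hab) := (Subgroup.nontrivial_iff_ne_bot N).2 h3.ne'
  have := Group.isSolvable_of_surjective (toImg_surj (A := G) (V := AbMod N hab))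
  have : Finite (Img G (AbMod N hab)) := Finite.of_surjective _ toImg_surj
  have h11 : N ≤ (toImg (AbMod N hab)).ker := fun x hx => img_faithful _ fun v => AbMod.val_inj (by
    rw [toImg_smul, AbMod.val_smul, hab _ hx _ v.val_mem, mul_inv_cancel_right])
  have h12 : ((S : Subgroup G).map (toImg (AbMod N hab))).Normal := by
    have := h10.map _ (toImg_surj (V := AbMod N hab))
    rwa [Subgroup.map_sup, (map_eq_bot_iff N).2 h11, sup_bot_eq] at this
  refine (lin img_faithful (fun U hU => hirr U fun a => hU (toImg _ a))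
    ((S : Subgroup G).map (toImg (AbMod N hab))) ?_).trans
    (Nat.mul_le_mul_left _ (by rw [nu_img]; exact k_add_nu_le N hab))
  refine (hp.out.eq_one_or_self_of_dvd _ ((card_map_dvd _ _).trans h7.dvd)).resolve_left fun e => h8 ?_
  have k1 := (Subgroup.map_eq_bot_iff _).1 (card_eq_one.1 e)
  have k2 : (S : Subgroup G) ⊔ N ≤ normalizer (S : Set G) := sup_le le_normalizer
    (le_trans (show N ≤ centralizer (S : Set G) from fun x hx y hy => mul_inv_eq_iff_eq_mul.1
      (congrArg AbMod.val (LinearEquiv.congr_fun (congrArg Subtype.val (k1 hy))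
        (AbMod.mk hab x hx)))) (centralizer_le_normalizer _))
  have k3 := (normal_subgroupOf_iff_le_normalizer le_sup_left).2 k2
  have := (S.subtype (le_sup_left (b := N))).characteristic_of_normal k3
  have := ConjAct.normal_of_characteristic_of_normal
    (K := (S.subtype (le_sup_left (b := N)) : Subgroup ((S : Subgroup G) ⊔ N : Subgroup G)))
  rwa [Sylow.coe_subtype, map_subgroupOf_eq_of_le le_sup_left] at this

/-- Let G be a finite solvable group and p a prime dividing the index of the Fitting subgroup of G. Then the number of conjugacy classes of G is at least p/(3·log₂ p). -/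
theorem result {G : Type*} [Group G] [Finite G] (hG : Group.IsSolvable G) (p : ℕ) [Fact p.Prime] (hp : p ∣ (Cfsg.fittingSubgroup G).index) : (p : ℝ) / (3 * Real.logb 2 p) ≤ Nat.card (ConjClasses G) := by
  have h2 := (Fact.out : p.Prime).two_le
  have h1 : (Nat.log 2 p : ℝ) ≤ Real.logb 2 p := by exact_mod_cast Real.natLog_le_logb p 2
  have h3 : 0 < Real.logb 2 p := Real.logb_pos one_lt_two (by exact_mod_cast h2)
  have h4 : (p : ℝ) ≤ 3 * Nat.log 2 p * Nat.card (ConjClasses G) := by
    exact_mod_cast aux _ G rfl hp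
  rw [div_le_iff₀ (by positivity), mul_comm]
  exact h4.trans (by gcongr)

end Cfsg.Agent.S4190
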