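import Cfsg.Statements.S4192
import Mathlib
import Cfsg.Agent.FGS.RealCls
set_option autoImplicit false
open Cfsg

namespace Cfsg.Agent.S4192

open Subgroup CL CL.CS CL.RCls in

/-- Let G be a finite group; call an element real when it is conjugate to its inverse, and say that the real-class-size graph of a group is disconnected when the primes dividing its real class sizes split into two non-empty disjoint parts with no real class size divisible by a prime from each part. If the real-class-size graph of G is disconnected, then some real class size of G is even, and either the Sylow 2-subgroups of G are normal, or the subgroup K generated by the 2-elements of G (the smallest normal subgroup of odd index) again has a disconnected real-class-size graph and every real class size of K is odd or a power of 2. -/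
theorem result {G : Type*} [Group G] [Finite G] (h : (∃ π₁ π₂ : Set ℕ, π₁.Nonempty ∧ π₂.Nonempty ∧ Disjoint π₁ π₂ ∧ (∀ q ∈ π₁ ∪ π₂, q.Prime ∧ ∃ n ∈ {n : ℕ | ∃ x : G, IsConj x x⁻¹ ∧ (Subgroup.centralizer ({x} : Set G)).index = n}, q ∣ n) ∧ (∀ q : ℕ, q.Prime → (∃ n ∈ {n : ℕ | ∃ x : G, IsConj x x⁻¹ ∧ (Subgroup.centralizer ({x} : Set G)).index = n}, q ∣ n) → q ∈ π₁ ∨ q ∈ π₂) ∧ ∀ a ∈ π₁, ∀ b ∈ π₂, ∀ n ∈ {n : ℕ | ∃ x : G, IsConj x x⁻¹ ∧ (Subgroup.centralizer ({x} : Set G)).index = n}, ¬ (a ∣ n ∧ b ∣ n))) : (∃ n ∈ {n : ℕ | ∃ x : G, IsConj x x⁻¹ ∧ (Subgroup.centralizer ({x} : Set G)).index = n}, 2 ∣ n) ∧ ((∀ P : Sylow 2 G, (P : Subgroup G).Normal) ∨ ((∃ π₁ π₂ : Set ℕ, π₁.Nonempty ∧ π₂.Nonempty ∧ Disjoint π₁ π₂ ∧ (∀ q ∈ π₁ ∪ π₂, q.Prime ∧ ∃ n ∈ {n : ℕ | ∃ x : ↥(Subgroup.closure {g : G | ∃ k : ℕ, orderOf g = 2 ^ k}), IsConj x x⁻¹ ∧ (Subgroup.centralizer ({x} : Set ↥(Subgroup.closure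 {g : G | ∃ k : ℕ, orderOf g = 2 ^ k}))).index = n}, q ∣ n) ∧ (∀ q : ℕ, q.Prime → (∃ n ∈ {n : ℕ | ∃ x : ↥(Subgroup.closure {g : G | ∃ k : ℕ, orderOf g = 2 ^ k}), IsConj x x⁻¹ ∧ (Subgroup.centralizer ({x} : Set ↥(Subgroup.closure {g : G | ∃ k : ℕ, orderOf g = 2 ^ k}))).index = n}, q ∣ n) → q ∈ π₁ ∨ q ∈ π₂) ∧ ∀ a ∈ π₁, ∀ b ∈ π₂, ∀ n ∈ {n : ℕ | ∃ x : ↥(Subgroup.closure {g : G | ∃ k : ℕ, orderOf g = 2 ^ k}), IsConj x x⁻¹ ∧ (Subgroup.centralizer ({x} : Set ↥(Subgroup.closure {g : G | ∃ k : ℕ, orderOf g = 2 ^ k}))).index = n}, ¬ (a ∣ n ∧ b ∣ n)) ∧ ∀ n ∈ {n : ℕ | ∃ x : ↥(Subgroup.closure {g : G | ∃ k : ℕ, orderOf g = 2 ^ k}), IsConj x x⁻¹ ∧ (Subgroup.centralizer ({x} : Set ↥(Subgroup.closure {g : G | ∃ k : ℕ, orderOf g = 2 ^ k}))).index = n}, Odd n ∨ ∃ j : ℕ, n = 2 ^ j)) := by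
  obtain ⟨π₁, π₂, h₁, h₂, hdisj, hsub, hcover, hno⟩ := h
  obtain ⟨⟨u, hu, hu2⟩, ρ, σ, i, hd, hcls, h2, hi, hiσ, hi1⟩ := setup h₁ h₂ hdisj hsub hcover hno
  refine ⟨⟨_, ⟨u, hu, rfl⟩, hu2⟩, ?_⟩
  by_cases hP : ∀ P : Sylow 2 G, (P : Subgroup G).Normal
  · exact Or.inl hP
  right
  push Not at hP
  obtain ⟨P, hP⟩ := hP
  rw [← Cfsg.Agent.S3861.result P] at hP
  push Not at hP
  obtain ⟨y, hy1, hyo, hyr⟩ := hP
  obtain ⟨M, hM, hMi, -, hMπ⟩ := main hd hcls h2 hi hiσ hi1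
  generalize hK : Subgroup.closure {g : G | ∃ k : ℕ, orderOf g = 2 ^ k} = K
  have hmem : ∀ g : G, (∃ k : ℕ, orderOf g = 2 ^ k) → g ∈ K := fun g hg => hK ▸ subset_closure hg
  have hKn : K.Normal := by
    refine ⟨fun n hn g => ?_⟩
    rw [← hK] at hn
    induction hn using closure_induction with
    | mem t ht =>
      obtain ⟨k, hk⟩ := ht
      exact hmem _ ⟨k, hk ▸ (MulAut.conj g).orderOf_eq t⟩
    | one => simp
    | mul a b _ _ ha hb =>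
      have := mul_mem ha hb
      rwa [show g * a * g⁻¹ * (g * b * g⁻¹) = g * (a * b) * g⁻¹ by group] at this
    | inv a _ ha =>
      have := inv_mem ha
      rwa [show (g * a * g⁻¹)⁻¹ = g * a⁻¹ * g⁻¹ by group] at this
  have hKM : K ≤ M := by
    rw [← hK, closure_le]
    rintro g ⟨k, hk⟩
    exact mem_of_coprime_index (by rw [hk]; exact (Nat.coprime_two_left.2 hMi).pow_left k)
  have hKi : Odd K.index := by
    rw [← Nat.not_even_iff_odd, even_iff_two_dvd]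
    refine not_dvd_index_of_sylow_le (P := P) fun g hg => hmem g ?_
    obtain ⟨k, hk⟩ := (IsPGroup.iff_orderOf.1 P.isPGroup') ⟨g, hg⟩
    exact ⟨k, by rw [← hk, Subgroup.orderOf_mk]⟩
  have hKπ : IsPiNum ({2} ∪ σ) (Nat.card K) := hMπ.of_dvd (card_dvd_of_le hKM)
  have hall : ∀ x : K, IsConj x x⁻¹ → ¬ 2 ∣ (𝐂[x]).index ∨ ∃ j : ℕ, (𝐂[x]).index = 2 ^ j := by
    intro x hx
    rcases hcls x (by simpa using K.subtype.map_isConj hx) with h | h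
    · right
      refine (isPiNum_singleton_iff Nat.prime_two (index_cen_pos x).ne').1 fun p hp hpd => ?_
      rcases hKπ p hp (hpd.trans (index_dvd_card _)) with e | e
      · exact e
      · exact (Set.disjoint_left.1 hd (h p hp (hpd.trans (index_cen_normal_dvd x))) e).elim
    · exact Or.inl fun e => h2 (h 2 Nat.prime_two (e.trans (index_cen_normal_dvd x)))
  obtain ⟨hyK, hyr'⟩ := (Cfsg.Agent.S3863.result y hyr).2.2 K hKi
  obtain ⟨hiK, hir'⟩ := (Cfsg.Agent.S3863.result i hi).2.2 K hKi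
  have hy2 : 2 ∣ (𝐂[(⟨y, hyK⟩ : K)]).index :=
    even_index hyr' (fun e => hy1 (congrArg Subtype.val e)) (by rwa [Subgroup.orderOf_mk])
  have hi2 : ¬ 2 ∣ (𝐂[(⟨i, hiK⟩ : K)]).index := fun e =>
    h2 (hiσ 2 Nat.prime_two (e.trans (index_cen_normal_dvd (⟨i, hiK⟩ : K))))
  have hi3 : (𝐂[(⟨i, hiK⟩ : K)]).index ≠ 1 := fun e =>
    not_comm hd hcls h2 hi hiσ hi1 hy1 hyo hyr
      (congrArg Subtype.val (mem_center_iff.1 (index_cen_eq_one_iff.1 e) ⟨y, hyK⟩)).symm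
  refine ⟨⟨{2}, {q | q.Prime ∧ q ≠ 2 ∧ ∃ x : K, IsConj x x⁻¹ ∧ q ∣ (𝐂[x]).index}, ⟨2, rfl⟩, ?_, ?_, ?_,
    ?_, ?_⟩, ?_⟩
  · obtain ⟨q, hq, hqd⟩ := Nat.exists_prime_and_dvd hi3
    exact ⟨q, hq, fun e => hi2 (e ▸ hqd), _, hir', hqd⟩
  · exact Set.disjoint_left.2 fun q h1 h3 => h3.2.1 h1
  · rintro q (rfl | ⟨hq, -, x, hx, hqd⟩)
    · exact ⟨Nat.prime_two, _, ⟨_, hyr', rfl⟩, hy2⟩
    · exact ⟨hq, _, ⟨x, hx, rfl⟩, hqd⟩
  · rintro q hq ⟨_, ⟨x, hx, rfl⟩, hqd⟩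
    by_cases e : q = 2
    · exact Or.inl e
    · exact Or.inr ⟨hq, e, x, hx, hqd⟩
  · rintro a rfl b ⟨hb, hb2, -⟩ _ ⟨x, hx, rfl⟩ ⟨h3, h4⟩
    rcases hall x hx with h5 | ⟨j, hj⟩
    · exact h5 h3
    · rw [hj] at h4
      exact hb2 ((Nat.prime_dvd_prime_iff_eq hb Nat.prime_two).1 (hb.dvd_of_dvd_pow h4))
  · rintro _ ⟨x, hx, rfl⟩
    refine (hall x hx).imp_left fun h5 => ?_
    rw [← Nat.not_even_iff_odd, even_iff_two_dvd]; exact h5

end Cfsg.Agent.S4192
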