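import Cfsg.Statements.S4193
import Mathlib
import Cfsg.Agent.FGS.RealCent
import Cfsg.Agent.S3861
import Cfsg.Agent.ODDC.FT
import Cfsg.Agent.CHAR.Orth

set_option autoImplicit false
open Cfsg

namespace Cfsg.Agent.S4193

open Subgroup CL

theorem even_index {G : Type*} [Group G] [Finite G] {x : G} (h : IsConj x x⁻¹) (h2 : x * x ≠ 1) :
    2 ∣ (centralizer ({x} : Set G)).index := by
  classical
  have : Fact (Nat.Prime 2) := ⟨Nat.prime_two⟩
  rw [← CL.Char.card_conj_eq_index]
  have := Fintype.ofFinite {y : G // IsConj x y}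
  let f : Function.End {y : G // IsConj x y} := fun y => ⟨y.1⁻¹, by
    obtain ⟨c, hc⟩ := isConj_iff.mp y.2
    exact h.trans (isConj_iff.mpr ⟨c, by rw [← hc]; group⟩)⟩
  have hf : f ^ 2 ^ 1 = 1 := by
    funext y; exact Subtype.ext (inv_inv y.1)
  have h3 := Equiv.Perm.card_fixedPoints_modEq hf
  have h4 : Fintype.card (Function.fixedPoints f) = 0 := by
    rw [Fintype.card_eq_zero_iff]
    refine ⟨fun y => h2 ?_⟩
    have h5 : y.1.1⁻¹ = y.1.1 := congrArg Subtype.val y.2
    obtain ⟨c, hc⟩ := isConj_iff.mp y.1.2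
    rw [inv_eq_iff_mul_eq_one, ← hc] at h5
    calc x * x = c⁻¹ * (c * x * c⁻¹ * (c * x * c⁻¹)) * c := by group
      _ = 1 := by rw [h5]; group
  rw [h4] at h3
  rw [Nat.card_eq_fintype_card]
  exact (Nat.modEq_zero_iff_dvd).mp h3

/-- Let G be a finite group in which the conjugacy classes of all non-central real elements (elements conjugate to their inverses) have sizes with the same 2-part, and suppose G has a Sylow 2-subgroup S such that every element of S that is conjugate in S to its inverse lies in the centre of S. Then G is solvable and the subgroup generated by the 2-elements of G (the smallest normal subgroup of odd index) has a normal 2-complement. -/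
theorem result {G : Type*} [Group G] [Finite G] (a : ℕ) (h : ∀ x : G, IsConj x x⁻¹ → x ∉ Subgroup.center G → ((Subgroup.centralizer ({x} : Set G)).index).factorization 2 = a) (S : Sylow 2 G) (hS : ∀ s : ↥(S : Subgroup G), IsConj s s⁻¹ → s ∈ Subgroup.center ↥(S : Subgroup G)) : Group.IsSolvable G ∧ Cfsg.HasNormalPComplement 2 ↥(Subgroup.closure {g : G | ∃ k : ℕ, orderOf g = 2 ^ k}) := by
  have : Fact (Nat.Prime 2) := ⟨Nat.prime_two⟩
  have hS' : ∀ x ∈ (S : Subgroup G), ∀ y ∈ (S : Subgroup G), y * x * y⁻¹ = x⁻¹ →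
      ∀ z ∈ (S : Subgroup G), z * x = x * z := fun x hx y hy e z hz =>
    congrArg Subtype.val (mem_center_iff.mp (hS ⟨x, hx⟩ (isConj_iff.mpr ⟨⟨y, hy⟩, Subtype.ext e⟩)) ⟨z, hz⟩)
  by_cases h1 : ∀ x : G, x * x = 1 → x ∈ center G
  · have hN := CL.RealCent.hasNPC S h1 fun x hx y hy e => by
      rw [hS' x hx y hy e y hy, mul_inv_cancel_right] at e
      exact mul_eq_one_iff_eq_inv.mpr e
    refine ⟨?_, hasNPC_subgroup hN _⟩
    obtain ⟨N, hNn, h2, h3⟩ := hasNPC_iff_exists_normal.mp hN
    have := CL.PF.Feit_Thompson (G := N) (Nat.coprime_two_right.mp h2)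
    have := h3.isNilpotent
    exact Group.isSolvable_of_ker_le_range N.subtype (QuotientGroup.mk' N) (by simp)
  · push Not at h1
    obtain ⟨t, ht, htZ⟩ := h1
    have hp : IsPGroup 2 (zpowers t) := by
      refine IsPGroup.iff_card.mpr ?_
      rw [Nat.card_zpowers]
      obtain ⟨k, -, hk⟩ := (Nat.dvd_prime_pow Nat.prime_two).mp
        (orderOf_dvd_of_pow_eq_one (show t ^ 2 ^ 1 = 1 by rw [pow_one, sq, ht]))
      exact ⟨k, hk⟩
    obtain ⟨R, hR⟩ := hp.exists_le_sylow
    obtain ⟨c, rfl⟩ := MulAction.exists_smul_eq G S R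
    have hu : c⁻¹ * t * c ∈ (S : Subgroup G) := by
      have := hR (mem_zpowers t)
      rw [Sylow.coe_subgroup_smul, Subgroup.mem_pointwise_smul_iff_inv_smul_mem] at this
      simpa using this
    set u := c⁻¹ * t * c with hudef
    have hu2 : u * u = 1 := by
      calc u * u = c⁻¹ * (t * t) * c := by rw [hudef]; group
        _ = 1 := by rw [ht]; group
    have huZ : u ∉ center G := fun h => htZ (by
      have : t = c * u * c⁻¹ := by rw [hudef]; group
      rw [this]; exact (inferInstance : (center G).Normal).conj_mem u h c)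
    have hui : u = u⁻¹ := eq_inv_of_mul_eq_one_left hu2
    have ha : a = 0 := by
      rw [← h u (hui ▸ IsConj.refl u) huZ]
      refine Nat.factorization_eq_zero_of_not_dvd fun hd => S.not_dvd_index (hd.trans (index_dvd_of_le ?_))
      intro z hz
      exact mem_centralizer_singleton_iff.mpr (hS' u hu 1 (one_mem _) (by simpa using hui) z hz)
    have hn : (S : Subgroup G).Normal := (Cfsg.Agent.S3861.result S).mp fun x hx1 hxo hc => by
      have hx2 : x * x ≠ 1 := fun e => hx1 (orderOf_eq_one_iff.mp (Nat.eq_one_of_dvd_coprimes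
        (Nat.coprime_two_right.mpr hxo) dvd_rfl (orderOf_dvd_of_pow_eq_one (by rw [sq, e]))))
      have hxZ : x ∉ center G := fun hz => hx2 (by
        obtain ⟨d, hd⟩ := isConj_iff.mp hc
        rw [mem_center_iff.mp hz d, mul_inv_cancel_right] at hd
        exact mul_eq_one_iff_eq_inv.mpr hd)
      have h3 := h x hc hxZ
      rw [ha] at h3
      exact ((Nat.Prime.dvd_iff_one_le_factorization Nat.prime_two index_ne_zero_of_finite).mp
        (even_index hc hx2)).not_gt (by omega)
    refine ⟨?_, hasNPC_of_isPGroup (S.isPGroup'.to_le ((closure_le _).mpr ?_))⟩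
    · have := CL.PF.Feit_Thompson (G := G ⧸ (S : Subgroup G))
        (Nat.not_even_iff_odd.mp (fun he => S.not_dvd_index (even_iff_two_dvd.mp he)))
      have := S.isPGroup'.isNilpotent
      exact Group.isSolvable_of_ker_le_range (S : Subgroup G).subtype (QuotientGroup.mk' (S : Subgroup G)) (by simp)
    · rintro g ⟨k, hk⟩
      have hp : IsPGroup 2 (zpowers g) := IsPGroup.iff_card.mpr ⟨k, by rw [Nat.card_zpowers, hk]⟩
      obtain ⟨R, hR⟩ := hp.exists_le_sylow
      have := S.unique_of_normal hn
      rw [Subsingleton.elim S R]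
      exact hR (mem_zpowers g)

end Cfsg.Agent.S4193
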