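import Cfsg.Statements.S4195

set_option autoImplicit false
open Cfsg

namespace Cfsg.Agent.S4195

/-- Let x be a non-identity element of a finite group G whose centralizer contains a Sylow 2-subgroup of G. If x is conjugate to its inverse, then x has order 2. -/
theorem result {G : Type*} [Group G] [Finite G] (x : G) (hx : x ≠ 1) (P : Sylow 2 G) (hP : (P : Subgroup G) ≤ Subgroup.centralizer ({x} : Set G)) (hreal : IsConj x x⁻¹) : orderOf x = 2 := by
  classical
  by_contra hne
  have hx2 : x⁻¹ ≠ x := by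
    intro h
    apply hne
    apply orderOf_eq_prime _ hx
    rw [pow_two]
    nth_rewrite 1 [← h]
    simp
  obtain ⟨g, hg⟩ := isConj_iff.mp hreal
  let N : Subgroup G :=
    { carrier := {h | h * x * h⁻¹ = x ∨ h * x * h⁻¹ = x⁻¹}
      one_mem' := by simp
      mul_mem' := by
        intro a b ha hb
        have ha' : a * x⁻¹ * a⁻¹ = (a * x * a⁻¹)⁻¹ := by group
        have e : a * b * x * (a * b)⁻¹ = a * (b * x * b⁻¹) * a⁻¹ := by group
        simp only [Set.mem_setOf_eq] at ha hb ⊢
        rw [e]
        rcases hb with hb | hb <;> rw [hb]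
        · exact ha
        · rw [ha']
          rcases ha with ha | ha <;> rw [ha] <;> simp
      inv_mem' := by
        intro a ha
        simp only [Set.mem_setOf_eq] at ha ⊢
        rcases ha with ha | ha
        · left
          calc a⁻¹ * x * a⁻¹⁻¹ = a⁻¹ * (a * x * a⁻¹) * a⁻¹⁻¹ := by rw [ha]
            _ = x := by group
        · right
          have : x = (a * x * a⁻¹)⁻¹ := by rw [ha]; simp
          calc a⁻¹ * x * a⁻¹⁻¹ = a⁻¹ * (a * x * a⁻¹)⁻¹ * a⁻¹⁻¹ := by rw [← this]
            _ = x⁻¹ := by group }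
  set C := Subgroup.centralizer ({x} : Set G) with hC
  have hmemC : ∀ h : G, h ∈ C ↔ h * x * h⁻¹ = x := by
    intro h
    rw [hC, Subgroup.mem_centralizer_singleton_iff]
    constructor
    · intro e; rw [e]; group
    · intro e
      calc h * x = (h * x * h⁻¹) * h := by group
        _ = x * h := by rw [e]
  have hCN : C ≤ N := fun h hh => Or.inl ((hmemC h).mp hh)
  have hidx : (C.subgroupOf N).index = 2 := by
    rw [Subgroup.index_eq_two_iff]
    refine ⟨⟨g, Or.inr hg⟩, ?_⟩
    rintro ⟨b, hb⟩
    simp only [Subgroup.mem_subgroupOf, Subgroup.coe_mul, hmemC]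
    have e : b * g * x * (b * g)⁻¹ = (b * x * b⁻¹)⁻¹ := by
      calc b * g * x * (b * g)⁻¹ = b * (g * x * g⁻¹) * b⁻¹ := by group
        _ = (b * x * b⁻¹)⁻¹ := by rw [hg]; group
    rw [e]
    rcases hb with hb | hb
    · rw [hb]; right; exact ⟨rfl, hx2⟩
    · rw [hb]; left; exact ⟨by simp, hx2⟩
  have h1 : 2 ∣ C.index := by
    rw [← Subgroup.relIndex_mul_index hCN]
    exact Dvd.dvd.mul_right (by unfold Subgroup.relIndex; rw [hidx]) _
  have h2 : C.index ∣ (P : Subgroup G).index := Subgroup.index_dvd_of_le hP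
  exact P.not_dvd_index (h1.trans h2)

end Cfsg.Agent.S4195
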