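import Mathlib
import Cfsg.Statements.S4355
import Cfsg.Agent.FGS.StrongAb
import Cfsg.Agent.S4195

set_option autoImplicit false
open Cfsg

namespace Cfsg.Agent.S4355

open CL.StrongAb CL.MSS

universe u

theorem aux (n : ℕ) : ∀ (G : Type u) [Group G] [Finite G], Nat.card G = n → Cen 2 G →
    ∀ P : Sylow 2 G, ∀ x ∈ (P : Subgroup G), ∀ y ∈ (P : Subgroup G), x * y = y * x := by
  induction n using Nat.strong_induction_on with
  | _ n ih =>
  intro G _ _ hn hc P
  have hsq : ∀ Q : Sylow 2 G, ∀ s ∈ (Q : Subgroup G), ∀ t ∈ (Q : Subgroup G), s * s = 1 → t * t = 1 →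
      (s * t) * (s * t) = 1 := by
    intro Q s hs t ht hs2 ht2
    by_cases h1 : s * t = 1
    · rw [h1, one_mul]
    obtain ⟨R, hR⟩ := hc (s * t) (isPGroup_iff_forall_mem.mp Q.isPGroup' _ (mul_mem hs ht))
    have hs' : s⁻¹ = s := inv_eq_of_mul_eq_one_right hs2
    have ht' : t⁻¹ = t := inv_eq_of_mul_eq_one_right ht2
    have := Cfsg.Agent.S4195.result (s * t) h1 R
      (fun y hy => Subgroup.mem_centralizer_singleton_iff.mpr (hR y hy))
      (isConj_iff.mpr ⟨s, by rw [mul_inv_rev, hs', ht', ← mul_assoc, hs2, one_mul]⟩)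
    rw [← pow_two, ← this, pow_orderOf_eq_one]
  let V : Sylow 2 G → Subgroup G := fun Q =>
    { carrier := {y | y ∈ (Q : Subgroup G) ∧ y * y = 1}
      one_mem' := ⟨one_mem _, one_mul _⟩
      mul_mem' := fun {a b} ha hb => ⟨mul_mem ha.1 hb.1, hsq Q a ha.1 b hb.1 ha.2 hb.2⟩
      inv_mem' := fun {a} ha => ⟨inv_mem ha.1, by rw [← mul_inv_rev, ha.2, inv_one]⟩ }
  have hV : VSys 2 {y : G | y * y = 1} V := by
    refine ⟨fun g x hx => ?_, fun Q x => Iff.rfl, fun Q x hx y hy => ?_⟩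
    · show g * x * g⁻¹ * (g * x * g⁻¹) = 1
      calc g * x * g⁻¹ * (g * x * g⁻¹) = g * (x * x) * g⁻¹ := by group
        _ = 1 := by rw [show x * x = 1 from hx]; group
    · have h1 := hsq Q x hx.1 y hy.1 hx.2 hy.2
      have hs' : x⁻¹ = x := inv_eq_of_mul_eq_one_right hx.2
      have ht' : y⁻¹ = y := inv_eq_of_mul_eq_one_right hy.2
      rw [← inv_eq_of_mul_eq_one_right h1, mul_inv_rev, hs', ht']
  by_cases hP : (P : Subgroup G) = ⊥
  · intro x hx y hy
    rw [hP, Subgroup.mem_bot] at hx hy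
    rw [hx, hy]
  have hV1 : V P ≠ ⊥ := by
    have : 2 ∣ Nat.card P := dvd_card_of_isPGroup_le P.isPGroup' hP le_rfl
    obtain ⟨t, ht⟩ := exists_prime_orderOf_dvd_card' 2 this
    intro e
    have h1 : (t : G) ∈ V P := ⟨t.2, by
      have := pow_orderOf_eq_one t
      rw [ht, pow_two] at this
      exact congrArg Subtype.val this⟩
    rw [e, Subgroup.mem_bot] at h1
    have : t = 1 := Subtype.ext h1
    rw [this, orderOf_one] at ht
    omega
  set M := Subgroup.normalizer (V P : Set G) with hM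
  have hPM : (P : Subgroup G) ≤ M := hV.le_normalizer P
  have hnorm : ((V P).subgroupOf M).Normal := Subgroup.normal_in_normalizer
  have hlt : Nat.card (M ⧸ (V P).subgroupOf M) < n := by
    have h1 := Subgroup.card_eq_card_quotient_mul_card_subgroup ((V P).subgroupOf M)
    have h2 : Nat.card ((V P).subgroupOf M) = Nat.card (V P) :=
      Nat.card_congr (Subgroup.subgroupOfEquivOfLe Subgroup.le_normalizer).toEquiv
    have h3 : 1 < Nat.card (V P) := (Subgroup.one_lt_card_iff_ne_bot _).mpr hV1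
    have h4 : Nat.card M ≤ Nat.card G := Nat.card_le_card_of_injective _ M.subtype_injective
    have h5 : 0 < Nat.card (M ⧸ (V P).subgroupOf M) := Nat.card_pos
    rw [h2] at h1
    nlinarith
  have hsurj := QuotientGroup.mk'_surjective ((V P).subgroupOf M)
  have hq := ih _ hlt (M ⧸ (V P).subgroupOf M) rfl
    ((hV.cen_normalizer hc P).of_surjective _ hsurj) ((P.subtype hPM).mapSurjective hsurj)
  refine hV.comm_of_cen hc P fun x hx y hy => ?_
  have e := hq _ ⟨⟨x, hPM hx⟩, hx, rfl⟩ _ ⟨⟨y, hPM hy⟩, hy, rfl⟩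
  have : (⟨x, hPM hx⟩ * ⟨y, hPM hy⟩ * (⟨x, hPM hx⟩)⁻¹ * (⟨y, hPM hy⟩)⁻¹ : M) ∈ (V P).subgroupOf M := by
    refine (QuotientGroup.eq_one_iff _).mp ?_
    simp only [QuotientGroup.mk_mul, QuotientGroup.mk_inv]
    simp only [QuotientGroup.mk'_apply] at e
    rw [e]; group
  exact this

/-- If every element of 2-power order of a finite group has a conjugacy class of odd size, then the Sylow 2-subgroups of the group are abelian. -/
theorem result {G : Type*} [Group G] [Finite G]
    (h : ∀ x : G, (∃ k : ℕ, orderOf x = 2 ^ k) → ¬ 2 ∣ (Subgroup.centralizer ({x} : Set G)).index) (P : Sylow 2 G) :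
    IsMulCommutative P := by
  exact ⟨⟨fun a b => Subtype.ext (aux _ G rfl (cen_iff_index.mpr h) P a a.2 b b.2)⟩⟩

end Cfsg.Agent.S4355
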