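import Mathlib
import Cfsg.Statements.S4194
import Cfsg.Agent.FGS.StrongAb
import Cfsg.Agent.S4355

set_option autoImplicit false
open Cfsg

namespace Cfsg.Agent.S4194

open CL.StrongAb CL.MSS

/-- A finite group G has commutative Sylow 2-subgroups if and only if every 2-element of G (element of order a power of 2) is 2-central, that is, its centralizer contains a Sylow 2-subgroup of G. -/
theorem result {G : Type*} [Group G] [Finite G] (P : Sylow 2 G) :
    IsMulCommutative (P : Subgroup G) ↔ ∀ x : G, (∃ k : ℕ, orderOf x = 2 ^ k) → (∃ Q : Sylow 2 G, (Q : Subgroup G) ≤ Subgroup.centralizer ({x} : Set G)) := by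
  constructor
  · rintro h x ⟨k, hk⟩
    have hx : x ^ 2 ^ k = 1 := by rw [← hk, pow_orderOf_eq_one]
    obtain ⟨g, -, hg⟩ := (sylIn_top P).exists_le_conj (isPGroup_zpowers hx) le_top
    refine ⟨g • P, fun y hy => ?_⟩
    rw [sylow_coe_smul] at hy
    rw [Subgroup.mem_centralizer_singleton_iff]
    exact congrArg Subtype.val ((isMulCommutative_cj g h).is_comm.comm ⟨y, hy⟩
      ⟨x, hg (Subgroup.mem_zpowers x)⟩)
  · intro h
    exact Cfsg.Agent.S4355.result (cen_iff_index.mp (cen_iff_le.mpr h)) P

end Cfsg.Agent.S4194
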