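import Cfsg.Statements.S4231
import Cfsg.Agent.FGS.PermSylAb
import Cfsg.Agent.S2930

set_option autoImplicit false
open Cfsg

namespace Cfsg.Agent.S4231


theorem conj_inj {n : ℕ} (hn : 5 ≤ n) :
    Function.Injective (MulAut.conj : alternatingGroup (Fin n) →* MulAut (alternatingGroup (Fin n))) := by
  rw [injective_iff_map_eq_one]
  intro a ha
  have h1 : a ∈ Subgroup.center (alternatingGroup (Fin n)) := by
    rw [Subgroup.mem_center_iff]
    intro g
    have : a * g * a⁻¹ = g := by simpa using DFunLike.congr_fun ha g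
    calc g * a = (a * g * a⁻¹) * a := by rw [this]
      _ = a * g := by group
  rw [alternatingGroup.center_eq_bot (by simp; omega)] at h1
  exact h1

theorem exists_order {n p q : ℕ} (hp : p.Prime) (hq : q.Prime) (hpq : p < q) (h : q ^ 2 ≤ n) :
    ∃ g : alternatingGroup (Fin n), orderOf g = p * q := by
  have h2 := hp.two_le
  have hqo : Odd q := hq.odd_of_ne_two (by omega)
  have hco : Nat.Coprime p q := (Nat.coprime_primes hp hq).2 hpq.ne
  rcases hp.eq_two_or_odd' with rfl | hpo
  · obtain ⟨g, hg⟩ := (Equiv.Perm.exists_with_cycleType_iff (Fin n) (m := {q, 2, 2})).2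
      ⟨by simp; nlinarith, by simp; omega⟩
    refine ⟨⟨g, ?_⟩, ?_⟩
    · rw [Equiv.Perm.mem_alternatingGroup, Equiv.Perm.sign_of_cycleType, hg]
      apply Even.neg_one_pow
      simp only [Multiset.insert_eq_cons, Multiset.sum_cons, Multiset.sum_singleton, Multiset.card_cons,
        Multiset.card_singleton]
      obtain ⟨k, rfl⟩ := hqo
      exact ⟨k + 4, by ring⟩
    · rw [← Subgroup.orderOf_coe, ← Equiv.Perm.lcm_cycleType, hg]
      simp only [Multiset.insert_eq_cons, Multiset.lcm_cons, Multiset.lcm_singleton, normalize_eq, lcm_same]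
      rw [lcm_eq_nat_lcm, hco.symm.lcm_eq_mul, mul_comm]
  · obtain ⟨g, hg⟩ := (Equiv.Perm.exists_with_cycleType_iff (Fin n) (m := {q, p})).2
      ⟨by simp; nlinarith, by simp; omega⟩
    refine ⟨⟨g, ?_⟩, ?_⟩
    · rw [Equiv.Perm.mem_alternatingGroup, Equiv.Perm.sign_of_cycleType, hg]
      apply Even.neg_one_pow
      simp only [Multiset.insert_eq_cons, Multiset.sum_cons, Multiset.sum_singleton, Multiset.card_cons,
        Multiset.card_singleton]
      obtain ⟨k, rfl⟩ := hqo
      obtain ⟨l, rfl⟩ := hpo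
      exact ⟨k + l + 2, by ring⟩
    · rw [← Subgroup.orderOf_coe, ← Equiv.Perm.lcm_cycleType, hg]
      simp only [Multiset.insert_eq_cons, Multiset.lcm_cons, Multiset.lcm_singleton, normalize_eq]
      rw [lcm_eq_nat_lcm, hco.symm.lcm_eq_mul, mul_comm]

theorem main (n : ℕ) (hn : 5 ≤ n) (G : Subgroup (MulAut (alternatingGroup (Fin n))))
    (hG : (MulAut.conj : alternatingGroup (Fin n) →* MulAut (alternatingGroup (Fin n))).range ≤ G)
    (p q : ℕ) [hp : Fact p.Prime] [hq : Fact q.Prime] (hpq : p < q) (h : ∀ g : G, orderOf g ≠ p * q)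
    (Q : Sylow q G) : IsMulCommutative (Q : Subgroup G) := by
  have hlt : n < q ^ 2 := by
    by_contra hc
    obtain ⟨g, hg⟩ := exists_order hp.out hq.out hpq (not_lt.1 hc)
    refine h ⟨MulAut.conj g, hG ⟨g, rfl⟩⟩ ?_
    rw [← Subgroup.orderOf_coe, ← hg]
    exact orderOf_injective _ (conj_inj hn) g
  have hq2 : q ≠ 2 := by have := hp.out.two_le; omega
  have hinn : ∀ a : G, a ∈ (Q : Subgroup G) → ∃ x, MulAut.conj x = (a : MulAut (alternatingGroup (Fin n))) := by
    intro a ha
    obtain ⟨σ, hσ⟩ := Cfsg.Agent.S2930.exists_sq hn a.1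
    have h4 : a.1 ^ 4 ∈ (MulAut.conj : alternatingGroup (Fin n) →* MulAut (alternatingGroup (Fin n))).range := by
      refine ⟨⟨σ * σ, by simp [Equiv.Perm.mem_alternatingGroup]⟩, ?_⟩
      ext1 g
      apply Subtype.ext
      have h1 : a.1 ^ 4 = (a.1 * a.1) * (a.1 * a.1) := by simp [pow_succ, mul_assoc]
      rw [h1, MulAut.mul_apply, hσ, hσ]
      simp [mul_assoc]
    obtain ⟨k, hk⟩ := (IsPGroup.iff_orderOf.1 Q.isPGroup') ⟨a, ha⟩
    rw [← Subgroup.orderOf_coe, ← Subgroup.orderOf_coe] at hk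
    have hco : (orderOf a.1).Coprime 4 := by
      rw [show orderOf a.1 = q ^ k from hk]
      exact Nat.Coprime.pow k 2 ((Nat.coprime_primes hq.out Nat.prime_two).2 hq2)
    obtain ⟨m, hm⟩ := exists_pow_eq_self_of_coprime hco.symm
    rw [← hm]
    exact Subgroup.pow_mem _ h4 m
  let R : Subgroup (alternatingGroup (Fin n)) :=
    ((Q : Subgroup G).map G.subtype).comap MulAut.conj
  have hR : IsPGroup q R := (Q.isPGroup'.map _).comap_of_injective _ (conj_inj hn)
  have hc := CL.FGS.PermAb.isMulCommutative_of_card_lt_sq (by simpa using hlt) R hR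
  refine ⟨⟨fun a b => ?_⟩⟩
  obtain ⟨x, hx⟩ := hinn a.1 a.2
  obtain ⟨y, hy⟩ := hinn b.1 b.2
  have hxR : x ∈ R := ⟨a.1, a.2, hx.symm⟩
  have hyR : y ∈ R := ⟨b.1, b.2, hy.symm⟩
  have := setLike_mul_comm (s := R) hxR hyR
  apply Subtype.ext
  apply Subtype.ext
  change a.1.1 * b.1.1 = b.1.1 * a.1.1
  rw [← hx, ← hy, ← map_mul, ← map_mul, this]

/-- Let n ≥ 5 and let G be a group of automorphisms of the alternating group of degree n containing all inner automorphisms. If p ≠ q are primes and G has no element of order pq, then every Sylow p-subgroup of G is abelian or every Sylow q-subgroup of G is abelian. -/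
theorem result (n : ℕ) (hn : 5 ≤ n) (G : Subgroup (MulAut (alternatingGroup (Fin n))))
    (hG : (MulAut.conj : alternatingGroup (Fin n) →* MulAut (alternatingGroup (Fin n))).range ≤ G)
    (p q : ℕ) [Fact p.Prime] [Fact q.Prime] (hpq : p ≠ q) (h : ∀ g : G, orderOf g ≠ p * q) :
    (∀ P : Sylow p G, IsMulCommutative (P : Subgroup G)) ∨ (∀ Q : Sylow q G, IsMulCommutative (Q : Subgroup G)) := by
  rcases lt_or_gt_of_ne hpq with hlt | hlt
  · exact Or.inr (main n hn G hG p q hlt h)
  · exact Or.inl (main n hn G hG q p hlt (fun g => by rw [mul_comm]; exact h g))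

end Cfsg.Agent.S4231
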