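import Mathlib
import Cfsg.Statements.S4233
import Cfsg.Agent.SOLV.PiSep
import Cfsg.Agent.CLAS.OutGrp
import Cfsg.Agent.CHEV.LiftOne
import Cfsg.Agent.INV.GW.Cor
import Cfsg.Agent.FGS.Kazarin
import Cfsg.Agent.FGS.HHLenB
import Cfsg.Agent.FGS.MaxNorm5

set_option autoImplicit false
open Cfsg

namespace Cfsg.Agent.S4233

set_option linter.style.haveILetI false

open Subgroup CL CL.MaxN CL.HHL
open scoped MatrixGroups commutatorElement

section Abs

variable {G T : Type*} [Group G] [Finite G] [Group T] [Finite T] [IsSimpleGroup T] (h : Hyp G)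
  (hT : ¬ Group.IsSolvable T) {π : G →* T} (hπ : Function.Surjective π)
include h hT hπ

theorem mem_norm {H : Subgroup G} (hH : PQ H) (h0 : H.map π ≠ ⊥) {g : G}
    (hg : π g ∈ normalizer (H.map π : Set T)) : g ∈ normalizer (H : Set G) := by
  rw [h.norm_eq hπ hH fun k => ?_]
  · exact hg
  rcases IsSubnormal.eq_bot_or_top_of_isSimpleGroup inferInstance k with e | e
  · exact h0 e
  · have := (hH.of_card_dvd (card_map_dvd H π)).solv
    rw [e] at this
    exact hT (isSolvable_of_mulEquiv topEquiv)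

theorem conj_mem {x g : G} (hx : PQ (zpowers x)) (h0 : π x ≠ 1)
    (hg : π g * π x * (π g)⁻¹ ∈ zpowers (π x)) : ∃ j : ℕ, g * x * g⁻¹ = x ^ j := by
  have := (mem_normalizer_iff.1 (mem_norm h hT hπ hx (by simpa using h0)
    (by rw [MonoidHom.map_zpowers]; exact mem_norm_zpowers hg)) x).1 (mem_zpowers x)
  obtain ⟨n, hn⟩ := (Submonoid.mem_powers_iff _ _).1 (mem_powers_iff_mem_zpowers.2 this)
  exact ⟨n, hn.symm⟩

theorem cent {p q a b : ℕ} (hp : p.Prime) (hq : q.Prime) (hpq : p ≠ q) {x r : G}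
    (hx : x ^ p ^ a = 1) (h0 : π x ≠ 1) (hr : π r = 1) (hb : r ^ q ^ b = 1) : r * x = x * r := by
  obtain ⟨k, hk⟩ := conj_mem h hT hπ (g := r) (pq_zpowers (b := 0) hp hp (by simpa using hx)) h0
    (by simp [hr])
  have h1 : ∀ m : ℕ, r ^ m * x * (r ^ m)⁻¹ = x ^ k ^ m := fun m => by
    induction m with
    | zero => simp
    | succ m ih =>
      rw [pow_succ', pow_succ', pow_mul, ← hk, conj_pow, ← ih]
      group
  have h2 : (p : ℤ) ∣ k - 1 := by
    have e : π x ^ k = π x ^ 1 := by rw [← map_pow, ← hk]; simp [hr]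
    obtain ⟨j, -, hj⟩ := (Nat.dvd_prime_pow hp).1
      (orderOf_dvd_of_pow_eq_one (show π x ^ p ^ a = 1 by rw [← map_pow, hx, map_one]))
    have := (Nat.modEq_iff_dvd.1 (pow_eq_pow_iff_modEq.1 e).symm)
    rw [hj] at this
    refine Dvd.dvd.trans ?_ this
    exact_mod_cast dvd_pow_self p fun e => h0 (orderOf_eq_one_iff.1 (by rw [hj, e, pow_zero]))
  have h3 := dvd_sub_pow_of_dvd_sub h2 a
  have h4 : x ^ k ^ p ^ a = x ^ 1 := pow_eq_pow_iff_modEq.2 (Nat.ModEq.symm (Nat.modEq_iff_dvd.2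
    (Dvd.dvd.trans (Int.natCast_dvd_natCast.2
      ((orderOf_dvd_of_pow_eq_one hx).trans (pow_dvd_pow p (Nat.le_succ a)))) (by simpa using h3))))
  have h5 : r ^ p ^ a ∈ centralizer ({x} : Set G) :=
    mem_centralizer_singleton_iff.2 (mul_inv_eq_iff_eq_mul.1 ((h1 _).trans (h4.trans (pow_one x))))
  exact mem_centralizer_singleton_iff.1 (CL.Fus.mem_of_pow_mem_of_coprime
    (Nat.Coprime.pow _ _ ((Nat.coprime_primes hp hq).2 hpq)) h5 (hb ▸ one_mem _))

theorem exists_K (hR : Group.IsSolvable π.ker) {s t : T} (hs : s ^ 2 = 1) (hs1 : s ≠ 1)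
    (ht : t ^ 3 = 1) (ht1 : t ≠ 1) : ∃ K : Subgroup G, K.Normal ∧ ⁅K, K⁆ = K ∧ K.map π = ⊤ ∧
      ∀ k ∈ K, ∀ r, π r = 1 → r * k = k * r := by
  obtain ⟨K, _, hK, n, hn⟩ := CL.GW.exists_perfect_residual G
  have hm : K.map π = ⊤ := by
    rw [hn, map_derivedSeries_eq hπ]
    exact (derivedSeries_normal T n).eq_bot_or_eq_top.resolve_left fun e => hT ⟨n, e⟩
  refine ⟨K, inferInstance, hK, hm, fun k hk r hr => ?_⟩
  refine mem_centralizer_singleton_iff.1 (CL.CS.mem_of_forall_primePow_mem fun y hy q b hq hb => ?_)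
  have hy1 : π y = 1 := by
    obtain ⟨m, rfl⟩ := hy
    simp [hr]
  obtain ⟨p, hp, hpq, w, hw, hw1⟩ : ∃ p : ℕ, p.Prime ∧ p ≠ q ∧ ∃ w : T, w ^ p = 1 ∧ w ≠ 1 := by
    by_cases e : q = 2
    exacts [⟨3, Nat.prime_three, by omega, t, ht, ht1⟩, ⟨2, Nat.prime_two, Ne.symm e, s, hs, hs1⟩]
  have := Fact.mk hp
  let D := normalClosure {x : G | PEl p x ∧ π x ≠ 1}
  have hD : D ≤ centralizer {y} := by
    refine (closure_le _).2 fun x hx => ?_
    obtain ⟨x', ⟨⟨a, ha⟩, h1⟩, hc⟩ := Group.mem_conjugatesOfSet_iff.1 hx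
    obtain ⟨c, rfl⟩ := isConj_iff.1 hc
    exact mem_centralizer_singleton_iff.2 (cent h hT hπ hp hq hpq (a := a)
      (by rw [conj_pow, ha]; simp) (by simpa using h1) hy1 hb).symm
  have hDm : D.map π = ⊤ := by
    obtain ⟨x, hx, rfl⟩ := PEl.exists_lift hπ (show PEl p w from ⟨1, by simpa using hw⟩)
    exact (Normal.map inferInstance π hπ).eq_bot_or_eq_top.resolve_left fun e =>
      hw1 (mem_bot.1 (e ▸ mem_map_of_mem π (subset_normalClosure ⟨hx, hw1⟩)))
  have hs : Group.IsSolvable (G ⧸ D) := Group.isSolvable_of_surjective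
    (f := (QuotientGroup.mk' D).comp π.ker.subtype) fun g => by
      obtain ⟨g, rfl⟩ := QuotientGroup.mk'_surjective D g
      obtain ⟨d, hd, e⟩ := hDm.ge (mem_top (π g))
      exact ⟨⟨g * d⁻¹, by simp [MonoidHom.mem_ker, e]⟩, QuotientGroup.eq.2 (by simpa using hd)⟩
  have hKD : K ≤ D := by
    rw [← map_mk'_eq_bot_iff]
    by_contra e
    exact CL.GW.not_isSolvable_of_perfect (by rw [← map_commutator, hK]) e inferInstance
  exact mem_centralizer_singleton_iff.2 (mem_centralizer_singleton_iff.1 (hD (hKD hk))).symm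

theorem odd_triv {p a : ℕ} (hp : p.Prime) (hp2 : p ≠ 2) {x s y : G} (hx : x ^ p = 1) (h0 : π x ≠ 1)
    (hs : s * x * s⁻¹ = x⁻¹) (hxy : y * x = x * y) (hsy : y * s = s * y) (hy : π y = 1)
    (ha : y ^ p ^ a = 1) : y = 1 := by
  have c : Commute x y := hxy.symm
  have := Fact.mk hp
  obtain ⟨j, hj⟩ := conj_mem h hT hπ (x := x * y) (g := s)
    (pq_zpowers (a := a + 1) (b := 0) hp hp (by
      rw [pow_zero, mul_one, c.mul_pow, pow_succ, pow_mul y, ha, mul_comm, pow_mul, hx]; simp))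
    (by simpa [hy] using h0) (by
      rw [map_mul, hy, mul_one, ← map_inv, ← map_mul, ← map_mul, hs, map_inv]
      exact inv_mem (mem_zpowers _))
  have e : x⁻¹ * y = x ^ j * y ^ j := by
    rw [← c.mul_pow, ← hj, ← hs, mul_assoc, (Commute.inv_right hsy).eq.symm]
    group
  have h1 : p ∣ j + 1 := by
    rw [← orderOf_eq_prime (p := p) (x := π x) (by rw [← map_pow, hx, map_one]) h0, orderOf_dvd_iff_pow_eq_one,
      pow_succ]
    have := congrArg π e
    simp only [map_mul, map_inv, map_pow, hy, one_pow, mul_one] at this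
    rw [← this, inv_mul_cancel]
  have h2 : y = y ^ j := by
    obtain ⟨m, hm⟩ := h1
    rw [inv_mul_eq_iff_eq_mul, ← mul_assoc, ← pow_succ', hm, pow_mul, hx] at e
    simpa using e
  have h3 : y ^ 2 = y ^ (j + 1) := by rw [pow_succ y j, ← h2, pow_two]
  have h4 := Nat.modEq_iff_dvd.1 (pow_eq_pow_iff_modEq.1 h3)
  obtain ⟨k, -, hk⟩ := (Nat.dvd_prime_pow hp).1 (orderOf_dvd_of_pow_eq_one ha)
  by_contra hy1
  have h5 : (p : ℤ) ∣ orderOf y := by
    exact_mod_cast hk ▸ dvd_pow_self p fun e => hy1 (orderOf_eq_one_iff.1 (by rw [hk, e, pow_zero]))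
  have h6 : (p : ℤ) ∣ (2 : ℕ) := by
    simpa using dvd_sub (Int.natCast_dvd_natCast.2 h1) (h5.trans h4)
  exact hp2 ((Nat.prime_dvd_prime_iff_eq hp Nat.prime_two).1 (Int.natCast_dvd_natCast.1 h6))

theorem two_mem {K : Subgroup G} [K.Normal] (hK : ∀ k ∈ K, π k = 1 → k * k = 1) {s z e y : G}
    (hs : s ∈ K) (hz : z ∈ K) (f : Four (π s) (π z) (π e)) (hc : ∀ k ∈ K, y * k = k * y)
    (hy : π y = 1) {a : ℕ} (ha : y ^ 2 ^ a = 1) : y ∈ K := by
  let W := (closure ({π s, π z} : Set T)).comap π ⊓ K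
  have hW : IsPGroup 2 W := fun w => ⟨2, Subtype.ext (by
    have : π (w * w : G) = 1 := by
      rcases f.mem_iff.1 w.2.1 with e | e | e | e <;> rw [map_mul, e]
      exacts [mul_one _, f.ss, f.zz, by rw [mul_assoc, ← mul_assoc (π z), f.zs, mul_assoc, f.zz,
        mul_one, f.ss]]
    simpa [pow_succ, mul_assoc] using hK _ (mul_mem w.2.2 w.2.2) this)⟩
  have hH : PQ (closure ({s * y, z} : Set G)) := (pq_sup Nat.prime_two Nat.prime_two hW
    (PEl.isPGroup ⟨a, ha⟩) ((zpowers_le (G := G)).2 (centralizer_le_normalizer _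
      fun w hw => (hc w hw.2).symm))).of_card_dvd (card_dvd_of_le ((closure_le _).2 (by
        rintro _ (rfl | rfl)
        · exact mul_mem (mem_sup_left ⟨subset_closure (by simp), hs⟩) (mem_sup_right (mem_zpowers _))
        · exact mem_sup_left ⟨subset_closure (by simp), hz⟩)))
  have hm : (closure ({s * y, z} : Set G)).map π = closure {π s, π z} := by
    simp [MonoidHom.map_closure, Set.image_pair, hy]
  have h1 := (mem_normalizer_iff.1 (mem_norm h hT hπ hH (hm ▸ fun k => f.s1 (mem_bot.1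
    (k ▸ subset_closure (by simp)))) (hm ▸ f.e_mem)) z).1 (subset_closure (by simp))
  let μ := QuotientGroup.mk' K
  have μ1 : ∀ k ∈ K, μ k = 1 := fun k hk => (QuotientGroup.eq_one_iff k).2 hk
  have h2 := mem_map_of_mem (μ.prod π) h1
  rw [MonoidHom.map_closure, Set.image_pair] at h2
  obtain ⟨i, hi⟩ := mem_two (by simp [μ1 z hz, f.zz]) (by simp [μ1 z hz, f.zs, hy]) h2
  simp only [MonoidHom.prod_apply, map_mul, map_inv, μ1 z hz, μ1 s hs, hy, f.ez, Prod.pow_mk,
    Prod.inv_mk, Prod.mk_mul_mk, Prod.mk.injEq, mul_one, one_mul, mul_inv_cancel, mul_inv_cancel_right] at hi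
  rcases Nat.even_or_odd i with ⟨j, rfl⟩ | hj
  · rw [← two_mul, pow_mul (π s), pow_two, f.ss, one_pow, one_mul] at hi
    exact (hi.elim (fun k => f.s1 k.2) fun k => f.sz k.2).elim
  · refine CL.Fus.mem_of_pow_mem_of_coprime (m := i) (n := 2 ^ a) ((Nat.coprime_two_right.2 hj).pow_right a)
      ((QuotientGroup.eq_one_iff _).1 ?_) (ha ▸ one_mem _)
    exact (map_pow μ y i).trans (hi.elim (fun k => k.1.symm) fun k => k.1.symm)

theorem conj_ker {x y r : G} (hx : x ^ 3 = 1) (h0 : π x ≠ 1) (hxy : y * x = x * y)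
    (hxr : r * x = x * r) (hy : π y = 1) (hr : π r = 1) {q b : ℕ} (hq : q.Prime)
    (hb : y ^ q ^ b = 1) : r * y * r⁻¹ ∈ zpowers y := by
  have c : Commute x y := hxy.symm
  obtain ⟨j, hj⟩ := conj_mem h hT hπ (x := x * y) (g := r)
    (pq_zpowers (a := 1) (b := b) Nat.prime_three hq (by
      rw [c.mul_pow, pow_one, pow_mul, hx, mul_comm 3, pow_mul, hb]; simp))
    (by simpa [hy] using h0) (by simp [hr])
  have h1 : x ^ j = x ^ 1 := by
    have : π x ^ j = π x ^ 1 := by simpa [hy, hr] using (congrArg π hj).symm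
    have _ := Fact.mk Nat.prime_three
    rw [pow_eq_pow_iff_modEq, orderOf_eq_prime (p := 3) (by rw [← map_pow, hx, map_one]) h0] at this
    exact pow_eq_pow_iff_modEq.2 (this.of_dvd (orderOf_dvd_of_pow_eq_one hx))
  rw [c.mul_pow, h1, pow_one, ← mul_assoc, hxr, mul_assoc, mul_assoc, mul_right_inj,
    ← mul_assoc] at hj
  exact hj ▸ npow_mem_zpowers y j

end Abs

theorem inv13 : ∀ p ∈ [3, 7, 13], ∃ X ∈ [m2 0 1 12 12 (by decide), m2 0 1 12 7 (by decide),
    (m2 0 1 12 2 (by decide) : SL(2, ZMod 13))], X ^ p = 1 ∧ ¬ pm X 1 ∧ X * S13 * X = S13 := by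
  decide +kernel


/-- Let G be a finite non-solvable group in which every subgroup H that is not subnormal and whose order has at most two prime divisors has a normalizer N_G(H) that is a maximal subgroup of G. Then G is the internal direct product of normal subgroups K and S with K isomorphic to PSL(2, 13) or to SL(2, 13), S abelian, and the orders of K and S coprime. -/
theorem result {G : Type*} [Group G] [Finite G] (hG : ¬ Group.IsSolvable G)
    (h : ∀ H : Subgroup G, ¬ H.IsSubnormal →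
      (∃ p q : ℕ, p.Prime ∧ q.Prime ∧ ∀ r : ℕ, r.Prime → r ∣ Nat.card H → r = p ∨ r = q) →
      IsCoatom (Subgroup.normalizer (H : Set G))) :
    ∃ K S : Subgroup G, K.Normal ∧ S.Normal ∧ K ⊓ S = ⊥ ∧ K ⊔ S = ⊤ ∧
      (Nonempty (K ≃* Matrix.ProjectiveSpecialLinearGroup (Fin 2) (ZMod 13)) ∨
        Nonempty (K ≃* Matrix.SpecialLinearGroup (Fin 2) (ZMod 13))) ∧
      IsMulCommutative S ∧ (Nat.card K).Coprime (Nat.card S) := by
  classical
  set R := solvableRadical G
  have : Nontrivial (G ⧸ R) := nontrivial_quotient_of_ne_top fun e => hG (SR.solvableRadical_eq_top_iff.1 e)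
  obtain ⟨φ, hφ⟩ := (Hyp.hq h).exists_cov (SR.solvableRadical_quotient G)
  have hk : φ.ker = center _ := Subgroup.ext fun x => (hφ.one x).trans (Dickson.mem_center_iff'' x).symm
  obtain ⟨e⟩ := OutGrp.nonempty_equiv_of_ker_eq hφ.surj (QuotientGroup.mk'_surjective (center _))
    (hk.trans (QuotientGroup.ker_mk' _).symm)
  have hpf : Group.IsPerfect SL(2, ZMod 13) := Dk.isPerfect_SL2 (by simp)
  have := SL.psl_isSimpleGroup_of_perfect (ι := Fin 2) (F := ZMod 13) hpf.commutator_eq_top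
  have : IsSimpleGroup (G ⧸ R) := e.isSimpleGroup
  have hT : ¬ Group.IsSolvable (G ⧸ R) := fun k =>
    Dk.not_isSolvable_psl (F := ZMod 13) (by simp) (isSolvable_of_mulEquiv e)
  set π := QuotientGroup.mk' R
  have hπ : Function.Surjective π := QuotientGroup.mk'_surjective R
  have hR : π.ker = R := QuotientGroup.ker_mk' R
  have mR : ∀ {y}, y ∈ R → π y = 1 := fun hy => (QuotientGroup.eq_one_iff _).2 hy
  have r := rig13 hφ
  obtain ⟨K, _, hK, hm, hc⟩ := exists_K h hT hπ (by rw [hR]; exact SR.isSolvable_solvableRadical G)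
    (by rw [pow_two, r.ss]) r.s1 r.b3 r.b1
  have hξ : Schur.IsCentralExt (π.comp K.subtype) := ⟨fun t => by
      obtain ⟨k, hk, rfl⟩ := hm.ge (mem_top t)
      exact ⟨⟨k, hk⟩, rfl⟩, fun x hx => mem_center_iff.2 fun k => Subtype.ext (hc k k.2 x hx).symm⟩
  obtain ⟨η, hη⟩ := Schur.exists_lift_of_trivial_of_perfect
    (Chev.Cl.trivial_SL_two (F := ZMod 13) (by simp) (by simp)) hpf φ hξ
  have hηs := Schur.surjective_of_over_stem hφ.surj (hξ.isStem_of_perfect (isPerfect_iff.2 hK)) η hη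
  have hπη : ∀ x, π (η x) = φ x := fun x => DFunLike.congr_fun hη x
  have hZ : ∀ k ∈ K, π k = 1 → k * k = 1 := fun k hk h1 => by
    obtain ⟨x, hx⟩ := hηs ⟨k, hk⟩
    have hx' : k = η x := by rw [hx]
    rw [hx', hπη, hφ.one] at h1
    rw [hx', ← coe_mul, ← map_mul]
    rcases h1 with rfl | rfl <;> simp
  have two : ∀ y ∈ R, ∀ a, y ^ 2 ^ a = 1 → y ∈ K := fun y hy a ha =>
    two_mem h hT hπ hZ (η S13).2 (η Z13).2 (e := η E13) (by simpa only [hπη] using r.toFour)
      (fun k hk => hc k hk y (mR hy)) (mR hy) ha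
  have hS := sup_map_piCore_compl_eq_of_central (π := {2}) (Z := K ⊓ R) (M := R) inf_le_right
    (fun y hy k hk => (hc k hk.1 y (mR hy)).symm)
    (IsPiNum.of_isPGroup (p := 2) (fun k => ⟨1, Subtype.ext (by
      simpa [pow_two] using hZ k k.2.1 (mR k.2.2))⟩) rfl) (by
      rw [isPiNum_compl_singleton_iff Nat.prime_two, Nat.coprime_comm, Nat.prime_two.coprime_iff_not_dvd]
      obtain ⟨P⟩ : Nonempty (Sylow 2 R) := inferInstance
      refine fun k => P.not_dvd_index (k.trans (index_dvd_of_le fun y hy => ?_))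
      obtain ⟨a, ha⟩ := P.2 ⟨y, hy⟩
      exact ⟨two y y.2 a (congrArg (fun x => (x.1 : G)) ha), y.2⟩)
  set S := (piCore {2}ᶜ R).map R.subtype
  have hSR : S ≤ R := map_subtype_le _
  have hSo := isPiNum_card_map_piCore (π := {2}ᶜ) R.subtype
  have hco : (Nat.card K).Coprime (Nat.card S) := by
    refine Nat.coprime_of_dvd fun p hp h1 h2 => ?_
    have := Fact.mk hp
    have hp2 : p ≠ 2 := hSo p hp h2
    have h3 := h1.trans (card_dvd_of_surjective η hηs)
    rw [SL.card_SL_two, Nat.card_zmod, show 13 * (13 ^ 2 - 1) = 2 ^ 3 * (3 * (7 * 13)) by norm_num] at h3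
    have h4 : p ∈ [3, 7, 13] := by
      simp only [hp.dvd_mul, hp.prime.dvd_pow_iff_dvd three_ne_zero,
        Nat.prime_dvd_prime_iff_eq hp Nat.prime_two, Nat.prime_dvd_prime_iff_eq hp Nat.prime_three,
        Nat.prime_dvd_prime_iff_eq hp (show Nat.Prime 7 by norm_num),
        Nat.prime_dvd_prime_iff_eq hp (show Nat.Prime 13 by norm_num)] at h3
      simpa [hp2] using h3
    obtain ⟨X, -, x1, x2, x3⟩ := inv13 p h4
    obtain ⟨y, hy⟩ := exists_prime_orderOf_dvd_card' p h2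
    have := odd_triv h hT hπ hp hp2 (x := η X) (s := η S13) (y := y) (a := 1)
      (by rw [← coe_pow, ← map_pow, x1]; simp) (by rwa [hπη, Ne, hφ.one])
      (by
        rw [mul_inv_eq_iff_eq_mul, eq_inv_mul_iff_mul_eq, ← mul_assoc, ← coe_mul, ← coe_mul,
          ← map_mul, ← map_mul, x3])
      (hc _ (η X).2 y (mR (hSR y.2))) (hc _ (η S13).2 y (mR (hSR y.2))) (mR (hSR y.2))
      (by rw [pow_one, ← hy, ← Subgroup.orderOf_coe, pow_orderOf_eq_one])
    exact hp.one_lt.ne' (by rw [← hy, show y = 1 from Subtype.ext this, orderOf_one])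
  refine ⟨K, S, inferInstance, inferInstance, (disjoint_of_coprime_natCard hco).eq_bot, ?_, ?_, ?_, hco⟩
  · have := comap_map_eq π K
    rw [hm, comap_top, hR, ← hS, ← sup_assoc, sup_inf_self] at this
    exact this.symm
  · by_cases k : η (-1) = 1
    · exact .inl (OutGrp.nonempty_equiv_of_ker_eq hηs (QuotientGroup.mk'_surjective (center _)) (by
        rw [QuotientGroup.ker_mk']
        refine le_antisymm (fun x hx => hk.le (show φ x = 1 by rw [← hπη, show η x = 1 from hx]; simp))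
          fun x hx => ?_
        rcases (Dickson.mem_center_iff'' x).1 hx with rfl | rfl
        exacts [one_mem _, k]))
    · refine .inr ⟨(MulEquiv.ofBijective η ⟨(injective_iff_map_eq_one η).2 fun x hx => ?_, hηs⟩).symm⟩
      rcases (hφ.one x).1 (by rw [← hπη, hx]; simp) with rfl | rfl
      exacts [rfl, absurd hx k]
  · refine Ded.isMulCommutative_of_odd (fun H => ⟨fun x hx g => ?_⟩)
      (Nat.coprime_two_right.1 ((isPiNum_compl_singleton_iff Nat.prime_two).1 hSo))
    refine CL.CS.mem_of_forall_primePow_mem (H := H.comap (MulAut.conj g).toMonoidHom)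
      fun y hy q b hq hb => ?_
    obtain ⟨j, hj⟩ := conj_ker h hT hπ (x := η B13) (y := y) (r := g)
      (by rw [← coe_pow, ← map_pow, show B13 ^ 3 = 1 by decide +kernel]; simp) (hπη _ ▸ r.b1)
      (hc _ (η B13).2 y (mR (hSR y.2))) (hc _ (η B13).2 g (mR (hSR g.2))) (mR (hSR y.2))
      (mR (hSR g.2)) hq (congrArg Subtype.val hb)
    show g * y * g⁻¹ ∈ H
    rw [show g * y * g⁻¹ = y ^ j from Subtype.ext hj.symm]
    exact zpow_mem ((zpowers_le (G := S)).2 hx hy) j

end Cfsg.Agent.S4233
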