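import Cfsg.Statements.S4235
import Cfsg.Agent.PERM.CCZass2
import Cfsg.Agent.KSG.PSL2Basic

set_option autoImplicit false
open scoped Pointwise
open Cfsg

namespace Cfsg.Agent.S4235

/-- Let G be a finite group. Call a subgroup maximal solvable if it is solvable and not properly contained in a solvable subgroup. Suppose F assigns to each maximal solvable subgroup M a normal subgroup F(M) of M such that: every element of M outside F(M) centralizes no non-identity element of F(M); F(M) meets each conjugate g F(M) g⁻¹ with g outside M trivially; and F(M) is nontrivial unless M is abelian. Then G is solvable, or G is isomorphic to SL(2, K) for a finite field K of characteristic 2 with at least 4 elements, or G is isomorphic to a Suzuki group. -/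
theorem result {G : Type*} [Group G] [Finite G] (F : Subgroup G → Subgroup G)
    (h : ∀ M : Subgroup G, (Group.IsSolvable M ∧ ∀ M' : Subgroup G, M < M' → ¬ Group.IsSolvable M') →
      F M ≤ M ∧ M ≤ Subgroup.normalizer (F M : Set G) ∧
      (∀ a ∈ M, a ∉ F M → ∀ x ∈ F M, x * a = a * x → x = 1) ∧
      (∀ g : G, g ∉ M → F M ⊓ (MulAut.conj g • F M) = ⊥) ∧
      (F M ≠ ⊥ ∨ IsMulCommutative M)) :
    Group.IsSolvable G ∨
      (∃ (K : Type) (_ : Field K) (_ : Fintype K), (∃ n : ℕ, 2 ≤ n ∧ Fintype.card K = 2 ^ n) ∧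
        Nonempty (G ≃* Matrix.SpecialLinearGroup (Fin 2) K)) ∨
      Cfsg.Lie.IsoSuzuki G := by
  classical
  by_contra hcon
  push Not at hcon
  obtain ⟨hns, hsl, hsz⟩ := hcon
  obtain ⟨S⟩ : Nonempty (Sylow 2 G) := inferInstance
  obtain ⟨M, hSM, hmax⟩ := Finite.exists_le_maximal (p := fun M : Subgroup G => Group.IsSolvable M)
    (a := (S : Subgroup G)) (CL.isSolvable_of_isPGroup S.isPGroup')
  have hM : ∀ M' : Subgroup G, M ≤ M' → Group.IsSolvable M' → M' = M := fun M' h1 h2 =>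
    le_antisymm (hmax.2 h2 h1) h1
  obtain ⟨h1, h2, h3, h4, h5⟩ := h M ⟨hmax.1, fun M' h1 h2 => h1.ne' (hM M' h1.le h2)⟩
  have hMT : M ≠ ⊤ := by
    rintro rfl
    have := hmax.1
    exact hns (CL.isSolvable_of_mulEquiv Subgroup.topEquiv)
  have hF1 : F M ≠ ⊥ := by
    refine h5.resolve_right fun hc => hns (CL.CCZ.isSolvable_of_normalizer_le S ?_)
    have h6 : M ≤ Subgroup.centralizer ((S : Subgroup G) : Set G) := fun m hm s hs =>
      congrArg Subtype.val (hc.1.1 ⟨s, hSM hs⟩ ⟨m, hm⟩)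
    rw [hM _ (h6.trans (Subgroup.centralizer_le_normalizer _)) (CL.CCZ.isSolvable_normalizer_sylow S)]
    exact h6
  generalize F M = K at h1 h2 h3 h4 hF1
  have hTI : ∀ x ∈ K, x ≠ 1 → ∀ g : G, g * x * g⁻¹ ∈ K → g ∈ M := fun x hx hx1 g hg => by
    by_contra hgM
    have : g * x * g⁻¹ ∈ K ⊓ MulAut.conj g • K := ⟨hg, CL.conj_mem_conj_smul hx⟩
    rw [h4 g hgM, Subgroup.mem_bot] at this
    exact hx1 (by simpa [mul_eq_one_iff_eq_inv] using this)
  have hK : CL.CCZ.CC K := fun x hx hx1 g hg => by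
    by_contra hgK
    exact hx1 (h3 g (hTI x hx hx1 g (by rwa [hg, mul_inv_cancel_right])) hgK x hx hg.symm)
  have hrad : ∀ R : Subgroup G, R.Normal → Group.IsSolvable R → R = ⊥ := fun R hR hRs => by
    have hRM : R ≤ M := le_sup_right.trans (hM _ le_sup_left
      (CL.isSolvable_sup_of_normal hmax.1 hRs)).le
    have h6 : ∀ x ∈ R, x ∈ K → x = 1 := fun x hx hxK => by
      by_contra hx1
      refine hMT (eq_top_iff.mpr fun g _ => hTI x hxK hx1 g ?_)
      by_contra hg
      have h7 := hK.coprime hg (h2 (hRM (hR.conj_mem x hx g)))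
      rw [CL.Inv.orderOf_conj'] at h7
      exact hx1 (orderOf_eq_one_iff.mp (h7.eq_one_of_dvd (K.orderOf_dvd_natCard hxK)))
    obtain ⟨⟨k, hk⟩, hk1⟩ := Subgroup.ne_bot_iff_exists_ne_one.mp hF1
    refine eq_bot_iff.mpr fun r hr => h6 r hr (hK k hk (fun e => hk1 (Subtype.ext e)) r ?_)
    have := h6 (r * k * r⁻¹ * k⁻¹) (by simpa [mul_assoc] using R.mul_mem hr (hR.conj_mem _ (R.inv_mem hr) k))
      (K.mul_mem ((Subgroup.mem_normalizer_iff.mp (h2 (hRM hr)) k).mp hk) (K.inv_mem hk))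
    rwa [mul_inv_eq_one, mul_inv_eq_iff_eq_mul] at this
  have hev : ∀ N : Subgroup G, N.Normal → N ≠ ⊥ → 2 ∣ Nat.card N := fun N hN hN1 => by
    by_contra h6
    exact hN1 (hrad N hN (CL.isSolvable_of_not_two_dvd _ h6))
  by_cases hK2 : 2 ∣ Nat.card K
  · by_cases hKM : M ≤ K
    · obtain rfl : M = K := le_antisymm hKM h1
      obtain ⟨N, -, hN, hN1, -, hf⟩ := CL.FC.exists_kernel (H := M) ⟨hF1, hMT, h4⟩
      have := CL.FC.coprime_of_fpf_aut (CL.FC.conjHom M N (le_top.trans (Subgroup.normalizer_eq_top N).ge))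
        fun a ha l hl => Subtype.ext (hf a a.2 (fun e => ha (Subtype.ext e)) l l.2
          (mul_inv_eq_iff_eq_mul.mp (congrArg Subtype.val hl)))
      exact absurd (Nat.eq_one_of_dvd_coprimes this hK2 (hev N hN hN1)) (by norm_num)
    obtain ⟨y, hyM, hy⟩ := SetLike.not_le_iff_exists.mp hKM
    obtain ⟨z, hz⟩ := CL.CCZ.exists_cinv_of_nilpotent (hK.isNilpotent hy (h2 hyM)) hK2
    have hn : ¬ K.Normal := fun hn => hF1 (hrad K hn (CL.isSolvable_of_le h1 hmax.1))
    have : Nontrivial G := ⟨z, 1, hz.2.1⟩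
    have : IsSimpleGroup G := ⟨fun N hN => by
      by_cases hN1 : N = ⊥
      · exact Or.inl hN1
      · exact Or.inr (CL.CCZ.eq_top_of_two_dvd hK hz hn hy (h2 hyM) (hev N hN hN1))⟩
    rcases CL.CCZ.psl_or_suzuki hK hz (fun e => hMT (eq_top_iff.mpr (e ▸ h1))) with
      ⟨-, n, hn2, ⟨e⟩⟩ | ⟨-, -, h6⟩
    · have := Fintype.ofFinite (GaloisField 2 n)
      exact (hsl (GaloisField 2 n) _ _ ⟨n, hn2, by
        rw [← Nat.card_eq_fintype_card, GaloisField.card 2 n (by omega)]⟩).elim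
          (e.trans (CL.GL2.pslEquivEven (CharP.cast_eq_zero _ 2)).symm)
    · exact hsz h6
  · have : Nontrivial G := by
      obtain ⟨⟨k, hk⟩, hk1⟩ := Subgroup.ne_bot_iff_exists_ne_one.mp hF1
      exact ⟨k, 1, fun e => hk1 (Subtype.ext e)⟩
    have h6 := hev ⊤ inferInstance top_ne_bot
    rw [Subgroup.card_top] at h6
    obtain ⟨⟨t, htS⟩, ht⟩ := exists_prime_orderOf_dvd_card' 2 (S.dvd_card_of_dvd_card h6)
    rw [← Subgroup.orderOf_coe] at ht
    have hSK : ∀ s ∈ S, s ∈ K → s = 1 := fun s hs hsK => by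
      obtain ⟨n, hn⟩ := IsPGroup.iff_orderOf.mp S.isPGroup' ⟨s, hs⟩
      rw [← Subgroup.orderOf_coe] at hn
      have h7 := K.orderOf_dvd_natCard hsK
      rw [← orderOf_eq_one_iff]
      refine Nat.Coprime.eq_one_of_dvd ?_ h7
      rw [hn]
      exact ((Nat.Prime.coprime_iff_not_dvd Nat.prime_two).mpr hK2).pow_left n
    have hinv : ∀ s ∈ S, orderOf s = 2 → ∀ k ∈ K, s * k * s⁻¹ = k⁻¹ := fun s hs h7 k hk =>
      hK.inverts (fun e => CL.Inv.ne_one_of_orderOf_two h7 (hSK s hs e)) (h2 (hSM hs))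
        (CL.Inv.mul_self_of_orderOf_two h7) hk
    obtain ⟨N, hN, h7, h8⟩ := Cfsg.Agent.S0215.result S t ht htS fun g hg => by
      obtain ⟨⟨k, hk⟩, hk1⟩ := Subgroup.ne_bot_iff_exists_ne_one.mp hF1
      have e1 := hinv _ hg ((CL.Inv.orderOf_conj' g t).trans ht) k hk
      have e2 := hinv t htS ht k hk
      generalize g * t * g⁻¹ = s at hg e1
      refine (inv_mul_eq_one.mp (hSK _ (S.1.mul_mem (S.1.inv_mem htS) hg)
        (hK k hk (fun e => hk1 (Subtype.ext e)) _ ?_))).symm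
      calc t⁻¹ * s * k = t⁻¹ * (s * k * s⁻¹) * s := by group
        _ = _ := by rw [e1, ← e2]; group
    obtain rfl := hrad N hN (CL.isSolvable_of_odd _ h7)
    have h9 : Subgroup.center G = ⊥ := hrad _ inferInstance
      (Group.isSolvable_of_comm fun a b => Subtype.ext (Subgroup.mem_center_iff.mp b.2 a))
    refine CL.Inv.ne_one_of_orderOf_two ht (Subgroup.mem_bot.mp (h9 ▸ Subgroup.mem_center_iff.mpr fun g => ?_))
    have := Subgroup.mem_bot.mp (h8 g)
    rw [mul_inv_eq_one, mul_inv_eq_iff_eq_mul] at this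
    exact this.symm

end Cfsg.Agent.S4235
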