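import Cfsg.Statements.S4236
import Cfsg.Agent.FGS.PseudoSylow

set_option autoImplicit false
open Cfsg

namespace Cfsg.Agent.S4236

open CL CL.PSyl

/-- No finite group has exactly 35 Sylow 17-subgroups. -/
theorem result {G : Type*} [Group G] [Finite G] : Nat.card (Sylow 17 G) ≠ 35 := by
  intro h
  have : Fact (Nat.Prime 17) := ⟨by norm_num⟩
  obtain ⟨S, _, _, hS, hc, hd, hn⟩ := exists_simple h (by norm_num) (by decide +kernel) (by
    intro a b hab ha hb
    have h1 : a ≤ 35 := Nat.le_of_dvd (by norm_num) ⟨b, hab.symm⟩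
    interval_cases a <;> omega)
  have hP : ∀ P : Sylow 17 S, Nat.card P = 17 := fun P =>
    Cfsg.Agent.S4343.result hc 17 hd (by rw [hn]; norm_num) P
  have hodd := odd_card_of_card_sylow hc (by norm_num) hP hn
  obtain ⟨e, k, h1, h2, -, -, -, h3⟩ := Small.prime_sylow_data hc default (hP default)
  have h4 : e ≤ 16 := Nat.le_of_dvd (by norm_num) h2
  have h5 : 2 ∣ e := by interval_cases e <;> simp_all
  rw [h3] at hodd
  exact Nat.not_even_iff_odd.2 hodd
    (even_iff_two_dvd.2 (Dvd.dvd.mul_left (Dvd.dvd.mul_left h5 _) _))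

end Cfsg.Agent.S4236
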