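import Cfsg.Statements.S4265
import Cfsg.Agent.ORD.LinCls

set_option autoImplicit false
open Cfsg

namespace Cfsg.Agent.S4265

/-- Let G be a finite solvable subgroup of GL_r(ℂ), r ≥ 1, with Fitting subgroup F(G) normal in G. Then for every subgroup H of G the quotient H/(H ∩ F(G)) has at most 3^{r−1} conjugacy classes. -/
theorem result (r : ℕ) (hr : 1 ≤ r) (G : Subgroup (GL (Fin r) ℂ)) [Finite ↥G] (hsolv : Group.IsSolvable ↥G) [hF : (Cfsg.fittingSubgroup ↥G).Normal] (H : Subgroup ↥G) : Nat.card (ConjClasses (↥H ⧸ (Cfsg.fittingSubgroup ↥G).subgroupOf H)) ≤ 3 ^ (r - 1) := by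
  have : Nonempty (Fin r) := ⟨⟨0, hr⟩⟩
  let ρ : Representation ℂ G (Fin r → ℂ) :=
    (Matrix.toLinAlgEquiv' (R := ℂ) (n := Fin r)).toMulEquiv.toMonoidHom.comp
      ((Units.coeHom _).comp G.subtype)
  have hf : Function.Injective ρ := (Matrix.toLinAlgEquiv' (R := ℂ) (n := Fin r)).injective.comp
    (Units.val_injective.comp Subtype.val_injective)
  obtain ⟨L, h1, h2, -⟩ := CL.Ord.PC.exists_fitting ρ hf (Nat.cast_ne_zero.2 Nat.card_pos.ne')
  rw [Module.finrank_fin_fun] at h2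
  exact h2.k_quotient_le _ h1 H

end Cfsg.Agent.S4265
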