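import Cfsg.Statements.S4274
import Mathlib
import Cfsg.Agent.S0483
import Cfsg.Agent.S0201
import Cfsg.Agent.S0992
import Cfsg.Agent.S0205
import Cfsg.Agent.S3993
import Cfsg.Agent.KSG.PSL2Basic
import Cfsg.Agent.SOLV.MaxClass
import Cfsg.Agent.SOLV.Core
import Cfsg.Agent.SOLV.CoprimeSylow
import Cfsg.Agent.INV.AbelSylowZ
import Cfsg.Agent.INV.SmallMisc

set_option autoImplicit false
open Cfsg

namespace Cfsg.Agent.S4274

open Subgroup CL.Small

universe u

instance : Fact (Nat.Prime 19) := ⟨by norm_num⟩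

theorem card_syl {G : Type*} [Group G] [Finite G] {p : ℕ} [hp : Fact p.Prime] (P : Sylow p G)
    (h1 : p ∣ Nat.card G) (h2 : ¬ p * p ∣ Nat.card G) : Nat.card P = p := by
  obtain ⟨m, hm⟩ := h1
  simpa using card_sylow_eq_of_factor P (a := 1) (m := m) (by simpa using hm)
    (fun h => h2 (hm ▸ Nat.mul_dvd_mul_left p h))

theorem card_syl_le {G : Type*} [Group G] [Finite G] (hG : Nat.card G ∣ 9240) {r : ℕ}
    [hr : Fact r.Prime] (S : Sylow r G) : Nat.card S < 19 := by
  obtain ⟨k, hk⟩ := S.2.exists_card_eq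
  have h1 : r ^ k ∣ 9240 := hk ▸ (card_subgroup_dvd_card _).trans hG
  rw [show Nat.card S = r ^ k from hk]
  rcases k with _ | k
  · simp
  have h2 : r ∣ 2 ^ 3 * 3 * 5 * 7 * 11 := (dvd_pow_self r k.succ_ne_zero).trans h1
  have h3 : r = 2 ∨ r = 3 ∨ r = 5 ∨ r = 7 ∨ r = 11 := by
    simp only [hr.out.dvd_mul, hr.out.prime.dvd_pow_iff_dvd three_ne_zero,
      Nat.prime_dvd_prime_iff_eq hr.out Nat.prime_two,
      Nat.prime_dvd_prime_iff_eq hr.out Nat.prime_three,
      Nat.prime_dvd_prime_iff_eq hr.out Nat.prime_five,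
      Nat.prime_dvd_prime_iff_eq hr.out Nat.prime_seven,
      Nat.prime_dvd_prime_iff_eq hr.out Nat.prime_eleven] at h2
    tauto
  have h4 : k < 3 := by
    by_contra h4
    have := (pow_dvd_pow r (show 4 ≤ k + 1 by omega)).trans h1
    rcases h3 with rfl | rfl | rfl | rfl | rfl <;> norm_num at this
  rcases h3 with rfl | rfl | rfl | rfl | rfl <;> interval_cases k <;>
    first | (norm_num; done) | norm_num at h1

theorem step {G : Type u} [Group G] [Finite G] (hG : Nat.card G ∣ 175560)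
    (ih : ∀ (H : Type u) [Group H] [Finite H], Nat.card H ∣ Nat.card G → Nat.card H < Nat.card G →
      ∀ P : Sylow 19 H, (P : Subgroup H).Normal)
    (N : Subgroup G) [N.Normal] (h1 : N ≠ ⊥) (h2 : N ≠ ⊤) (P : Sylow 19 G) :
    (P : Subgroup G).Normal := by
  have hlt : Nat.card N < Nat.card G := by
    have := N.card_mul_index
    have h3 := one_lt_index_of_ne_top h2
    have : 0 < Nat.card N := Nat.card_pos
    nlinarith
  by_cases h19 : 19 ∣ Nat.card N
  · refine sylow_normal_of_le_normal P (N := N) (le_of_normal_of_not_dvd_index P.2 fun h => ?_) ?_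
    · have := Nat.mul_dvd_mul h19 h
      rw [N.card_mul_index] at this
      exact absurd (this.trans hG) (by norm_num)
    · obtain ⟨Q⟩ : Nonempty (Sylow 19 N) := inferInstance
      exact card_sylow_eq_one_of_normal Q (ih N (card_subgroup_dvd_card N) hlt Q)
  have hN : Nat.card N ∣ 9240 :=
    (Nat.Coprime.dvd_of_dvd_mul_left (((Fact.out : Nat.Prime 19).coprime_iff_not_dvd.2 h19).symm)
      ((card_subgroup_dvd_card N).trans (show _ ∣ 19 * 9240 from hG)) :)
  have hcop : (Nat.card P).Coprime (Nat.card N) := by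
    obtain ⟨k, hk⟩ := P.2.exists_card_eq
    rw [show Nat.card P = 19 ^ k from hk]
    exact Nat.Coprime.pow_left _ ((Fact.out : Nat.Prime 19).coprime_iff_not_dvd.2 h19)
  have hC : N ≤ centralizer (P : Set G) := by
    have h3 : Nat.card N ∣ Nat.card (N ⊓ centralizer (P : Set G) : Subgroup G) := by
      refine (Nat.dvd_iff_prime_pow_dvd_dvd _ _).2 fun r k hr hk => ?_
      have := Fact.mk hr
      have := P.2.isNilpotent
      obtain ⟨S, hS⟩ := CL.coprime_exists_invariant_sylow (P : Subgroup G) N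
        (by rw [normalizer_eq_top]; exact le_top) hcop (Or.inl inferInstance) r
      have h4 := card_syl_le hN S
      have h5 : r ^ k ∣ Nat.card S := S.pow_dvd_card_of_pow_dvd_card hk
      rw [← card_subtype] at h4 h5
      generalize hS' : (S : Subgroup N).map N.subtype = S' at hS h4 h5
      refine h5.trans (card_dvd_of_le (le_inf (hS' ▸ map_subtype_le _) (le_centralizer_iff.1 ?_)))
      have h6 := (relIndex_centralizer_dvd_card_mulAut S').trans (card_mulAut_dvd_factorial _)
      have : ((centralizer (S' : Set G)).subgroupOf (normalizer (S' : Set G))).Normal := by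
        rw [← normalizerMonoidHom_ker]; infer_instance
      have h7 := le_of_normal_of_not_dvd_index (p := 19) (N := (centralizer (S' : Set G)).subgroupOf
        (normalizer (S' : Set G))) (P := (P : Subgroup G).subgroupOf _) P.2.comap_subtype fun h => by
          have := (Nat.Prime.dvd_factorial Fact.out).1 (h.trans h6)
          omega
      exact fun x hx => h7 (x := ⟨x, hS hx⟩) hx
    have := eq_of_le_of_card_ge (inf_le_left : N ⊓ centralizer (P : Set G) ≤ N)
      (Nat.le_of_dvd Nat.card_pos h3)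
    exact this ▸ inf_le_right
  have hq : Nat.card (G ⧸ N) < Nat.card G := by
    have := N.card_mul_index
    have h3 : 1 < Nat.card N := (one_lt_card_iff_ne_bot N).2 h1
    have h4 : 0 < N.index := Nat.pos_of_ne_zero index_ne_zero_of_finite
    rw [← index_eq_card]
    nlinarith
  have h8 := ih (G ⧸ N) (card_quotient_dvd_card N) hq
    (P.mapSurjective (QuotientGroup.mk'_surjective N))
  have h9 : (((P : Subgroup G).map (QuotientGroup.mk' N)).comap (QuotientGroup.mk' N)).Normal :=
    Normal.comap h8 _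
  rw [comap_map_eq, QuotientGroup.ker_mk'] at h9
  exact sylow_normal_of_le_normal P (N := P ⊔ N) le_sup_left (card_sylow_eq_one_of_le_normalizer P
    le_sup_left (sup_le le_normalizer (hC.trans (centralizer_le_normalizer' _))))

theorem psl_ne {F : Type*} [Field F] [Fintype F] (h : Odd (Fintype.card F)) {n : ℕ}
    (h1 : n ∣ 175560) (h2 : 19 ∣ n) :
    Nat.card (Matrix.ProjectiveSpecialLinearGroup (Fin 2) F) ≠ n := fun e => by
  classical
  have h3 := CL.GL2.gcd_mul_card_PSL2 (F := F)
  rw [e, Nat.gcd_eq_left (Nat.Odd.sub_odd h odd_one).two_dvd] at h3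
  have h0 : 1 < Fintype.card F := Fintype.one_lt_card
  generalize Fintype.card F = q at h h3 h0
  have h4 : q * (q + 1) * (q - 1) ∣ 351120 := h3 ▸ Nat.mul_dvd_mul_left 2 h1
  have h5 : 19 ∣ q * (q + 1) * (q - 1) := h3 ▸ h2.mul_left 2
  have h6 : q < 80 := by
    by_contra h6
    obtain ⟨r, rfl⟩ : ∃ r, q = r + 80 := ⟨q - 80, by omega⟩
    have := Nat.le_of_dvd (by norm_num) h4
    rw [show r + 80 - 1 = r + 79 by omega] at this
    nlinarith [Nat.zero_le (r ^ 3), Nat.zero_le (r ^ 2)]
  rw [Nat.odd_iff] at h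
  interval_cases q <;> simp at h h4 h5

theorem abelian_eight {G : Type*} [Group G] [Finite G] [IsSimpleGroup G]
    (hG : ¬ IsMulCommutative G) (h1 : Nat.card G ∣ 175560) (h2 : 19 ∣ Nat.card G) (T : Sylow 2 G) :
    Nat.card T = 8 ∧ IsMulCommutative (T : Subgroup G) := by
  have hev : Even (Nat.card G) := by
    by_contra h
    have := Cfsg.Agent.S0205.result (G := G) (Nat.not_even_iff_odd.1 h)
    exact hG ⟨⟨IsSimpleGroup.comm_iff_isSolvable.2 this⟩⟩
  have hN : ∀ N : Subgroup G, N.Normal → ¬ 2 ∣ Nat.card N → N = ⊥ := fun N hN h =>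
    hN.eq_bot_or_eq_top.resolve_right fun e => h (by rw [e, card_top]; exact hev.two_dvd)
  have hD : ∀ n, 2 ≤ n → ¬ Nonempty ((T : Subgroup G) ≃* DihedralGroup n) := by
    intro n hn h
    have : Group.IsPerfect G := ⟨commutator_eq_top hG⟩
    have hO := hN (Cfsg.oddCore G) inferInstance (CL.not_dvd_card_pPrimeCore 2 G)
    have c : Nat.card (G ⧸ Cfsg.oddCore G) = Nat.card G := by
      rw [← index_eq_card, hO, index_bot]
    rcases Cfsg.Agent.S0483.result T n hn h with ⟨F, _, _, hF, -, ⟨e⟩⟩ | ⟨⟨e⟩⟩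
    · exact psl_ne hF h1 h2 (Nat.card_congr e.toEquiv ▸ c)
    · rw [Nat.card_congr e.toEquiv, nat_card_alternatingGroup] at c
      rw [← c] at h2
      simp [Nat.factorial] at h2
  have h8 : 8 ∣ Nat.card G := by
    by_contra h8
    have := (Cfsg.Agent.S0992.result hG hev h8 T).1
    exact hD 2 le_rfl IsKleinFour.nonempty_mulEquiv
  have h8' : Nat.card T = 2 ^ (0 + 3) := by
    obtain ⟨m, hm⟩ := h8
    refine card_sylow_eq_of_factor T (m := m) hm fun h => ?_
    have := (Nat.mul_dvd_mul_left 8 h).trans (hm ▸ h1)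
    norm_num at this
  refine ⟨h8', ?_⟩
  by_contra hS
  obtain ⟨a, b, h⟩ := CL.PCyc.exists_isDQS_of_lowerCentralSeries h8' (by
    rw [top_lowerCentralSeries_one]
    exact fun h => hS ((commutator_eq_bot_iff _).mp h))
  rcases h.types with ⟨k, h⟩ | ⟨k, h, -⟩ | ⟨k, ⟨e⟩⟩
  · exact hD _ (Nat.le_self_pow (by omega) 2) h
  · rw [h8'] at h
    have := Nat.pow_right_injective le_rfl h
    omega
  · have := Cfsg.Agent.S0201.result T k e fun N h1 h2 => hN N h1 h2.not_two_dvd_nat
    rw [center_eq_bot hG] at this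
    simp at this

theorem seven_dvd {G : Type*} [Group G] [Finite G] [IsSimpleGroup G]
    (hG : ¬ IsMulCommutative G) (T : Sylow 2 G) (h8 : Nat.card T = 8)
    (hT : IsMulCommutative (T : Subgroup G)) :
    7 ∣ Nat.card (normalizer ((T : Subgroup G) : Set G)) := by
  classical
  by_contra h7
  set N := normalizer ((T : Subgroup G) : Set G) with hN
  have hO : Cfsg.oddCore G = ⊥ := (inferInstance : (Cfsg.oddCore G).Normal).eq_bot_or_eq_top.resolve_right
    fun e => CL.not_dvd_card_pPrimeCore 2 G (by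
      change 2 ∣ Nat.card (Cfsg.oddCore G)
      rw [e, card_top, ← (T : Subgroup G).card_mul_index, h8]; omega)
  let X := {x : G // x ∈ (T : Subgroup G) ∧ x ≠ 1}
  let act : MulAction N X :=
    { smul := fun n x => ⟨n * x * (n : G)⁻¹, (mem_normalizer_iff.1 n.2 x).1 x.2.1, by
        simpa using x.2.2⟩
      one_smul := fun x => Subtype.ext (by change (1 : G) * x * (1 : G)⁻¹ = x; simp)
      mul_smul := fun a b x => Subtype.ext (by
        change ((a : G) * b) * x * ((a : G) * b)⁻¹ = a * (b * x * (b : G)⁻¹) * (a : G)⁻¹; group) }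
  have hs : ∀ (n : N) (x : X), ((n • x : X) : G) = n * x * (n : G)⁻¹ := fun _ _ => rfl
  have hX : Nat.card X = 7 := by
    have := card_sdiff_one (T : Subgroup G)
    rw [h8] at this
    exact this
  have horb : ∀ x : X, Nat.card (MulAction.orbit N x) = 3 ∨ Nat.card (MulAction.orbit N x) = 5 := by
    intro x
    have e1 := MulAction.index_stabilizer N x
    have e2 : ¬ 2 ∣ (MulAction.stabilizer N x).index := fun h => T.not_dvd_index (h.trans
      ((index_dvd_of_le (H := (T : Subgroup G).subgroupOf N) fun t ht => Subtype.ext (by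
        rw [hs, mul_inv_eq_iff_eq_mul]
        exact congrArg Subtype.val (hT.is_comm.comm ⟨t, ht⟩ ⟨x, x.2.1⟩))).trans
      (relIndex_dvd_index_of_le le_normalizer)))
    have e3 : (MulAction.stabilizer N x).index ≠ 1 := fun h => by
      have := CL.AbZ.mem_center_of_centralizes_normalizer T hT hO x.2.1 fun n hn =>
        congrArg Subtype.val ((index_eq_one.1 h ▸ mem_top (⟨n, hn⟩ : N) :
          (⟨n, hn⟩ : N) ∈ MulAction.stabilizer N x) :)
      rw [center_eq_bot hG] at this
      exact x.2.2 this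
    have e4 : (MulAction.stabilizer N x).index ≠ 7 := fun h => h7 (h ▸ index_dvd_card _)
    have e5 : (MulAction.orbit N x).ncard ≤ 7 := hX ▸ Set.ncard_le_card _
    rw [Nat.card_coe_set_eq]
    omega
  have := Fintype.ofFinite (MulAction.orbitRel.Quotient N X)
  have e := Nat.card_congr (MulAction.selfEquivSigmaOrbits' N X)
  rw [hX, Nat.card_sigma] at e
  have e1 : ∀ ω : MulAction.orbitRel.Quotient N X, Nat.card ω.orbit = 3 ∨ Nat.card ω.orbit = 5 :=
    fun ω => Quotient.inductionOn' ω horb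
  have e2 := Finset.card_nsmul_le_sum Finset.univ (fun ω : MulAction.orbitRel.Quotient N X =>
    Nat.card ω.orbit) 3 fun ω _ => by have := e1 ω; omega
  have e3 := Finset.sum_le_card_nsmul Finset.univ (fun ω : MulAction.orbitRel.Quotient N X =>
    Nat.card ω.orbit) 5 fun ω _ => by have := e1 ω; omega
  have e4 : (∑ ω : MulAction.orbitRel.Quotient N X, Nat.card ω.orbit) % 2 =
      (∑ _ω : MulAction.orbitRel.Quotient N X, 1) % 2 := by
    rw [Finset.sum_nat_mod, Finset.sum_congr rfl fun ω _ => (show _ % 2 = 1 by have := e1 ω; omega)]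
  simp only [smul_eq_mul, Finset.sum_const] at e2 e3 e4
  omega

theorem exists_syl {G : Type*} [Group G] [Finite G] (h1 : Nat.card G ∣ 175560) {p : ℕ}
    [hp : Fact p.Prime] (h2 : ¬ p * p ∣ 175560) {x : G} (hx : orderOf x = p) :
    ∃ Q : Sylow p G, Nat.card Q = p ∧ (Q : Subgroup G) = zpowers x := by
  obtain ⟨Q, hQ⟩ := exists_sylow_mem (p := p) (k := 1) (by simpa using hx)
  have h3 := card_syl Q (hx ▸ orderOf_dvd_natCard x) fun h => h2 (h.trans h1)
  refine ⟨Q, h3, eq_zpowers_of_card_prime h3 hQ ?_⟩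
  rintro rfl
  exact hp.out.one_lt.ne (by simpa using hx)

theorem count {G : Type*} [Group G] [Finite G] (h : Nat.card G = 58520)
    (h19 : Nat.card {y : G // orderOf y = 19} = 27720)
    (h7 : Nat.card {y : G // orderOf y = 7} = 25080) : False := by
  have h1 := Cfsg.Agent.S3993.result (G := G) 11704 (by rw [h]; norm_num)
  have : Fact (Nat.Prime 5) := ⟨by norm_num⟩
  obtain ⟨z, hz⟩ := exists_prime_orderOf_dvd_card' (G := G) 5 (by rw [h]; norm_num)
  change 11704 ∣ Nat.card {g : G | g ^ 11704 = 1} at h1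
  change Nat.card {y : G | orderOf y = 19} = _ at h19
  change Nat.card {y : G | orderOf y = 7} = _ at h7
  rw [Nat.card_coe_set_eq] at h1 h19 h7
  have h2 : {g : G | g ^ 11704 = 1}.ncard < Nat.card G := by
    refine Set.ncard_lt_card fun e => ?_
    have : z ∈ {g : G | g ^ 11704 = 1} := e ▸ Set.mem_univ z
    have := orderOf_dvd_of_pow_eq_one this
    rw [hz] at this
    norm_num at this
  have h3 : ({y : G | orderOf y = 19} ∪ {y : G | orderOf y = 7}).ncard ≤
      {g : G | g ^ 11704 = 1}.ncard := by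
    refine Set.ncard_le_ncard ?_
    rintro y (hy | hy) <;> refine orderOf_dvd_iff_pow_eq_one.1 ?_ <;> rw [hy] <;> norm_num
  rw [Set.ncard_union_eq (Set.disjoint_left.2 fun y a b => by
    simp only [Set.mem_ofPred_eq] at a b; omega)] at h3
  omega

set_option maxHeartbeats 1000000 in
theorem simple_case {G : Type*} [Group G] [Finite G] [IsSimpleGroup G]
    (hG : ¬ IsMulCommutative G) (h1 : Nat.card G ∣ 175560) (h1' : Nat.card G ≠ 175560)
    (h2 : 19 ∣ Nat.card G)
    (ih : ∀ H : Subgroup G, H ≠ ⊤ → ∀ P : Sylow 19 H, (P : Subgroup H).Normal) : False := by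
  have : Fact (Nat.Prime 7) := ⟨by norm_num⟩
  have : Fact (Nat.Prime 11) := ⟨by norm_num⟩
  have key : ∀ H : Subgroup G, H ≠ ⊤ → ∀ P : Sylow 19 G, (P : Subgroup G) ≤ H →
      H ≤ normalizer ((P : Subgroup G) : Set G) := fun H hH P hP =>
    (normal_subgroupOf_iff_le_normalizer hP).1 (ih H hH (P.subtype hP))
  have hP : ∀ P : Sylow 19 G, Nat.card P = 19 := fun P =>
    card_syl P h2 fun h => absurd (h.trans h1) (by norm_num)
  obtain ⟨P⟩ : Nonempty (Sylow 19 G) := inferInstance
  have key2 : ∀ H : Subgroup G, H ≠ ⊤ → 19 ∣ Nat.card H →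
      Nat.card H ∣ Nat.card (normalizer ((P : Subgroup G) : Set G)) := by
    intro H hH h
    obtain ⟨x, hx, ho⟩ := exists_mem_orderOf_eq_prime H 19 h
    obtain ⟨Q, -, hQ⟩ := exists_syl h1 (by norm_num) ho
    have e := (card_sylow_mul_card_normalizer P).trans (card_sylow_mul_card_normalizer Q).symm
    rw [Nat.eq_of_mul_eq_mul_left Nat.card_pos e]
    exact card_dvd_of_le (key H hH Q (hQ ▸ zpowers_le.2 hx))
  obtain ⟨e, k, he, he18, hC, hN, -, hn⟩ := prime_sylow_data hG P (hP P)
  have hn1 := card_sylow_mod (p := 19) (G := G)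
  have hn2 := one_lt_card_sylow hG h2
  have hn19 := card_orderOf_eq_prime P (hP P)
  generalize Nat.card (Sylow 19 G) = n at hn hn1 hn2 hn19
  by_cases hk : 2 ∣ k
  · obtain ⟨t, ht, ho⟩ := exists_mem_orderOf_eq_prime (centralizer ((P : Subgroup G) : Set G)) 2
      (hC ▸ hk.mul_left _)
    obtain ⟨T, hT⟩ := exists_sylow_mem (p := 2) (k := 1) (by simpa using ho)
    obtain ⟨h8, hab⟩ := abelian_eight hG h1 h2 T
    have hu : ∀ u : G, u ≠ 1 → u ∈ centralizer ((P : Subgroup G) : Set G) →
        centralizer {u} ≤ normalizer ((P : Subgroup G) : Set G) := fun u h hu =>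
      key _ (centralizer_ne_top hG h) P fun y hy =>
        mem_centralizer_singleton_iff'.2 (hu y hy).symm
    have hTP : (T : Subgroup G) ≤ normalizer ((P : Subgroup G) : Set G) :=
      le_trans (fun y hy => mem_centralizer_singleton_iff'.2
        (congrArg Subtype.val (hab.is_comm.comm ⟨t, hT⟩ ⟨y, hy⟩))) (hu t (by
          rintro rfl; simp at ho) ht)
    have hrel : ∀ Q : Sylow 19 G, (T : Subgroup G) ≤ normalizer ((Q : Subgroup G) : Set G) →
        (centralizer ((Q : Subgroup G) : Set G)).relIndex T ≤ 2 := by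
      intro Q hQ
      have : ((centralizer ((Q : Subgroup G) : Set G)).subgroupOf
          (normalizer ((Q : Subgroup G) : Set G))).Normal := by
        rw [← normalizerMonoidHom_ker]; infer_instance
      have a1 := (relIndex_dvd_index_of_normal ((centralizer ((Q : Subgroup G) : Set G)).subgroupOf
          (normalizer ((Q : Subgroup G) : Set G))) ((T : Subgroup G).subgroupOf _)).trans
          (relIndex_centralizer_dvd_of_card_prime (Q : Subgroup G) (hP Q))
      rw [relIndex_subgroupOf hQ] at a1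
      have a2 := relIndex_dvd_card (centralizer ((Q : Subgroup G) : Set G)) T
      rw [h8] at a2
      exact Nat.le_of_dvd two_pos (Nat.dvd_gcd a1 a2)
    have hNT : normalizer ((T : Subgroup G) : Set G) ≤ normalizer ((P : Subgroup G) : Set G) := by
      intro x hx
      have a1 := hrel (x • P) fun s hs => smul_sylow_eq_iff.1 (by
        rw [← mul_smul, show s * x = x * (x⁻¹ * s * x⁻¹⁻¹) by group, mul_smul,
          smul_sylow_eq_iff.2 (hTP ((mem_normalizer_iff.1 (inv_mem hx) s).1 hs))])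
      have a2 := (relIndex_inf_le (H := centralizer ((P : Subgroup G) : Set G))
        (K := centralizer (((x • P : Sylow 19 G) : Subgroup G) : Set G)) (L := T)).trans
        (Nat.mul_le_mul (hrel P hTP) a1)
      obtain ⟨⟨u, hu1⟩, hu2⟩ : ∃ u : ((centralizer ((P : Subgroup G) : Set G) ⊓
          centralizer (((x • P : Sylow 19 G) : Subgroup G) : Set G)).subgroupOf T), u ≠ 1 := by
        refine ne_bot_iff_exists_ne_one.1 fun h => ?_
        rw [relIndex, h, index_bot, h8] at a2
        omega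
      have a3 := hu u (fun h => hu2 (Subtype.ext (Subtype.ext h))) hu1.1
      have a4 : ((x • P : Sylow 19 G) : Subgroup G) ≤ P := fun y hy => by
        obtain ⟨j, hj⟩ := orderOf_mem_sylow _ hy
        exact mem_sylow_of_mem_normalizer P hj
          (a3 (mem_centralizer_singleton_iff'.2 (hu1.2 y hy).symm))
      exact smul_sylow_eq_iff.1 (Sylow.ext ((x • P).3 P.2 a4).symm)
    have a7 := (seven_dvd hG T h8 hab).trans (card_dvd_of_le hNT)
    have a8 := card_dvd_of_le hTP
    rw [h8] at a8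
    have a9 : 19 * 56 ∣ 19 * k * e := by
      rw [hN] at a7 a8
      exact Nat.Coprime.mul_dvd_of_dvd_of_dvd (by norm_num) ((Dvd.intro k rfl).mul_right e)
        (Nat.Coprime.mul_dvd_of_dvd_of_dvd (m := 7) (n := 8) (by norm_num) a7 a8)
    have a10 : n * (19 * 56) ∣ 165 * (19 * 56) := (Nat.mul_dvd_mul_left n a9).trans (hn ▸ h1)
    have a11 := Nat.dvd_of_mul_dvd_mul_right (by norm_num) a10
    exact hn2.ne' ((by decide +kernel : ∀ n ∈ Nat.divisors 165, n % 19 = 1 → n = 1) n
      (Nat.mem_divisors.2 ⟨a11, by norm_num⟩) hn1)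
  obtain ⟨T⟩ : Nonempty (Sylow 2 G) := inferInstance
  obtain ⟨h8, hab⟩ := abelian_eight hG h1 h2 T
  have a7 := (seven_dvd hG T h8 hab).trans (card_subgroup_dvd_card _)
  have a8 := card_subgroup_dvd_card (T : Subgroup G)
  rw [h8] at a8
  have he' : e = 2 ∨ e = 3 ∨ e = 6 ∨ e = 9 ∨ e = 18 := by
    have := Nat.le_of_dvd (by norm_num) he18
    interval_cases e <;> omega
  have b1 : n * (k * e) ∣ 9240 :=
    Nat.dvd_of_mul_dvd_mul_left (show 0 < 19 by norm_num)
      (by rw [show 19 * (n * (k * e)) = Nat.card G by rw [hn]; ring]; exact h1)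
  have b2 : 4 ∣ n := by
    have b3 : 4 * 2 ∣ n * e * (19 * k) := by rw [hn] at a8; convert a8 using 1; ring
    have b4 := Nat.Coprime.dvd_of_dvd_mul_right (show Nat.Coprime (2 ^ 3) (19 * k) from
      Nat.Coprime.pow_left 3 (Nat.prime_two.coprime_iff_not_dvd.2 (by omega))) b3
    rcases he' with rfl | rfl | rfl | rfl | rfl <;> omega
  have b5 : n = 20 ∨ n = 1540 :=
    (by decide +kernel : ∀ n ∈ Nat.divisors 9240, n % 19 = 1 → 4 ∣ n → n = 20 ∨ n = 1540) n
      (Nat.mem_divisors.2 ⟨(Dvd.intro _ rfl).trans b1, by norm_num⟩) hn1 b2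
  rcases b5 with rfl | rfl
  · have b6 : 7 ∣ k := by rw [hn] at a7; rcases he' with rfl | rfl | rfl | rfl | rfl <;> omega
    obtain ⟨x, hx, ho⟩ := exists_mem_orderOf_eq_prime (centralizer ((P : Subgroup G) : Set G)) 7
      (hC ▸ b6.mul_left _)
    obtain ⟨Q, hQ, hQx⟩ := exists_syl h1 (by norm_num) ho
    obtain ⟨e7, k7, he7, he6, -, hN7, -, hn7⟩ := prime_sylow_data hG Q hQ
    have c1 : 19 ∣ Nat.card (normalizer ((Q : Subgroup G) : Set G)) := hP P ▸ card_dvd_of_le
      ((le_centralizer_iff.1 (hQx ▸ zpowers_le.2 hx)).trans (centralizer_le_normalizer' _))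
    obtain ⟨j, hj⟩ := key2 _ (sylow_normalizer_ne_top hG Q a7) c1
    have c2 := card_sylow_mod (p := 7) (G := G)
    rw [hN7] at c1
    rw [hN, hN7] at hj
    obtain ⟨w, hw⟩ : 19 ∣ k7 * e7 := by rw [mul_assoc] at c1; omega
    have c3 : Nat.card (Sylow 7 G) = 20 * j := by
      refine Nat.eq_of_mul_eq_mul_right (show 0 < 7 * k7 * e7 from hN7 ▸ Nat.card_pos) ?_
      rw [← hn7, hn, hj]; ring
    have c4 : j * w ∣ 66 := Nat.dvd_of_mul_dvd_mul_left (show 0 < 2660 by norm_num) (by
      rw [show 2660 * (j * w) = Nat.card G by rw [hn7, c3, mul_assoc 7, hw]; ring]; exact h1)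
    have c5 : j = 6 := (by decide +kernel : ∀ n ∈ Nat.divisors 66, 20 * n % 7 = 1 → n = 6) j
      (Nat.mem_divisors.2 ⟨(Dvd.intro _ rfl).trans c4, by norm_num⟩) (c3 ▸ c2)
    subst c5
    have c6 : e7 ∣ 19 * 11 := ((Dvd.intro_left k7 hw).trans (Nat.mul_dvd_mul_left 19
      (Nat.dvd_of_mul_dvd_mul_left (show 0 < 6 by norm_num) c4)))
    have := Nat.le_of_dvd one_pos (Nat.dvd_gcd c6 he6)
    omega
  have b6 : k * e = 2 := by
    have b7 : k * e ∣ 6 := Nat.dvd_of_mul_dvd_mul_left (show 0 < 1540 by norm_num) b1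
    rw [hn, mul_assoc] at a8 h1'
    have := Nat.le_of_dvd (by norm_num) b7
    generalize k * e = m at *
    interval_cases m <;> omega
  rw [mul_assoc, b6] at hn hN
  have c19 : ∀ (p : ℕ) [Fact p.Prime] (Q : Sylow p G), Nat.card Q = p → ¬ p ∣ 38 →
      19 ∣ Nat.card (Sylow p G) := by
    intro p _ Q hQ h
    have := card_sylow_mul_card_normalizer Q
    refine ((Nat.Prime.dvd_mul Fact.out).1 (this ▸ h2)).resolve_right fun h' => h ?_
    have h3 := key2 _ (sylow_normalizer_ne_top hG Q (hQ ▸ card_subgroup_dvd_card _)) h'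
    rw [hN] at h3
    exact (hQ ▸ card_dvd_of_le le_normalizer).trans h3
  obtain ⟨Q⟩ : Nonempty (Sylow 7 G) := inferInstance
  have hQ := card_syl Q a7 (by rw [hn]; norm_num)
  obtain ⟨e7, k7, he7, he6, hC7, -, -, hn7⟩ := prime_sylow_data hG Q hQ
  have d1 : Nat.card (Sylow 7 G) = 190 ∨ Nat.card (Sylow 7 G) = 4180 :=
    (by decide +kernel : ∀ n ∈ Nat.divisors 8360, n % 7 = 1 → 19 ∣ n → n = 190 ∨ n = 4180) _
      (Nat.mem_divisors.2 ⟨card_sylow_dvd_of_factor (a := 1) hn (by norm_num), by norm_num⟩)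
      card_sylow_mod (c19 7 Q hQ (by norm_num))
  rcases d1 with d1 | d1
  · have d2 : 11 ∣ k7 := by
      rw [hn, d1] at hn7
      have := Nat.le_of_dvd (by norm_num) he6
      interval_cases e7 <;> omega
    obtain ⟨y, hy, ho⟩ := exists_mem_orderOf_eq_prime (centralizer ((Q : Subgroup G) : Set G)) 11
      (hC7 ▸ d2.mul_left _)
    obtain ⟨R, hR, hRy⟩ := exists_syl h1 (by norm_num) ho
    obtain ⟨e11, k11, he11, he10, hC11, -, -, hn11⟩ := prime_sylow_data hG R hR
    have d3 : 7 ∣ Nat.card (centralizer ((R : Subgroup G) : Set G)) := hQ ▸ card_dvd_of_le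
      (le_centralizer_iff.1 (hRy ▸ zpowers_le.2 hy))
    have d4 := c19 11 R hR (by norm_num)
    have d5 := card_sylow_mod (p := 11) (G := G)
    obtain ⟨w, rfl⟩ : 7 ∣ k11 := by omega
    obtain ⟨j, hj⟩ := d4
    rw [hj] at d5
    rw [hn, hj] at hn11
    have d6 : j * (w * e11) = 40 := by nlinarith
    have d8 : j = 40 := (by decide +kernel : ∀ n ∈ Nat.divisors 40, 19 * n % 11 = 1 → n = 40) j
      (Nat.mem_divisors.2 ⟨Dvd.intro _ d6, by norm_num⟩) d5
    subst d8
    have : w * e11 = 1 := by omega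
    have := Nat.eq_one_of_mul_eq_one_left this
    omega
  · exact count hn hn19 (by rw [card_orderOf_eq_prime Q hQ, d1])

theorem main (m : ℕ) : ∀ (G : Type u) [Group G] [Finite G], Nat.card G = m → m ∣ 175560 →
    m < 175560 → ∀ P : Sylow 19 G, (P : Subgroup G).Normal := by
  induction m using Nat.strong_induction_on with
  | _ m ih =>
  intro G _ _ hm h1 h2 P
  subst hm
  have ih' : ∀ (H : Type u) [Group H] [Finite H], Nat.card H ∣ Nat.card G → Nat.card H < Nat.card G →
      ∀ P : Sylow 19 H, (P : Subgroup H).Normal := fun H _ _ a b =>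
    ih _ b H rfl (a.trans h1) (b.trans h2)
  by_cases h19 : 19 ∣ Nat.card G
  swap
  · obtain ⟨k, hk⟩ := P.2.exists_card_eq
    rcases k with _ | k
    · rw [card_eq_one.1 hk]; infer_instance
    · exact absurd ((dvd_pow_self 19 k.succ_ne_zero).trans (hk ▸ card_subgroup_dvd_card _)) h19
  by_cases hc : IsMulCommutative G
  · exact ⟨fun n hn g => by rwa [hc.is_comm.comm g n, mul_inv_cancel_right]⟩
  by_cases hs : ∃ N : Subgroup G, N.Normal ∧ N ≠ ⊥ ∧ N ≠ ⊤
  · obtain ⟨N, _, a, b⟩ := hs
    exact step h1 ih' N a b P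
  have : Nontrivial G := Finite.one_lt_card_iff_nontrivial.1
    (lt_of_lt_of_le (by norm_num) (Nat.le_of_dvd Nat.card_pos h19))
  have : IsSimpleGroup G := ⟨fun N hN => by by_contra h; push Not at h; exact hs ⟨N, hN, h⟩⟩
  refine (simple_case hc h1 h2.ne h19 fun H hH => ih' H (card_subgroup_dvd_card H) ?_).elim
  have := H.card_mul_index
  have h3 := one_lt_index_of_ne_top hH
  have : 0 < Nat.card H := Nat.card_pos
  nlinarith

/-- A finite group of order 175560 = 2³·3·5·7·11·19 is either simple or has a normal Sylow 19-subgroup. -/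
theorem result {G : Type*} [Group G] [Finite G] (hG : Nat.card G = 175560) : IsSimpleGroup G ∨ ∀ P : Sylow 19 G, (P : Subgroup G).Normal := by
  by_cases hs : ∃ N : Subgroup G, N.Normal ∧ N ≠ ⊥ ∧ N ≠ ⊤
  · obtain ⟨N, _, a, b⟩ := hs
    exact Or.inr (step hG.dvd (fun H _ _ c d => main _ H rfl (hG ▸ c) (hG ▸ d)) N a b)
  have : Nontrivial G := Finite.one_lt_card_iff_nontrivial.1 (by rw [hG]; norm_num)
  exact Or.inl ⟨fun N hN => by by_contra h; push Not at h; exact hs ⟨N, hN, h⟩⟩

end Cfsg.Agent.S4274
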