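import Cfsg.Statements.S4330
import Cfsg.Agent.FGS.NFx2
import Cfsg.Agent.ORD.KLow5
import Cfsg.Agent.FGS.NilpBasic
import Cfsg.Agent.SOLV.Fitting
import Cfsg.Agent.SOLV.MinNormal

set_option autoImplicit false
open Pointwise
open Cfsg

namespace Cfsg.Agent.S4330

open Subgroup CL CL.SolvLin in
theorem elt.{u} {p : ℕ} [hp : Fact p.Prime] (hp2 : p ≠ 2) (n : ℕ) :
    ∀ (G : Type u) [Group G] [Finite G] [Group.IsSolvable G], Nat.card G = n → ∀ a : G,
      (∀ c : G, ∃ g : G, IsConj c g ∧ ∃ X : Subgroup G, IsPGroup p X ∧ a ∈ X ∧ g * a * g⁻¹ ∈ X) →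
      a ∈ Cfsg.pCore p G := by
  induction n using Nat.strong_induction_on with
  | _ n ih =>
  intro G _ _ _ hn a h
  rcases subsingleton_or_nontrivial G with h1 | h1
  · rw [Subsingleton.elim a 1]; exact one_mem _
  obtain ⟨N, r, hN, hr, -, hNr⟩ := exists_isMinNormal_isElementaryAbelian G
  have := hN.normal
  have := Fact.mk hr
  have hab : ∀ x ∈ N, ∀ y ∈ N, x * y = y * x := fun x hx y hy => congrArg Subtype.val
    ((hN.isMulCommutative_of_isSolvable inferInstance).is_comm.comm ⟨x, hx⟩ ⟨y, hy⟩)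
  let π := QuotientGroup.mk' N
  have hπ : Function.Surjective π := QuotientGroup.mk'_surjective N
  have hlt : Nat.card (G ⧸ N) < n := by
    rw [← hn, ← N.index_mul_card, index]
    exact lt_mul_of_one_lt_right Nat.card_pos ((one_lt_card_iff_ne_bot _).2 hN.ne_bot)
  have h2 : π a ∈ Cfsg.pCore p (G ⧸ N) := ih _ hlt (G ⧸ N) rfl (π a) fun c => by
    obtain ⟨c, rfl⟩ := hπ c
    obtain ⟨g, hg, X, hX, ha, hga⟩ := h c
    exact ⟨π g, π.map_isConj hg, X.map π, hX.map π, ⟨a, ha, rfl⟩, ⟨_, hga, by simp⟩⟩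
  by_cases hrp : r = p
  · subst hrp
    exact (comap_mk'_pCore N hNr).le h2
  let P := (Cfsg.pCore p (G ⧸ N)).comap π
  have hPn : P.Normal := inferInstance
  have hPp : ∀ x ∈ P, ∃ k : ℕ, x ^ p ^ k ∈ N := fun x hx => by
    obtain ⟨k, hk⟩ := isPGroup_pCore p (G ⧸ N) ⟨π x, hx⟩
    exact ⟨k, (QuotientGroup.eq_one_iff _).1 (by
      have := congrArg Subtype.val hk
      simpa [π] using this)⟩
  obtain ⟨k, hk⟩ : ∃ k : ℕ, a ^ p ^ k = 1 := by
    obtain ⟨-, -, X, hX, ha, -⟩ := h 1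
    exact (hX ⟨a, ha⟩).imp fun _ e => congrArg Subtype.val e
  by_cases hc : a ∈ centralizer (N : Set G)
  · let C := P ⊓ centralizer (N : Set G)
    let f : C →* Cfsg.pCore p (G ⧸ N) := (π.comp C.subtype).codRestrict _ fun x => x.2.1
    have := (isPGroup_pCore p (G ⧸ N)).isNilpotent
    have : Group.IsNilpotent C := Subgroup.isNilpotent_of_ker_le_center f fun x hx =>
      mem_center_iff.2 fun y => Subtype.ext (y.2.2 x ((QuotientGroup.eq_one_iff _).1
        (congrArg Subtype.val (MonoidHom.mem_ker.1 hx)))).symm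
    refine map_pCore_le_of_isSubnormal (H := C) (Normal.isSubnormal inferInstance)
      ⟨⟨a, h2, hc⟩, ?_, rfl⟩
    exact le_pCore_of_isNilpotent (H := zpowers (⟨a, h2, hc⟩ : C))
      (FGS.isPGroup_zpowers_of_pow_eq_one (k := k) (Subtype.ext hk)) (mem_zpowers _)
  exfalso
  obtain ⟨v, hv⟩ := NFx.mv hp2 _ G (AbMod N hab) rfl
    (KLow.irr_abMod hab fun L hL _ => hN.eq_bot_or_eq L hL) P hPn (fun x hx => by
      obtain ⟨j, hj⟩ := hPp x hx
      exact ⟨j, fun v => AbMod.val_inj (by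
        rw [AbMod.val_smul, hab _ hj _ v.val_mem, mul_inv_cancel_right])⟩) a h2 (by
      by_contra hcon
      push Not at hcon
      refine hc fun y hy => ?_
      have := congrArg AbMod.val (hcon (AbMod.mk hab y hy))
      rw [AbMod.val_smul, AbMod.val_mk] at this
      exact (mul_inv_eq_iff_eq_mul.1 this).symm)
  obtain ⟨g, hg, X, hX, ha, hga⟩ := h v.val
  obtain ⟨x, rfl⟩ := isConj_iff.1 hg
  have hgN : x * v.val * x⁻¹ ∈ N := hN.normal.conj_mem _ v.val_mem x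
  set g := x * v.val * x⁻¹ with hgd
  have h3 : a⁻¹ * (g * a * g⁻¹) ∈ X ⊓ N := mem_inf.2 ⟨mul_mem (inv_mem ha) hga, by
    rw [show a⁻¹ * (g * a * g⁻¹) = a⁻¹ * g * a⁻¹⁻¹ * g⁻¹ by group]
    exact mul_mem (hN.normal.conj_mem g hgN a⁻¹) (inv_mem hgN)⟩
  rw [disjoint_iff.1 (IsPGroup.disjoint_of_ne p r (Ne.symm hrp) X N hX hNr), mem_bot,
    inv_mul_eq_one, eq_mul_inv_iff_mul_eq] at h3
  refine hv x⁻¹ (AbMod.val_inj ?_)
  rw [AbMod.val_smul]
  calc x⁻¹ * a * x⁻¹⁻¹ * v.val * (x⁻¹ * a * x⁻¹⁻¹)⁻¹ = x⁻¹ * (a * g) * a⁻¹ * x := by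
        rw [hgd]; group
    _ = v.val := by rw [h3, hgd]; group

theorem result {G : Type*} [Group G] [Finite G]
    (hG : Group.IsSolvable G) (p : ℕ) [Fact p.Prime] (hp : p ≠ 2) (A : Subgroup G) (hA : IsPGroup p A)
    (h : ∀ c : G, ∃ g : G, IsConj c g ∧ (A.subgroupOf (A ⊔ MulAut.conj g • A)).IsSubnormal) :
    A ≤ Cfsg.pCore p G := by
  intro a ha
  refine elt hp _ G rfl a fun c => ?_
  obtain ⟨g, hg, hs⟩ := h c
  refine ⟨g, hg, A ⊔ MulAut.conj g • A, ?_, Subgroup.mem_sup_left ha,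
    Subgroup.mem_sup_right (Subgroup.smul_mem_pointwise_smul a _ A ha)⟩
  set X := A ⊔ MulAut.conj g • A with hX
  have h1 := CL.le_pCore_of_isSubnormal hs (hA.comap_subtype)
  have h2 : IsPGroup p ((MulAut.conj g • A).subgroupOf X) :=
    (hA.map (MulAut.conj g).toMonoidHom).comap_subtype
  have h3 := IsPGroup.to_sup_of_normal_left (CL.isPGroup_pCore p X) h2
  have h4 : Cfsg.pCore p X ⊔ (MulAut.conj g • A).subgroupOf X = ⊤ := by
    rw [eq_top_iff, ← Subgroup.subgroupOf_self, hX]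
    rw [Subgroup.subgroupOf_sup le_sup_left le_sup_right]
    exact sup_le_sup_right h1 _
  rw [h4] at h3
  exact h3.of_equiv Subgroup.topEquiv

end Cfsg.Agent.S4330
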