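import Cfsg.Statements.S4338
import Cfsg.Agent.FGS.NpSq2
import Cfsg.Agent.S4303

set_option autoImplicit false
open Cfsg

namespace Cfsg.Agent.S4338

open CL.NpSq

theorem prod_mem {p : ℕ} (hp : 1 < p) : ∀ l : List ℕ, (∀ m ∈ l, m % p = 1) → l.prod < p ^ 2 →
    l.prod = 1 ∨ l.prod ∈ l
  | [], _, _ => Or.inl rfl
  | a :: l, h, hl => by
    rw [List.prod_cons] at hl ⊢
    have ha := h a (by simp)
    have h1 : l.prod % p = 1 := by
      rw [List.prod_nat_mod, List.map_congr_left (g := fun _ => 1) fun m hm => h m (by simp [hm])]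
      simp [Nat.mod_eq_of_lt hp]
    have key : ∀ x, x % p = 1 → x ≠ 1 → p ≤ x := fun x hx e => by
      by_contra k
      rw [Nat.mod_eq_of_lt (by omega)] at hx
      exact e hx
    by_cases e : a = 1
    · rw [e, one_mul] at hl ⊢
      exact (prod_mem hp l (fun m hm => h m (by simp [hm])) hl).imp_right fun k => by simp [k]
    by_cases e' : l.prod = 1
    · rw [e', mul_one]
      simp
    · have := Nat.mul_le_mul (key _ ha e) (key _ h1 e')
      rw [sq] at hl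
      omega

/-- Let G be a finite group and p a prime, and suppose the number n of Sylow p-subgroups of G is less than p². Then n is a power of a prime (possibly 1), or p = 13 and n = 144, or p is odd with p + 1 not a power of 2 and n = 1 + p, or p > 3 with p - 1 a power of 2 and n = 1 + (p - 3)p/2, or p > 3 with p + 1 a power of 2 and n = 1 + (p + 3)p/2. -/
theorem result {G : Type*} [Group G] [Finite G]
    (p : ℕ) [Fact p.Prime] (hn : Nat.card (Sylow p G) < p ^ 2) :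
    (∃ q k : ℕ, q.Prime ∧ Nat.card (Sylow p G) = q ^ k) ∨
    (p = 13 ∧ Nat.card (Sylow p G) = 144) ∨
    (p ≠ 2 ∧ (¬ ∃ k : ℕ, p + 1 = 2 ^ k) ∧ Nat.card (Sylow p G) = 1 + p) ∨
    (3 < p ∧ (∃ k : ℕ, p = 2 ^ k + 1) ∧ 2 * Nat.card (Sylow p G) = 2 + (p - 3) * p) ∨
    (3 < p ∧ (∃ k : ℕ, p + 1 = 2 ^ k) ∧ 2 * Nat.card (Sylow p G) = 2 + (p + 3) * p) := by
  have hp := (Fact.out : p.Prime)
  obtain ⟨l, h1, h2⟩ := Cfsg.Agent.S4303.result (G := G) p
  have one : Nat.card (Sylow p G) = 1 → ∃ q k : ℕ, q.Prime ∧ Nat.card (Sylow p G) = q ^ k :=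
    fun e => ⟨2, 0, Nat.prime_two, e⟩
  rcases prod_mem hp.one_lt l (fun m hm => (h2 m hm).elim (fun k => k.2) (by
    rintro ⟨S, _, _, -, rfl⟩
    exact Eq.trans (card_sylow_modEq_one p S) (Nat.mod_eq_of_lt hp.one_lt))) (h1 ▸ hn) with h | h
  · exact Or.inl (one (h1 ▸ h))
  rw [h1] at h
  rcases h2 _ h with ⟨⟨q, k, hq, -, e⟩, -⟩ | ⟨S, _, _, hS, e⟩
  · exact Or.inl ⟨q, k, hq.nat_prime, e.symm⟩
  by_cases hc : IsMulCommutative S
  · obtain ⟨P⟩ : Nonempty (Sylow p S) := inferInstance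
    exact Or.inl (one (e.trans ((CL.SN.card_sylow_eq_one_iff_normal P).2
      ⟨fun x hx g => by rwa [mul_comm' g x, mul_inv_cancel_right]⟩)))
  by_cases hd : p ∣ Nat.card S
  swap
  · exact Or.inl (one (e.trans (CL.SN.card_sylow_eq_one_of_not_dvd hd)))
  obtain ⟨h3, h4⟩ := val hc hd (e ▸ hn)
  rw [← e] at h4
  rcases h4 with h4 | h4 | h4 | h4
  · by_cases h5 : ∃ k, p + 1 = 2 ^ k
    · obtain ⟨k, h5⟩ := h5
      exact Or.inl ⟨2, k, Nat.prime_two, h4.trans h5⟩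
    · exact Or.inr (Or.inr (Or.inl ⟨by omega, h5, by omega⟩))
  · exact Or.inr (Or.inr (Or.inr (Or.inl ⟨h3, h4⟩)))
  · exact Or.inr (Or.inr (Or.inr (Or.inr ⟨h3, h4⟩)))
  · exact Or.inr (Or.inl h4)

end Cfsg.Agent.S4338
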