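import Cfsg.Statements.S4339
import Cfsg.Agent.FGS.NpSq2
import Cfsg.Agent.S4303
import Cfsg.Agent.SOLV.PSolvable

set_option autoImplicit false
open Cfsg

namespace Cfsg.Agent.S4339

open CL CL.NpSq CL.SN

universe u

/-- A power of a prime. -/
def PP (n : ℕ) : Prop := ∃ q k : ℕ, q.Prime ∧ n = q ^ k

theorem PP.of_dvd {a b : ℕ} (h : PP b) (hd : a ∣ b) : PP a := by
  obtain ⟨q, k, hq, rfl⟩ := h
  obtain ⟨j, -, e⟩ := (Nat.dvd_prime_pow hq).1 hd
  exact ⟨q, j, hq, e⟩

theorem PP.eq_one {a b : ℕ} (h : PP (a * b)) (hc : a.Coprime b) : a = 1 ∨ b = 1 := by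
  obtain ⟨q, k, hq, e⟩ := h
  obtain ⟨i, -, rfl⟩ := (Nat.dvd_prime_pow hq).1 (e ▸ dvd_mul_right a b)
  obtain ⟨j, -, rfl⟩ := (Nat.dvd_prime_pow hq).1 (e ▸ dvd_mul_left b (q ^ i))
  rcases Nat.eq_zero_or_pos i with rfl | hi
  · simp
  rcases Nat.eq_zero_or_pos j with rfl | hj
  · simp
  exact absurd (Nat.eq_one_of_dvd_coprimes hc (dvd_pow_self q hi.ne') (dvd_pow_self q hj.ne'))
    hq.ne_one

theorem eq_one_of_mul_lt {p a b : ℕ} (hp : 1 < p) (ha : a ≡ 1 [MOD p]) (hb : b ≡ 1 [MOD p])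
    (h : a * b < p ^ 2) : a = 1 ∨ b = 1 := by
  have key : ∀ x, x ≡ 1 [MOD p] → x ≠ 1 → p ≤ x := fun x hx e => by
    by_contra k
    rw [Nat.ModEq, Nat.mod_eq_of_lt (by omega), Nat.mod_eq_of_lt hp] at hx
    exact e hx
  by_contra! k
  have := Nat.mul_le_mul (key _ ha k.1) (key _ hb k.2)
  rw [sq] at h
  omega

theorem pp_of_parts {p n : ℕ} (hp : 1 < p) (h0 : n ≠ 0) (h1 : n ≡ 1 [MOD p]) (hn : n < p ^ 2)
    (h : ∀ r : ℕ, r.Prime → r ^ n.factorization r ≡ 1 [MOD p]) : PP n := by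
  by_cases e : n = 1
  · exact ⟨2, 0, Nat.prime_two, e⟩
  obtain ⟨r, hr, hd⟩ := Nat.exists_prime_and_dvd e
  have h2 := Nat.ordProj_mul_ordCompl_eq_self n r
  have h3 : n / r ^ n.factorization r ≡ 1 [MOD p] := by
    have := ((h r hr).mul_right (n / r ^ n.factorization r)).symm
    rw [one_mul, h2] at this
    exact this.trans h1
  rcases eq_one_of_mul_lt hp (h r hr) h3 (h2.symm ▸ hn) with k | k
  · exact absurd (Nat.pow_eq_one.1 k) (not_or.2 ⟨hr.ne_one,
      (hr.factorization_pos_of_dvd h0 hd).ne'⟩)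
  · exact ⟨r, _, hr, by rw [k, mul_one] at h2; exact h2.symm⟩

theorem pp_of_solv {p : ℕ} [hp : Fact p.Prime] (G : Type u) [Group G] [Finite G] :
    IsPSolvable p G → Nat.card (Sylow p G) < p ^ 2 → PP (Nat.card (Sylow p G)) := by
  refine card_induction (P := fun G _ _ => IsPSolvable p G → Nat.card (Sylow p G) < p ^ 2 →
    PP (Nat.card (Sylow p G))) ?_ G
  intro G _ _ ih hs hn
  rcases subsingleton_or_nontrivial G with h0 | h0
  · exact ⟨2, 0, Nat.prime_two, card_sylow_eq_one_of_not_dvd (by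
      rw [Nat.card_of_subsingleton (1 : G)]
      exact hp.out.not_dvd_one)⟩
  rcases CL.IsPSolvable.pCore_ne_bot_or hs with h | h
  · rw [← card_sylow_quotient_of_isPGroup _ (isPGroup_pCore p G)] at hn ⊢
    exact ih _ (card_quotient_lt h) (CL.IsPSolvable.quotient hs _) hn
  obtain ⟨P⟩ : Nonempty (Sylow p G) := inferInstance
  have hK : ¬ p ∣ Nat.card (pPrimeCore p G) :=
    hp.out.coprime_iff_not_dvd.1 (coprime_card_pPrimeCore p G).symm
  have hN : (P : Subgroup G) ≤ Subgroup.normalizer (pPrimeCore p G : Set G) :=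
    Subgroup.le_normalizer_of_normal
  have e := card_sylow_eq_quotient_mul P (pPrimeCore p G)
  rw [← Subgroup.inf_relIndex_right (Subgroup.normalizer _), normalizer_inf_eq_centralizer_inf hN
    (CL.MSS.eq_bot_of_isPGroup_of_not_dvd (P.isPGroup'.to_le inf_le_left) inf_le_right hK),
    Subgroup.inf_relIndex_right] at e
  have h2 := relIndex_centralizer_modEq_one P.isPGroup' hN hK
  rcases eq_one_of_mul_lt hp.out.one_lt (card_sylow_modEq_one p _) h2 (e ▸ hn) with k | k
  · rw [k, one_mul] at e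
    rw [e] at hn ⊢
    exact pp_of_parts hp.out.one_lt Subgroup.index_ne_zero_of_finite h2 hn
      (Cfsg.Agent.S4303.primePart_modEq P.isPGroup' hN hK)
  · rw [k, mul_one] at e
    rw [e] at hn ⊢
    exact ih _ (card_quotient_lt h) (CL.IsPSolvable.quotient hs _) hn

theorem solv_of_pp {p : ℕ} [hp : Fact p.Prime] (h3 : ¬ (3 < p ∧ ∃ k : ℕ, p + 1 = 2 ^ k))
    (G : Type u) [Group G] [Finite G] :
    Nat.card (Sylow p G) < p ^ 2 → PP (Nat.card (Sylow p G)) → IsPSolvable p G := by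
  refine card_induction (P := fun G _ _ => Nat.card (Sylow p G) < p ^ 2 →
    PP (Nat.card (Sylow p G)) → IsPSolvable p G) ?_ G
  intro G _ _ ih hn h
  by_cases hd : p ∣ Nat.card G
  swap
  · exact isPSolvable_of_coprime (hp.out.coprime_iff_not_dvd.2 hd).symm
  by_cases hc : IsMulCommutative G
  · have : Group.IsSolvable G := isSolvable_of_comm fun a b => mul_comm' a b
    exact isPSolvable_of_isSolvable p G
  by_cases hs : IsSimpleGroup G
  · exfalso
    obtain ⟨h4, h5⟩ := val hc hd hn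
    have h6 := hp.out.eq_two_or_odd'.resolve_left (by omega)
    rcases h5 with h5 | ⟨⟨k, h5⟩, h7⟩ | h5 | ⟨-, h5⟩
    · obtain ⟨q, k, hq, e⟩ := h
      rw [h5] at e
      have : 2 ∣ q ^ k := e ▸ h6.add_one.two_dvd
      rw [← (Nat.prime_dvd_prime_iff_eq Nat.prime_two hq).1 (Nat.prime_two.dvd_of_dvd_pow this)] at e
      exact h3 ⟨h4, k, e⟩
    · obtain ⟨k, rfl⟩ : ∃ j, k = j + 2 := by
        rcases k with _ | _ | k
        · omega
        · omega
        · exact ⟨k, rfl⟩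
      have h8 := Nat.one_le_two_pow (n := k)
      obtain ⟨c, hc⟩ : ∃ c, 2 ^ k = c + 1 := ⟨2 ^ k - 1, by omega⟩
      have h9 : Nat.card (Sylow p G) = 2 ^ (k + 1) * (4 * c + 3) := by
        have h10 : p = 4 * c + 5 := by rw [h5, pow_add, hc]; ring
        rw [show p - 3 = 4 * c + 2 by omega] at h7
        rw [pow_succ, hc]
        generalize Nat.card (Sylow p G) = n at h7
        subst h10
        nlinarith
      rw [h9] at h
      rcases h.eq_one ((Nat.coprime_two_left.2 ⟨2 * c + 1, by ring⟩).pow_left _) with k1 | k1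
      · rw [pow_succ] at k1
        omega
      · omega
    · exact h3 ⟨h4, h5.1⟩
    · rw [h5] at h
      have := PP.eq_one (a := 16) (b := 9) h (by norm_num)
      omega
  have h0 : Nontrivial G := by
    by_contra k
    rw [not_nontrivial_iff_subsingleton] at k
    exact hc ⟨⟨fun a b => Subsingleton.elim _ _⟩⟩
  obtain ⟨K, hKn, hK1, hK2⟩ : ∃ K : Subgroup G, K.Normal ∧ K ≠ ⊥ ∧ K ≠ ⊤ := by
    by_contra! hcon
    exact hs ⟨fun K hK => or_iff_not_imp_left.2 (hcon K hK)⟩
  obtain ⟨P⟩ : Nonempty (Sylow p G) := inferInstance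
  have e := card_sylow_eq_mul_mul P K
  have d1 : Nat.card (Sylow p (G ⧸ K)) ∣ Nat.card (Sylow p G) :=
    e ▸ (dvd_mul_right _ _).mul_right _
  have d2 : Nat.card (Sylow p K) ∣ Nat.card (Sylow p G) := e ▸ (dvd_mul_left _ _).mul_right _
  exact CL.IsPSolvable.of_normal_of_quotient K
    (ih K (card_lt_of_ne_top hK2) ((Nat.le_of_dvd Nat.card_pos d2).trans_lt hn) (h.of_dvd d2))
    (ih _ (card_quotient_lt hK1) ((Nat.le_of_dvd Nat.card_pos d1).trans_lt hn) (h.of_dvd d1))

/-- Let G be a finite group and p a prime such that it is not the case that p > 3 with p + 1 a power of 2. If the number of Sylow p-subgroups of G is less than p², then G is p-solvable if and only if that number is a power of a prime (possibly 1). -/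
theorem result {G : Type*} [Group G] [Finite G]
    (p : ℕ) [Fact p.Prime] (hp : ¬ (3 < p ∧ ∃ k : ℕ, p + 1 = 2 ^ k)) (hn : Nat.card (Sylow p G) < p ^ 2) :
    Cfsg.IsPSolvable p G ↔ ∃ q k : ℕ, q.Prime ∧ Nat.card (Sylow p G) = q ^ k := by
  exact ⟨fun h => pp_of_solv G h hn, solv_of_pp hp G hn⟩

end Cfsg.Agent.S4339
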