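import Cfsg.Statements.S4340
import Cfsg.Agent.FGS.NpSq2
import Cfsg.Agent.SPOR.Ord33

set_option autoImplicit false
open Cfsg

namespace Cfsg.Agent.S4340

open CL.NpSq

/-- Let S be a finite non-abelian simple group and p a prime dividing its order. Then S has fewer than p² Sylow p-subgroups if and only if one of the following holds: S is isomorphic to PSL(2, p); or p = 13 and S is isomorphic to PSL(3, 3); or p > 3, p - 1 is a power of 2 and S is isomorphic to PSL(2, p - 1); or p > 3, p + 1 is a power of 2 and S is isomorphic to PSL(2, p + 1). -/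
theorem result {S : Type*} [Group S] [Finite S] [IsSimpleGroup S]
    (hS : ¬ IsMulCommutative S) (p : ℕ) [Fact p.Prime] (hp : p ∣ Nat.card S) :
    Nat.card (Sylow p S) < p ^ 2 ↔
      ((∃ (F : Type) (_ : Field F) (_ : Fintype F), Fintype.card F = p ∧
          Nonempty (S ≃* Matrix.ProjectiveSpecialLinearGroup (Fin 2) F)) ∨
       (p = 13 ∧ ∃ (F : Type) (_ : Field F) (_ : Fintype F), Fintype.card F = 3 ∧
          Nonempty (S ≃* Matrix.ProjectiveSpecialLinearGroup (Fin 3) F)) ∨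
       (3 < p ∧ (∃ k : ℕ, p = 2 ^ k + 1) ∧ ∃ (F : Type) (_ : Field F) (_ : Fintype F), Fintype.card F = p - 1 ∧
          Nonempty (S ≃* Matrix.ProjectiveSpecialLinearGroup (Fin 2) F)) ∨
       (3 < p ∧ (∃ k : ℕ, p + 1 = 2 ^ k) ∧ ∃ (F : Type) (_ : Field F) (_ : Fintype F), Fintype.card F = p + 1 ∧
          Nonempty (S ≃* Matrix.ProjectiveSpecialLinearGroup (Fin 2) F))) := by
  obtain ⟨P⟩ : Nonempty (Sylow p S) := inferInstance
  have h0 := card_sylow_ne_one hS hp
  constructor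
  · intro hn
    rcases CL.D1.nagai hS P (card_eq hS hp hn P) hn with h | ⟨rfl, h⟩ | h | h
    · exact Or.inl h.2
    · exact Or.inr (Or.inl ⟨rfl, CL.Ord.iso_L33 h⟩)
    · exact Or.inr (Or.inr (Or.inl h))
    · exact Or.inr (Or.inr (Or.inr h))
  · have h2 := (Fact.out : p.Prime).two_le
    rintro (⟨F, _, _, h1, ⟨e⟩⟩ | ⟨rfl, F, _, _, h1, ⟨e⟩⟩ | ⟨h3, ⟨m, h4⟩, F, _, _, h1, ⟨e⟩⟩ |
      ⟨h3, ⟨m, h4⟩, F, _, _, h1, ⟨e⟩⟩)
    · rw [val_psl h1 e]
      nlinarith
    · rcases val_13 ((Nat.card_congr e.toEquiv).trans (Cfsg.Agent.S3412.card_L33 h1)) with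
        h | h | h <;> rw [h] <;> norm_num
    · have h5 := (val_minus h3 ((Nat.card_congr e.toEquiv).trans
        (card_minus (m := m) (by omega) h1 h3))).resolve_left h0
      obtain ⟨c, rfl⟩ : ∃ c, p = c + 3 := ⟨p - 3, by omega⟩
      rw [Nat.add_sub_cancel] at h5
      nlinarith
    · rcases (val_plus h3 ((Nat.card_congr e.toEquiv).trans
        (card_plus (m := m) (by omega) h1))).resolve_left h0 with h5 | h5 <;> nlinarith

end Cfsg.Agent.S4340
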