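import Cfsg.Statements.S4348

set_option autoImplicit false
open Cfsg

namespace Cfsg.Agent.S4348

/-- Let G be a finite group, p a prime and P a Sylow p-subgroup of G, and let O_p(G) be the largest normal p-subgroup of G. If P/O_p(G) is cyclic, then some element of p-power order of G lies in exactly one Sylow p-subgroup. -/
theorem result {G : Type*} [Group G] [Finite G]
    (p : ℕ) [Fact p.Prime] (P : Sylow p G)
    [hn : ((Cfsg.pCore p G).subgroupOf (P : Subgroup G)).Normal]
    (hc : IsCyclic ((P : Subgroup G) ⧸ (Cfsg.pCore p G).subgroupOf (P : Subgroup G))) :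
    ∃ x : G, (∃ k : ℕ, orderOf x = p ^ k) ∧ ∃! Q : Sylow p G, x ∈ Q := by
  obtain ⟨y, hy⟩ := hc.exists_generator
  induction y using QuotientGroup.induction_on with
  | H x =>
    refine ⟨x, ?_, P, x.2, fun Q hQ => ?_⟩
    · obtain ⟨k, hk⟩ := IsPGroup.iff_orderOf.1 P.isPGroup' x
      exact ⟨k, by rw [← hk]; exact Subgroup.orderOf_coe x⟩
    · have hO : Cfsg.pCore p G ≤ Q := by
        apply sSup_le
        rintro N ⟨hN, hNp⟩
        exact hNp.le_sylow_of_normal Q
      have hle : (P : Subgroup G) ≤ Q := by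
        intro z hz
        obtain ⟨n, hn'⟩ := Subgroup.mem_zpowers_iff.1 (hy ((⟨z, hz⟩ : P) : _ ⧸ _))
        rw [← QuotientGroup.mk_zpow, QuotientGroup.eq, Subgroup.mem_subgroupOf] at hn'
        have h1 : ((x : G) ^ n)⁻¹ * z ∈ (Q : Subgroup G) := hO (by simpa using hn')
        have h2 : (x : G) ^ n ∈ (Q : Subgroup G) := (Q : Subgroup G).zpow_mem hQ n
        simpa using (Q : Subgroup G).mul_mem h2 h1
      exact Sylow.ext (P.is_maximal' Q.isPGroup' hle)

end Cfsg.Agent.S4348
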