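import Cfsg.Statements.S4351
import Mathlib
import Cfsg.Agent.FGS.Mart3
import Cfsg.Agent.FGS.CNCIT
import Cfsg.Agent.FGS.CITFive
import Cfsg.Agent.S0249
import Cfsg.Agent.S0254

set_option autoImplicit false
open Cfsg

namespace Cfsg.Agent.S4351

/-- Let G be a finite non-solvable group in which the centralizer of every non-identity element is nilpotent. Then G is a non-abelian simple group; or G has a normal subgroup of index 2 isomorphic to PSL(2, 9); or G has a nontrivial normal elementary abelian 2-subgroup N such that G/N is isomorphic to PSL(2, q) for some q = 2ⁿ ≥ 4 or is a simple group of Suzuki type (simple, of the order of a Suzuki group). -/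
theorem result {G : Type*} [Group G] [Finite G] (hG : ¬ Group.IsSolvable G)
    (hCN : ∀ x : G, x ≠ 1 → Group.IsNilpotent (Subgroup.centralizer ({x} : Set G))) :
    (IsSimpleGroup G ∧ ¬ IsMulCommutative G) ∨
    (∃ (N : Subgroup G), N.Normal ∧ N.index = 2 ∧ ∃ (F : Type) (_ : Field F) (_ : Fintype F), Fintype.card F = 9 ∧
        Nonempty (N ≃* Matrix.ProjectiveSpecialLinearGroup (Fin 2) F)) ∨
    (∃ (N : Subgroup G) (_ : N.Normal), N ≠ ⊥ ∧ IsPGroup 2 N ∧ IsMulCommutative N ∧ (∀ x ∈ N, x * x = 1) ∧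
        ((∃ (F : Type) (_ : Field F) (_ : Fintype F), CharP F 2 ∧ 4 ≤ Fintype.card F ∧
            Nonempty (G ⧸ N ≃* Matrix.ProjectiveSpecialLinearGroup (Fin 2) F)) ∨ Cfsg.IsSuzuki (G ⧸ N))) := by
  classical
  have hI := CL.CIT.isCIT_of_cn' hG hCN
  have hs : ∀ {X : Type} [Group X], IsSimpleGroup X → (G ≃* X) →
      IsSimpleGroup G ∧ ¬ IsMulCommutative G := fun h e =>
    ⟨e.isSimpleGroup, fun _ => hG (CL.isSolvable_of_isMulCommutative G)⟩
  rcases hI.struct hG with h | ⟨-, ⟨F, _, _, -, h7, -, ⟨e⟩⟩ | ⟨F, _, _, -, ⟨e⟩⟩ | ⟨N, hN, h1, ⟨e⟩⟩⟩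
  · rcases h with ⟨F, _, _, n, hn, hF, ⟨e⟩⟩ | ⟨F, _, _, m, hm, hF, ⟨e⟩⟩
    · have h4 : 4 ≤ Fintype.card F := hF ▸ Nat.pow_le_pow_right (n := 2) (by decide) hn
      by_cases h0 : pCore 2 G = ⊥
      · exact .inl (hs (CL.CITC.isSimpleGroup_psl2 h4)
          ((QuotientGroup.quotientBot.symm.trans (QuotientGroup.quotientMulEquivOfEq h0.symm)).trans e))
      have h1 := (hI.higman (CL.isPGroup_pCore 2 G) hn hF e).1
      exact .inr (.inr ⟨_, inferInstance, h0, CL.isPGroup_pCore 2 G, h1.1, fun x hx => by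
        rw [← sq]; exact h1.2 x hx, .inl ⟨F, _, _, (CharP.charP_iff_prime_eq_zero Nat.prime_two).2
          (CL.CITC.two_eq_zero_of_card hF), h4, ⟨e⟩⟩⟩)
    · have := CL.Sz.charP_two hF
      obtain ⟨t, ht0, ht1⟩ := CL.Sz.exists_ne_zero_one hm hF
      have h2 := (CL.Sz.lieModel hF).isSimpleGroup ht0 ht1
      by_cases h0 : pCore 2 G = ⊥
      · exact .inl (hs h2
          ((QuotientGroup.quotientBot.symm.trans (QuotientGroup.quotientMulEquivOfEq h0.symm)).trans e))
      have h1 := CL.Mart.main ((CL.Sz.lieModel hF).ofEquiv e) hI (QuotientGroup.mk' (pCore 2 G))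
        (QuotientGroup.mk'_surjective _) (by rw [QuotientGroup.ker_mk']; exact CL.isPGroup_pCore 2 G) ht0 ht1
      rw [QuotientGroup.ker_mk'] at h1
      have := e.isSimpleGroup
      exact .inr (.inr ⟨_, inferInstance, h0, CL.isPGroup_pCore 2 G, h1.1, h1.2,
        .inr (CL.CIT.isSuzuki_of_iso ⟨F, _, _, m, hm, hF, ⟨e⟩⟩)⟩)
  · exact .inl (hs (CL.CITC.isSimpleGroup_psl2 (by omega)) e)
  · exact .inl (hs (Cfsg.Agent.S0249.result 3 le_rfl) e)
  · rcases (Nat.dvd_prime Nat.prime_two).1 h1 with h1 | h1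
    · obtain rfl := Subgroup.index_eq_one.1 h1
      exact .inl (hs (alternatingGroup.isSimpleGroup (by simp)) (Subgroup.topEquiv.symm.trans e))
    · have : Fintype (GaloisField 3 2) := Fintype.ofFinite _
      have hF : Fintype.card (GaloisField 3 2) = 9 := by
        rw [← Nat.card_eq_fintype_card, GaloisField.card 3 2 two_ne_zero]; rfl
      obtain ⟨f⟩ := Cfsg.Agent.S0254.result hF
      exact .inr (.inl ⟨N, hN, h1, _, _, _, hF, ⟨e.trans f.symm⟩⟩)

end Cfsg.Agent.S4351
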