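import Cfsg.Statements.S4357
import Cfsg.Agent.KSG.SL2Solv

set_option autoImplicit false
open Cfsg CL.GL2 CL.Char

namespace Cfsg.Agent.S4357

/-- some Sylow subgroup is covered by the others -/
def Red (p : ℕ) (G : Type*) [Group G] : Prop := ∃ Q : Sylow p G, ∀ x ∈ Q, ∃ P : Sylow p G, P ≠ Q ∧ x ∈ P

theorem red_iff {p : ℕ} [Fact p.Prime] {G : Type*} [Group G] [Finite G] :
    (∃ Q : Sylow p G, ∀ x : G, (∃ k : ℕ, orderOf x = p ^ k) → ∃ P : Sylow p G, P ≠ Q ∧ x ∈ P) ↔ Red p G := by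
  refine exists_congr fun Q => ⟨fun h x hx => h x ?_, fun h x ⟨k, hk⟩ => ?_⟩
  · obtain ⟨k, hk⟩ := IsPGroup.iff_orderOf.1 Q.2 ⟨x, hx⟩
    exact ⟨k, by rw [← hk, Subgroup.orderOf_mk]⟩
  · by_cases hx : x ∈ Q
    · exact h x hx
    · obtain ⟨P, hP⟩ := (IsPGroup.of_card (G := Subgroup.zpowers x) (by rw [Nat.card_zpowers, hk])).exists_le_sylow
      have := hP (Subgroup.mem_zpowers x)
      exact ⟨P, fun e => hx (e ▸ this), this⟩

theorem eq_of_le_normalizer {p : ℕ} {G : Type*} [Group G] {P Q : Sylow p G}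
    (h : (P : Subgroup G) ≤ Subgroup.normalizer (Q : Set G)) : P = Q := by
  have := P.2.inf_normalizer_sylow Q
  rw [inf_eq_left.2 h] at this
  exact Sylow.ext (P.is_maximal' Q.2 (this.le.trans inf_le_right)).symm

theorem mem_of_map_mem {p : ℕ} {G H : Type*} [Group G] [Group H] {π : G →* H} (hk : π.ker ≤ Subgroup.center G)
    {P Q : Sylow p G} {x : G} (hx : x ∈ Q) (h : π x ∈ (P : Subgroup G).map π) : x ∈ P := by
  obtain ⟨y, hy, e⟩ := h
  have h1 : y⁻¹ * x ∈ Subgroup.center G := hk (by rw [MonoidHom.mem_ker, map_mul, map_inv, e, inv_mul_cancel])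
  have h2 : x ∈ Subgroup.normalizer (P : Set G) := by
    rw [← mul_inv_cancel_left y x]
    exact mul_mem (Subgroup.le_normalizer hy) (Subgroup.center_le_normalizer _ h1)
  have := (Q.2.inf_normalizer_sylow P).le ⟨hx, h2⟩
  exact this.2

theorem red_congr {p : ℕ} [Fact p.Prime] {G H : Type*} [Group G] [Finite G] [Group H] {π : G →* H}
    (hs : Function.Surjective π) (hk : π.ker ≤ Subgroup.center G) : Red p H ↔ Red p G := by
  constructor
  · rintro ⟨Q', h⟩
    obtain ⟨Q, rfl⟩ := Sylow.mapSurjective_surjective hs p Q'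
    refine ⟨Q, fun x hx => ?_⟩
    obtain ⟨P', h1, h2⟩ := h (π x) (Subgroup.mem_map_of_mem π hx)
    obtain ⟨P, rfl⟩ := Sylow.mapSurjective_surjective hs p P'
    exact ⟨P, fun e => h1 (e ▸ rfl), mem_of_map_mem hk hx h2⟩
  · rintro ⟨Q, h⟩
    refine ⟨Q.mapSurjective hs, ?_⟩
    rintro _ ⟨x, hx, rfl⟩
    obtain ⟨P, h1, h2⟩ := h x hx
    refine ⟨P.mapSurjective hs, fun e => h1 (Sylow.ext (P.is_maximal' Q.2 fun y hy => ?_).symm),
      Subgroup.mem_map_of_mem π h2⟩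
    have : π y ∈ P.mapSurjective hs := Subgroup.mem_map_of_mem π hy
    rw [e] at this
    exact mem_of_map_mem hk hy this

open scoped MatrixGroups

variable {F : Type*} [Field F] [Fintype F] [DecidableEq F]

theorem not_red_of_comm {p : ℕ} (h : ∀ P : Sylow p SL(2, F), ∀ x ∈ P, ∀ y ∈ P, x * y = y * x) :
    ¬ Red p SL(2, F) := by
  rintro ⟨Q, hQ⟩
  have k : ∀ g : SL(2, F), (∀ y ∈ Q, g * y = y * g) → g ∈ Subgroup.normalizer (Q : Set SL(2, F)) :=
    fun g hg => Subgroup.centralizer_le_normalizer _ fun y hy => (hg y hy).symm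
  by_cases hs : ∀ x ∈ Q, IsScal ((x : SL(2, F)) : Matrix (Fin 2) (Fin 2) F)
  · obtain ⟨P, h1, -⟩ := hQ 1 (one_mem _)
    exact h1 (eq_of_le_normalizer fun g _ => k g fun y hy =>
      Subgroup.mem_center_iff.1 (mem_center_SL_iff.2 (hs y hy)) g)
  · push Not at hs
    obtain ⟨x, hx, hs⟩ := hs
    obtain ⟨P, h1, h2⟩ := hQ x hx
    exact h1 (eq_of_le_normalizer fun g hg => k g fun y hy =>
      centSL_comm hs (mem_centSL_iff.2 (h P g hg x h2)) (mem_centSL_iff.2 (h Q y hy x hx)))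

theorem card_cent_eq {a b : SL(2, F)} (h2 : (2 : F) ≠ 0) (ha : a * a = -1) (hb : b * b = -1) :
    ∃ g, g * a * g⁻¹ = b := isConj_iff.1 (isConj_SL_of_trace (reg_of_mul_self h2 ha).sep
  ((trace_eq_zero_of_mul_self hb (not_isScal_of_mul_self h2 hb)).trans
    (trace_eq_zero_of_mul_self ha (not_isScal_of_mul_self h2 ha)).symm))

theorem red_two_iff (h2 : (2 : F) ≠ 0) {Q : Sylow 2 SL(2, F)} {a w : SL(2, F)}
    (h : Syl2 (Q : Subgroup SL(2, F)) a w) : (∀ x ∈ Q, ∃ P : Sylow 2 SL(2, F), P ≠ Q ∧ x ∈ P) ↔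
      ¬ ∃ k, Nat.card (centSL (a : Matrix (Fin 2) (Fin 2) F)) = 2 ^ k := by
  have hr := h.reg h2
  have hsm : ∀ (g x : SL(2, F)) (P : Sylow 2 SL(2, F)), x ∈ P → g * x * g⁻¹ ∈ g • P := fun g x P hx =>
    Subgroup.smul_mem_pointwise_smul x (MulAut.conj g) (P : Subgroup SL(2, F)) hx
  constructor
  · rintro H ⟨k, hk⟩
    have hle : centSL (a : Matrix (Fin 2) (Fin 2) F) ≤ Q := fun t ht => h.two t ht k
      (orderOf_dvd_iff_pow_eq_one.1 (hk ▸ Subgroup.orderOf_dvd_natCard _ ht))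
    have hN : Subgroup.normalizer (centSL (a : Matrix (Fin 2) (Fin 2) F) : Set SL(2, F)) ≤ Q := fun g hg => by
      by_cases e : g ∈ centSL (a : Matrix (Fin 2) (Fin 2) F)
      · exact hle e
      · exact (Subgroup.mul_mem_cancel_right _ h.wmem).1 (hle (h.mul_mem_cent h2 hg e))
    obtain ⟨⟨x, hx⟩, hg⟩ := hr.isCyclic.exists_ofOrder_eq_natCard
    rw [Subgroup.orderOf_mk] at hg
    have h4 := h.four_dvd h2
    have hs : ¬ IsScal (x : Matrix (Fin 2) (Fin 2) F) := fun e => by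
      have : orderOf x ∣ 2 := orderOf_dvd_of_pow_eq_one (by rcases isScal_SL_iff.1 e with e | e <;> simp [e])
      exact absurd (h4.trans (hg ▸ this)) (by decide)
    obtain ⟨P, h1, h3⟩ := H x (hle hx)
    refine h1 (Sylow.ext (P.is_maximal' Q.2 (le_trans ?_ hN)).symm)
    rw [← hr.centSL_eq hx hs]
    obtain ⟨b, v, hP⟩ := exists_syl2 (odd_of_two_ne_zero h2) P
    by_cases e : x ∈ centSL (b : Matrix (Fin 2) (Fin 2) F)
    · rw [(hP.reg h2).centSL_eq e hs]; exact hP.le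
    have h5 := sq_eq_neg_one_of_trace ((hP.reg h2).trace_eq_zero (hP.le h3) e)
    have h8 : ¬ 8 ∣ Nat.card (centSL (b : Matrix (Fin 2) (Fin 2) F)) := by
      obtain ⟨g, e⟩ := card_cent_eq h2 h.sq hP.sq
      have : centSL (b : Matrix (Fin 2) (Fin 2) F) =
          (centSL (a : Matrix (Fin 2) (Fin 2) F)).map (MulAut.conj g).toMonoidHom := by
        ext z
        rw [Subgroup.mem_map_equiv, ← conj_mem_centSL_conj (d := a) g, e]
        simp [mul_assoc]
      rw [this, Subgroup.card_map_of_injective (MulAut.conj g).injective, ← hg, QP.orderOf_eq h2 h5]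
      decide
    have hA : ∀ t ∈ (P : Subgroup SL(2, F)), ¬ IsScal (t : Matrix (Fin 2) (Fin 2) F) →
        (t : Matrix (Fin 2) (Fin 2) F).trace = 0 := fun t ht hts => by
      by_cases e : t ∈ centSL (b : Matrix (Fin 2) (Fin 2) F)
      · refine trace_eq_zero_of_mul_self ?_ hts
        rcases hP.mem_cases_cent h2 h8 ht e with e | e | e | e
        · exact (hts (isScal_SL_iff.2 (Or.inl e))).elim
        · exact (hts (isScal_SL_iff.2 (Or.inr e))).elim
        · rw [e, hP.sq]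
        · rw [e, neg_mul_neg, hP.sq]
      · exact (hP.reg h2).trace_eq_zero (hP.le ht) e
    rcases quat_cases h2 hA h3 hs with e | ⟨u, hu, e, -⟩
    · exact e.trans Subgroup.le_normalizer
    · rw [e, Subgroup.closure_le]
      exact Set.pair_subset (Subgroup.le_normalizer (self_mem_centSL x))
        ((mem_normalizer_centSL hs).2 (by rw [hu.conj]; exact inv_mem (self_mem_centSL x)))
  · intro H
    have key : ∀ x ∈ Q, x ∈ centSL (a : Matrix (Fin 2) (Fin 2) F) → ∃ P : Sylow 2 SL(2, F), P ≠ Q ∧ x ∈ P := by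
      intro x hx hx'
      obtain ⟨t, ht, ht'⟩ : ∃ t ∈ centSL (a : Matrix (Fin 2) (Fin 2) F), t ∉ Q := by
        by_contra! e
        exact H (IsPGroup.iff_card.1 (Q.2.to_le e))
      refine ⟨t • Q, fun e => ht' (h.mem_of_normalizer h2 (Sylow.smul_eq_iff_mem_normalizer.1 e)
        (Subgroup.le_normalizer ht)), ?_⟩
      have := hsm t x Q hx
      rwa [centSL_comm hr.not_isScal ht hx', mul_inv_cancel_right] at this
    intro x hx
    by_cases hx' : x ∈ centSL (a : Matrix (Fin 2) (Fin 2) F)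
    · exact key x hx hx'
    obtain ⟨g, rfl⟩ := card_cent_eq h2 h.sq (sq_eq_neg_one_of_trace (hr.trace_eq_zero (h.le hx) hx'))
    obtain ⟨P, h1, h3⟩ := key a h.mem (self_mem_centSL a)
    by_cases e : g • Q = Q
    · exact ⟨g • P, fun e' => h1 (MulAction.injective g (e'.trans e.symm)), hsm g a P h3⟩
    · exact ⟨g • Q, e, hsm g a Q h.mem⟩

theorem red_SL_iff (p : ℕ) [Fact p.Prime] : Red p SL(2, F) ↔
    (p = 2 ∧ (¬ ∃ k : ℕ, Fintype.card F + 1 = 2 ^ k) ∧ (¬ ∃ k : ℕ, Fintype.card F = 2 ^ k) ∧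
        ¬ ∃ k : ℕ, Fintype.card F = 2 ^ k + 1) := by
  have hpp : p.Prime := Fact.out
  obtain ⟨r, hr⟩ := CharP.exists F
  obtain ⟨n, hrp, hn⟩ := FiniteField.card F r
  by_cases hq : p ∣ Fintype.card F
  · obtain rfl : p = r := (Nat.prime_dvd_prime_iff_eq hpp hrp).1 (hpp.dvd_of_dvd_pow (hn ▸ hq))
    refine iff_of_false (not_red_of_comm fun P => ?_) fun h => h.2.2.1 ⟨n, h.1 ▸ hn⟩
    obtain ⟨g, hg⟩ := exists_sylow_eq_map p P
    intro x hx y hy
    obtain ⟨x', hx', rfl⟩ : x ∈ (unipSL F).map (MulAut.conj g).toMonoidHom := hg ▸ hx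
    obtain ⟨y', hy', rfl⟩ : y ∈ (unipSL F).map (MulAut.conj g).toMonoidHom := hg ▸ hy
    rw [← map_mul, ← map_mul, unipSL_comm hx' hy']
  by_cases hp : p = 2
  swap
  · refine iff_of_false (not_red_of_comm fun P x hx y hy => ?_) fun h => hp h.1
    by_cases e : (P : Subgroup SL(2, F)) = ⊥
    · have : x = 1 := Subgroup.mem_bot.1 (e ▸ hx)
      rw [this, one_mul, mul_one]
    · obtain ⟨z, -, hz, -, hle⟩ := exists_reg_of_isPGroup hp hq P.2 e
      exact centSL_comm hz.not_isScal (hle hx) (hle hy)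
  subst hp
  have h2 : (2 : F) ≠ 0 := fun e => hq (two_dvd_card_of_two_eq_zero e)
  have hodd := odd_of_two_ne_zero h2
  have h1 := Fintype.one_lt_card (α := F)
  have key : ∀ Q : Sylow 2 SL(2, F), (∀ x ∈ Q, ∃ P : Sylow 2 SL(2, F), P ≠ Q ∧ x ∈ P) ↔
      (¬ ∃ k : ℕ, Fintype.card F + 1 = 2 ^ k) ∧ ¬ ∃ k : ℕ, Fintype.card F = 2 ^ k + 1 := fun Q => by
    obtain ⟨a, w, h⟩ := exists_syl2 hodd Q
    have h4 := h.four_dvd h2
    rw [red_two_iff h2 h, ← not_or, not_iff_not]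
    have pw : ∀ k, 2 ^ k = 1 ∨ 2 ^ k = 2 ∨ 4 ∣ 2 ^ k := fun k => by
      rcases k with _ | _ | k
      · simp
      · simp
      · exact Or.inr (Or.inr ⟨2 ^ k, by ring⟩)
    rcases (h.reg h2).cases with ⟨-, e⟩ | ⟨-, e⟩ <;> rw [e] at h4 ⊢
    · refine ⟨Or.inl, ?_⟩
      rintro (h | ⟨k, hk⟩)
      · exact h
      · have := pw k
        exact ⟨2, by omega⟩
    · constructor
      · rintro ⟨k, hk⟩
        exact Or.inr ⟨k, by omega⟩
      · rintro (⟨k, hk⟩ | ⟨k, hk⟩)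
        · have := pw k
          omega
        · exact ⟨k, by omega⟩
  have h0 : ¬ ∃ k : ℕ, Fintype.card F = 2 ^ k := fun ⟨k, hk⟩ => hq (by
    rw [hk]; exact dvd_pow_self _ fun e => by simp [e] at hk; omega)
  exact ⟨fun ⟨Q, h⟩ => ⟨rfl, ((key Q).1 h).1, h0, ((key Q).1 h).2⟩,
    fun h => ⟨default, (key _).2 ⟨h.2.1, h.2.2.2⟩⟩⟩

/-- Let F be a finite field with q elements, p a prime and G = SL(2, F). Say a Sylow p-subgroup Q of G is redundant when every element of p-power order lies in some Sylow p-subgroup other than Q. Then G has a redundant Sylow p-subgroup if and only if p = 2 and q is not of any of the forms 2ᵏ - 1, 2ᵏ, 2ᵏ + 1. -/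
theorem result {F : Type*} [Field F] [Fintype F] (p : ℕ) [Fact p.Prime] :
    (∃ Q : Sylow p (Matrix.SpecialLinearGroup (Fin 2) F), ∀ x : Matrix.SpecialLinearGroup (Fin 2) F,
        (∃ k : ℕ, orderOf x = p ^ k) → ∃ P : Sylow p (Matrix.SpecialLinearGroup (Fin 2) F), P ≠ Q ∧ x ∈ P) ↔
      (p = 2 ∧ (¬ ∃ k : ℕ, Fintype.card F + 1 = 2 ^ k) ∧ (¬ ∃ k : ℕ, Fintype.card F = 2 ^ k) ∧
        ¬ ∃ k : ℕ, Fintype.card F = 2 ^ k + 1) := by
  classical
  rw [red_iff, red_SL_iff]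

end Cfsg.Agent.S4357
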