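import Cfsg.Statements.S4359
import Mathlib
import Cfsg.Agent.FGS.SimsP
import Cfsg.Agent.TECH.Amb

set_option autoImplicit false
open Pointwise
open Cfsg

namespace Cfsg.Agent.S4359

open Subgroup CL CL.MSS CL.Sims CL.SimsP

/-- Let P be a subgroup of a finite group G and g an element such that P ∩ g⁻¹Pg is a normal subgroup of prime index p in g⁻¹Pg. Let n ≥ 1 and let K be the subgroup generated by P and its conjugates g⁻ⁱPgⁱ for i ≤ n. Suppose that g normalizes no non-identity normal subgroup of P and that P meets the center of K trivially. Then the order of P is pᵗ for some t with 1 ≤ t ≤ 3n and t ≠ 3n - 1. -/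
theorem result {G : Type*} [Group G] [Finite G]
    (P : Subgroup G) (g : G) (p : ℕ) (hp : p.Prime)
    (hN : ((P ⊓ MulAut.conj g⁻¹ • P).subgroupOf (MulAut.conj g⁻¹ • P)).Normal)
    (hidx : (P ⊓ MulAut.conj g⁻¹ • P).relIndex (MulAut.conj g⁻¹ • P) = p)
    (n : ℕ) (hn : 1 ≤ n) (K : Subgroup G) (hK : K = ⨆ i ∈ Finset.range (n + 1), MulAut.conj (g ^ i)⁻¹ • P)
    (h1 : ∀ Q : Subgroup G, Q ≤ P → (Q.subgroupOf P).Normal → MulAut.conj g • Q = Q → Q = ⊥)
    (h2 : P ⊓ (Subgroup.center K).map K.subtype = ⊥) :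
    ∃ t : ℕ, Nat.card P = p ^ t ∧ 1 ≤ t ∧ t ≤ 3 * n ∧ t ≠ 3 * n - 1 := by
  have := Fact.mk hp
  simp only [pointwise_smul_eq_cj] at hN hidx hK h1
  replace h1 : ∀ Q ≤ P, P ≤ normalizer (Q : Set G) → g •ᶜ Q = Q → Q = ⊥ := fun Q h h' =>
    h1 Q h (Subgroup.normal_subgroupOf_of_le_normalizer h')
  have hP : IsPGroup p P := oU_eq_bot_iff.1 (h1 _ (oU_le P) (oU_normal P) (cj_eq_of_ge
    (le_cj_iff.2 ((oU_cj _ _).trans_le ((oU_eq_of_le (oU_le_of_pow fun x hx => ⟨1, by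
      rw [pow_one, ← hidx]
      exact @pow_index_mem _ _ _ hN ⟨x, hx⟩⟩)
        inf_le_right).ge.trans (oU_mono inf_le_left))))))
  obtain ⟨t, a, h, hI⟩ := exists_psys hP (relIndex_eq_of_card inf_le_left (by
    conv_lhs => rw [← card_cj g⁻¹, ← card_mul_relIndex_of_le
      (inf_le_right : P ⊓ g⁻¹ •ᶜ P ≤ _), hidx, mul_comm])) h1
  have h0 := hI 0
  rw [zpow_zero, cj_one] at h0
  obtain ⟨k, h3, -, -, h4⟩ := h.exists_k (m := n) fun i h3 h4 => by
    by_contra! h5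
    have h6 : a i ∈ P := h0 ▸ mem_I a h3 (by omega)
    have h7 : P ≤ K := hK ▸ le_iSup₂_of_le 0 (by simp) (by rw [pow_zero, inv_one, cj_one])
    have h8 : K ≤ centralizer {a i} := hK ▸ iSup₂_le fun j hj => by
      rw [← zpow_natCast, ← zpow_neg, ← hI]
      have := Finset.mem_range.1 hj
      exact I_le fun l _ _ => mem_centralizer_singleton_iff.2 (h5 l (by omega) (by omega))
    exact h.ne_one i (mem_bot.1 (h2.le ⟨h6, ⟨_, h7 h6⟩, mem_center_iff.2 fun x =>
      Subtype.ext (mem_centralizer_singleton_iff.1 (h8 x.2)), rfl⟩))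
  exact ⟨t, h0 ▸ h.card 0 t le_rfl, h.pos, by omega, by omega⟩

end Cfsg.Agent.S4359
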