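import Cfsg.Statements.S4363
import Cfsg.Agent.FGS.Tur8

set_option autoImplicit false
open Cfsg

namespace Cfsg.Agent.S4363


/-- Let G be a finite solvable group and σ an automorphism of G of prime order r not dividing the order of G, with fixed-point subgroup C. Then the Fitting height of G exceeds that of C by at most 2: if C has a chain of normal subgroups 1 = C₀ ≤ ⋯ ≤ Cₙ = C with nilpotent factors, then G has such a chain of length n + 2. -/
theorem result {G : Type*} [Group G] [Finite G]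
    (hG : Group.IsSolvable G) (σ : MulAut G) (r : ℕ) (hr : r.Prime) (hσ : orderOf σ = r) (hcop : ¬ r ∣ Nat.card G)
    (C : Subgroup G) (hC : ∀ g : G, g ∈ C ↔ σ g = g) (n : ℕ) (hn : (∃ F : Fin (n + 1) → Subgroup ↥C, F 0 = ⊥ ∧ F (Fin.last n) = ⊤ ∧ Monotone F ∧ (∀ i, (F i).Normal) ∧ ∀ i : Fin n, ∃ k : ℕ, (F i.succ).lowerCentralSeries k ≤ F i.castSucc)) :
    (∃ F : Fin ((n + 2) + 1) → Subgroup G, F 0 = ⊥ ∧ F (Fin.last (n + 2)) = ⊤ ∧ Monotone F ∧ (∀ i, (F i).Normal) ∧ ∀ i : Fin (n + 2), ∃ k : ℕ, (F i.succ).lowerCentralSeries k ≤ F i.castSucc) := by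
  open CL CL.FH in
  rw [chain_iff, res_top_eq_bot_iff] at hn
  open CL CL.FH in
  rw [chain_iff, ← res_map_eq_bot_iff _ ⊤ (Hol.inl_injective (A := MulAut G))]
  refine CL.Tur.res_add_two_eq_bot (CL.FH.isSolvable_map inferInstance _) hr
    (by rw [CL.Hol.card_map_inl, Subgroup.card_top]; exact (hr.coprime_iff_not_dvd.2 hcop).symm)
    (x := CL.Hol.inr σ) (by rw [← map_pow, ← hσ, pow_orderOf_eq_one, map_one]) ?_
  rw [CL.MSS.centralizer_zpowers, CL.Hol.map_inl_inf_centralizer_singleton,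
    CL.FH.res_map_eq_bot_iff _ _ CL.Hol.inl_injective, ← hn]
  congr 1
  ext g
  rw [top_inf_eq, CL.mem_actFix_zpowers, hC]
  rfl

end Cfsg.Agent.S4363
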