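import Cfsg.Statements.S4385
import Mathlib
import Cfsg.Agent.FGS.SimsP
import Cfsg.Agent.TECH.Amb
import Cfsg.Agent.TECH.S4Recog
import Cfsg.Agent.TECH.FourAct
import Cfsg.Agent.PLOC.NPC
import Cfsg.Agent.SOLV.Core

set_option autoImplicit false
open Pointwise
open Cfsg

namespace Cfsg.Agent.S4385

open Subgroup CL CL.MSS CL.Sims CL.SimsP DihedralGroup
open scoped commutatorElement

section
variable {X : Type*} [Group X] [Finite X] {P Q : Subgroup X}

theorem dih {n : ℕ} (hn : 2 ≤ n) {φ : X →* DihedralGroup n} (hs : Function.Surjective φ)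
    (hk : φ.ker = pCore 2 X) (hP : SylIn 2 P ⊤) : φ.ker.relIndex P = 2 ∧ P ≠ ⊤ ∧
      (∃ h, P ⊔ h⁻¹ •ᶜ P = ⊤) ∧ ∃ L : Subgroup X, L.index = 2 ∧ φ.ker ≤ L ∧ ¬ P ≤ L := by
  have : NeZero n := ⟨by omega⟩
  have h2 : IsPGroup 2 φ.ker := hk ▸ isPGroup_pCore 2 X
  have hKP : φ.ker ≤ P := hP.le_of_normalized h2 le_top le_normalizer_of_normal
  obtain ⟨c, hc⟩ : Odd n := Nat.not_even_iff_odd.1 fun ⟨m, hm⟩ => by
    have h0 : (m : ZMod n) + m = 0 := by rw [← Nat.cast_add, ← hm, ZMod.natCast_self]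
    have := normal_of_le_center (zpowers_le_of_mem (mem_center_iff.2 fun g => by
      cases g <;> simp [add_comm, sub_eq_add_neg, neg_eq_of_add_eq_zero_left h0] :
        r (m : ZMod n) ∈ center _))
    have h1 := le_pCore (isPGroup_zpowers (p := 2) (k := 1) (x := r (m : ZMod n))
      (by simp [mul_two, h0]))
    rw [← map_pCore hs h2, ← hk, map_ker_self, le_bot_iff, zpowers_eq_bot, one_def, r.injEq,
      ZMod.natCast_eq_zero_iff] at h1
    have := Nat.le_of_dvd (by omega) h1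
    omega
  have h3 := relIndex_mul_index hKP
  rw [index_ker, MonoidHom.range_eq_top.2 hs, card_top, nat_card] at h3
  have h4 := hP.not_dvd_relIndex
  rw [relIndex_top_right] at h4
  have h5 : φ.ker.relIndex P = 2 := by
    obtain ⟨k, hk⟩ := hP.pgroup.index (φ.ker.subgroupOf P)
    rw [relIndex, hk] at h3 ⊢
    obtain _ | _ | k := k
    · omega
    · rfl
    · rw [pow_succ', pow_succ', mul_assoc, mul_assoc] at h3
      omega
  obtain ⟨v, hv, hv'⟩ := SetLike.not_le_iff_exists.1 (mt relIndex_eq_one.2 (by omega) : ¬ P ≤ φ.ker)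
  have h6 : (c + 1 : ZMod n) + (c + 1) = 1 := by
    have := (congrArg (Nat.cast : ℕ → ZMod n) hc).symm.trans (ZMod.natCast_self n)
    push_cast at this
    linear_combination this
  obtain ⟨i, hi⟩ : ∃ i, φ v = sr i := by
    have := (mul_mem_iff_of_relIndex_two h5 hv hv).2 Iff.rfl
    rw [MonoidHom.mem_ker, map_mul] at this
    rcases h : φ v with j | j
    · rw [h, r_mul_r, one_def, r.injEq] at this
      exact (hv' (h.trans (congrArg r (by linear_combination (c + 1) * this - j * h6)))).elim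
    · exact ⟨j, rfl⟩
  obtain ⟨h, hh⟩ := hs (r (c + 1))
  refine ⟨h5, fun h => ?_, ⟨h, ?_⟩, (zpowers (r 1)).comap φ, ?_, ker_le_comap _ _, fun h => ?_⟩
  · rw [h5, h, index_top] at h3
    omega
  · have h7 : sr i ∈ (P ⊔ h⁻¹ •ᶜ P).map φ := ⟨v, mem_sup_left hv, hi⟩
    have h8 : r 1 ∈ (P ⊔ h⁻¹ •ᶜ P).map φ := ⟨_, mul_mem_sup hv (conj_mem_cj hv), by
      simp only [map_mul, map_inv, hi, hh, inv_r, neg_neg, r_mul_sr, sr_mul_r, sr_mul_sr, r.injEq]
      linear_combination h6⟩
    have h9 : ∀ j, r j ∈ (P ⊔ h⁻¹ •ᶜ P).map φ := fun j => by simpa using pow_mem h8 j.val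
    rw [← comap_map_eq_self (hKP.trans le_sup_left), eq_top_iff, ← comap_top φ]
    refine comap_mono fun g _ => ?_
    rcases g with j | j
    · exact h9 j
    · simpa using mul_mem h7 (h9 (j - i))
  · have := card_mul_index (zpowers (r 1 : DihedralGroup n))
    rw [Nat.card_zpowers, orderOf_r_one, nat_card, mul_comm] at this
    rw [index_comap_of_surjective _ hs, Nat.eq_of_mul_eq_mul_right (by omega) this]
  · obtain ⟨k, hk⟩ := h hv
    simp [hi] at hk

omit [Finite X] in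
theorem inf_eq (h : Q ≤ P) (h' : Q.relIndex P = 2) {N : Subgroup X} (h1 : Q ≤ N) (h2 : ¬ P ≤ N) :
    P ⊓ N = Q :=
  le_antisymm (by_contra fun h3 => h2 ((sup_eq_of_relIndex_prime h inf_le_left
    (h' ▸ Nat.prime_two) h3).ge.trans (sup_le h1 inf_le_right))) (le_inf h h1)

omit [Finite X] in
theorem sq_of_mem {τ : X} {n : ℕ} {a : ℤ → X} (h : PSys 2 τ n a) {i j : ℤ}
    (hc : ∀ l l', i ≤ l → l ≤ j → i ≤ l' → l' ≤ j → Commute (a l) (a l')) {z : X}
    (hz : z ∈ I a i j) : z * z = 1 := by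
  refine closure_induction (p := fun x _ => x * x = 1) ?_ (mul_one _) ?_ ?_ hz
  · rintro _ ⟨l, -, rfl⟩
    rw [← sq, ← h.orderOf_eq l, pow_orderOf_eq_one]
  · intro x y hx hy h8 h9
    have : Commute x y := commute_of_mem_I (fun l h1 h2 =>
      (commute_of_mem_I (fun l' h3 h4 => hc _ _ h3 h4 h1 h2) hy).symm) hx
    rw [this.symm.mul_mul_mul_comm, h8, h9, mul_one]
  · intro x _ h8
    rw [← mul_inv_rev, h8, inv_one]

theorem six {τ : X} {a : ℤ → X} (h : PSys 2 τ 6 a)
    (hc : ∀ i j : ℤ, i < j + (4 : ℕ) → j < i + (4 : ℕ) → Commute (a i) (a j))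
    (hnc : ∀ i j : ℤ, j = i + (4 : ℕ) → ¬ Commute (a i) (a j)) :
    I a (-2) 5 ≤ normalizer (I a 0 3 : Set X) := by
  have h0 : ∀ i, (a i)⁻¹ = a i := fun i => inv_eq_of_mul_eq_one_right
    (by rw [← sq, ← h.orderOf_eq i, pow_orderOf_eq_one])
  have hm : ∀ i x, a i * (a i * x) = x := fun i x => by
    nth_rewrite 1 [← h0]
    exact inv_mul_cancel_left _ _
  have h1 : ∀ i, ⁅a i, a (i + 5)⁆ ∈ I a (i + 2) (i + 3) := fun i => by
    have h2 := h.comm_mem (i := i) (j := i + 5) (by omega) (by omega)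
    have h3 := inv_eq_of_mul_eq_one_right
      (sq_of_mem h (fun _ _ _ _ _ _ => hc _ _ (by omega) (by omega)) h2)
    have h4 : Commute ⁅a i, a (i + 5)⁆ (a (i + 5)) := by
      rw [Commute, SemiconjBy]
      nth_rewrite 2 [← h3]
      simp only [commutatorElement_def, mul_inv_rev, inv_inv, inv_mul_cancel_right]
      simp only [h0, hm, mul_assoc]
    have h5 : Commute ⁅a i, a (i + 5)⁆ (a i) := by
      rw [Commute, SemiconjBy]
      nth_rewrite 1 [← h3]
      simp only [commutatorElement_def, mul_inv_rev, inv_inv, mul_assoc, inv_mul_cancel, mul_one]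
      simp only [h0, hm]
    have h6 := h.mem_right (by omega) (h.mem_left (by omega) h2 h4
      (fun _ _ _ => hc _ _ (by omega) (by omega)) (hnc _ _ (by omega))) h5
      (fun _ _ _ => hc _ _ (by omega) (by omega)) fun h7 => hnc _ _ (by omega) h7.symm
    exact I_mono a (by omega) (by omega) h6
  have h2 : ∀ i j, i < j → j ≤ i + 5 → ⁅a i, a j⁆ ∈ I a (i + 2) (j - 2) := fun i j h3 h4 => by
    obtain rfl | rfl | h5 : j = i + 5 ∨ j = i + (4 : ℕ) ∨ j < i + 4 := by omega
    · exact I_mono a le_rfl (by omega) (h1 i)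
    · exact I_mono a (by omega) (by omega) (h.comm_mem_of_k four_pos (by omega) hc hnc i)
    · rw [commutatorElement_eq_one_iff_commute.2 (hc i j (by omega) (by omega))]
      exact one_mem _
  refine I_le fun l h3 h4 => mem_normalizer_of_cj_le (cj_le_iff.2 (I_le fun j h5 h6 => ?_))
  rw [mem_cj, inv_inv, show a l * a j * (a l)⁻¹ = ⁅a l, a j⁆ * a j by
    simp [commutatorElement_def]]
  refine mul_mem ?_ (mem_I a h5 h6)
  by_cases h7 : l < j + 4 ∧ j < l + 4
  · rw [commutatorElement_eq_one_iff_commute.2 (hc l j h7.1 h7.2)]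
    exact one_mem _
  rcases lt_or_gt_of_ne (by omega : l ≠ j) with h8 | h8
  · exact I_mono a (by omega) (by omega) (h2 l j h8 (by omega))
  · rw [← commutatorElement_inv]
    exact inv_mem (I_mono a (by omega) (by omega) (h2 j l h8 (by omega)))

/-- The configuration modulo the core. -/
structure St (P Q : Subgroup X) : Prop where
  core : oddCore X = ⊥
  syl : SylIn 2 P ⊤
  le : Q ≤ P
  idx : Q.relIndex P = 2
  sq : ∀ x ∈ Q, x * x = 1

namespace St
variable (h : St P Q) [Q.Normal]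
include h

omit [Q.Normal] in
theorem eq_of_cent {N : Subgroup X} [N.Normal] (h1 : Q ≤ N) (h2 : ¬ P ≤ N)
    (h3 : N ≤ centralizer (Q : Set X)) : Q = N := by
  have h4 := h.syl.inf_normal_of_le (N := N) le_normalizer_of_normal le_top
  rw [inf_eq h.le h.idx h1 h2] at h4
  have h5 := hasNPC_iff_coprime_card_pResidual.1 (hasNPC_of_normalizer_le_centralizer h4.toSylow
    fun x _ y hy => Subtype.ext (h3 x.2 y hy))
  rw [← card_map_of_injective N.subtype_injective] at h5
  exact h4.eq_of_isPGroup (oU_eq_bot_iff.1 (eq_bot_iff.2 ((le_pPrimeCore h5).trans h.core.le)))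

theorem comm : Q ≤ centralizer (Q : Set X) := fun x hx y hy => by
  rw [← inv_eq_of_mul_eq_one_right (h.sq _ (mul_mem hy hx)), mul_inv_rev,
    inv_eq_of_mul_eq_one_right (h.sq _ hx), inv_eq_of_mul_eq_one_right (h.sq _ hy)]

theorem exists_hom (h1 : ¬ P ≤ centralizer (Q : Set X)) (hn : ¬ P.Normal)
    {Z : Subgroup X} (hZ : Z ≤ center X)
    (hZQ : Z ≤ Q) (hc : Nat.card Q = 4 * Nat.card Z) : centralizer (Q : Set X) ≤ Q ∧
      ∃ f : X →* Equiv.Perm (Fin 3), Function.Surjective f ∧ ∀ x, f x = 1 ↔ x ∈ Q := by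
  have hC := (h.eq_of_cent h.comm h1 le_rfl).ge
  have := normal_of_le_center hZ
  have := Normal.map ‹Q.Normal› _ (QuotientGroup.mk'_surjective Z)
  obtain ⟨f, e, hf⟩ := JC.Four.exists_act (W := Q.map (QuotientGroup.mk' Z))
    ⟨by rw [← relIndex_ker, QuotientGroup.ker_mk', relIndex_eq_of_card hZQ hc], by
      rintro _ ⟨x, hx, rfl⟩
      rw [← map_mul, h.sq x hx, map_one]⟩
  let f' := f.comp ((QuotientGroup.mk' Z).codRestrict _ fun x => le_normalizer_of_normal (mem_top _))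
  have h2 : ∀ x ∈ f'.ker, ∀ y ∈ Q, y⁻¹ * (x * y * x⁻¹) ∈ Z := fun x hx y hy =>
    QuotientGroup.eq.1 (eq_mul_inv_of_mul_eq ((hf.eq_one_iff _).1 hx _ ⟨y, hy, rfl⟩))
  have h3 : Q ≤ f'.ker := fun x hx => (hf.eq_one_iff _).2 (by
    rintro _ ⟨y, hy, rfl⟩
    exact (map_mul _ _ _).symm.trans ((congrArg _ (h.comm hx y hy)).trans (map_mul _ _ _)))
  have h4 : IsPGroup 2 f'.ker := isPGroup_iff_forall_mem.2 fun x hx => ⟨2, by
    refine (pow_mul x 2 2).trans ((_root_.sq _).trans (h.sq _ (hC fun y hy => ?_)))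
    have h5 := h2 x hx y hy
    have h6 : x * y * x⁻¹ = y * (y⁻¹ * (x * y * x⁻¹)) := by group
    generalize y⁻¹ * (x * y * x⁻¹) = z at h5 h6
    rw [← mul_inv_eq_iff_eq_mul.1 (show x ^ 2 * y * (x ^ 2)⁻¹ = y from ?_)]
    calc x ^ 2 * y * (x ^ 2)⁻¹ = x * (x * y * x⁻¹) * x⁻¹ := by rw [_root_.sq]; group
      _ = x * y * x⁻¹ * (x * z * x⁻¹) := by nth_rewrite 1 [h6]; group
      _ = y := by
        rw [h6, mem_center_iff.1 (hZ h5) x, mul_inv_cancel_right, mul_assoc, h.sq z (hZQ h5),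
          mul_one]⟩
  have h5 : f'.ker ≤ P := h.syl.le_of_normalized h4 le_top le_normalizer_of_normal
  have h6 : f'.ker = Q := (inf_eq_right.2 h5).symm.trans
    (inf_eq h.le h.idx h3 fun h6 => hn (h5.antisymm h6 ▸ inferInstance))
  refine ⟨hC, f', MonoidHom.range_eq_top.1 (eq_top_of_card_eq _ ?_), fun x => h6 ▸ Iff.rfl⟩
  have h7 := card_subgroup_dvd_card f'.range
  have h8 := h.syl.not_dvd_relIndex
  have h9 : P.index ≠ 1 := fun h9 => hn (index_eq_one.1 h9 ▸ inferInstance)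
  rw [relIndex_top_right] at h8
  rw [← index_ker, h6, ← relIndex_mul_index h.le, h.idx, Nat.card_perm, Nat.card_fin,
    show Nat.factorial 3 = 2 * 3 from rfl] at h7 ⊢
  rw [(Nat.prime_three.eq_one_or_self_of_dvd _ (Nat.dvd_of_mul_dvd_mul_left two_pos h7)).resolve_left
    h9]

omit [Q.Normal] in
theorem eq_top (hc : Q ≤ center X) {L : Subgroup X} (h1 : L.index = 2) (h2 : Q ≤ L)
    (h3 : ¬ P ≤ L) : P = ⊤ := by
  have := normal_of_index_eq_two h1
  have h4 := relIndex_mul_index h.le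
  rw [h.idx, h.eq_of_cent h2 h3 (le_top.trans (centralizer_eq_top_iff_subset.2 hc).ge), h1] at h4
  exact index_eq_one.1 (by omega)

end St

end

/-- Let H be a subgroup of a finite group G whose largest normal 2-subgroup O_2(H) is nontrivial and such that H/O_2(H) is a dihedral group of order at least 4. Let P be a Sylow 2-subgroup of H and S a Sylow 2-subgroup of G containing P. Suppose y ∈ S lies outside P, normalizes P, has y² in the product of P with the centralizer of P in G, and normalizes no non-identity normal subgroup of H contained in P. Then P has order 4, 8 or 16, and H modulo its largest normal subgroup of odd order is isomorphic to the four-group, to the symmetric group of degree 4, or to the direct product of the symmetric group of degree 4 with a group of order 2. -/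
theorem result {G : Type*} [Group G] [Finite G]
    (H : Subgroup G) (hO : Cfsg.pCore 2 ↥H ≠ ⊥) (n : ℕ) (hn : 2 ≤ n) (hdih : Nonempty (↥H ⧸ Cfsg.pCore 2 ↥H ≃* DihedralGroup n))
    (P : Subgroup G) (hPH : P ≤ H) (hP : IsPGroup 2 P) (hPsyl : ¬ 2 ∣ P.relIndex H)
    (S : Sylow 2 G) (hPS : P ≤ (S : Subgroup G)) (y : G) (hyS : y ∈ (S : Subgroup G)) (hyP : y ∉ P)
    (hy2 : y ^ 2 ∈ P ⊔ Subgroup.centralizer (P : Set G)) (hyN : MulAut.conj y • P = P)
    (hyQ : ∀ Q : Subgroup G, Q ≤ P → (Q.subgroupOf H).Normal → MulAut.conj y • Q = Q → Q = ⊥) :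
    (Nat.card P = 4 ∨ Nat.card P = 8 ∨ Nat.card P = 16) ∧
    (Nonempty (↥H ⧸ Cfsg.oddCore ↥H ≃* Multiplicative (ZMod 2) × Multiplicative (ZMod 2)) ∨
     Nonempty (↥H ⧸ Cfsg.oddCore ↥H ≃* Equiv.Perm (Fin 4)) ∨
     Nonempty (↥H ⧸ Cfsg.oddCore ↥H ≃* Equiv.Perm (Fin 4) × Multiplicative (ZMod 2))) := by
  simp only [pointwise_smul_eq_cj] at hyN hyQ
  obtain ⟨e⟩ := hdih
  have hS : SylIn 2 (P.subgroupOf H) ⊤ :=
    subgroupOf_self H ▸ (sylIn_of_not_dvd_relIndex hP hPH hPsyl).subgroupOf le_rfl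
  have hk : (e.toMonoidHom.comp (QuotientGroup.mk' _)).ker = pCore 2 H := by
    rw [← MonoidHom.comap_ker, (MonoidHom.ker_eq_bot_iff _).2 e.injective, MonoidHom.comap_bot,
      QuotientGroup.ker_mk']
  obtain ⟨h1, h2, ⟨h, h3⟩, L, hL1, hL2, hL3⟩ :=
    dih hn (e.surjective.comp (QuotientGroup.mk'_surjective _)) hk hS
  rw [hk] at h1 hL2
  set Q := pCore 2 H
  have hQP : Q ≤ P.subgroupOf H :=
    hS.le_of_normalized (isPGroup_pCore 2 H) le_top le_normalizer_of_normal
  have hg : (y * h)⁻¹ •ᶜ P = (h : G)⁻¹ •ᶜ P := by rw [mul_inv_rev, cj_mul, ← cj_eq_iff.1 hyN]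
  have hH : P ⊔ (y * h)⁻¹ •ᶜ P = H := by
    have := congrArg (map H.subtype) h3
    rwa [Subgroup.map_sup, subtype_map_cj, map_subgroupOf_eq_of_le hPH, ← MonoidHom.range_eq_map,
      range_subtype, coe_inv, ← hg] at this
  have hQ : P ⊓ (y * h)⁻¹ •ᶜ P = Q.map H.subtype := by
    rw [← inf_eq hQP h1 ((cj_eq_of_normal h⁻¹ Q).ge.trans (cj_mono _ hQP)) fun h4 =>
      h2 (by rw [← h3, cj_eq_of_ge h4, sup_idem]), map_inf _ _ _ H.subtype_injective,
      subtype_map_cj, map_subgroupOf_eq_of_le hPH, coe_inv, hg]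
  obtain ⟨t, a, hs, hI⟩ := exists_psys (τ := y * h) hP (by
    rw [hQ, ← h1, ← relIndex_map_map_of_injective _ _ H.subtype_injective,
      map_subgroupOf_eq_of_le hPH]) fun R h4 h5 h6 => by
    have h7 : H ≤ normalizer (R : Set G) := hH.ge.trans (sup_le h5 (by
      rw [cj_le_iff, inv_inv, cj_normalizer, h6]
      exact h5))
    exact hyQ R h4 (Subgroup.normal_subgroupOf_of_le_normalizer h7)
      (by rwa [cj_mul, cj_eq_of_mem_normalizer (h7 h.2)] at h6)
  have ht := hs.pos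
  have e0 : I a 0 (t - 1) = P := by
    have := hI 0
    rwa [zpow_zero, cj_one, zero_add] at this
  have e1 : I a (-1) (t - 1 - 1) = (y * h)⁻¹ •ᶜ P := by
    rw [← zpow_neg_one, ← hI, show (t : ℤ) - 1 - 1 = -1 + t - 1 by omega]
  have eH : I a (-1) (t - 1) = H := by
    rw [← I_sup a (by omega), e1, neg_add_cancel, e0, sup_comm, hH]
  have eQ : I a 0 (t - 1 - 1) = Q.map H.subtype := by
    rw [← hQ, ← e1, ← e0, inf_comm]
    exact (hs.inf (-1) (t - 1) (by omega) (by omega)).symm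
  have hN : ∀ N ≤ P, I a (-2) (t - 1) ≤ normalizer (N : Set G) → N = ⊥ := fun N h4 h5 => by
    have h6 : H ≤ normalizer (N : Set G) := eH.ge.trans ((I_mono a (by omega) le_rfl).trans h5)
    have h7 : (y * h)⁻¹ •ᶜ H ≤ normalizer (N : Set G) := (cj_mono _ hH.ge).trans (by
      rw [cj_sup, ← cj_mul, ← zpow_neg_one, ← zpow_add, ← hI, ← hI]
      exact sup_le ((I_mono a (by omega) (by omega)).trans h5)
        ((I_mono a (by omega) (by omega)).trans h5))
    rw [cj_le_iff, inv_inv, cj_normalizer, cj_mul, cj_eq_of_mem_normalizer (h6 h.2)] at h7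
    refine eq_bot_iff.2 (le_sup_left.trans (hyQ (N ⊔ y •ᶜ N) (sup_le h4 ((cj_mono y h4).trans hyN.le))
      (Subgroup.normal_subgroupOf_of_le_normalizer (MSS.le_normalizer_sup h6 h7)) ?_).le)
    rw [cj_sup, ← cj_mul, ← sq, cj_eq_of_mem_normalizer (sup_le (hPH.trans h6)
      ((centralizer_le h4).trans (centralizer_le_normalizer _)) hy2), sup_comm]
  obtain ⟨k, hk0, hc, hnc, h4⟩ := hs.exists_k (m := 2) fun i h4 h5 => by
    by_contra! h6
    exact hs.ne_one i (zpowers_eq_bot.1 (hN _ (zpowers_le_of_mem (e0 ▸ mem_I a h4 (by omega)))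
      ((I_le fun l h7 h8 => by
        rw [zpowers_eq_closure, centralizer_closure]
        exact mem_centralizer_singleton_iff.2 (h6 l h7 (by omega))).trans
        (centralizer_le_normalizer _))))
  have h5 : t ≠ 1 := by
    rintro rfl
    rw [I_eq_bot a (by omega), eq_comm, map_eq_bot_iff_of_injective _ H.subtype_injective] at eQ
    exact hO eQ
  have h6 : t ≠ 6 := by
    rintro rfl
    obtain rfl : k = 4 := by omega
    exact hs.ne_one 0 (mem_bot.1 ((hN (I a 0 3) (e0 ▸ I_mono a le_rfl (by omega))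
      (six hs hc hnc)).le (mem_I a le_rfl (by omega))))
  have cP : Nat.card P = 2 ^ t := e0 ▸ hs.card_I (by omega) le_rfl
  have cQ : Nat.card Q = 2 ^ (t - 1) := by
    rw [← card_map_of_injective H.subtype_injective, ← eQ, hs.card_I (r := t - 1) (by omega) (by omega)]
  let π := QuotientGroup.mk' (oddCore H)
  have hπ : Function.Surjective π := QuotientGroup.mk'_surjective _
  have hb : ∀ R ≤ P.subgroupOf H, π.ker ⊓ R = ⊥ := fun R hR => eq_bot_of_isPGroup_of_not_dvd
    (hS.pgroup.to_le (inf_le_right.trans hR)) (inf_le_left.trans (QuotientGroup.ker_mk' _).le)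
    (not_dvd_card_pPrimeCore 2 H)
  have hcd : ∀ R ≤ P.subgroupOf H, Nat.card (R.map π) = Nat.card R := fun R hR => by
    rw [← relIndex_ker, ← inf_relIndex_right, hb R hR, relIndex_bot_left]
  have cP' : Nat.card ((P.subgroupOf H).map π) = 2 ^ t := by
    rw [hcd _ le_rfl, ← cP, Nat.card_congr (subgroupOfEquivOfLe hPH).toEquiv]
  have hm : ∀ i : ℤ, -1 ≤ i → i ≤ t - 1 → a i ∈ H := fun i h7 h8 => eH ▸ mem_I a h7 h8
  have hmQ : ∀ x : H, x ∈ Q ↔ (x : G) ∈ I a 0 (t - 1 - 1) := fun x => by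
    rw [eQ, ← mem_map_iff_mem H.subtype_injective]; rfl
  have hSt : St ((P.subgroupOf H).map π) (Q.map π) :=
    ⟨pPrimeCore_quotient_pPrimeCore 2 H, map_top_of_surjective π hπ ▸ hS.map π, map_mono hQP,
      relIndex_eq_of_card (map_mono hQP) (by rw [cP', hcd _ hQP, cQ, ← pow_succ']; congr 1; omega),
      by
        rintro _ ⟨x, hx, rfl⟩
        rw [← map_mul, show x * x = 1 from Subtype.ext (sq_of_mem hs
          (fun _ _ _ _ _ _ => hc _ _ (by omega) (by omega)) ((hmQ x).1 hx)), map_one]⟩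
  have := Normal.map (inferInstance : Q.Normal) π hπ
  have hcen : ∀ x : H, (∀ l : ℤ, -1 ≤ l → l ≤ t - 1 → Commute (a l) x) → π x ∈ center _ :=
    fun x hx => mem_center_iff.2 fun b => by
      obtain ⟨b, rfl⟩ := hπ b
      exact (show Commute b x from Subtype.ext (commute_of_mem_I hx (eH.ge b.2))).map π
  by_cases h7 : t = 2
  · subst h7
    have hL : π.ker ≤ L := by
      have := normal_of_index_eq_two hL1
      rw [QuotientGroup.ker_mk']
      refine relIndex_eq_one.1 ((Nat.prime_two.eq_one_or_self_of_dvd _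
        (hL1 ▸ relIndex_dvd_index_of_normal L _)).resolve_right fun h7 => ?_)
      exact not_dvd_card_pPrimeCore 2 H (h7.symm.dvd.trans (relIndex_dvd_card L _))
    have h8 := hSt.eq_top (L := L.map π) ?_ ?_ (map_mono hL2) ?_
    · have : IsKleinFour (H ⧸ oddCore H) := ⟨by rw [← card_top, ← h8, cP']; rfl, ?_⟩
      · have : IsKleinFour (Multiplicative (ZMod 2) × Multiplicative (ZMod 2)) :=
          ⟨by simp, by simp [Monoid.exponent_prod]⟩
        exact ⟨Or.inl cP, Or.inl IsKleinFour.nonempty_mulEquiv⟩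
      refine (Nat.prime_two.eq_one_or_self_of_dvd _ (Monoid.exponent_dvd_of_forall_pow_eq_one
        fun b => ?_)).resolve_left fun h9 => ?_
      · obtain ⟨x, hx, rfl⟩ := h8.ge (mem_top b)
        rw [← map_pow, show x ^ 2 = 1 from Subtype.ext ((sq _).trans (sq_of_mem hs
          (fun _ _ _ _ _ _ => hc _ _ (by omega) (by omega)) (e0.ge hx))), map_one]
      · have := Monoid.exp_eq_one_iff.1 h9
        rw [Nat.card_unique] at cP'
        omega
    · rintro _ ⟨x, hx, rfl⟩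
      exact hcen x fun l _ _ => (commute_of_mem_I (fun _ _ _ => hc _ _ (by omega) (by omega))
        ((hmQ x).1 hx)).symm
    · rw [index_map_eq _ hπ hL, hL1]
    · rwa [Subgroup.map_le_map_iff, sup_eq_left.2 hL]
  obtain rfl : t = k + 1 := by omega
  have hcm : ∀ u v : H, v ∈ Q → Commute (π u) (π v) → Commute (u : G) v := fun u v hv h8 => by
    have h9 : ⁅u, v⁆ ∈ π.ker ⊓ Q := ⟨MonoidHom.mem_ker.2 (by
      rw [map_commutatorElement, commutatorElement_eq_one_iff_commute.2 h8]),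
      commutator_le_right ⊤ Q (commutator_mem_commutator (mem_top u) hv)⟩
    exact (commutatorElement_eq_one_iff_commute.1 (mem_bot.1 ((hb Q hQP).le h9))).map H.subtype
  have h8 : ¬ (P.subgroupOf H).map π ≤ centralizer (Q.map π : Set _) := fun h8 =>
    hnc 0 k (by omega) (hcm ⟨_, hm k (by omega) (by omega)⟩ ⟨_, hm 0 (by omega) (by omega)⟩
      ((hmQ _).2 (mem_I a le_rfl (by omega))) (h8 ⟨_, e0.le (mem_I a (by omega) (by omega)), rfl⟩
        _ ⟨_, (hmQ _).2 (mem_I a le_rfl (by omega)), rfl⟩).symm).symm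
  have h9 : ¬ ((P.subgroupOf H).map π).Normal := fun h9 => by
    have h10 := congrArg (map π) h3
    rw [Subgroup.map_sup, map_cj, cj_eq_of_normal, sup_idem, map_top_of_surjective π hπ] at h10
    obtain ⟨x, hx, h11⟩ := h10.ge (mem_top (π ⟨_, hm (-1) le_rfl (by omega)⟩))
    refine hnc (-1) (k - 1) (by omega) (hcm ⟨_, hm (-1) le_rfl (by omega)⟩
      ⟨_, hm (k - 1) (by omega) (by omega)⟩ ((hmQ _).2 (mem_I a (by omega) (by omega))) ?_)
    rw [← h11]
    exact (show Commute x ⟨_, hm (k - 1) (by omega) (by omega)⟩ from Subtype.ext (commute_of_mem_I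
      (fun _ _ _ => hc _ _ (by omega) (by omega)) (e0.ge hx))).map π
  have hsq : ∀ x ∈ Q.map π, x ^ 2 = 1 := fun x hx => (sq x).trans (hSt.sq x hx)
  rw [← hcd Q hQP, Nat.add_sub_cancel] at cQ
  obtain rfl | rfl : k = 2 ∨ k = 3 := by omega
  · obtain ⟨hC, f, hf, hf'⟩ := hSt.exists_hom h8 h9 bot_le bot_le (by rw [cQ, card_bot]; rfl)
    exact ⟨Or.inr (Or.inl cP), Or.inr (Or.inl (Amalg.iso_perm_four hC f hf hf' hsq cQ))⟩
  · have h10 : (⟨_, hm 1 (by omega) (by omega)⟩ : H) ∈ Q := (hmQ _).2 (mem_I a (by omega) (by omega))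
    obtain ⟨hC, f, hf, hf'⟩ := hSt.exists_hom h8 h9 (zpowers_le_of_mem (hcen _ fun _ _ _ =>
      hc _ _ (by omega) (by omega))) (zpowers_le_of_mem ⟨_, h10, rfl⟩) (by
        rw [cQ, ← MonoidHom.map_zpowers, hcd _ ((zpowers_le_of_mem h10).trans hQP), Nat.card_zpowers,
          ← orderOf_coe, hs.orderOf_eq]
        rfl)
    obtain ⟨e⟩ := Amalg.iso_two_prod_perm_four hC f hf hf' hsq cQ
      (t := π ⟨_, hm 3 (by omega) (by omega)⟩) (by
        rw [← map_pow, ← π.map_one]
        exact congrArg π (Subtype.ext (orderOf_dvd_iff_pow_eq_one.1 (hs.orderOf_eq 3).dvd)))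
      fun h11 => hnc 0 3 rfl (hcm ⟨_, hm 3 (by omega) (by omega)⟩ ⟨_, hm 0 (by omega) (by omega)⟩
        ((hmQ _).2 (mem_I a le_rfl (by omega)))
        (hSt.comm h11 _ ⟨_, (hmQ _).2 (mem_I a le_rfl (by omega)), rfl⟩).symm).symm
    exact ⟨Or.inr (Or.inr cP), Or.inr (Or.inr ⟨e.trans MulEquiv.prodComm⟩)⟩

end Cfsg.Agent.S4385
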