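import Mathlib
import Cfsg.Statements.S4393
import Cfsg.Agent.FGS.MinTriple2

set_option autoImplicit false
open Cfsg

namespace Cfsg.Agent.S4393

theorem exists_prod {G : Type*} [Group G] [Finite G] (l : List ℕ) (hl : l.Nodup)
    (hp : ∀ r ∈ l, r.Prime) (d : G) (hd : ∀ r, r.Prime → r ∣ orderOf d → r ∈ l) :
    ∃ f : ℕ → G, (∀ r ∈ l, ∃ k, f r ^ r ^ k = 1) ∧ (l.map f).prod = d := by
  classical
  induction l generalizing d with
  | nil =>
    refine ⟨fun _ => 1, by simp, ?_⟩
    by_contra h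
    obtain ⟨r, hr, h1⟩ := Nat.exists_prime_and_dvd (n := orderOf d)
      (fun e => h (by simp [orderOf_eq_one_iff.1 e]))
    simpa using hd r hr h1
  | cons p l ih =>
    have := Fact.mk (hp p (by simp))
    obtain ⟨u, v, -, hv, hu, h1, e⟩ := CL.exists_p_part_mul_p'_part (p := p) d
    obtain ⟨h2, h3⟩ := List.nodup_cons.1 hl
    obtain ⟨f, h4, h5⟩ := ih h3 (fun r hr => hp r (by simp [hr])) v fun r hr h =>
      (List.mem_cons.1 (hd r hr (h.trans (orderOf_dvd_of_mem_zpowers hv)))).resolve_left (by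
        rintro rfl
        exact (Nat.Prime.coprime_iff_not_dvd hr).1 h1.symm h)
    have h6 : ∀ r ∈ l, Function.update f p u r = f r := fun r hr =>
      Function.update_of_ne (by rintro rfl; exact h2 hr) _ _
    refine ⟨Function.update f p u, fun r hr => ?_, ?_⟩
    · rcases List.mem_cons.1 hr with rfl | hr
      · simpa using hu
      · rw [h6 r hr]; exact h4 r hr
    · rw [List.map_cons, List.prod_cons, List.map_congr_left h6, h5, Function.update_self, e]


/-- Let G be a finite group such that, for every family of distinct primes including every prime divisor of the order of G and every choice S of a Sylow subgroup for each of them, every element of G is a product s_0 s_1 ⋯ s_(t-1) with s_i in S i, taken in the given order. Then G is solvable. -/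
theorem result {G : Type*} [Group G] [Finite G]
    (h : ∀ (t : ℕ) (p : Fin t → ℕ), (∀ i, (p i).Prime) → Function.Injective p → (∀ q : ℕ, q.Prime → q ∣ Nat.card G → ∃ i, p i = q) →
      ∀ (S : (i : Fin t) → Sylow (p i) G) (g : G), ∃ s : (i : Fin t) → G, (∀ i, s i ∈ (S i : Subgroup G)) ∧ g = (List.ofFn s).prod) :
    Group.IsSolvable G := by
  classical
  by_contra hG
  obtain ⟨p, q, hp, hq, hpq, a, b, -, h1, -⟩ := CL.MinTr.exists_tr hG
  obtain ⟨l, hl⟩ : ∃ l, l = (((Nat.card G).primeFactors.erase p).erase q).toList := ⟨_, rfl⟩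
  have hm : ∀ r, r ∈ l ↔ r ≠ q ∧ r ≠ p ∧ r.Prime ∧ r ∣ Nat.card G := fun r => by
    simp [hl, Nat.card_pos.ne']
  obtain ⟨f, h2, h3⟩ := exists_prod l (hl ▸ Finset.nodup_toList _) (fun r hr => ((hm r).1 hr).2.2.1)
    (a * b)⁻¹ fun r hr h => (hm r).2 (by
      rw [orderOf_inv] at h
      exact ⟨fun e => h1.nq (e ▸ h), fun e => h1.np (e ▸ h), hr, h.trans (orderOf_dvd_natCard _)⟩)
  let f' : ℕ → G := fun r => if r = p then a else if r = q then b else f r
  have h4 : ∀ r ∈ l, f' r = f r := fun r hr => by simp [f', ((hm r).1 hr).1, ((hm r).1 hr).2.1]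
  have e1 : f' p = a := by simp [f']
  have e2 : f' q = b := by simp [f', hpq.symm]
  obtain ⟨L, hL⟩ : ∃ L, L = p :: q :: l := ⟨_, rfl⟩
  have hn : L.Nodup := by
    rw [hL, List.nodup_cons, List.nodup_cons]
    refine ⟨fun h => ?_, fun h => ((hm q).1 h).1 rfl, hl ▸ Finset.nodup_toList _⟩
    rcases List.mem_cons.1 h with h | h
    exacts [hpq h, ((hm p).1 h).2.1 rfl]
  have h5 : ∀ r ∈ L, r.Prime ∧ ∃ k, f' r ^ r ^ k = 1 := fun r hr => by
    rw [hL] at hr
    rcases List.mem_cons.1 hr with rfl | hr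
    · obtain ⟨k, hk⟩ := h1.pow_a
      exact ⟨hp, k, by rw [e1, ← hk, pow_orderOf_eq_one]⟩
    rcases List.mem_cons.1 hr with rfl | hr
    · obtain ⟨k, hk⟩ := h1.pow_b
      exact ⟨hq, k, by rw [e2, ← hk, pow_orderOf_eq_one]⟩
    · exact ⟨((hm r).1 hr).2.2.1, by rw [h4 r hr]; exact h2 r hr⟩
  have h6 : (L.map f').prod = 1 := by
    rw [hL, List.map_cons, List.map_cons, List.prod_cons, List.prod_cons, List.map_congr_left h4, h3,
      e1, e2, ← mul_assoc, mul_inv_cancel]
  have h7 : ∀ i : Fin L.length, ∃ S : Sylow (L.get i) G, f' (L.get i) ∈ S := fun i => by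
    obtain ⟨h8, k, hk⟩ := h5 _ (L.get_mem i)
    have := Fact.mk h8
    obtain ⟨j, -, hj⟩ := (Nat.dvd_prime_pow h8).1 (orderOf_dvd_of_pow_eq_one hk)
    obtain ⟨S, hS⟩ := (IsPGroup.of_card (G := Subgroup.zpowers (f' (L.get i)))
      ((Nat.card_zpowers _).trans hj)).exists_le_sylow
    exact ⟨S, hS (Subgroup.mem_zpowers _)⟩
  choose S hS using h7
  have hi := List.nodup_iff_injective_get.1 hn
  have h8 := h L.length L.get (fun i => (h5 _ (L.get_mem i)).1) hi (fun r hr h => List.get_of_mem (by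
    rw [hL]
    by_cases e : r = p
    · simp [e]
    by_cases e' : r = q
    · simp [e']
    simp [(hm r).2 ⟨e', e, hr, h⟩])) S
  let Φ : (∀ i, (S i : Subgroup G)) → G := fun s => (List.ofFn fun i => (s i : G)).prod
  have h9 : Function.Surjective Φ := fun g => by
    obtain ⟨s, hs, e⟩ := h8 g
    exact ⟨fun i => ⟨s i, hs i⟩, e.symm⟩
  have h10 : Nat.card (∀ i, (S i : Subgroup G)) ∣ Nat.card G := by
    rw [Nat.card_pi]
    refine Finset.prod_dvd_of_isRelPrime (fun i _ j _ hij => Nat.coprime_iff_isRelPrime.1 ?_)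
      fun i _ => Subgroup.card_subgroup_dvd_card _
    have := Fact.mk (h5 _ (L.get_mem i)).1
    have := Fact.mk (h5 _ (L.get_mem j)).1
    exact IsPGroup.coprime_card_of_ne _ _ (hi.ne hij) _ _ (S i).isPGroup' (S j).isPGroup'
  have h11 := ((Nat.bijective_iff_surjective_and_card Φ).2 ⟨h9, le_antisymm
    (Nat.le_of_dvd Nat.card_pos h10) (Nat.card_le_card_of_surjective Φ h9)⟩).1
  have h12 : Φ (fun i => ⟨_, hS i⟩) = Φ 1 := by
    have : List.ofFn (fun i => f' (L.get i)) = L.map f' := by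
      conv_rhs => rw [← List.ofFn_get L, List.map_ofFn]
      rfl
    simp only [Φ, this, h6]
    simp
  have h13 := congrArg Subtype.val (congrFun (h11 h12) ⟨0, by simp [hL]⟩)
  subst hL
  exact h1.ha (e1 ▸ h13)

end Cfsg.Agent.S4393
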