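import Cfsg.Statements.S4394
import Cfsg.Agent.PLOC.QdFree
import Cfsg.Agent.SOLV.Schmidt
import Cfsg.Agent.SOLV.PLength
import Cfsg.Agent.SOLV.Primitive
import Cfsg.Agent.SOLV.Frattini
import Cfsg.Agent.SOLV.CoprimeGen
import Cfsg.Agent.TECH.Amb
import Cfsg.Agent.TECH.CharP
import Cfsg.Agent.PLOC.ClassTwo
import Cfsg.Agent.SOLV.PGroupCyclicMax

set_option autoImplicit false
open Cfsg

namespace Cfsg.Agent.S4394

open Subgroup CL CL.MSS
open scoped commutatorElement

section core

variable {G : Type*} [Group G] [Finite G] {p : ℕ} [hp : Fact p.Prime]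

omit [Finite G] in
/-- `g ↦ [g, y]` on `P`, when all commutators of `P` are central. -/
theorem card_comm {P U : Subgroup G} (hc : ⁅P, P⁆ ≤ centralizer (P : Set G)) (hU : U ≤ P) {y : G}
    (hy : y ∈ P) : ∃ W : Subgroup G, (∀ z, z ∈ W ↔ ∃ g ∈ U, ⁅g, y⁆ = z) ∧
      Nat.card W = (centralizer ({y} : Set G)).relIndex U := by
  have h1 : ∀ a ∈ P, ∀ b ∈ P, ∀ c ∈ P, Commute c ⁅a, b⁆ := fun a ha b hb c hc' =>
    mem_centralizer_iff.1 (hc (commutator_mem_commutator ha hb)) c hc'
  let f : U →* G := MonoidHom.mk' (fun g => ⁅(g : G), y⁆) (fun a b => by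
    change ⁅(a : G) * b, y⁆ = _
    rw [CL.PG.commutator_mul_left_of_commute (h1 _ (hU b.2) _ hy _ (hU a.2))]
    exact (h1 _ (hU b.2) _ hy _ ((commutator_le_left_of_normalizes le_normalizer)
      (commutator_mem_commutator (hU a.2) hy))).eq.symm)
  refine ⟨f.range, fun z => ⟨?_, ?_⟩, ?_⟩
  · rintro ⟨g, rfl⟩; exact ⟨g, g.2, rfl⟩
  · rintro ⟨g, hg, rfl⟩; exact ⟨⟨g, hg⟩, rfl⟩
  · rw [← index_ker, relIndex]
    congr 1
    ext g
    rw [MonoidHom.mem_ker, mem_subgroupOf, mem_centralizer_singleton_iff]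
    exact commutatorElement_eq_one_iff_mul_comm

theorem core (hG : IsPSolvable p G) (hV : IsElementaryAbelian p (pCore p G))
    (hC : centralizer (pCore p G : Set G) ≤ pCore p G) {P Z : Subgroup G} (hP : IsPGroup p P)
    (hVP : pCore p G ≤ P) (cen : Z ≤ centralizer (P : Set G)) (comm : ⁅P, P⁆ ≤ Z)
    (pow : ∀ g ∈ P, g ^ p ∈ Z)
    (full : ∀ y ∈ P, y ∉ Z → ∀ u ∈ P, ∀ v ∈ P, ∃ g ∈ P, ⁅g, y⁆ = ⁅u, v⁆)
    (hne : ¬ P ≤ pCore p G) : Z.relIndex (pCore p G) = p ∧ (pCore p G).relIndex P = p := by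
  set V := pCore p G with hVdef
  have hVn : V.Normal := by rw [hVdef]; infer_instance
  have hVp : IsPGroup p V := isPGroup_pCore p G
  have hVc : ∀ x ∈ V, ∀ y ∈ V, x * y = y * x := fun x hx y hy =>
    congrArg Subtype.val (hV.1.is_comm.comm (⟨x, hx⟩ : V) ⟨y, hy⟩)
  have hVV : V ≤ centralizer (V : Set G) := fun x hx => mem_centralizer_iff.2 fun y hy =>
    hVc y hy x hx
  have hZV : Z ≤ V := cen.trans ((centralizer_le hVP).trans hC)
  have hN : ∀ X : Subgroup G, X ≤ normalizer (V : Set G) := fun X => by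
    rw [normalizer_eq_top]; exact le_top
  let π := QuotientGroup.mk' V
  have hπ : Function.Surjective π := QuotientGroup.mk'_surjective V
  have hker : π.ker = V := QuotientGroup.ker_mk' V
  let O := pPrimeCore p (G ⧸ V)
  let A := P.map π
  have hAp : IsPGroup p A := hP.map π
  have hAc : IsMulCommutative A := ⟨⟨by
    rintro ⟨_, a, ha, rfl⟩ ⟨_, b, hb, rfl⟩
    apply Subtype.ext
    change π a * π b = π b * π a
    rw [← commutatorElement_eq_one_iff_mul_comm, ← map_commutatorElement, ← MonoidHom.mem_ker, hker]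
    exact hZV (comm (commutator_mem_commutator ha hb))⟩⟩
  have hA1 : A ≠ ⊥ := by rwa [Ne, Subgroup.map_eq_bot_iff, hker]
  have hAO : A ⊓ O = ⊥ := inf_eq_bot_of_isPGroup_of_coprime hAp (coprime_card_pPrimeCore p _)
  have hON : ∀ X : Subgroup (G ⧸ V), X ≤ normalizer (O : Set (G ⧸ V)) := fun X => by
    rw [normalizer_eq_top]; exact le_top
  obtain ⟨B, hBA, hBi, hB⟩ : ∃ B ≤ A, B.relIndex A = p ∧
      ¬ O ⊓ centralizer (B : Set (G ⧸ V)) ≤ centralizer (A : Set (G ⧸ V)) := by
    by_contra h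
    push Not at h
    have h1 := coprime_le_of_forall_hyperplane A O _ hp.out (by
      rintro _ ⟨a, ha, rfl⟩
      rw [← map_pow, ← MonoidHom.mem_ker, hker]
      exact hZV (pow a ha)) hA1 (hON A)
      (coprime_card_of_isPGroup_of_coprime hAp (coprime_card_pPrimeCore p _)) h
    have h2 := (le_centralizer_iff.1 h1).trans (CL.IsPSolvable.centralizer_pPrimeCore_le
      (CL.IsPSolvable.quotient hG V) (pCore_quotient_pCore p G))
    exact hA1 (le_bot_iff.1 (hAO ▸ le_inf le_rfl h2))
  let Bq := B.comap π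
  let D := (O ⊓ centralizer (B : Set (G ⧸ V))).comap π
  have hVB : V ≤ Bq := fun v hv => by
    change π v ∈ B
    rw [(MonoidHom.mem_ker.1 (hker.ge hv) : π v = 1)]; exact B.one_mem
  have hPc : A.comap π = P := comap_map_eq_self (hker.le.trans hVP)
  have hBP : Bq ≤ P := hPc ▸ comap_mono hBA
  have hBi' : Bq.relIndex P = p := by
    rw [← hPc, relIndex_comap, map_comap_eq_self_of_surjective hπ, hBi]
  have hDB : ∀ d ∈ D, ∀ b ∈ Bq, ⁅b, d⁆ ∈ V := fun d hd b hb => by
    rw [← hker, MonoidHom.mem_ker, map_commutatorElement, commutatorElement_eq_one_iff_mul_comm]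
    exact mem_centralizer_iff.1 hd.2 _ hb
  have hDN : D ≤ normalizer (Bq : Set G) := le_normalizer_iff_commutator_le_left.2
    (commutator_le.2 fun b hb d hd => hVB (hDB d hd b hb))
  have hPD : P ≤ normalizer (D : Set G) := by
    refine le_trans ?_ (le_normalizer_comap π)
    rw [← map_le_iff_le_comap]
    refine MSS.le_normalizer_inf (hON A) (MSS.le_normalizer_centralizer ?_)
    exact (le_centralizer_of_le_of_isMulCommutative hBA).trans (centralizer_le_normalizer _)
  have hDP : ⁅D, P⁆ ≤ D := commutator_le_left_of_normalizes hPD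
  -- some `p'`-element of `[D, P]` does not centralize `V`
  have key : ¬ ∀ x ∈ ⁅D, P⁆, (orderOf x).Coprime p → x ∈ centralizer (V : Set G) := by
    intro h
    have h1 : IsPGroup p (⁅D, P⁆ : Subgroup G) := isPGroup_of_forall_coprime fun x hx hx' => by
      obtain ⟨k, hk⟩ := hVp ⟨x, hC (h x hx hx')⟩
      rw [← orderOf_eq_one_iff]
      exact Nat.Coprime.eq_one_of_dvd (hx'.pow_right k)
        (orderOf_dvd_of_pow_eq_one (congrArg Subtype.val hk))
    have h2 := inf_eq_bot_of_isPGroup_of_coprime (h1.map π) (coprime_card_pPrimeCore p (G ⧸ V))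
    have h3 : (⁅D, P⁆ : Subgroup G).map π ≤ O :=
      (map_le_iff_le_comap.2 hDP).trans inf_le_left
    rw [inf_of_le_left h3, map_commutator, map_comap_eq_self_of_surjective hπ,
      commutator_eq_bot_iff_le_centralizer] at h2
    exact hB h2
  have hcopx : ∀ x : G, (orderOf x).Coprime p → ∀ U ≤ V,
      (Nat.card (zpowers x)).Coprime (Nat.card U) := fun x hx U hU =>
    (coprime_card_of_isPGroup_of_coprime (hVp.to_le hU) (by rwa [Nat.card_zpowers])).symm
  obtain ⟨y, hy, hyP⟩ : ∃ y ∈ V ⊓ centralizer (Bq : Set G), y ∉ centralizer (P : Set G) := by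
    by_contra h
    push Not at h
    apply key
    intro x hx hx'
    have h1 : ⁅D, P⁆ ≤ centralizer ((V ⊓ centralizer (Bq : Set G) : Subgroup G) : Set G) :=
      (commutator_mono le_rfl (le_centralizer_iff.1 h)).trans (commutator_le_right_of_normalizes
        (MSS.le_normalizer_centralizer (MSS.le_normalizer_inf (hN D)
          (MSS.le_normalizer_centralizer hDN))))
    have h2 := coprime_eq_centralizer_sup_of_commutator_le (zpowers x) Bq V hVB (hN _)
      (hcopx x hx' V le_rfl) (Or.inl inferInstance) (commutator_le.2 fun b hb d hd =>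
        hDB d (zpowers_le.2 (hDP hx) hd) b hb)
    have h3 := thompson_p_times_q (p := p) (Bq ⊓ centralizer (zpowers x : Set G)) (zpowers x) V
      (hP.to_le (inf_le_left.trans hBP)) (by rwa [Nat.card_zpowers]) hVp inf_le_right (hN _) (hN _)
      (by
        refine le_trans (le_inf inf_le_left ?_) (le_centralizer_iff.1 (zpowers_le.2 (h1 hx)))
        rw [le_centralizer_iff]
        refine h2.ge.trans (sup_le (le_centralizer_iff.1 inf_le_right) ?_)
        exact hVV.trans (centralizer_le inf_le_left))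
    exact le_centralizer_iff.1 h3 (mem_zpowers x)
  have hyZ : y ∉ Z := fun h => hyP (cen h)
  have hcc : ⁅P, P⁆ ≤ centralizer (P : Set G) := comm.trans cen
  -- the derived group has order `p`
  have hW : Nat.card (⁅P, P⁆ : Subgroup G) = p := by
    obtain ⟨W, hW1, hW2⟩ := card_comm hcc le_rfl (hVP hy.1)
    have e : W = ⁅P, P⁆ := by
      apply le_antisymm
      · intro z hz
        obtain ⟨g, hg, rfl⟩ := (hW1 z).1 hz
        exact commutator_mem_commutator hg (hVP hy.1)
      · exact commutator_le.2 fun u hu v hv => (hW1 _).2 (full y (hVP hy.1) hyZ u hu v hv)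
    rw [← e, hW2]
    have h1 : Bq ≤ centralizer ({y} : Set G) := fun b hb =>
      mem_centralizer_singleton_iff.2 (mem_centralizer_iff.1 hy.2 b hb)
    have h2 := relIndex_dvd_of_le_left P h1
    rw [hBi'] at h2
    refine ((Nat.dvd_prime hp.out).1 h2).resolve_left fun h => hyP ?_
    rw [relIndex_eq_one] at h
    exact mem_centralizer_iff.2 fun g hg => mem_centralizer_singleton_iff.1 (h hg)
  have hgen : ∀ z ∈ ⁅P, P⁆, z ≠ 1 → zpowers z = ⁅P, P⁆ := fun z hz hz1 => by
    refine eq_of_le_of_card_ge (zpowers_le.2 hz) ?_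
    have h1 := card_dvd_of_le (zpowers_le.2 hz)
    rw [hW] at h1 ⊢
    rcases (Nat.dvd_prime hp.out).1 h1 with h | h
    · rw [card_eq_one, zpowers_eq_bot] at h
      exact absurd h hz1
    · exact h.ge
  have hBV : Bq = V := by
    refine le_antisymm ?_ hVB
    by_contra hlt
    obtain ⟨b, hb, hbV⟩ := SetLike.not_le_iff_exists.1 hlt
    obtain ⟨v, hv, hvb⟩ : ∃ v ∈ V, ⁅v, b⁆ ≠ 1 := by
      by_contra h
      push Not at h
      exact hbV (hC (mem_centralizer_iff.2 fun v hv =>
        commutatorElement_eq_one_iff_mul_comm.1 (h v hv)))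
    have h1 : D ≤ normalizer ((⁅P, P⁆ : Subgroup G) : Set G) := by
      refine le_normalizer_of_cj_le fun d hd => ?_
      conv_lhs => rw [← hgen _ (commutator_mem_commutator (hVP hv) (hBP hb)) hvb]
      rw [cj_zpowers, zpowers_le, conjugate_commutatorElement]
      exact commutator_mem_commutator (hVP (hVn.conj_mem v hv d))
        (hBP (conj_mem_of_normalizes hDN hd hb))
    apply key
    intro x hx hx'
    have h2 : ⁅D, P⁆ ≤ centralizer ((⁅P, P⁆ : Subgroup G) : Set G) :=
      (commutator_mono le_rfl (le_centralizer_iff.1 hcc)).trans (commutator_le_right_of_normalizes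
        (MSS.le_normalizer_centralizer h1))
    have h3 : ⁅V, ⁅D, P⁆⁆ ≤ ⁅P, P⁆ := by
      let S : Subgroup G :=
        { carrier := {g | ∀ v ∈ V, ⁅g, v⁆ ∈ (⁅P, P⁆ : Subgroup G)}
          one_mem' := fun v _ => by simp
          mul_mem' := fun {a b} ha hb v hv => by
            have e : ⁅a * b, v⁆ = ⁅a, ⁅b, v⁆⁆ * ⁅b, v⁆ * ⁅a, v⁆ := by
              simp only [commutatorElement_def]; group
            rw [e]
            exact mul_mem (mul_mem (ha _ (hZV (comm (hb v hv)))) (hb v hv)) (ha v hv)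
          inv_mem' := fun {a} ha v hv => by
            have e : ⁅a⁻¹, v⁆ = ⁅a, a⁻¹ * v * a⁻¹⁻¹⁆⁻¹ := by
              simp only [commutatorElement_def]; group
            rw [e]
            exact inv_mem (ha _ (hVn.conj_mem v hv _)) }
      have hPS : P ≤ S := fun g hg v hv => commutator_mem_commutator hg (hVP hv)
      have hS : ⁅D, P⁆ ≤ S := commutator_le.2 fun d hd g hg => by
        rw [commutatorElement_def]
        refine S.mul_mem (fun v hv => ?_) (S.inv_mem (hPS hg))
        have e : ⁅d * g * d⁻¹, v⁆ = d * ⁅g, d⁻¹ * v * d⁻¹⁻¹⁆ * d⁻¹ := by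
          simp only [commutatorElement_def]; group
        rw [e]
        exact conj_mem_of_normalizes h1 hd (hPS hg _ (hVn.conj_mem v hv _))
      rw [commutator_comm]
      exact commutator_le.2 fun g hg v hv => hS hg v hv
    have h4 := coprime_le_centralizer_of_trivial_on_factors (zpowers x) V ⁅P, P⁆
      ((zpowers_le.2 (hDP hx)).trans h1) (hcopx x hx' _ (comm.trans hZV))
      (le_centralizer_iff.1 (zpowers_le.2 (h2 hx)))
      ((commutator_mono le_rfl (zpowers_le.2 hx)).trans h3)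
    exact le_centralizer_iff.1 h4 (mem_zpowers x)
  rw [hBV] at hBi'
  refine ⟨?_, hBi'⟩
  obtain ⟨a, ha, haV⟩ := SetLike.not_le_iff_exists.1 hne
  obtain ⟨W, hW1, hW2⟩ := card_comm hcc hVP ha
  have e1 : centralizer ({a} : Set G) ⊓ V = Z := by
    refine le_antisymm ?_ (le_inf (cen.trans (centralizer_le (Set.singleton_subset_iff.2 ha))) hZV)
    rintro w ⟨hw1, hw2⟩
    by_contra hwZ
    have h1 : P ≤ centralizer ({w} : Set G) := by
      rw [← CL.PCyc.sup_zpowers_eq_of_relIndex_prime hp.out hVP hBi' ha haV]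
      refine sup_le (fun v hv => mem_centralizer_singleton_iff.2 (hVc v hv w hw2)) ?_
      rw [zpowers_le, mem_centralizer_singleton_iff]
      exact (mem_centralizer_singleton_iff.1 hw1).symm
    have h2 : (⁅P, P⁆ : Subgroup G) = ⊥ := by
      rw [eq_bot_iff, commutator_le]
      intro u hu v hv
      obtain ⟨g, hg, e⟩ := full w (hVP hw2) hwZ u hu v hv
      rw [← e, mem_bot, commutatorElement_eq_one_iff_mul_comm]
      exact mem_centralizer_singleton_iff.1 (h1 hg)
    rw [h2, card_bot] at hW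
    exact hp.out.one_lt.ne hW
  rw [← e1, inf_relIndex_right, ← hW2]
  have h1 : W ≤ ⁅P, P⁆ := fun z hz => by
    obtain ⟨g, hg, rfl⟩ := (hW1 z).1 hz
    exact commutator_mem_commutator (hVP hg) ha
  have h2 := card_dvd_of_le h1
  rw [hW] at h2
  refine ((Nat.dvd_prime hp.out).1 h2).resolve_left fun h => haV (hC ?_)
  rw [hW2, relIndex_eq_one] at h
  exact mem_centralizer_iff.2 fun g hg => mem_centralizer_singleton_iff.1 (h hg)

/-- The properties of the normal Sylow subgroup of a minimal non-nilpotent group that we use. -/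
structure Good (p : ℕ) {T : Type*} [Group T] (Z : Subgroup T) : Prop where
  cen : ∀ z ∈ Z, ∀ g, g * z = z * g
  comm : ∀ g h : T, ⁅g, h⁆ ∈ Z
  pow : ∀ g, g ^ p ∈ Z
  full : ∀ y ∉ Z, ∀ u v : T, ∃ g : T, ⁅g, y⁆ = ⁅u, v⁆
  three : Z.index = p ^ 2 → p ≠ 3
  two : p = 2 → Z.index = 4 → ∀ y ∉ Z, ∀ u, ∃ z ∈ Z, u * u = z * z ∨ u * u = y * y * (z * z)

theorem le_of_good {T : Type*} [Group T] {Z : Subgroup T} (h : Good p Z) (hT : IsPGroup p T)
    (hG : IsPSolvable p G) (hV : IsElementaryAbelian p (pCore p G))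
    (hC : centralizer (pCore p G : Set G) ≤ pCore p G) (φ : T →* G) (hk : φ.ker ≤ Z)
    (hVP : pCore p G ≤ φ.range) : φ.range ≤ pCore p G := by
  by_contra hne
  have cen : Z.map φ ≤ centralizer (φ.range : Set G) := by
    rintro _ ⟨z, hz, rfl⟩
    rw [mem_centralizer_iff]
    rintro _ ⟨g, rfl⟩
    rw [← map_mul, h.cen z hz, map_mul]
  have comm : ⁅φ.range, φ.range⁆ ≤ Z.map φ := commutator_le.2 (by
    rintro _ ⟨a, rfl⟩ _ ⟨b, rfl⟩
    exact ⟨_, h.comm a b, map_commutatorElement φ a b⟩)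
  obtain ⟨h1, h2⟩ := core hG hV hC (P := φ.range) (Z := Z.map φ) (hT.of_surjective _
    φ.rangeRestrict_surjective) hVP cen comm (by
      rintro _ ⟨a, rfl⟩
      exact ⟨_, h.pow a, map_pow φ a p⟩) (by
      rintro _ ⟨y, rfl⟩ hy _ ⟨u, rfl⟩ _ ⟨v, rfl⟩
      obtain ⟨g, hg⟩ := h.full y (fun hy' => hy ⟨y, hy', rfl⟩) u v
      exact ⟨φ g, ⟨g, rfl⟩, by rw [← map_commutatorElement, hg, map_commutatorElement]⟩) hne
  have hZV : Z.map φ ≤ pCore p G := cen.trans ((centralizer_le hVP).trans hC)
  have h3 : Z.index = p ^ 2 := by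
    have := relIndex_mul_relIndex _ _ _ hZV hVP
    rw [h1, h2, φ.range_eq_map, relIndex_map_map, top_sup_eq, sup_of_le_left hk,
      relIndex_top_right] at this
    rw [← this, sq]
  by_cases hp2 : p = 2
  · subst hp2
    obtain ⟨v, hv, hvZ⟩ : ∃ v ∈ pCore 2 G, v ∉ Z.map φ := by
      by_contra hh
      push Not at hh
      rw [relIndex_eq_one.2 hh] at h1
      omega
    obtain ⟨y, rfl⟩ := hVP hv
    have h4 : ∀ u, φ u * φ u = 1 := fun u => by
      obtain ⟨z, hz, e⟩ := h.two rfl h3 y (fun hy => hvZ ⟨y, hy, rfl⟩) u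
      have e1 : φ z * φ z = 1 := by rw [← sq]; exact hV.2 _ (hZV ⟨z, hz, rfl⟩)
      have e2 : φ y * φ y = 1 := by rw [← sq]; exact hV.2 _ hv
      rcases e with e | e
      · rw [← map_mul, e, map_mul, e1]
      · rw [← map_mul, e, map_mul, map_mul, map_mul, e1, e2, one_mul]
    refine hne (le_trans ?_ ((centralizer_le hVP).trans hC))
    rintro _ ⟨a, rfl⟩
    rw [mem_centralizer_iff]
    rintro _ ⟨b, rfl⟩
    have e := h4 (b * a)
    rw [map_mul] at e
    calc φ b * φ a = (φ a * φ a) * (φ b * φ a) * (φ b * φ b) := by rw [h4, h4]; group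
      _ = φ a * (φ a * φ b * φ a * φ b) * φ b := by group
      _ = φ a * (φ b)⁻¹ * (φ b * φ a * (φ b * φ a)) * φ b * φ b := by group
      _ = φ a * φ b := by rw [e]; group
  · have h5 : 5 ≤ p := hp.out.five_le_of_ne_two_of_ne_three hp2 (h.three h3)
    have hqd : ¬ Involves (qd p) G := fun hh => CL.PSt.not_involves_sl2_of_isPSolvable h5 hG
      (CL.Sec.involves_trans (CL.Sec.involves_of_surjective _ CL.Qd.proj_surjective) hh)
    refine hne fun a ha => ?_
    obtain ⟨K, hK, haK, hK2⟩ := CL.PSt.inOp_of_elemAb hp2 hqd hV (a := a) (by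
      rw [commutator_eq_bot_iff_le_centralizer]
      exact (commutator_mono hVP (zpowers_le.2 ha)).trans
        (comm.trans (cen.trans (centralizer_le (zpowers_le.2 ha)))))
    refine le_pCore (N := K) (isPGroup_iff_forall_mem.2 fun g hg => ?_) haK
    obtain ⟨k, hk⟩ := hK2 g hg
    exact ⟨k + 1, by rw [pow_succ, pow_mul]; exact hV.2 _ (hC hk)⟩

theorem good_of_aut {T : Type*} [Group T] [Finite T] {Z : Subgroup T} (σ : MulAut T)
    (cen : ∀ z ∈ Z, ∀ g, g * z = z * g) (comm : ∀ g h : T, ⁅g, h⁆ ∈ Z) (pow : ∀ g, g ^ p ∈ Z)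
    (hσ : ∀ z ∈ Z, σ z = z) (irr : ∀ U, Z ≤ U → (∀ u ∈ U, σ u ∈ U) → U = Z ∨ U = ⊤)
    (hna : ∃ a b : T, a * b ≠ b * a) {q : ℕ} (hq : q.Prime) (hσq : σ ^ q = 1)
    (hmod : Z.index ≡ 1 [MOD q]) : Good p Z := by
  have hZn : Z.Normal := ⟨fun z hz g => by rwa [cen z hz, mul_inv_cancel_right]⟩
  have noeig : ∀ w ∉ Z, σ w ∉ Z ⊔ zpowers w := fun w hw hσw => by
    rcases irr (Z ⊔ zpowers w) le_sup_left (fun u hu => by
      obtain ⟨z, hz, s, hs, rfl⟩ := mem_sup_of_normal_left.1 hu
      obtain ⟨n, rfl⟩ := mem_zpowers_iff.1 hs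
      rw [map_mul, hσ z hz, map_zpow]
      exact mul_mem (mem_sup_left hz) (zpow_mem hσw n)) with h | h
    · exact hw (h ▸ mem_sup_right (mem_zpowers w))
    · obtain ⟨a, b, hab⟩ := hna
      obtain ⟨z, hz, s, hs, rfl⟩ := mem_sup_of_normal_left.1 (h.ge (mem_top a))
      obtain ⟨z', hz', s', hs', rfl⟩ := mem_sup_of_normal_left.1 (h.ge (mem_top b))
      obtain ⟨n, rfl⟩ := mem_zpowers_iff.1 hs
      obtain ⟨m, rfl⟩ := mem_zpowers_iff.1 hs'
      exact hab (Commute.mul_left (cen z hz _).symm (Commute.mul_right (cen z' hz' _)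
        (Commute.zpow_zpow_self w n m))).eq
  have hmem : ∀ w u, u⁻¹ * w ∈ Z → w ∈ Z ⊔ zpowers u := fun w u h => by
    have := mul_mem (mem_sup_right (mem_zpowers u) : u ∈ Z ⊔ zpowers u) (mem_sup_left h)
    simpa using this
  -- `σ² y ∉ y Z`
  have h2 : ∀ y ∉ Z, y⁻¹ * σ (σ y) ∉ Z := fun y hy h => by
    have h1 : y * σ y ∉ Z := fun h' => noeig y hy (by
      have := mul_mem (inv_mem (mem_sup_right (mem_zpowers y) : y ∈ Z ⊔ zpowers y))
        (mem_sup_left h')
      simpa using this)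
    refine noeig _ h1 (hmem _ _ ?_)
    have e : (y * σ y)⁻¹ * σ (y * σ y) = ⁅(σ y)⁻¹, y⁻¹⁆ * (y⁻¹ * σ (σ y)) := by
      rw [map_mul, commutatorElement_def]; group
    rw [e]
    exact Z.mul_mem (comm _ _) h
  refine ⟨cen, comm, pow, fun y hy u v => ?_, fun hi hp3 => ?_, fun hp2 hi y hy u => ?_⟩
  · obtain ⟨W, hW, -⟩ := card_comm (P := ⊤) (U := ⊤) (commutator_le.2 fun a _ b _ =>
      mem_centralizer_iff.2 fun g _ => cen _ (comm a b) g) le_rfl (mem_top y)
    let E : Subgroup T :=
      { carrier := {u | ∀ g : T, ⁅g, u⁆ ∈ W}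
        one_mem' := fun g => by simp
        mul_mem' := fun {a b} ha hb g => by
          rw [CL.PG.commutator_mul_right_of_commute (cen _ (comm _ _) _)]
          exact W.mul_mem (ha g) (hb g)
        inv_mem' := fun {a} ha g => by
          rw [CL.PG.commutator_inv_right_of_commute (cen _ (comm _ _) _)]
          exact W.inv_mem (ha g) }
    rcases irr E (fun z hz g => by
      rw [commutatorElement_eq_one_iff_mul_comm.2 (cen z hz g)]; exact W.one_mem) (fun u hu g => by
      obtain ⟨g, rfl⟩ := σ.surjective g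
      rw [← map_commutatorElement, hσ _ (comm _ _)]
      exact hu g) with h | h
    · exact absurd (h ▸ (fun g => (hW _).2 ⟨g, mem_top g, rfl⟩ : y ∈ E)) hy
    · obtain ⟨g, -, hg⟩ := (hW _).1 ((h.ge (mem_top v) : v ∈ E) u)
      exact ⟨g, hg⟩
  · subst hp3
    rw [hi] at hmod
    have h8 : q ∣ 2 ^ 3 := (Nat.modEq_iff_dvd' (by norm_num)).1 hmod.symm
    obtain rfl := (Nat.prime_dvd_prime_iff_eq hq Nat.prime_two).1 (hq.dvd_of_dvd_pow h8)
    obtain ⟨a, b, hab⟩ := hna
    refine h2 b (fun hb => hab (cen b hb a)) ?_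
    have : σ (σ b) = b := by
      change (σ ^ 2) b = b
      rw [hσq]; rfl
    rw [this, inv_mul_cancel]; exact Z.one_mem
  · classical
    have hy1 : σ y ∉ Z := fun h => noeig y hy (mem_sup_left h)
    have hy2 : σ (σ y) ∉ Z := fun h => noeig _ hy1 (mem_sup_left h)
    have hne : ∀ a b : T, a⁻¹ * b ∉ Z → (a : T ⧸ Z) ≠ b := fun a b h e => h (QuotientGroup.eq.1 e)
    have := Fintype.ofFinite (T ⧸ Z)
    have hcard : ({((1 : T) : T ⧸ Z), (y : T ⧸ Z), (σ y : T ⧸ Z), (σ (σ y) : T ⧸ Z)} :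
        Finset (T ⧸ Z)) = Finset.univ := by
      apply Finset.eq_univ_of_card
      rw [← Nat.card_eq_fintype_card, ← index_eq_card, hi, Finset.card_eq_four]
      exact ⟨_, _, _, _, hne _ _ (by simpa using hy), hne _ _ (by simpa using hy1),
        hne _ _ (by simpa using hy2), hne _ _ fun h => noeig y hy (hmem _ _ h), hne _ _ (h2 y hy),
        hne _ _ fun h => noeig _ hy1 (hmem _ _ h), rfl⟩
    have hyy : y * y ∈ Z := by have := pow y; rwa [hp2, sq] at this
    have key : ∀ w : T, w * w = y * y → (u : T ⧸ Z) = w →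
        ∃ z ∈ Z, u * u = z * z ∨ u * u = y * y * (z * z) := fun w hw e => by
      refine ⟨w⁻¹ * u, QuotientGroup.eq.1 e.symm, Or.inr ?_⟩
      have := cen _ (QuotientGroup.eq.1 e.symm) w
      calc u * u = w * ((w⁻¹ * u) * w) * (w⁻¹ * u) := by group
        _ = _ := by rw [← this, ← hw]; group
    have hm : (u : T ⧸ Z) ∈ Finset.univ := Finset.mem_univ _
    rw [← hcard] at hm
    simp only [Finset.mem_insert, Finset.mem_singleton] at hm
    rcases hm with e | e | e | e
    · exact ⟨u, (QuotientGroup.eq_one_iff u).1 e, Or.inl rfl⟩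
    · exact key y rfl e
    · exact key _ (by rw [← map_mul, hσ _ hyy]) e
    · exact key _ (by rw [← map_mul, ← map_mul, hσ _ hyy, hσ _ hyy]) e

theorem exists_good {X : Type*} [Group X] [Finite X] {r : ℕ} {x : X} {P : Sylow p X}
    (h : SchmidtData X r p x P) : ∃ Z : Subgroup (P : Subgroup X), Good p Z := by
  by_cases hna : ∃ a b : (P : Subgroup X), a * b ≠ b * a
  swap
  · push Not at hna
    exact ⟨⊤, fun z _ g => hna g z, fun _ _ => mem_top _, fun _ => mem_top _,
      fun y hy => absurd (mem_top y) hy, fun hi => by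
        rw [index_top] at hi
        exact absurd hi.symm (Nat.one_lt_pow two_ne_zero hp.out.one_lt).ne',
      fun _ _ y hy => absurd (mem_top y) hy⟩
  have hn := h.normal
  have hPp : IsPGroup p (P : Subgroup X) := P.isPGroup'
  have hcen : ∀ U : Subgroup (P : Subgroup X), U ≠ ⊤ → (U.map (P : Subgroup X).subtype).Normal →
      ∀ u ∈ U, (u : X) ∈ center X := fun U hU hUn u hu => by
    refine h.le_center_of_lt (D := U.map (P : Subgroup X).subtype)
      (lt_of_le_of_ne (map_subtype_le U) fun e => hU ?_) ⟨u, hu, rfl⟩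
    apply map_injective (P : Subgroup X).subtype_injective
    rw [e, ← MonoidHom.range_eq_map, range_subtype]
  have hcen' : ∀ u : (P : Subgroup X), (u : X) ∈ center X → u ∈ center (P : Subgroup X) :=
    fun u hu => mem_center_iff.2 fun g => Subtype.ext (mem_center_iff.1 hu g)
  have hnt : Nontrivial (P : Subgroup X) := (nontrivial_iff_ne_bot _).2 h.ne_bot
  have hF : frattini (P : Subgroup X) ≤ center (P : Subgroup X) := fun u hu =>
    hcen' u (hcen _ CL.PG.frattini_ne_top inferInstance u hu)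
  have hZt : center (P : Subgroup X) ≠ ⊤ := fun e => by
    obtain ⟨a, b, hab⟩ := hna
    exact hab (mem_center_iff.1 (e.ge (mem_top b)) a)
  have comm : ∀ g k : (P : Subgroup X), ⁅g, k⁆ ∈ center (P : Subgroup X) := fun g k =>
    hF (CL.PG.commutatorElement_mem_frattini hPp g k)
  have hnorm : ∀ U : Subgroup (P : Subgroup X), center (P : Subgroup X) ≤ U →
      x ∈ normalizer ((U.map (P : Subgroup X).subtype : Subgroup X) : Set X) →
      (U.map (P : Subgroup X).subtype).Normal := fun U hU hx => by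
    rw [← normalizer_eq_top_iff, eq_top_iff, ← h.sup_eq_top]
    refine sup_le ?_ (zpowers_le.2 hx)
    refine le_normalizer_of_cj_le fun g hg => cj_le_iff_forall.2 ?_
    rintro _ ⟨u, hu, rfl⟩
    refine ⟨⁅(⟨g, hg⟩ : (P : Subgroup X)), u⁆ * u, U.mul_mem (hU (comm _ _)) hu, ?_⟩
    simp [commutatorElement_def]
  refine ⟨center _, good_of_aut (MulAut.conjNormal x) (fun z hz g => mem_center_iff.1 hz g) comm
    (fun g => hF (CL.PG.pow_mem_frattini hPp g)) (fun z hz => ?_) (fun U hU hσ => ?_) hna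
    h.prime_p ?_ ?_⟩
  · apply Subtype.ext
    rw [MulAut.conjNormal_apply, mem_center_iff.1 (hcen _ hZt inferInstance z hz) x,
      mul_inv_cancel_right]
  · by_cases hU' : U = ⊤
    · exact Or.inr hU'
    refine Or.inl (le_antisymm (fun u hu => hcen' u (hcen U hU' (hnorm U hU ?_) u hu)) hU)
    refine mem_normalizer_of_cj_le (cj_le_iff_forall.2 ?_)
    rintro _ ⟨u, hu, rfl⟩
    exact ⟨_, hσ u hu, rfl⟩
  · rw [← map_pow]
    ext g
    rw [MulAut.conjNormal_apply, ← mem_center_iff.1 h.pow_mem_center g, mul_inv_cancel_right]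
    rfl
  · have : Fact r.Prime := ⟨h.prime_p⟩
    have h1 := CL.Prim.card_modEq_card_inf_centralizer (E := (P : Subgroup X)) h.isPGroup
      (by rw [normalizer_eq_top]; exact le_top)
    have e : (P : Subgroup X) ⊓ centralizer (zpowers x : Set X) =
        (center (P : Subgroup X)).map (P : Subgroup X).subtype := by
      apply le_antisymm
      · rintro u ⟨hu, huc⟩
        have h2 : center (P : Subgroup X) ≤
            (centralizer (zpowers x : Set X)).subgroupOf (P : Subgroup X) := fun z hz =>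
          mem_subgroupOf.2 (center_le_centralizer _ (hcen _ hZt inferInstance z hz))
        refine ⟨⟨u, hu⟩, hcen' _ (hcen ((centralizer (zpowers x : Set X)).subgroupOf P)
          (fun e => h.not_le_centralizer (subgroupOf_eq_top.1 e)) (hnorm _ h2 ?_) ⟨u, hu⟩ huc), rfl⟩
        rw [subgroupOf_map_subtype]
        exact centralizer_le_normalizer _ (le_centralizer_iff.1 inf_le_left (mem_zpowers x))
      · rintro _ ⟨z, hz, rfl⟩
        exact ⟨z.2, center_le_centralizer _ (hcen _ hZt inferInstance z hz)⟩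
    rw [e, card_map_of_injective (P : Subgroup X).subtype_injective,
      ← card_mul_index (center (P : Subgroup X))] at h1
    refine Nat.ModEq.cancel_left_of_coprime (c := Nat.card (center (P : Subgroup X))) ?_
      (by rwa [mul_one])
    obtain ⟨k, hk⟩ := (hPp.to_subgroup (center _)).exists_card_eq
    rw [hk]
    exact Nat.Coprime.pow_right _ ((Nat.coprime_primes h.prime_p hp.out).2 h.ne)

theorem le_of_good' {T : Type*} [Group T] {Z : Subgroup T} (h : Good p Z) (hT : IsPGroup p T)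
    (hG : IsPSolvable p G) (h0 : pPrimeCore p G = ⊥) (φ : T →* G) (hk : φ.ker ≤ Z)
    (hVP : pCore p G ≤ φ.range) : φ.range ≤ pCore p G := by
  let F := (frattini (pCore p G)).map (pCore p G).subtype
  have hFn : F.Normal := inferInstance
  have hVp : IsPGroup p (pCore p G) := isPGroup_pCore p G
  have hF : F ≤ pCore p G := map_subtype_le _
  let π := QuotientGroup.mk' F
  have hm : (pCore p G).map π = pCore p (G ⧸ F) := oP_pCore_map_mk F (hVp.to_le hF)
  have hG' := CL.IsPSolvable.quotient hG F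
  have h0' : pPrimeCore p (G ⧸ F) = ⊥ := by
    rw [pPrimeCore_eq_piCore, piCore_quotient_eq_map_of_le_frattini _ F
      (map_frattini_le_of_normal _), ← pPrimeCore_eq_piCore, h0, Subgroup.map_bot]
  have hC := CL.IsPSolvable.centralizer_pCore_le hG' h0'
  have hV : IsElementaryAbelian p (pCore p (G ⧸ F)) := by
    rw [← hm]
    refine ⟨⟨⟨?_⟩⟩, ?_⟩
    · rintro ⟨_, x, hx, rfl⟩ ⟨_, y, hy, rfl⟩
      apply Subtype.ext
      change π x * π y = π y * π x
      rw [← commutatorElement_eq_one_iff_mul_comm, ← map_commutatorElement, ← MonoidHom.mem_ker,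
        QuotientGroup.ker_mk']
      exact CL.PG.commutator_le_frattini_map hVp (commutator_mem_commutator hx hy)
    · rintro _ ⟨x, hx, rfl⟩
      rw [← map_pow, ← MonoidHom.mem_ker, QuotientGroup.ker_mk']
      exact CL.PG.pow_mem_frattini_map hVp hx
  have hFZ : F ≤ Z.map φ := by
    refine (CL.PG.frattini_map_subtype_le_iff hVp).2 ⟨commutator_le.2 fun a ha b hb => ?_,
      fun a ha => ?_⟩
    · obtain ⟨a, rfl⟩ := hVP ha
      obtain ⟨b, rfl⟩ := hVP hb
      exact ⟨_, h.comm a b, map_commutatorElement φ a b⟩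
    · obtain ⟨a, rfl⟩ := hVP ha
      exact ⟨_, h.pow a, map_pow φ a p⟩
  have key := le_of_good h hT hG' hV hC (π.comp φ) (by
    rw [← MonoidHom.comap_ker, QuotientGroup.ker_mk']
    exact (comap_mono hFZ).trans (comap_map_eq_self hk).le) (by
    rw [← hm, ← MonoidHom.map_range]; exact map_mono hVP)
  rw [← hm, ← MonoidHom.map_range, map_le_iff_le_comap,
    comap_map_eq_self (by rw [QuotientGroup.ker_mk']; exact hF)] at key
  exact key

end core

/-- Let X be a finite minimal non-nilpotent group (not nilpotent, every proper subgroup nilpotent) with a nontrivial normal Sylow p-subgroup P. If G is a finite p-solvable group whose Sylow p-subgroups are isomorphic to P, then G has p-length at most 1. -/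
theorem result {G X : Type*} [Group G] [Finite G] [Group X] [Finite X] (p : ℕ) [Fact p.Prime]
    (hX : Cfsg.IsMinimalNonNilpotent X) (P : Sylow p X) (hPn : (P : Subgroup X).Normal) (hP1 : (P : Subgroup X) ≠ ⊥)
    (hG : Cfsg.IsPSolvable p G) (Q : Sylow p G) (hQ : Nonempty (↥(Q : Subgroup G) ≃* ↥(P : Subgroup X))) : Cfsg.PLengthLE p 1 G := by
  obtain ⟨r, q, x, R, h⟩ := exists_schmidtData hX
  have hd : p ∣ Nat.card X := by
    obtain ⟨n, hn0, hn⟩ := P.isPGroup'.nontrivial_iff_card.1 ((nontrivial_iff_ne_bot _).2 hP1)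
    exact (dvd_pow_self p hn0.ne').trans (hn ▸ card_subgroup_dvd_card _)
  obtain ⟨rfl, hR⟩ := h.eq_of_normal_sylow hd P hPn
  obtain rfl : P = R := Sylow.ext hR
  obtain ⟨Z, hZ⟩ := exists_good h
  obtain ⟨e⟩ := hQ
  let π := QuotientGroup.mk' (pPrimeCore p G)
  have hπ : Function.Surjective π := QuotientGroup.mk'_surjective _
  let φ := π.comp ((Q : Subgroup G).subtype.comp e.symm.toMonoidHom)
  have hr : φ.range = (Q : Subgroup G).map π := by
    rw [← MonoidHom.map_range, ← MonoidHom.map_range,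
      MonoidHom.range_eq_top_of_surjective _ e.symm.surjective, ← MonoidHom.range_eq_map,
      range_subtype]
  have key := le_of_good' hZ P.isPGroup' (CL.IsPSolvable.quotient hG _)
    (pPrimeCore_quotient_pPrimeCore p G) φ (fun u hu => by
      have h1 : ((e.symm u : (Q : Subgroup G)) : G) ∈ (Q : Subgroup G) ⊓ pPrimeCore p G :=
        mem_inf.2 ⟨(e.symm u).2, (QuotientGroup.eq_one_iff _).1 hu⟩
      rw [inf_eq_bot_of_isPGroup_of_coprime Q.isPGroup' (coprime_card_pPrimeCore p G), mem_bot,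
        OneMemClass.coe_eq_one, map_eq_one_iff _ e.symm.injective] at h1
      rw [h1]; exact Z.one_mem) (by
      rw [hr]; exact pCore_le_sylow (Q.mapSurjective hπ))
  rw [hr, map_le_iff_le_comap] at key
  rw [pLengthLE_one_iff]
  exact Nat.Coprime.coprime_dvd_left (index_dvd_of_le key)
    ((Nat.Prime.coprime_iff_not_dvd Fact.out).2 Q.not_dvd_index).symm

end Cfsg.Agent.S4394
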