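import Cfsg.Statements.S4395
import Cfsg.Agent.ORD.MaxSchmidt2

set_option autoImplicit false
universe u
open Cfsg

open CL.Ord.MS
namespace Cfsg.Agent.S4395

/-- Let p ≠ q be primes, r ≥ 1, a the multiplicative order of p modulo q, and a₀ = a when a is odd, a₀ = 3a/2 when a is even. Call a finite group minimal non-p-nilpotent when it has no normal p-complement but every proper subgroup has one. Then there is a minimal non-p-nilpotent group G₀ of order p^a₀ · q^r such that every minimal non-p-nilpotent group of order p^t · q^r (any t) is a quotient of G₀ by a central subgroup. -/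
theorem result (p q r : ℕ) [Fact p.Prime] [Fact q.Prime] (hpq : p ≠ q) (hr : 1 ≤ r) (a a₀ : ℕ)
    (ha : a = orderOf (p : ZMod q)) (ha₀ : a₀ = if a % 2 = 1 then a else 3 * a / 2) :
    ∃ (G₀ : Type u) (_ : Group G₀) (_ : Finite G₀),
      (¬ Cfsg.HasNormalPComplement p G₀ ∧ ∀ K : Subgroup G₀, K ≠ ⊤ → Cfsg.HasNormalPComplement p ↥K) ∧ Nat.card G₀ = p ^ a₀ * q ^ r ∧
      ∀ (X : Type u) [Group X] [Finite X], (¬ Cfsg.HasNormalPComplement p X ∧ ∀ K : Subgroup X, K ≠ ⊤ → Cfsg.HasNormalPComplement p ↥K) →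
        (∃ t : ℕ, Nat.card X = p ^ t * q ^ r) → ∃ φ : G₀ →* X, Function.Surjective φ ∧ φ.ker ≤ Subgroup.center G₀ := by
  subst ha
  have hp : p.Prime := Fact.out
  have hq : q.Prime := Fact.out
  have hK : Nat.card (ULift.{u} (GaloisField p (orderOf (p : ZMod q)))) = p ^ orderOf (p : ZMod q) := by
    rw [Nat.card_ulift, GaloisField.card p _ (orderOf_pos' hpq).ne']
  obtain ⟨ζ, hζ⟩ := exists_primitiveRoot hpq hK
  obtain ⟨P, _, α, π, h, h1, h2⟩ := exists_max hpq hK hζ ha₀
  have : Finite P := Nat.finite_of_card_ne_zero (h2 ▸ pow_ne_zero _ hp.ne_zero)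
  have hP : IsPGroup p P := IsPGroup.of_card h2
  have hα : Function.Bijective α := Finite.injective_iff_bijective.1 fun x y e => by
    obtain ⟨k, hk⟩ := Nat.exists_eq_succ_of_ne_zero hq.ne_zero
    rw [← h.pow x, ← h.pow y, hk, Function.iterate_succ_apply, Function.iterate_succ_apply, e]
  have : NeZero (q ^ r) := ⟨pow_ne_zero _ hq.ne_zero⟩
  have hc : ∀ y : Multiplicative (ZMod (q ^ r)), y ∈ Subgroup.zpowers (Multiplicative.ofAdd 1) :=
    fun y => ⟨y.toAdd.val, by
      simp only [zpow_natCast, ← ofAdd_nsmul, nsmul_one, ZMod.natCast_zmod_val, ofAdd_toAdd]⟩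
  have ho : orderOf (Multiplicative.ofAdd (1 : ZMod (q ^ r))) = q ^ r := by simp
  have hd : orderOf (MulEquiv.ofBijective α hα : MulAut P) ∣
      orderOf (Multiplicative.ofAdd (1 : ZMod (q ^ r))) := by
    rw [ho]
    refine (orderOf_dvd_of_pow_eq_one (MulEquiv.ext fun g => ?_)).trans (dvd_pow_self q (by omega))
    exact (congrFun (hom_coe_pow (F := MulAut P) (fun f => (f : P → P)) rfl (fun _ _ => rfl) _ q)
      g).trans (h.pow g)
  let φ := monoidHomOfForallMemZpowers hc hd
  have hφ : ∀ g, φ (Multiplicative.ofAdd 1) g = α g := fun g => by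
    rw [monoidHomOfForallMemZpowers_apply_gen]; rfl
  have : Finite (P ⋊[φ] Multiplicative (ZMod (q ^ r))) :=
    Finite.of_equiv _ SemidirectProduct.equivProd.symm
  refine ⟨P ⋊[φ] Multiplicative (ZMod (q ^ r)), inferInstance, this,
    ⟨h.not_npc (hζ.ne_one hq.one_lt) hP
      (ho.symm ▸ ((Nat.coprime_primes hq hp).2 hpq.symm).pow_left r) hφ, fun H hH => ?_⟩, ?_,
    fun X _ _ hX ⟨t, ht⟩ => h.exists_onto hpq hK hζ ha₀ h1 h2 hc hr ho hφ hX.1 hX.2 ht⟩
  · have := h.nilpotent hK hζ h1 hP hc ho hφ H hH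
    exact CL.hasNPC_of_isNilpotent
  · rw [SemidirectProduct.card, h2]
    simp

end Cfsg.Agent.S4395
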