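import Cfsg.Statements.S4401
import Cfsg.Agent.FGS.SecRank
import Cfsg.Agent.TECH.Conj

set_option autoImplicit false
open Cfsg

namespace Cfsg.Agent.S4401

open Subgroup CL.SecR CL.MSS

/-- Let S be a finite 2-group of sectional 2-rank at most 4 and P a proper non-abelian subgroup whose centre has order 2. Let S₀ be the centralizer in S of Z(P) and suppose P is normal in S₀. Then either S₀ = S, or P has sectional 2-rank at most 2 and S₀ has index 2 in S. -/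
theorem result {S : Type*} [Group S] [Finite S] (h2 : IsPGroup 2 S) (hr : Cfsg.SectionalPRankLE 2 4 S)
    (P : Subgroup S) (hPlt : P ≠ ⊤) (hP : ¬ IsMulCommutative ↥P) (hZP : Nat.card ↥(Subgroup.center ↥P) = 2)
    (S₀ : Subgroup S) (hS₀ : S₀ = Subgroup.centralizer (((Subgroup.center ↥P).map P.subtype : Subgroup S) : Set S))
    (hPn : ∀ s ∈ S₀, ∀ x ∈ P, s * x * s⁻¹ ∈ P) :
    S₀ = ⊤ ∨ (Cfsg.SectionalPRankLE 2 2 ↥P ∧ S₀.index = 2) := by
  have : Fact (Nat.Prime 2) := ⟨Nat.prime_two⟩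
  rw [card_center] at hZP
  rw [map_center] at hS₀
  obtain ⟨⟨z, hzP⟩, hz1, hz⟩ := (Nat.card_eq_two_iff' (1 : ↥(P ⊓ centralizer (P : Set S)))).1 hZP
  replace hz1 : z ≠ 1 := fun h => hz1 (Subtype.ext h)
  replace hz : ∀ x ∈ P ⊓ centralizer (P : Set S), x = 1 ∨ x = z := fun x hx =>
    or_iff_not_imp_left.2 fun h => congrArg Subtype.val
      (hz ⟨x, hx⟩ fun h' => h (congrArg Subtype.val h'))
  have hzz : z * z = 1 := (hz _ (mul_mem hzP hzP)).resolve_right fun h => hz1 (by simpa using h)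
  have hS : ∀ x, x ∈ S₀ ↔ x * z * x⁻¹ = z := fun x => by
    rw [hS₀, mul_inv_eq_iff_eq_mul]
    refine ⟨fun h => (h z hzP).symm, fun h y hy => ?_⟩
    rcases hz y hy with rfl | rfl
    · simp
    · exact h.symm
  have hle : P ≤ S₀ := fun x hx => (hS x).2 (mul_inv_eq_iff_eq_mul.2 (hzP.2 x hx))
  have hn : S₀ ≤ normalizer (P : Set S) :=
    le_normalizer_of_cj_le fun x hx => cj_le_iff_forall.2 (hPn x hx)
  refine or_iff_not_imp_left.2 fun htop => ?_
  have := h2.isNilpotent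
  obtain ⟨s, hs, hs0⟩ :=
    SetLike.exists_of_lt (Group.normalizerCondition_of_isNilpotent S₀ (lt_top_iff_ne_top.2 htop))
  have hcj : ∀ t : S, (t •ᶜ P) ⊓ centralizer ((t •ᶜ P : Subgroup S) : Set S) =
      t •ᶜ (P ⊓ centralizer (P : Set S)) := fun t => by rw [cj_inf, cj_centralizer]
  have hnc : ∀ t ∈ normalizer (S₀ : Set S), S₀ ≤ normalizer ((t •ᶜ P : Subgroup S) : Set S) :=
    fun t ht => by
      rw [← cj_normalizer]
      exact (cj_eq_of_mem_normalizer ht).symm.le.trans (cj_mono t hn)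
  have pair : ∀ s ∈ normalizer (S₀ : Set S), ∀ t ∈ normalizer (S₀ : Set S),
      s * z * s⁻¹ ≠ t * z * t⁻¹ →
      (s •ᶜ P) ⊓ (t •ᶜ P) = ⊥ ∧ s •ᶜ P ≤ centralizer ((t •ᶜ P : Subgroup S) : Set S) := by
    intro s hs t ht hne
    refine inf_eq_bot (h2.to_subgroup S₀) (cj_le_of_mem_normalizer hle hs)
      (cj_le_of_mem_normalizer hle ht) (hnc s hs) (hnc t ht) (by rw [hcj, card_cj, hZP])
      (by rw [hcj, card_cj, hZP]) fun h => ?_
    rw [hcj, hcj] at h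
    obtain ⟨y, hy, h'⟩ := mem_cj'.1 (h ▸ conj_mem_cj (g := s) hzP)
    rcases hz y hy with rfl | rfl
    · exact hz1 (by simpa using h'.symm)
    · exact hne h'.symm
  have hab : ∀ t : S, ¬ IsMulCommutative (t •ᶜ P : Subgroup S) := fun t h =>
    hP (inv_cj_cj t P ▸ isMulCommutative_cj t⁻¹ h)
  have hs1 : s * z * s⁻¹ ≠ z := fun h => hs0 ((hS s).2 h)
  obtain ⟨hd, hc⟩ := pair 1 (one_mem _) s hs (by simpa using hs1.symm)
  rw [cj_one] at hd hc
  have hQn := hnc s hs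
  have hQle := cj_le_of_mem_normalizer hle hs
  have hzQ : s * z * s⁻¹ ∈ s •ᶜ P := conj_mem_cj hzP.1
  have hcQ := hcj s
  have hwQ : ∀ w, s⁻¹ * w ∈ S₀ → ∀ x ∈ P, w * x * w⁻¹ ∈ s •ᶜ P := fun w hw x hx => by
    have := conj_mem_cj (g := s) (hPn _ hw x hx)
    rwa [show s * (s⁻¹ * w * x * (s⁻¹ * w)⁻¹) * s⁻¹ = w * x * w⁻¹ by group] at this
  have hQab := hab s
  have hpair := fun t ht h1 h2 => And.intro (pair t ht 1 (one_mem _) h1).2 (pair t ht s hs h2).2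
  simp only [cj_one, one_mul, inv_one, mul_one] at hpair
  generalize s •ᶜ P = Q at hd hc hQn hQle hzQ hcQ hwQ hQab hpair
  have hdd : ∀ x ∈ P, x ∈ Q → x = 1 := fun x h1 h2 => mem_bot.1 (hd ▸ ⟨h1, h2⟩)
  have hC := centralizer_le_sup hr (h2.to_subgroup S₀) (h2.to_subgroup P) (h2.to_subgroup Q) hP hQab
    hd hc
  have hCs : ∀ x ∈ centralizer (P : Set S), x ∈ centralizer (Q : Set S) →
      x ∈ centralizer ((P ⊔ Q : Subgroup S) : Set S) := fun x h1 h2 =>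
    zpowers_le.1 (le_centralizer_iff.1 (sup_le (le_centralizer_iff.1 (zpowers_le.2 h1))
      (le_centralizer_iff.1 (zpowers_le.2 h2))))
  have hV : ∀ x ∈ S₀, x ∈ centralizer (P : Set S) → x ∈ centralizer (Q : Set S) →
      x = 1 ∨ x = z ∨ x = s * z * s⁻¹ ∨ x = z * (s * z * s⁻¹) := fun x h0 h1 h2 => by
    obtain ⟨a, ha, b, hb, rfl⟩ := (mem_sup_of_normalizes_right (((inf_le_left.trans hc).trans
      (centralizer_le (SetLike.coe_subset_coe.2 inf_le_left))).trans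
      (centralizer_le_normalizer _))).1
      (inf_centralizer_sup_le hc ⟨hC ⟨h0, hCs x h1 h2⟩, hCs x h1 h2⟩)
    obtain ⟨c, hc', rfl⟩ := mem_cj'.1 (hcQ ▸ hb)
    rcases hz a ha with rfl | rfl <;> rcases hz c hc' with rfl | rfl <;> simp
  have hN : ∀ t ∈ normalizer (S₀ : Set S), t ∉ S₀ → t * z * t⁻¹ = s * z * s⁻¹ := fun t ht h0 => by
    by_contra h
    obtain ⟨h1, h2⟩ := hpair t ht (fun h => h0 ((hS t).2 h)) h
    exact hab t ⟨⟨fun a b => Subtype.ext (hCs _ (h1 b.2) (h2 b.2) _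
      (hC ⟨cj_le_of_mem_normalizer hle ht a.2, hCs _ (h1 a.2) (h2 a.2)⟩))⟩⟩
  have hN' : ∀ t, t * z * t⁻¹ = s * z * s⁻¹ → s⁻¹ * t ∈ S₀ := fun t h => (hS _).2 (by
    rw [show s⁻¹ * t * z * (s⁻¹ * t)⁻¹ = s⁻¹ * (t * z * t⁻¹) * s by group, h]; group)
  refine ⟨sectional_of fun A B hA hB hAB => ?_, ?_⟩
  · obtain ⟨B₂, b1, -, b3, b4⟩ := exists_sec_four (h2.to_subgroup Q) hQab
    have := relIndex_le hr (sq_mem_sup hc hA le_rfl hAB b3)
    rw [relIndex_sup_sup hc hd hA le_rfl hB b1] at this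
    have := (Nat.mul_le_mul_left _ b4).trans this
    omega
  suffices h : normalizer (S₀ : Set S) = ⊤ from index_eq_two_iff'.2 ⟨s⁻¹, fun b => by
    by_cases hb : b ∈ S₀
    · exact Or.inr ⟨hb, fun h => hs0 (inv_mem_iff.1 ((mul_mem_cancel_right hb).1 h))⟩
    · exact Or.inl ⟨hN' b (hN b (h ▸ mem_top b) hb), hb⟩⟩
  by_contra hne
  obtain ⟨t, ht, ht0⟩ :=
    SetLike.exists_of_lt (Group.normalizerCondition_of_isNilpotent _ (lt_top_iff_ne_top.2 hne))
  have hzN : z ∈ normalizer (S₀ : Set S) := le_normalizer (hle hzP.1)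
  have hzz' : z * (s * z * s⁻¹) = s * z * s⁻¹ * z := (hc hzP.1 _ hzQ).symm
  have hss : ∀ x ∈ normalizer (S₀ : Set S), x ∉ S₀ → x * (s * z * s⁻¹) * x⁻¹ = z := fun x hx h0 => by
    have : x * s ∈ S₀ := by
      by_contra h
      have h1 := (hN _ (mul_mem hx hs) h).trans (hN x hx h0).symm
      rw [show x * s * z * (x * s)⁻¹ = x * (s * z * s⁻¹) * x⁻¹ by group] at h1
      exact hs1 (mul_left_cancel (mul_right_cancel h1))
    exact (by group : _ = x * s * z * (x * s)⁻¹).trans ((hS _).1 this)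
  have hs0' : ∀ x ∈ S₀, x * (s * z * s⁻¹) * x⁻¹ = s * z * s⁻¹ := fun x hx => by
    have := (hS _).1 (conj_mem_of_normalizes' le_rfl hs hx)
    rw [show x * (s * z * s⁻¹) * x⁻¹ = s * (s⁻¹ * x * s * z * (s⁻¹ * x * s)⁻¹) * s⁻¹ by group, this]
  have hz'1 : s * z * s⁻¹ ≠ 1 := fun h => hz1 (by simpa using h)
  have hss' := hss s hs hs0
  generalize s * z * s⁻¹ = z' at *
  have hu : ∀ x ∈ normalizer (S₀ : Set S), x * (z * z') * x⁻¹ = z * z' := fun x hx => by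
    rw [show x * (z * z') * x⁻¹ = x * z * x⁻¹ * (x * z' * x⁻¹) by group]
    by_cases h0 : x ∈ S₀
    · rw [(hS x).1 h0, hs0' x h0]
    · rw [hN x hx h0, hss x hx h0, hzz']
  have hu' : ∀ x ∈ normalizer (S₀ : Set S), x * (t * (z * z') * t⁻¹) * x⁻¹ = t * (z * z') * t⁻¹ :=
    fun x hx => by
      rw [show x * (t * (z * z') * t⁻¹) * x⁻¹ =
        t * (t⁻¹ * x * t * (z * z') * (t⁻¹ * x * t)⁻¹) * t⁻¹ by group,
        hu _ (conj_mem_of_normalizes' le_rfl ht hx)]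
  have hzu : z * z' ≠ 1 := fun h => hs1 (mul_left_cancel (h.trans hzz.symm))
  have htu : t * (z * z') * t⁻¹ = z * z' := by
    rcases hV (t * (z * z') * t⁻¹) ((hS _).2 (mul_inv_eq_iff_eq_mul.2
      (mul_inv_eq_iff_eq_mul.1 (hu' z hzN)).symm))
      (fun x hx => mul_inv_eq_iff_eq_mul.1 (hu' x (le_normalizer (hle hx))))
      (fun x hx => mul_inv_eq_iff_eq_mul.1 (hu' x (le_normalizer (hQle hx)))) with h | h | h | h
    · exact absurd (conj_eq_one_iff.1 h) hzu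
    · exact absurd ((hS s).2 (h ▸ hu' s hs)) hs0
    · exact absurd ((h ▸ hu' s hs).symm.trans hss') hs1
    · exact h
  have hw : ∀ x ∈ normalizer (S₀ : Set S), x * (t * z * t⁻¹) * x⁻¹ = t * z * t⁻¹ ∨
      x * (t * z * t⁻¹) * x⁻¹ = t * z * t⁻¹ * (z * z') := fun x hx => by
    have h1 := conj_mem_of_normalizes' le_rfl ht hx
    rw [show x * (t * z * t⁻¹) * x⁻¹ = t * (t⁻¹ * x * t * z * (t⁻¹ * x * t)⁻¹) * t⁻¹ by group]
    by_cases h0 : t⁻¹ * x * t ∈ S₀
    · exact Or.inl (by rw [(hS _).1 h0])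
    · refine Or.inr ?_
      rw [hN _ h1 h0, ← htu, show t * z * t⁻¹ * (t * (z * z') * t⁻¹) = t * (z * z) * z' * t⁻¹ by group,
        hzz, mul_one]
  have hwN : t * z * t⁻¹ ∈ normalizer (S₀ : Set S) := conj_mem_of_normalizes le_rfl ht hzN
  by_cases h0 : t * z * t⁻¹ ∈ S₀
  · have key : ∀ R ≤ S₀, S₀ ≤ normalizer (R : Set S) → z * z' ∉ R →
        t * z * t⁻¹ ∈ centralizer (R : Set S) := fun R h1 h2 h3 x hx => by
      refine mul_inv_eq_iff_eq_mul.1 ((hw x (le_normalizer (h1 hx))).resolve_right fun h => h3 ?_)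
      have := mul_mem (conj_mem_of_normalizes' h2 h0 hx) (inv_mem hx)
      rwa [mul_assoc, mul_assoc, ← mul_assoc x, h, inv_mul_cancel_left] at this
    rcases hV _ h0 (key P hle hn fun h => hz'1 (hdd _ ((P.mul_mem_cancel_left hzP.1).1 h) hzQ))
      (key Q hQle hQn fun h => hz1 (hdd _ hzP.1 ((mul_mem_cancel_right hzQ).1 h))) with h | h | h | h
    · exact hz1 (conj_eq_one_iff.1 h)
    · exact ht0 (le_normalizer ((hS t).2 h))
    · exact ht0 ((mul_mem_cancel_left (inv_mem hs)).1 (le_normalizer (hN' t h)))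
    · exact hz'1 (by simpa using mul_left_cancel (mul_right_cancel (h.trans htu.symm)))
  have h1 := hwQ _ (hN' _ (hN _ hwN h0))
  have h3 := hu _ hwN
  generalize t * z * t⁻¹ = w at hw h1 h3
  have : P ≤ centralizer (P : Set S) := fun x hx => by
    rcases hw x⁻¹ (inv_mem (le_normalizer (hle hx))) with h | h
    · have h4 : w * x * w⁻¹ = x := by
        rw [mul_inv_eq_iff_eq_mul, ← inv_mul_eq_iff_eq_mul, ← mul_assoc]
        simpa using h
      rw [hdd x hx (h4 ▸ h1 x hx)]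
      exact one_mem _
    · have h4 : w * x * w⁻¹ = x * z * z' := by
        rw [mul_assoc x, ← h3, show w * x * w⁻¹ = x * (x⁻¹ * w * x⁻¹⁻¹) * w⁻¹ by group, h]
        group
      rw [eq_inv_of_mul_eq_one_left
        (hdd _ (mul_mem hx hzP.1) ((mul_mem_cancel_right hzQ).1 (h4 ▸ h1 x hx)))]
      exact inv_mem hzP.2
  exact hP ⟨⟨fun a b => Subtype.ext (this b.2 a a.2)⟩⟩

end Cfsg.Agent.S4401
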