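import Cfsg.Statements.S4404
import Cfsg.Agent.SOLV.Hall
import Cfsg.Agent.SOLV.Hol
import Cfsg.Agent.SOLV.CoprimeSylow
import Cfsg.Agent.PLOC.ElemAb
import Cfsg.Agent.PLOC.QuadAct
import Cfsg.Agent.INV.ElemAbGL
import Cfsg.Agent.FUS.SylIn
import Cfsg.Agent.ODD.AuxH39b
import Cfsg.Agent.ODD.BasePi
import Cfsg.Agent.ODD.BG3.FixDim
import Cfsg.Agent.ODD.BG4.Rank2
import Cfsg.Agent.ODD.BG4b.PStruct
import Cfsg.Agent.ODD.BG7.Trans

set_option autoImplicit false
open Cfsg

namespace Cfsg.Agent.S4404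

section
open Subgroup CL
open scoped Pointwise commutatorElement

variable {X : Type*} [Group X] [Finite X] {p : ℕ} [hp : Fact p.Prime]

theorem rel_gl {U D : Subgroup X} (hU : IsElementaryAbelian 2 U) (n : ℕ) (h : Nat.card U ≤ 2 ^ n)
    (hD : D ≤ normalizer U) :
    (centralizer (U : Set X)).relIndex D ∣ ∏ i : Fin n, (2 ^ n - 2 ^ (i : ℕ)) := by
  obtain ⟨f, hf⟩ := EAGL.exists_hom_gl hU.1.is_comm.comm (fun g : U => Subtype.ext (hU.2 g g.2)) h
  rw [BG.Sec4.relIndex_cent_eq_card_map hD]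
  refine (card_subgroup_dvd_card _).trans ((card_dvd_of_injective f hf).trans ?_)
  rw [Matrix.card_GL_field, ZMod.card]

theorem rel_dvd {U D : Subgroup X} (hU : IsElementaryAbelian 2 U) (h : Nat.card U ≤ 16)
    (hD : D ≤ normalizer U) : (centralizer (U : Set X)).relIndex D ∣ 20160 :=
  (rel_gl hU 4 h hD).trans (by decide)

theorem dvd_of_sq {m n N : ℕ} (h1 : m ∣ p ^ n) (h2 : m ∣ N) (h : ¬ p ^ 2 ∣ N) : m ∣ p := by
  obtain ⟨k, -, rfl⟩ := (Nat.dvd_prime_pow hp.out).1 h1
  exact (pow_dvd_pow p (not_lt.1 fun e => h ((pow_dvd_pow p e).trans h2))).trans (pow_one p).dvd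

theorem rel_four {U D : Subgroup X} (hU : IsElementaryAbelian 2 U) (h : Nat.card U = 4)
    (hD : D ≤ normalizer U) (h1 : IsPGroup p D) : (centralizer (U : Set X)).relIndex D ∣ p := by
  obtain ⟨k, hk⟩ := h1.exists_card_eq
  refine dvd_of_sq (N := 6) (hk ▸ relIndex_dvd_card _ D) ((rel_gl hU 2 h.le hD).trans (by decide))
    fun e => ?_
  have h2 : p < 3 := by
    have := Nat.le_of_dvd (by omega) e
    nlinarith
  have := hp.out.two_le
  interval_cases p
  simp at e

theorem pow_dvd (h : 3 < p) {m n : ℕ} (h1 : m ∣ p ^ n) (h2 : m ∣ 20160) : m ∣ p := by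
  refine dvd_of_sq h1 h2 fun h4 => ?_
  have h5 : p ^ 2 ∣ 35 := (Nat.Coprime.pow_left 2 (Nat.Coprime.mul_right
    (((Nat.coprime_primes hp.out Nat.prime_two).2 (by omega)).pow_right 6)
    (((Nat.coprime_primes hp.out Nat.prime_three).2 (by omega)).pow_right 2))).dvd_of_dvd_mul_left
      (show p ^ 2 ∣ 2 ^ 6 * 3 ^ 2 * 35 from h4)
  have h6 : p < 6 := by
    have := Nat.le_of_dvd (by omega) h5
    nlinarith
  interval_cases p <;> simp at h5

structure Set0 (p : ℕ) (V P : Subgroup X) (x : X) : Prop where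
  hV : IsElementaryAbelian 2 V
  hP : IsPGroup p P
  h2 : p ≠ 2
  hx : orderOf x = 3
  xP : x ∈ normalizer (P : Set X)
  hN : zpowers x ⊔ P ≤ normalizer V
  faith : (zpowers x ⊔ P) ⊓ centralizer V = ⊥
  hW : Nat.card (⁅V, zpowers x⁆ : Subgroup X) = 4

variable {V P : Subgroup X} {x : X}

theorem Set0.cop (h : Set0 p V P x) {D U : Subgroup X} (hD : D ≤ zpowers x ⊔ P) (hU : U ≤ V) :
    (Nat.card D).Coprime (Nat.card U) := by
  obtain ⟨k, hk⟩ := h.hP.exists_card_eq
  obtain ⟨l, hl⟩ := Th.elemAb_card h.hV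
  refine Nat.Coprime.coprime_dvd_right (hl ▸ card_dvd_of_le hU) (Nat.Coprime.pow_right l
    (Nat.Coprime.coprime_dvd_left ((card_dvd_of_le hD).trans
      (card_sup_dvd_mul_of_le_normalizer (zpowers_le.2 h.xP))) ?_))
  rw [hk, Nat.card_zpowers, h.hx]
  exact Nat.Coprime.mul_left (by decide)
    (((Nat.coprime_primes hp.out Nat.prime_two).2 h.h2).pow_left k)

theorem Set0.solv (h : Set0 p V P x) {U : Subgroup X} (hU : U ≤ V) : Group.IsSolvable U :=
  isSolvable_of_isPGroup (Th.elemAb_isPGroup (Th.elemAb_mono h.hV hU))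

theorem Set0.le (h : Set0 p V P x) {D : Subgroup X} (hD : D ≤ zpowers x ⊔ P) : ⁅V, D⁆ ≤ V :=
  le_normalizer_iff_commutator_le_left.1 (hD.trans h.hN)

theorem Set0.dvd (h : Set0 p V P x) {A B : Subgroup X} (hA : A ≤ zpowers x ⊔ P)
    (hB : B ≤ zpowers x ⊔ P) (h1 : Nat.card (⁅V, A⁆ ⊔ ⁅V, B⁆ : Subgroup X) ≤ 16) :
    Nat.card (A ⊔ B : Subgroup X) ∣ 20160 := by
  have h2 := sup_le (h.le hA) (h.le hB)
  have h3 := Th.le_normalizer_of_comm_le h2 le_sup_left
  have h4 := Th.le_normalizer_of_comm_le h2 le_sup_right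
  have h5 := rel_dvd (Th.elemAb_mono h.hV h2) h1 (sup_le h3 h4)
  rwa [← card_inf_mul_relIndex (centralizer (⁅V, A⁆ ⊔ ⁅V, B⁆ : Subgroup X)), eq_bot_iff.2
    ((le_inf (inf_le_right.trans (sup_le hA hB)) (le_centralizer_iff.1
      (coprime_le_centralizer_of_trivial_on_factors _ V _ (inf_le_right.trans (sup_le h3 h4))
        (h.cop (inf_le_right.trans (sup_le hA hB)) h2) (le_centralizer_iff.1 inf_le_left)
          ((commutator_mono le_rfl inf_le_right).trans (Th.comm_sup_right_le h3 h4 le_sup_left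
            le_sup_right))))).trans h.faith.le), card_bot, one_mul]

theorem card_sup_le {A B : Subgroup X} (h : A ≤ normalizer B) :
    Nat.card (A ⊔ B : Subgroup X) ≤ Nat.card A * Nat.card B :=
  Nat.le_of_dvd (Nat.mul_pos Nat.card_pos Nat.card_pos) (card_sup_dvd_mul_of_le_normalizer h)

theorem Set0.conj (h : Set0 p V P x) {g : X} (hg : g ∈ P) :
    ⁅V, zpowers (g * x * g⁻¹)⁆ = MulAut.conj g • ⁅V, zpowers x⁆ := by
  rw [conj_smul_eq_map, map_commutator, ← conj_smul_eq_map, conj_smul_eq_iff_mem_normalizer.2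
    (h.hN (mem_sup_right hg)), MonoidHom.map_zpowers]
  rfl

theorem Set0.pair (h : Set0 p V P x) {g : X} (hg : g ∈ P) :
    zpowers (g * x * g⁻¹) ≤ zpowers x ⊔ P ∧ x⁻¹ * (g * x * g⁻¹) ∈ P ∧
      Nat.card (zpowers x ⊔ zpowers (g * x * g⁻¹) : Subgroup X) ∣ 20160 := by
  have h1 : zpowers (g * x * g⁻¹) ≤ zpowers x ⊔ P := zpowers_le.2 (mul_mem (mul_mem
    (mem_sup_right hg) (mem_sup_left (mem_zpowers x))) (mem_sup_right (inv_mem hg)))
  refine ⟨h1, ?_, h.dvd le_sup_left h1 ((card_sup_le ((h.le le_sup_left).trans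
    ((Th.elemAb_le_centralizer h.hV).trans ((centralizer_le (h.le h1)).trans
      (centralizer_le_normalizer _))))).trans ?_)⟩
  · rw [← mul_assoc, ← mul_assoc]
    exact mul_mem ((mem_normalizer_iff''.1 h.xP g).1 hg) (inv_mem hg)
  · rw [h.conj hg, card_conj_smul, h.hW]

theorem Set0.not_cent (h : Set0 p V P x) : x ∉ centralizer (⁅V, zpowers x⁆ : Subgroup X) :=
  fun e => by
    have := coprime_commutator_commutator _ V (le_sup_left.trans h.hN) (h.cop le_sup_left le_rfl)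
      (Or.inr (h.solv le_rfl))
    rw [commutator_eq_bot_iff_le_centralizer.2 (le_centralizer_iff.1 (zpowers_le.2 e))] at this
    have h1 := h.hW
    rw [← this, card_bot] at h1
    omega

theorem norm_of_comm {V : Subgroup X} {x y : X} (h : y ∈ normalizer (V : Set X)) (h1 : Commute y x) :
    y ∈ normalizer (⁅V, zpowers x⁆ : Subgroup X) := zpowers_le.1 (le_normalizer_commutator
  (zpowers_le.2 h) (zpowers_le.2 (centralizer_le_normalizer _ (by
    rw [zpowers_eq_closure, centralizer_closure]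
    exact mem_centralizer_singleton_iff.2 h1))))

theorem Set0.three (h : Set0 3 V P x) (hP : IsElementaryAbelian 3 P) :
    P ≤ normalizer (⁅V, zpowers x⁆ : Subgroup X) := by
  have h1 : ∀ a ∈ P, a ∉ normalizer (⁅V, zpowers x⁆ : Subgroup X) →
      a * x * a⁻¹ ∈ centralizer (⁅V, zpowers x⁆ : Subgroup X) := fun a ha h1 => by
    obtain ⟨h2, -, h3⟩ := h.pair ha
    have h4 := Th.elemAb_isPGroup (Th.elemAb_zpowers (h.hx ▸ pow_orderOf_eq_one x))
    have h5 := (h4.to_sup_of_normal_right' h.hP (zpowers_le.2 h.xP)).to_le (sup_le le_sup_left h2)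
    obtain ⟨k, hk⟩ := h5.exists_card_eq
    have h6 := BG.Sec4.isMulCommutative_of_card_le h5 (hk.trans_le (Nat.pow_le_pow_right
      three_pos (not_lt.1 fun e => absurd ((pow_dvd_pow 3 e).trans (hk ▸ h3)) (by decide))))
    have h7 := zpowers_le.2 (norm_of_comm (h.hN (h2 (mem_zpowers _))) (Th.comm_iff.1 h6 _
      (mem_sup_right (mem_zpowers _)) _ (mem_sup_left (mem_zpowers x))))
    have h8 := BG.Sec4.card_modEq_card_inf_cent (h5.to_le le_sup_right) h7
    have h9 := card_le_of_le (inf_le_left : ⁅V, zpowers x⁆ ⊓ centralizer (zpowers (a * x * a⁻¹)) ≤ _)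
    rw [h.hW, Nat.ModEq] at h8
    rw [h.hW] at h9
    by_contra h10
    have h11 := coprime_commutator_sup_centralizer _ _ h7 (h.cop h2 (h.le le_sup_left))
      (Or.inr (h.solv (h.le le_sup_left)))
    rw [card_eq_one.1 (show Nat.card (⁅V, zpowers x⁆ ⊓ centralizer (zpowers (a * x * a⁻¹)) :
      Subgroup X) = 1 from by_contra fun e => h10 (zpowers_le.1 (le_centralizer_iff.1
        (inf_eq_left.1 (eq_of_le_of_card_ge inf_le_left (by rw [h.hW]; omega)))))),
          sup_bot_eq] at h11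
    exact h1 (conj_smul_eq_iff_mem_normalizer.1 (eq_of_le_of_card_ge (h11.ge.trans
      ((commutator_mono (h.le le_sup_left) le_rfl).trans (h.conj ha).le))
        (card_conj_smul _ _).le).symm)
  intro a ha
  by_contra h2
  have h3 := h1 a ha h2
  have h4 := h1 _ (inv_mem ha) (mt inv_mem_iff.1 h2)
  have h5 := Th.elemAb_comm hP ha (h.pair ha).2.1
  have h6 : a⁻¹ = a * a := by
    rw [inv_eq_iff_mul_eq_one, ← hP.2 a ha, pow_three]
  refine h.not_cent fun w hw => ?_
  have h7 := h3 w hw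
  have h8 := h4 w hw
  have h9 : Commute (a * x * a⁻¹)⁻¹ w := (Commute.symm h7).inv_left
  have h10 : Commute (a * (a * x * a⁻¹) * a⁻¹) w := by
    rw [show a * (a * x * a⁻¹) * a⁻¹ = (a * a) * x * (a * a)⁻¹ by group, ← h6]
    exact Commute.symm h8
  have h11 := h9.mul_left h10
  rw [show (a * x * a⁻¹)⁻¹ * (a * (a * x * a⁻¹) * a⁻¹) = a * (x⁻¹ * (a * x * a⁻¹)) * a⁻¹ by group,
    h5, mul_inv_cancel_right] at h11
  have := (h11.mul_left h9).inv_left
  rw [mul_inv_cancel_right, inv_inv] at this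
  exact this.symm

theorem Set0.big (h : Set0 p V P x) (h3 : 3 < p) {g : X} (hg : g ∈ P)
    (h1 : x⁻¹ * (g * x * g⁻¹) ≠ 1) : orderOf (x⁻¹ * (g * x * g⁻¹)) = p ∧
      Nat.card (⁅V, zpowers (x⁻¹ * (g * x * g⁻¹))⁆ : Subgroup X) = 8 ∧
        ⁅V, zpowers x⁆ ≤ ⁅V, zpowers (x⁻¹ * (g * x * g⁻¹))⁆ := by
  obtain ⟨h2, h4, h5⟩ := h.pair hg
  have h6 : (g * x * g⁻¹) ^ 3 = 1 := by
    rw [conj_pow, ← h.hx, pow_orderOf_eq_one, mul_one, mul_inv_cancel]
  have h7 : x⁻¹ * (g * x * g⁻¹) ∈ zpowers x ⊔ zpowers (g * x * g⁻¹) :=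
    mul_mem (mem_sup_left (inv_mem (mem_zpowers x))) (mem_sup_right (mem_zpowers _))
  have h8 := le_normalizer_inf (le_sup_left.trans le_normalizer :
    zpowers x ≤ normalizer (zpowers x ⊔ zpowers (g * x * g⁻¹) : Subgroup X)) (zpowers_le.2 h.xP)
  rw [← mul_inv_cancel_left x (g * x * g⁻¹)] at h6
  generalize zpowers x ⊔ zpowers (g * x * g⁻¹) = D at h5 h7 h8
  generalize x⁻¹ * (g * x * g⁻¹) = c at h1 h4 h6 h7 ⊢
  obtain ⟨k, hk⟩ := h.hP.exists_card_eq
  have h9 := pow_dvd h3 (hk ▸ card_dvd_of_le (inf_le_right : D ⊓ P ≤ P))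
    ((card_dvd_of_le inf_le_left).trans h5)
  have h10 : orderOf c = p := ((Nat.dvd_prime hp.out).1 ((orderOf_dvd_natCard _
    (mem_inf.2 ⟨h7, h4⟩)).trans h9)).resolve_left (mt orderOf_eq_one_iff.1 h1)
  rw [← eq_of_le_of_card_ge (zpowers_le.2 (mem_inf.2 ⟨h7, h4⟩)) (by
    rw [Nat.card_zpowers, h10]; exact Nat.le_of_dvd hp.out.pos h9)] at h8
  have h11 : zpowers c ≤ zpowers x ⊔ P := le_sup_of_le_right (zpowers_le.2 h4)
  have h12 := le_normalizer_commutator (le_sup_left.trans h.hN) h8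
  have h13 := BG3.wielandt_frobenius h8 (fun z hz e => (BG.inf_eq_bot_or_le_of_card_prime
    (by rw [Nat.card_zpowers, h10]; exact hp.out) _).resolve_right fun e' => ?_)
      (normalizer_commutator_ge_right V _) h12 (h.solv (h.le h11)) (h.cop h11 (h.le h11)).symm
        (h.cop le_sup_left (h.le h11)).symm
  · have h14 : ⁅V, zpowers c⁆ ⊓ centralizer (zpowers c) = ⊥ := eq_bot_iff.2 ((le_inf (le_inf
      (inf_le_left.trans (h.le h11)) inf_le_right) inf_le_left).trans
        (BG.H39.abelian_cent_inf_comm h.hV.1 (h11.trans h.hN) (h.cop h11 le_rfl).symm).le)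
    rw [h14, eq_bot_iff.2 ((inf_le_inf_left _ (centralizer_le (SetLike.coe_subset_coe.2 (le_sup_left (b := zpowers x))))).trans h14.le),
      card_bot, Nat.card_zpowers, h.hx, one_pow, one_mul, mul_one] at h13
    have h15 := card_sup_le (A := ⁅V, zpowers c⁆ ⊓ centralizer (zpowers x))
      (B := ⁅⁅V, zpowers c⁆, zpowers x⁆) (inf_le_left.trans (normalizer_commutator_ge_left _ _))
    rw [sup_comm, coprime_commutator_sup_centralizer _ _ h12 (h.cop le_sup_left (h.le h11))
      (Or.inr (h.solv (h.le h11))), h13] at h15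
    have h16 : ⁅⁅V, zpowers c⁆, zpowers x⁆ ≤ ⁅V, zpowers x⁆ := commutator_mono (h.le h11) le_rfl
    have h17 := card_le_of_le h16
    have h18 : Nat.card (⁅V, zpowers c⁆ : Subgroup X) ≠ 1 := fun e => h1 (h.faith.le
      ⟨h11 (mem_zpowers c), zpowers_le.1 (le_centralizer_iff.1
        (commutator_eq_bot_iff_le_centralizer.1 (card_eq_one.1 e)))⟩)
    have h19 : 0 < Nat.card (⁅V, zpowers c⁆ ⊓ centralizer (zpowers x) : Subgroup X) := Nat.card_pos
    rw [h13] at h18 ⊢
    rw [h.hW] at h17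
    generalize Nat.card (⁅V, zpowers c⁆ ⊓ centralizer (zpowers x) : Subgroup X) = m at *
    obtain rfl : m = 2 := by
      have : m ≠ 1 := fun e => h18 (by rw [e, one_pow])
      have : m < 3 := not_le.1 fun e => by nlinarith [Nat.mul_le_mul e e]
      omega
    exact ⟨h10, rfl, (eq_of_le_of_card_ge h16 (by rw [h.hW]; omega)).ge.trans
      (le_normalizer_iff_commutator_le_left.1 h12)⟩
  · have h14 : x ∈ zpowers z := ((BG.eq_bot_or_eq_of_card_prime (by
      rw [Nat.card_zpowers, h.hx]; exact Nat.prime_three) (zpowers_le.2 hz)).resolve_left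
        (mt zpowers_eq_bot.1 e)).ge (mem_zpowers x)
    obtain ⟨j, rfl⟩ := h14
    have h15 : Commute (z ^ j) c :=
      (Commute.symm (mem_centralizer_singleton_iff.1 (e' (mem_zpowers c)))).zpow_left j
    rw [h15.mul_pow, ← h.hx, pow_orderOf_eq_one, one_mul, h.hx] at h6
    have := Nat.le_of_dvd three_pos (h10 ▸ orderOf_dvd_of_pow_eq_one h6)
    omega

theorem Set0.main (h : Set0 p V P x) (h3 : p = 3 → IsElementaryAbelian 3 P) :
    (centralizer (⁅V, zpowers x⁆ : Subgroup X)).relIndex P ∣ p := by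
  have h1 := fun e => rel_four (Th.elemAb_mono h.hV (h.le le_sup_left)) h.hW e h.hP
  by_cases h2 : p = 3
  · subst h2
    exact h1 (h.three (h3 rfl))
  have h4 : 3 < p := by have := hp.out.two_le; have := h.h2; omega
  by_cases h5 : ∀ g ∈ P, x⁻¹ * (g * x * g⁻¹) = 1
  · exact h1 fun g hg => norm_of_comm (h.hN (mem_sup_right hg))
      (mul_inv_eq_iff_eq_mul.1 (inv_mul_eq_one.1 (h5 g hg)).symm)
  push Not at h5
  obtain ⟨g, hg, h5⟩ := h5
  obtain ⟨h6, h7, h8⟩ := h.big h4 hg h5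
  have h9 := zpowers_le.2 (h.pair hg).2.1
  obtain ⟨k, hk⟩ := h.hP.exists_card_eq
  have h10 : ∀ a ∈ P, x⁻¹ * (a * x * a⁻¹) ∈ zpowers (x⁻¹ * (g * x * g⁻¹)) := fun a ha => by
    by_cases h10 : x⁻¹ * (a * x * a⁻¹) = 1
    · exact h10 ▸ one_mem _
    obtain ⟨-, h11, h12⟩ := h.big h4 ha h10
    have h13 := zpowers_le.2 (h.pair ha).2.1
    have h14 := card_sup_mul_card_inf_of_le_normalizer ((h.le (le_sup_of_le_right h9)).trans
      ((Th.elemAb_le_centralizer h.hV).trans ((centralizer_le (h.le (le_sup_of_le_right h13))).trans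
        (centralizer_le_normalizer _))))
    have h15 := card_le_of_le (le_inf h8 h12)
    rw [h7, h11] at h14
    rw [h.hW] at h15
    have h16 := pow_dvd h4 (hk ▸ card_dvd_of_le (sup_le h9 h13)) (h.dvd (le_sup_of_le_right h9)
      (le_sup_of_le_right h13) (by nlinarith))
    exact (eq_of_le_of_card_ge le_sup_left (by
      rw [Nat.card_zpowers, h6]; exact Nat.le_of_dvd hp.out.pos h16)).ge
        (mem_sup_right (mem_zpowers _))
  have h11 : P ≤ normalizer (zpowers (x⁻¹ * (g * x * g⁻¹)) : Subgroup X) := fun a ha =>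
    mem_normalizer_fintype (by
      rintro _ ⟨j, rfl⟩
      rw [← conj_zpow, show a * (x⁻¹ * (g * x * g⁻¹)) * a⁻¹ = (x⁻¹ * (a * x * a⁻¹))⁻¹ *
        (x⁻¹ * (a * g * x * (a * g)⁻¹)) by group]
      exact zpow_mem (mul_mem (inv_mem (h10 a ha)) (h10 _ (mul_mem ha hg))) j)
  exact pow_dvd h4 (hk ▸ relIndex_dvd_card _ P) ((relIndex_dvd_of_le_left P
    (centralizer_le h8)).trans (rel_dvd (Th.elemAb_mono h.hV (h.le (le_sup_of_le_right h9)))
      (by omega) (le_normalizer_commutator (le_sup_right.trans h.hN) h11)))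

theorem amb {M P : Subgroup X} [M.Normal] (hM : IsElementaryAbelian 2 M) (h2 : p ≠ 2) {x : X}
    (h1 : x ^ 3 ∈ centralizer (M : Set X)) (h4 : Nat.card (⁅zpowers x, M⁆ : Subgroup X) = 4)
    (hP : IsPGroup p P) (hx : x ∈ normalizer (P : Set X)) (h3 : p = 3 → IsElementaryAbelian 3 P)
    {F : Subgroup X} (hF : BG.PElem p 3 F P) :
    ¬ IsCyclic ↥(F ⊓ centralizer (⁅zpowers x, M⁆ : Subgroup X)) := by
  let φ : X →* MulAut M := MulAut.conjNormal
  let ψ : X →* Hol (MulAut M) M := Hol.inr.comp φ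
  have h5 : (actComm ⊤ (zpowers (φ x))).map M.subtype = ⁅zpowers x, M⁆ := by
    rw [commutator_comm]
    refine le_antisymm (map_le_iff_le_comap.2 (actComm_le.2 ?_)) (commutator_le.2 ?_)
    · rintro _ ⟨k, rfl⟩ m -
      have := commutator_mem_commutator (inv_mem m.2) (zpow_mem_zpowers x k)
      rw [commutatorElement_def, inv_inv, mul_assoc, mul_assoc, ← mul_assoc (x ^ k)] at this
      dsimp only
      rw [← map_zpow]
      exact this
    · rintro m hm _ ⟨k, rfl⟩
      refine ⟨_, inv_mul_smul_mem_actComm (mem_top (⟨m, hm⟩ : M)⁻¹) (zpow_mem_zpowers _ k), ?_⟩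
      rw [← map_zpow, inv_inv, commutatorElement_def, mul_assoc, mul_assoc, ← mul_assoc (x ^ k)]
      rfl
  have h6 : ⁅(⊤ : Subgroup M).map (Hol.inl : M →* Hol (MulAut M) M), zpowers (ψ x)⁆ =
      (actComm ⊤ (zpowers (φ x))).map Hol.inl := by
    rw [← Hol.commutator_map_inl_map_inr, MonoidHom.map_zpowers]
    rfl
  have h7 : Nat.card (⁅(⊤ : Subgroup M).map (Hol.inl : M →* Hol (MulAut M) M), zpowers (ψ x)⁆ :
      Subgroup (Hol (MulAut M) M)) = 4 := by
    rw [h6, Hol.card_map_inl, ← h4, ← h5, card_map_of_injective M.subtype_injective]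
  have h8 : zpowers (ψ x) ⊔ P.map ψ = (zpowers (φ x) ⊔ P.map φ).map Hol.inr := by
    rw [Subgroup.map_sup, MonoidHom.map_zpowers, map_map]
    rfl
  have h : Set0 p ((⊤ : Subgroup M).map (Hol.inl : M →* Hol (MulAut M) M)) (P.map ψ) (ψ x) :=
    ⟨Th.elemAb_map ⟨have := hM.1; inferInstance, fun a _ => Subtype.ext (hM.2 a a.2)⟩ _, hP.map ψ, h2,
      orderOf_eq_prime (by
        rw [← map_pow, ← Hol.inr.map_one]
        exact congrArg Hol.inr (MulEquiv.ext fun m => Subtype.ext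
          (mul_inv_eq_iff_eq_mul.2 (h1 m m.2).symm))) (fun e => by
        rw [e, zpowers_one_eq_bot, commutator_bot_right, card_bot] at h7
        omega), zpowers_le.1 (MonoidHom.map_zpowers ψ x ▸ map_le_normalizer_map ψ
          (zpowers_le.2 hx)), h8 ▸ Hol.map_inr_le_normalizer_top _,
            h8 ▸ Hol.map_inr_inf_centralizer_eq_bot _, h7⟩
  have h9 := h.main fun e => Th.elemAb_map (h3 e) ψ
  rw [← relIndex_comap, h6] at h9
  have h10 := (relIndex_le_of_le_right hF.1 index_ne_zero_of_finite).trans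
    ((relIndex_le_of_le_left (K := centralizer (⁅zpowers x, M⁆ : Subgroup X)) (fun g hg => by
      rw [← h5]
      rintro _ ⟨m, hm, rfl⟩
      have := hg _ ⟨m, hm, rfl⟩
      rw [eq_comm, ← mul_inv_eq_iff_eq_mul] at this
      exact (mul_inv_eq_iff_eq_mul.1 (congrArg Subtype.val (Hol.inl_injective
        ((Hol.conj_inl (φ g) m).symm.trans this)))).symm) index_ne_zero_of_finite).trans
          (Nat.le_of_dvd hp.out.pos h9))
  refine BG.S7.not_cyclic_of_elemAb (Th.elemAb_inf_left hF.2.1 _) ?_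
  have h11 := card_inf_mul_relIndex (centralizer (⁅zpowers x, M⁆ : Subgroup X)) F
  rw [hF.2.2, inf_comm] at h11
  by_contra! h12
  have := Nat.mul_le_mul h12 h10
  rw [h11, ← pow_two, Nat.pow_le_pow_iff_right hp.out.one_lt] at this
  omega

end

/-- Let S be a finite solvable group and M a normal elementary abelian 2-subgroup of S. Suppose S contains an elementary abelian subgroup of order p³ for some odd prime p, and a cyclic 3-subgroup Q such that the cubes of the elements of Q centralize M and the commutator subgroup [Q, M] has order 4 (a four-group inside M). Then S contains an elementary abelian subgroup F of order r³, for some odd prime r, whose centralizer of [Q, M] in F — the subgroup C_F([Q, M]) — is not cyclic. -/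
theorem result {S : Type*} [Group S] [Finite S]
    [Group.IsSolvable S] (M : Subgroup S) [M.Normal] (hM : Cfsg.IsElementaryAbelian 2 M)
    (p : ℕ) (hp : p.Prime) (hp2 : p ≠ 2) (E : Subgroup S) (hE : Cfsg.IsElementaryAbelian p E) (hE3 : Nat.card ↥E = p ^ 3)
    (Q : Subgroup S) (hQc : IsCyclic ↥Q) (hQ3 : IsPGroup 3 ↥Q)
    (hQ1 : ∀ x ∈ Q, x ^ 3 ∈ Subgroup.centralizer (M : Set S)) (hQM : Nat.card ↥⁅Q, M⁆ = 4) :
    ∃ (r : ℕ) (F : Subgroup S), r.Prime ∧ r ≠ 2 ∧ Cfsg.IsElementaryAbelian r F ∧ Nat.card ↥F = r ^ 3 ∧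
      ¬ IsCyclic ↥(F ⊓ Subgroup.centralizer ((⁅Q, M⁆ : Subgroup S) : Set S)) := by
  open Subgroup CL Pointwise in
  have := Fact.mk hp
  obtain ⟨x, hx⟩ := IsCyclic.exists_generator (α := Q)
  obtain ⟨x, hxQ⟩ := x
  obtain rfl : zpowers x = Q := le_antisymm (zpowers_le.2 hxQ) fun y hy => by
    obtain ⟨k, hk⟩ := hx ⟨y, hy⟩
    exact ⟨k, congrArg Subtype.val hk⟩
  obtain ⟨H, h1, h2⟩ := exists_isPiHall_ge (π := {2}ᶜ) (IsPiNum.of_isPGroup hQ3 (by simp))
  have h3 : Odd (Nat.card H) := Nat.not_even_iff_odd.1 fun e => h1.1 2 Nat.prime_two e.two_dvd rfl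
  by_cases h4 : PRankLE 3 2 H
  · obtain ⟨g, hg⟩ := IsPiHall.exists_conj_le h1 (IsPiNum.of_isPGroup (Th.elemAb_isPGroup hE) hp2)
    have h5 := Th.elemAb_map hE (MulAut.conj g).toMonoidHom
    have h6 := (card_conj_smul g E).trans hE3
    rw [← conj_smul_eq_map] at h5
    generalize MulAut.conj g • E = E at hg h5 h6
    have h7 : p ≠ 3 := by
      rintro rfl
      have h7 := Th.elemAb_subgroupOf h5 H
      have := h4 _ h7.1 h7.2
      rw [card_subgroupOf_of_le hg, h6] at this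
      omega
    obtain ⟨T, N, _, h8⟩ := (BG.A38.rank2_p_structure h3 h4).2.1 (Or.inl rfl)
    obtain ⟨k, hk⟩ := T.isPGroup'.exists_card_eq
    obtain ⟨l, hl⟩ := hQ3.exists_card_eq
    have h9 : E ≤ N.map H.subtype := (map_subgroupOf_eq_of_le hg).ge.trans (map_mono
      (le_of_coprime_index (by
        rw [card_subgroupOf_of_le hg, h6, h8.symm.index_eq_card, hk]
        exact (((Nat.coprime_primes hp Nat.prime_three).2 h7).pow_left 3).pow_right k)))
    obtain ⟨P, h10⟩ := coprime_exists_invariant_sylow _ (N.map H.subtype)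
      (h2.trans (le_normalizer_map_subtype H N)) (by
        rw [hl, card_map_of_injective H.subtype_injective, ← h8.index_eq_card]
        exact ((Nat.Prime.coprime_iff_not_dvd Nat.prime_three).2 T.not_dvd_index).pow_left l)
      (Or.inl inferInstance) p
    obtain ⟨b, -, hb⟩ := (Fus.sylIn_map_subtype P).exists_conj_le h9 (Th.elemAb_isPGroup h5)
    have h11 := Th.elemAb_map h5 (MulAut.conj b).toMonoidHom
    have h12 := (card_map_of_injective (K := E) (f := (MulAut.conj b).toMonoidHom)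
      (MulAut.conj b).injective).trans h6
    exact ⟨p, _, hp, hp2, h11, h12, amb hM hp2 (hQ1 x hxQ) hQM (P.isPGroup'.map _)
      (zpowers_le.1 h10) (fun e => absurd e h7) ⟨by rintro _ ⟨y, hy, rfl⟩; exact hb y hy, h11, h12⟩⟩
  · obtain ⟨T, h5, h6⟩ := Fus.exists_sylIn_ge h2 hQ3
    obtain ⟨A, h7, h8⟩ := BG.ex_odd_normal_p3Elem h5.isPGroup (h3.of_dvd_nat (card_dvd_of_le h5.le))
      fun e => h4 fun B a b => by
        have h7 := Th.elemAb_map ⟨a, b⟩ H.subtype
        obtain ⟨c, -, hc⟩ := h5.exists_conj_le (map_subtype_le B) (Th.elemAb_isPGroup h7)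
        have h8 := Th.elemAb_subgroupOf (Th.elemAb_map h7 (MulAut.conj c).toMonoidHom) T
        have := e _ h8.1 h8.2
        rwa [card_subgroupOf_of_le (by rintro _ ⟨y, hy, rfl⟩; exact hc y hy), card_map_of_injective
          (MulAut.conj c).injective, card_map_of_injective H.subtype_injective] at this
    exact ⟨3, A, Nat.prime_three, by decide, h7.2.1, h7.2.2, amb hM (by decide) (hQ1 x hxQ) hQM
      (Th.elemAb_isPGroup h7.2.1) (h8.2 (h6 hxQ)) (fun _ => h7.2.1) ⟨le_rfl, h7.2⟩⟩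

end Cfsg.Agent.S4404
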