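import Cfsg.Statements.S4415
import Cfsg.Agent.FGS.J3G

set_option autoImplicit false
open Cfsg

namespace Cfsg.Agent.S4415

/-- Let S be a finite solvable group acting faithfully on a finite-dimensional space E over the field with three elements, with O₃(S) = 1. Let B ≤ S have order 3 and suppose: E = E₀ ⊕ E₁ with B fixing E₁ pointwise, E₀ B-invariant of order 27 and indecomposable under B (a generator of B has a single Jordan block on E₀); B normalizes but does not centralize some subgroup Q of S that is elementary abelian of order 4; and B is the centre of a Sylow 3-subgroup of S. Put R = [O_{3'}(S), B]. Then R is elementary abelian of order 4 or extraspecial of order 32 containing an elementary abelian subgroup of order 8 (a central product of two quaternion groups), and E is the direct sum of a subspace fixed pointwise by R and an RB-invariant subspace on which the subgroup RB acts faithfully and irreducibly.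 -/
theorem result {S : Type*} [Group S] [Finite S]
    [Group.IsSolvable S] {E : Type*} [AddCommGroup E] [Module (ZMod 3) E] [Finite E] (ρ : Representation (ZMod 3) S E)
    (hfaith : Function.Injective ρ) (hO3 : Cfsg.pCore 3 S = ⊥)
    (B : Subgroup S) (hB : Nat.card ↥B = 3) (b : S) (hb : Subgroup.zpowers b = B)
    (E₀ E₁ : Submodule (ZMod 3) E) (hE01 : E₀ ⊓ E₁ = ⊥) (hE01' : E₀ ⊔ E₁ = ⊤)
    (hE1 : ∀ v ∈ E₁, ρ b v = v) (hE0inv : ∀ v ∈ E₀, ρ b v ∈ E₀) (hE0 : Nat.card ↥E₀ = 27)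
    (hind : ∃ v ∈ E₀, ρ b (ρ b v - v) - (ρ b v - v) ≠ 0)
    (Q : Subgroup S) (hQ : Cfsg.IsElementaryAbelian 2 Q) (hQ4 : Nat.card ↥Q = 4)
    (hBQ : B ≤ Subgroup.normalizer (Q : Set S)) (hBQ' : ¬ B ≤ Subgroup.centralizer (Q : Set S))
    (P : Sylow 3 S) (hBZ : (Subgroup.center ↥(P : Subgroup S)).map (P : Subgroup S).subtype = B) :
    ((Cfsg.IsElementaryAbelian 2 ⁅Cfsg.pPrimeCore 3 S, B⁆ ∧ Nat.card ↥⁅Cfsg.pPrimeCore 3 S, B⁆ = 4) ∨
      (Cfsg.IsExtraspecial 2 ↥⁅Cfsg.pPrimeCore 3 S, B⁆ ∧ Nat.card ↥⁅Cfsg.pPrimeCore 3 S, B⁆ = 32 ∧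
        ∃ A : Subgroup S, A ≤ ⁅Cfsg.pPrimeCore 3 S, B⁆ ∧ Cfsg.IsElementaryAbelian 2 A ∧ Nat.card ↥A = 8)) ∧
    ∃ F₀ F₁ : Submodule (ZMod 3) E, F₀ ⊓ F₁ = ⊥ ∧ F₀ ⊔ F₁ = ⊤ ∧
      (∀ r ∈ ⁅Cfsg.pPrimeCore 3 S, B⁆, ∀ v ∈ F₁, ρ r v = v) ∧ (∀ r ∈ ⁅Cfsg.pPrimeCore 3 S, B⁆ ⊔ B, ∀ v ∈ F₀, ρ r v ∈ F₀) ∧
      (∀ r ∈ ⁅Cfsg.pPrimeCore 3 S, B⁆ ⊔ B, (∀ v ∈ F₀, ρ r v = v) → r = 1) ∧
      (∀ N : Submodule (ZMod 3) E, N ≤ F₀ → (∀ r ∈ ⁅Cfsg.pPrimeCore 3 S, B⁆ ⊔ B, ∀ v ∈ N, ρ r v ∈ N) → N = ⊥ ∨ N = F₀) := by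
  subst hb
  have ob : orderOf b = 3 := by rwa [Nat.card_zpowers] at hB
  have b3 : b * b * b = 1 := by rw [← pow_two, ← pow_succ]; exact orderOf_dvd_iff_pow_eq_one.1 ob.dvd
  obtain ⟨a, ha, m⟩ : ∃ a ∈ Q, b * a ≠ a * b := by
    by_contra c
    push Not at c
    exact hBQ' (Subgroup.zpowers_le.2 (Subgroup.mem_centralizer_iff.2 fun a ha => (c a ha).symm))
  have F := CL.J3.four_of_comm b3 hQ (hBQ (Subgroup.mem_zpowers b)) ha m
  obtain ⟨⟨_, hP⟩, hc, rfl⟩ : b ∈ (Subgroup.center ↥(P : Subgroup S)).map (P : Subgroup S).subtype :=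
    hBZ ▸ Subgroup.mem_zpowers b
  simp only [Subgroup.coe_subtype] at *
  rename_i b
  have e : a * (b * a * b⁻¹) = a * b * a⁻¹ * b⁻¹ := by
    rw [inv_eq_of_mul_eq_one_right (pow_two a ▸ hQ.2 a ha : a * a = 1)]; group
  have hq : a * (b * a * b⁻¹) ∈ pPrimeCore 3 S := e ▸ CL.J3.mem_core P hP
    (fun x hx => congrArg Subtype.val (Subgroup.mem_center_iff.1 hc ⟨x, hx⟩)) (e ▸ F.sq)
  have nH : (pPrimeCore 3 S).Normal := inferInstance
  have cop := CL.not_dvd_card_pPrimeCore 3 S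
  refine CL.J3.reduce hfaith (fun c => cop (c.trans (Subgroup.card_dvd_of_le
    (Subgroup.commutator_le_left _ _)))) b3 (CL.coprime_commutator_commutator _ _
      (by simp [Subgroup.normalizer_eq_top])
      (by rw [hB]; exact (Nat.Prime.coprime_iff_not_dvd Nat.prime_three).2 cop)
      (Or.inr inferInstance)).ge (Subgroup.normalizer_commutator_ge_right _ _)
    (CL.J3.dep_of b3 hE01' hE1 hE0inv hE0 hind) F ?_
  have hp := nH.conj_mem _ hq b
  have := inv_mem (Subgroup.commutator_mem_commutator hp (Subgroup.mem_zpowers b))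
  rwa [commutatorElement_inv, commutatorElement_def, F.pr, mul_inv_cancel_right] at this

end Cfsg.Agent.S4415
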