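import Cfsg.Statements.S4418
import Cfsg.Agent.FUS.MetaResist
import Cfsg.Agent.FUS.Sparse
import Cfsg.Agent.PLOC.DQS
import Cfsg.Agent.INV.GW.GenD2
import Cfsg.Agent.S0949
import Cfsg.Agent.SIG.PBase

set_option autoImplicit false
open Cfsg

namespace Cfsg.Agent.S4418

/-- a homocyclic Sylow 2-subgroup of rank two and exponent at least four forces solubility -/
theorem homo {G : Type*} [Group G] [Finite G] (S : Sylow 2 G) (m : ℕ) (hm : 2 ≤ m)
    (e : (S : Subgroup G) ≃* Multiplicative (ZMod (2 ^ m) × ZMod (2 ^ m))) : Group.IsSolvable G := by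
  have hs := QuotientGroup.mk'_surjective (pPrimeCore 2 G)
  have hO := CL.PComp.pPrimeCore_coprime (G := G) 2
  have hinj : Function.Injective ((QuotientGroup.mk' (pPrimeCore 2 G)).subgroupMap (S : Subgroup G)) := by
    rw [injective_iff_map_eq_one]
    intro x hx
    have h1 : (x : G) ∈ pPrimeCore 2 G := (QuotientGroup.eq_one_iff _).1 (congrArg Subtype.val hx)
    obtain ⟨k, hk⟩ := S.isPGroup' x
    have h2 : orderOf (x : G) ∣ 2 ^ k := orderOf_dvd_of_pow_eq_one (by exact_mod_cast hk)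
    exact Subtype.ext (orderOf_eq_one_iff.1 (Nat.eq_one_of_dvd_coprimes (hO.pow_right k)
      (Subgroup.orderOf_dvd_natCard _ h1) h2))
  have e1 := MulEquiv.ofBijective _ ⟨hinj, MonoidHom.subgroupMap_surjective _ _⟩
  obtain ⟨hN, hC, hi⟩ := Cfsg.Agent.S0949.result (S.mapSurjective hs) m hm (e1.symm.trans e) fun N _ h =>
    le_bot_iff.1 (CL.PComp.pPrimeCore_quotient (G := G) 2 ▸ CL.PComp.le_pPrimeCore (Nat.coprime_two_right.2 h))
  have h1 : Group.IsSolvable (S.mapSurjective hs : Subgroup (G ⧸ pPrimeCore 2 G)) :=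
    haveI := (S.mapSurjective hs).isPGroup'.isNilpotent
    inferInstance
  have h2 : Group.IsSolvable ((G ⧸ pPrimeCore 2 G) ⧸ (S.mapSurjective hs : Subgroup (G ⧸ pPrimeCore 2 G))) := by
    refine Cfsg.Agent.S0205.result ?_
    rw [← Subgroup.index_eq_card]
    rcases hi with h | h <;> rw [h] <;> decide
  have h3 : Group.IsSolvable (G ⧸ pPrimeCore 2 G) := Group.isSolvable_of_ker_le_range
    (S.mapSurjective hs : Subgroup (G ⧸ pPrimeCore 2 G)).subtype
    (QuotientGroup.mk' (S.mapSurjective hs : Subgroup (G ⧸ pPrimeCore 2 G)))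
    (by rw [QuotientGroup.ker_mk', Subgroup.range_subtype])
  have h4 := CL.GW.isSolvable_of_odd (Nat.coprime_two_right.1 hO)
  exact Group.isSolvable_of_ker_le_range (pPrimeCore 2 G).subtype (QuotientGroup.mk' (pPrimeCore 2 G)) (by simp)

/-- a cyclic group of exponent two has order at most two -/
theorem card_le_two {Q : Type*} [Group Q] [Finite Q] (h : IsCyclic Q) (h2 : ∀ x : Q, x ^ 2 = 1) :
    Nat.card Q ≤ 2 := by
  rw [← IsCyclic.exponent_eq_card]
  exact Nat.le_of_dvd two_pos (Monoid.exponent_dvd_of_forall_pow_eq_one h2)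

/-- Let G be a finite group whose Sylow 2-subgroup S is metacyclic via a cyclic normal subgroup N of S with S/N cyclic of order greater than 2. Then G is soluble. -/
theorem result {G : Type*} [Group G] [Finite G] (S : Sylow 2 G) (N : Subgroup ↥(S : Subgroup G)) [hN : N.Normal] (hNc : IsCyclic N) (hQc : IsCyclic (↥(S : Subgroup G) ⧸ N)) (hQ : 2 < Nat.card (↥(S : Subgroup G) ⧸ N)) : Group.IsSolvable G := by
  have hm : IsMetacyclic (S : Subgroup G) := ⟨N, hN, hNc, hQc⟩
  have hS := S.isPGroup'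
  have hd : ∀ n a b, ¬ CL.PCyc.IsDQS (S : Subgroup G) n a b := fun n a b h => by
    refine absurd (card_le_two hQc fun x => ?_) (by omega)
    obtain ⟨y, rfl⟩ := QuotientGroup.mk_surjective x
    rw [← QuotientGroup.mk_pow, QuotientGroup.eq_one_iff]
    refine (?_ : commutator _ ≤ N) (h.commutator_eq ▸ h.sq_mem_zpowers_sq y)
    exact Subgroup.Normal.quotient_commutative_iff_commutator_le.1 IsCyclic.isMulCommutative
  rcases CL.MC.cases hS hm with h | ⟨k, h⟩ | ⟨-, n, a, b, h'⟩
  · have hF := CL.Fus.Grp.isSaturated S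
    refine CL.GW.isSolvable_of_hasNPC (CL.Fus.hasNPC_of_innerOn S (CL.Fus.innerOn_mor_iff.2 fun P => ?_))
    rw [CL.Fus.eq_inner_of_normal_top hS hF (CL.Fus.normal_of_sc_of_metacyclic hS hF (CL.Fus.sc_top _) hm hd)
      fun α _ hc => CL.Fus.PowOrComm.eq_one_of_flag hS h (CL.Fus.powOrComm_two (Subgroup.mem_top α)) hc]
  · rcases k with _ | k
    · refine absurd (card_le_two hQc fun x => ?_) (by omega)
      obtain ⟨y, rfl⟩ := QuotientGroup.mk_surjective x
      rw [← QuotientGroup.mk_pow, show y ^ 2 = 1 from h.exp y, QuotientGroup.mk_one]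
    · obtain ⟨e⟩ := h.nonempty_equiv hm
      exact homo S (k + 2) (by omega) (e.trans (MulEquiv.prodMultiplicative _ _).symm)
  · exact absurd h' (hd n a b)

end Cfsg.Agent.S4418
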