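import Cfsg.Statements.S4419
import Cfsg.Agent.PLOC.FrobeniusNPC
import Cfsg.Agent.PLOC.NPC
import Cfsg.Agent.PLOC.PConstrained
import Cfsg.Agent.PLOC.PFrattini
import Cfsg.Agent.SOLV.CoprimeSylow
import Cfsg.Agent.FGS.Metacyclic

set_option autoImplicit false
open Cfsg

namespace Cfsg.Agent.S4419

open Subgroup in
theorem fixed_of_prime {V : Type*} [Group V] [Finite V] {p q : ℕ} [hp : Fact p.Prime]
    [hq : Fact q.Prime] (hV : Nat.card V ∣ p ^ 2) (hqp : q ≠ p) (hq2 : ¬ q ∣ p ^ 2 - 1)
    (φ : V →* V) (hφ : ∀ v, φ^[q] v = v) (v : V) : φ v = v := by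
  classical
  have := Fintype.ofFinite V
  let f : Function.End V := (φ : V → V)
  have hf : f ^ q ^ 1 = 1 := by
    funext v
    rw [pow_one]
    have : ∀ n : ℕ, (f ^ n) v = φ^[n] v := by
      intro n
      induction n with
      | zero => rfl
      | succ n ih => rw [pow_succ', Function.iterate_succ_apply', ← ih]; rfl
    rw [this, hφ]; rfl
  have h1 := Equiv.Perm.card_fixedPoints_modEq hf
  let F : Subgroup V := φ.eqLocus (MonoidHom.id V)
  rw [← Nat.card_eq_fintype_card, ← Nat.card_eq_fintype_card] at h1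
  change _ ≡ Nat.card F [MOD q] at h1
  have hF : F = ⊤ := by
    by_contra hne
    obtain ⟨j, hj2, hj⟩ := (Nat.dvd_prime_pow hp.out).mp hV
    obtain ⟨i, hi2, hi⟩ := (Nat.dvd_prime_pow hp.out).mp (hj ▸ F.card_subgroup_dvd_card)
    have hlt : i < j := by
      rcases lt_or_eq_of_le hi2 with h | h
      · exact h
      · exact absurd (Subgroup.eq_top_of_card_eq F (by rw [hi, hj, h])) hne
    rw [hi, hj] at h1
    have h3 : q ∣ p ^ j - p ^ i :=
      (Nat.modEq_iff_dvd' (Nat.pow_le_pow_right hp.out.pos hi2)).mp h1.symm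
    have h4 : p ^ j - p ^ i = p ^ i * (p ^ (j - i) - 1) := by
      rw [Nat.mul_sub, ← pow_add, mul_one, Nat.add_sub_cancel' hi2]
    rw [h4] at h3
    rcases (Nat.Prime.dvd_mul hq.out).mp h3 with h | h
    · exact hqp ((Nat.prime_dvd_prime_iff_eq hq.out hp.out).mp (hq.out.dvd_of_dvd_pow h))
    · apply hq2
      have : j - i = 1 ∨ j - i = 2 := by omega
      rcases this with e | e
      · rw [e, pow_one] at h
        exact h.trans (by simpa using Nat.sub_dvd_pow_sub_pow p 1 2)
      · rwa [e] at h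
  have : v ∈ F := hF ▸ Subgroup.mem_top v
  exact this

open Subgroup in
theorem step {G : Type*} [Group G] [Finite G] {p q : ℕ} [hp : Fact p.Prime] [hq : Fact q.Prime]
    (Q : Subgroup G) (hQ : IsPGroup p Q) (hm : Cfsg.IsMetacyclic Q) (hqp : q ≠ p)
    (hq2 : ¬ q ∣ p ^ 2 - 1) {h : G} (hh : h ∈ normalizer (Q : Set G))
    (ho : (orderOf h).Coprime p) (hc : h ^ q ∈ centralizer (Q : Set G)) :
    h ∈ centralizer (Q : Set G) := by
  let α : MulAut Q := Q.normalizerMonoidHom ⟨h, hh⟩
  have hα : ∀ x : Q, ((α x : Q) : G) = h * x * h⁻¹ := fun x => rfl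
  have hαn : ∀ (n : ℕ) (x : Q), ((α^[n] x : Q) : G) = h ^ n * x * (h ^ n)⁻¹ := by
    intro n x
    induction n with
    | zero => simp
    | succ n ih => rw [Function.iterate_succ_apply', hα, ih, pow_succ']; group
  have hle : frattini Q ≤ (frattini Q).comap (α : Q →* Q) :=
    (Subgroup.characteristic_iff_le_comap.mp inferInstance) α
  let φ : Q ⧸ frattini Q →* Q ⧸ frattini Q := QuotientGroup.map _ _ (α : Q →* Q) hle
  have hφ : ∀ (n : ℕ) (x : Q), φ^[n] (x : Q ⧸ frattini Q) = ((α^[n] x : Q) : Q ⧸ frattini Q) := by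
    intro n x
    induction n with
    | zero => rfl
    | succ n ih => rw [Function.iterate_succ_apply', Function.iterate_succ_apply', ih]; rfl
  have hV : Nat.card (Q ⧸ frattini Q) ∣ p ^ 2 := by
    rw [← Subgroup.card_top]
    refine CL.MC.card_dvd_sq (CL.MC.metacyclic_quotient hm _) ⊤ ?_
    intro x _
    obtain ⟨x, rfl⟩ := QuotientGroup.mk_surjective x
    rw [← QuotientGroup.mk_pow, QuotientGroup.eq_one_iff]
    exact CL.PG.pow_mem_frattini hQ x
  have hfix := fixed_of_prime hV hqp hq2 φ (by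
    intro v
    obtain ⟨x, rfl⟩ := QuotientGroup.mk_surjective v
    rw [hφ]
    congr 1
    apply Subtype.ext
    rw [hαn, ← (mem_centralizer_iff.mp hc) x x.2]; group)
  have key : Q ≤ centralizer ((zpowers h : Subgroup G) : Set G) := by
    refine CL.coprime_le_centralizer_of_commutator_le_frattini (zpowers h) Q
      ((zpowers_le).mpr hh) ?_ ?_
    · rw [Nat.card_zpowers]
      obtain ⟨k, hk⟩ := (hQ.to_subgroup (frattini Q)).exists_card_eq
      rw [hk]; exact ho.pow_right k
    · rw [Subgroup.commutator_le]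
      rintro x hx _ ⟨n, rfl⟩
      have hn : ∃ m : ℕ, h ^ n = h ^ m := by
        have : h ^ n ∈ Submonoid.powers h := mem_powers_iff_mem_zpowers.mpr ⟨n, rfl⟩
        obtain ⟨m, hm⟩ := this
        exact ⟨m, hm.symm⟩
      obtain ⟨m, hm⟩ := hn
      simp only [hm]
      have h1 : φ^[m] ((⟨x, hx⟩ : Q) : Q ⧸ frattini Q) = ((⟨x, hx⟩ : Q) : Q ⧸ frattini Q) :=
        Function.iterate_fixed (hfix _) m
      rw [hφ, eq_comm, QuotientGroup.eq_iff_div_mem] at h1
      refine ⟨_, h1, ?_⟩
      simp only [div_eq_mul_inv, coe_subtype, coe_mul, coe_inv, hαn, commutatorElement_def]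
      group
  rw [mem_centralizer_iff]
  intro x hx
  exact (mem_centralizer_iff.mp (key hx) h (mem_zpowers h)).symm

/-- Let p be a prime and G a finite group whose Sylow p-subgroups are metacyclic (a cyclic normal subgroup with cyclic quotient). Then G has a normal p-complement if and only if the order of G/O_{p′,p}(G) is coprime to p² − 1. -/
theorem result {G : Type*} [Group G] [Finite G] (p : ℕ) [Fact p.Prime] (S : Sylow p G) (hS : Cfsg.IsMetacyclic ↥(S : Subgroup G)) : Cfsg.HasNormalPComplement p G ↔ Nat.Coprime (Nat.card (G ⧸ Cfsg.pPrimePCore p G)) (p ^ 2 - 1) := by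
  open Subgroup in
  constructor
  · intro h
    obtain ⟨N, hN, h1, h2⟩ := CL.hasNPC_iff_exists_normal.mp h
    have : Cfsg.pPrimePCore p G = ⊤ := by
      rw [eq_top_iff]
      refine CL.PC.le_pPrimePCore ⊤ fun g _ => ?_
      obtain ⟨k, hk⟩ := h2 (g : G ⧸ N)
      refine ⟨k, CL.le_pPrimeCore h1 ?_⟩
      rwa [← QuotientGroup.mk_pow, QuotientGroup.eq_one_iff] at hk
    have h3 : Nat.card (G ⧸ Cfsg.pPrimePCore p G) = 1 := by
      rw [← Subgroup.index, this, Subgroup.index_top]
    rw [h3]; exact Nat.coprime_one_left _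
  · intro h
    rw [CL.Tr.hasNPC_iff_forall_le_sylow S]
    intro Q hQS g hg ho
    have hQ : IsPGroup p Q := S.isPGroup'.to_le hQS
    have hm : Cfsg.IsMetacyclic Q :=
      CL.MC.metacyclic_of_injective hS (Subgroup.inclusion hQS) (Subgroup.inclusion_injective hQS)
    set n := Nat.card (G ⧸ Cfsg.pPrimePCore p G) with hn
    have hn0 : 0 < n := Nat.card_pos
    have h1 : g ^ n ∈ Cfsg.pPrimePCore p G := by
      rw [← QuotientGroup.eq_one_iff, QuotientGroup.mk_pow, hn, pow_card_eq_one']
    have h2 : g ^ n ∈ Cfsg.pPrimeCore p G := by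
      obtain ⟨k, hk⟩ := CL.PC.pow_mem_of_mem_pPrimePCore h1
      have hco : (orderOf (g ^ n)).Coprime (p ^ k) :=
        (Nat.Coprime.coprime_dvd_left (orderOf_pow_dvd n) ho).pow_right k
      obtain ⟨m, hm⟩ := exists_pow_eq_self_of_coprime hco.symm
      rw [← hm]; exact pow_mem hk m
    have h3 : g ^ n ∈ centralizer (Q : Set G) := by
      rw [mem_centralizer_iff]
      intro x hx
      have hgn : g ^ n ∈ normalizer (Q : Set G) := pow_mem hg n
      have a1 : x * g ^ n * x⁻¹ * (g ^ n)⁻¹ ∈ Q := by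
        have := (mem_normalizer_iff.mp hgn x⁻¹).mp (Q.inv_mem hx)
        simpa [mul_assoc] using Q.mul_mem hx this
      have a2 : x * g ^ n * x⁻¹ * (g ^ n)⁻¹ ∈ Cfsg.pPrimeCore p G :=
        mul_mem (Subgroup.Normal.conj_mem inferInstance _ h2 x) (inv_mem h2)
      obtain ⟨k, hk⟩ := hQ.exists_card_eq
      have b1 := orderOf_dvd_natCard (⟨_, a1⟩ : Q)
      have b2 := orderOf_dvd_natCard (⟨_, a2⟩ : Cfsg.pPrimeCore p G)
      rw [Subgroup.orderOf_mk] at b1 b2
      rw [hk] at b1
      have := Nat.eq_one_of_dvd_coprimes ((CL.coprime_card_pPrimeCore p G).pow_right k) b2 b1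
      rw [orderOf_eq_one_iff] at this
      calc x * g ^ n = (x * g ^ n * x⁻¹ * (g ^ n)⁻¹) * (g ^ n * x) := by group
        _ = g ^ n * x := by rw [this, one_mul]
    -- descend along divisors of n
    have main : ∀ m : ℕ, m ∣ n → g ^ m ∈ centralizer (Q : Set G) → g ∈ centralizer (Q : Set G) := by
      intro m
      induction m using Nat.strong_induction_on with
      | _ m ih =>
        intro hmn hc
        by_cases hm1 : m = 1
        · simpa [hm1] using hc
        obtain ⟨q, hq, r, rfl⟩ := Nat.exists_prime_and_dvd hm1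
        have hr0 : 0 < r := Nat.pos_of_ne_zero (by rintro rfl; simp at hmn; omega)
        have := Fact.mk hq
        have hlt : r < q * r := by have := hq.one_lt; nlinarith
        refine ih r hlt (Dvd.dvd.trans (Dvd.intro_left q rfl) hmn) ?_
        have hor : (orderOf (g ^ r)).Coprime p :=
          Nat.Coprime.coprime_dvd_left (orderOf_pow_dvd r) ho
        have hc' : (g ^ r) ^ q ∈ centralizer (Q : Set G) := by rwa [← pow_mul, mul_comm]
        by_cases hqp : q = p
        · subst hqp
          obtain ⟨k, hk⟩ := exists_pow_eq_self_of_coprime hor.symm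
          rw [← hk]; exact pow_mem hc' k
        · refine step Q hQ hm hqp ?_ (pow_mem hg r) hor hc'
          intro hd
          have := Nat.eq_one_of_dvd_coprimes h ((Dvd.intro r rfl).trans hmn) hd
          exact hq.one_lt.ne' this
    exact main n dvd_rfl h3

end Cfsg.Agent.S4419
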