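import Cfsg.Statements.S4544
import Cfsg.Agent.BLK.CycFour

set_option autoImplicit false
open Cfsg

namespace Cfsg.Agent.S4544

open CL.Blk CL.Char

/-- Let B be a 2-block of the finite group G (relative to a maximal ideal M of the algebraic integers containing 2) whose defect group D contains a cyclic subgroup of index at most 4 in D. Then B contains at most as many irreducible characters as D has elements. -/
theorem result {G : Type*} [Group G] [Finite G] (M : Ideal Cfsg.AlgInt) (hM : Cfsg.IsPModular 2 M) (B : Set (Cfsg.IrrCharacter G)) (hB : Cfsg.IsPBlock M B) (D : Subgroup G) (hD : Cfsg.IsDefectGroup 2 M B D) (C : Subgroup G) (hCD : C ≤ D) (hcyc : IsCyclic C) (hidx : C.relIndex D ≤ 4) : Nat.card B ≤ Nat.card D := by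
  obtain ⟨c, rfl⟩ := CL.MC.exists_eq_zpowers C
  refine (qGood_of_index_le hD.isPGroup (c := ⟨c, hCD (Subgroup.mem_zpowers c)⟩) ?_).card_le hM hB hD
  convert hidx using 1
  rw [Subgroup.relIndex]
  congr 1
  ext x
  rw [Subgroup.mem_subgroupOf, ← Subgroup.mem_map_iff_mem D.subtype_injective, MonoidHom.map_zpowers]
  rfl

end Cfsg.Agent.S4544
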