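import Cfsg.Statements.S4545
import Cfsg.Agent.BLK.OlsC
import Cfsg.Agent.PLOC.DQS
import Cfsg.Agent.S4528
import Cfsg.Agent.S4529
import Cfsg.Agent.S4530

set_option autoImplicit false
open Cfsg

namespace Cfsg.Agent.S4545

open Subgroup CL.Blk

/-- Let B be a 2-block of the finite group G (relative to a maximal ideal M of the algebraic integers containing 2) whose defect group D has order at most 32. Then the number of members of B of height zero is at most the index of the commutator subgroup of D in D (Olsson's bound holds for B). -/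
theorem result {G : Type*} [Group G] [Finite G] (M : Ideal Cfsg.AlgInt) (hM : Cfsg.IsPModular 2 M) (B : Set (Cfsg.IrrCharacter G)) (hB : Cfsg.IsPBlock M B) (D : Subgroup G) (hD : Cfsg.IsDefectGroup 2 M B D) (hcard : Nat.card D ≤ 32) : Nat.card {χ : Cfsg.IrrCharacter G // χ ∈ B ∧ Cfsg.blockHeight 2 B (χ : G → ℂ) = 0} ≤ (commutator ↥D).index := by
  obtain ⟨e, h⟩ := exists_maxP hM hB hD
  have h1 := (commutator D).card_mul_index
  obtain ⟨k, hk⟩ := IsPGroup.iff_card.1 (h.pgroup.to_subgroup (commutator D))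
  obtain ⟨m, -, hm⟩ := (Nat.dvd_prime_pow Nat.prime_two).1
    (h.card_eq ▸ (commutator D).index_dvd_card)
  rcases k with _ | _ | k
  · have h2 := (commutator_eq_bot_iff_center_eq_top D).1 (card_eq_one.1 hk)
    have h3 : ∀ u ∈ D, ∀ y ∈ D, Commute y u := fun u hu y hy =>
      congrArg Subtype.val (mem_center_iff.1 (h2.ge (mem_top (⟨u, hu⟩ : D))) ⟨y, hy⟩)
    rw [hk, pow_zero, one_mul] at h1
    rcases D.bot_or_exists_ne_one with h4 | ⟨u, hu, h4⟩
    · exact (h.k0_le_of_le D.one_mem (fun v _ => (cP_le_card D v).trans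
        (cP_of_comm (h3 1 D.one_mem)).ge) ((cP_le_card D 1).trans (by simp [h4]))).trans
          ((cP_le_card D 1).trans h1.ge)
    exact h.k0_le_of_class hcard hu h4 fun v _ _ => (cP_le_card D v).trans h1.ge
  · exact h.k0_le_of_dz hcard hk
  by_cases h2 : (commutator D).index ≤ 4
  · have h3 : ¬ IsMulCommutative D := fun e => by
      rw [(commutator_eq_bot_iff_center_eq_top D).2 (center_eq_top_iff.2 e), card_bot] at hk
      have := Nat.one_le_two_pow (n := k)
      omega
    obtain ⟨a, b, h4⟩ : ∃ a b : D, a * b ≠ b * a := by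
      by_contra e
      push Not at e
      exact h3 ⟨⟨e⟩⟩
    have h5 := four_mul_card_center_le h4
    have : Nontrivial D := ⟨_, _, h4⟩
    have := h.pgroup.center_nontrivial
    have h6 := Finite.one_lt_card (α := center D)
    have h7 : 2 ^ 3 ≤ 2 ^ Cfsg.blockDefect 2 B := by rw [← h.card_eq]; omega
    rw [Nat.pow_le_pow_iff_right one_lt_two] at h7
    obtain ⟨n, hn⟩ : ∃ n, Nat.card D = 2 ^ (n + 3) :=
      ⟨Cfsg.blockDefect 2 B - 3, by rw [Nat.sub_add_cancel h7, h.card_eq]⟩
    obtain ⟨a, b, h4⟩ := CL.PCyc.exists_isDQS_of_index_commutator hn h2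
    rw [h4.commutator_eq, h4.index_zpowers_sq]
    rcases h4.trichotomy with ⟨-, h5⟩ | h5 | ⟨h5, -, -, h6⟩
    · exact (S4528.result M hM B hB D hD (n + 3) (by omega) h5).2.2.2.1.le
    · exact (S4530.result M hM B hB D hD (n + 3) (by omega) h5).2.2.2.1.le
    · exact (S4529.result M hM B hB D hD (n + 3) (by omega) hn h6).2.2.2.2.2.1.le
  have h3 : 3 ≤ m := by_contra fun e => h2 (hm ▸ Nat.pow_le_pow_right (n := 2) (j := 2) two_pos (by omega))
  have h4 : 2 ^ (k + 1 + 1 + m) ≤ 2 ^ 5 := by rwa [pow_add, ← hk, ← hm, h1]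
  rw [Nat.pow_le_pow_iff_right one_lt_two] at h4
  obtain rfl : k = 0 := by omega
  obtain rfl : m = 3 := by omega
  rw [hk, hm] at h1
  exact hm ▸ h.k0_le_of_card h1.symm hk

end Cfsg.Agent.S4545
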