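import Cfsg.Statements.S4558
import Cfsg.Agent.CHAR.Orth
import Mathlib.Algebra.CharP.Lemmas
import Mathlib.Algebra.CharP.Quotient
import Mathlib.RingTheory.IntegralClosure.IntegrallyClosed
import Mathlib.Algebra.GCDMonoid.IntegrallyClosed
import Mathlib.RingTheory.Int.Basic

set_option autoImplicit false
open Cfsg

namespace Cfsg.Agent.S4558

theorem not_isUnit_prime (p : ℕ) (hp : p.Prime) : ¬ IsUnit (p : AlgInt) := by
  rintro ⟨u, hu⟩
  have h1 : ((u⁻¹ : AlgIntˣ) : AlgInt) * (p : AlgInt) = 1 := by rw [← hu]; simp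
  have h2 : (((u⁻¹ : AlgIntˣ) : AlgInt) : ℂ) * (p : ℂ) = 1 := by
    have := congrArg (fun z : AlgInt => (z : ℂ)) h1
    simpa using this
  have hp0 : (p : ℂ) ≠ 0 := by exact_mod_cast hp.ne_zero
  have h3 : (((u⁻¹ : AlgIntˣ) : AlgInt) : ℂ) = algebraMap ℚ ℂ ((p : ℚ)⁻¹) := by
    rw [eq_inv_of_mul_eq_one_left h2]; simp
  have h4 : IsIntegral ℤ (algebraMap ℚ ℂ ((p : ℚ)⁻¹)) := by
    rw [← h3]; exact ((u⁻¹ : AlgIntˣ) : AlgInt).2
  have h5 : IsIntegral ℤ ((p : ℚ)⁻¹) :=
    (isIntegral_algebraMap_iff (algebraMap ℚ ℂ).injective).1 h4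
  obtain ⟨n, hn⟩ := IsIntegrallyClosed.isIntegral_iff.1 h5
  have hp1 : (p : ℚ) ≠ 0 := by exact_mod_cast hp.ne_zero
  have h6 : (n : ℚ) * p = 1 := by
    have : (n : ℚ) = (p : ℚ)⁻¹ := by simpa using hn
    rw [this]; field_simp
  have h7 : n * (p : ℤ) = 1 := by exact_mod_cast h6
  have h8 : (p : ℤ) ∣ 1 := Dvd.intro_left n h7
  have h9 : p ∣ 1 := by exact_mod_cast h8
  exact hp.one_lt.ne' (Nat.dvd_one.1 h9)

/-- Let χ be a character of the finite group G and g an element of p-power order for the prime p. If χ g = 0, then p divides the degree of χ. -/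
theorem result {G : Type*} [Group G] [Finite G] (p : ℕ) [Fact p.Prime] (χ : G → ℂ) (hχ : Cfsg.IsCharacter G χ) (g : G) (hg : ∃ j : ℕ, orderOf g = p ^ j) (h0 : χ g = 0) : p ∣ Cfsg.charDegree χ := by
  have hp : p.Prime := Fact.out
  obtain ⟨j, hj⟩ := hg
  obtain ⟨l, h1, hl, hk⟩ := hχ.exists_eigenvalues g
  have hsum : l.sum = 0 := by
    have := hk 1
    simpa [h0] using this.symm
  have hdeg : charDegree χ = l.length := by
    unfold charDegree
    rw [h1]; simp
  rw [hdeg]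
  obtain ⟨M, hM, hpM⟩ := exists_max_ideal_of_mem_nonunits (not_isUnit_prime p hp)
  have := hM
  let _i := Ideal.Quotient.field M
  have : CharP (AlgInt ⧸ M) p := by
    have h : ((p : ℕ) : AlgInt ⧸ M) = 0 := by
      rw [← map_natCast (Ideal.Quotient.mk M), Ideal.Quotient.eq_zero_iff_mem]; exact hpM
    exact (CharP.charP_iff_prime_eq_zero hp).2 h
  have key : ∀ l' : List ℂ, (∀ z ∈ l', z ^ orderOf g = 1) → ∃ a : AlgInt, (a : ℂ) = l'.sum ∧
      Ideal.Quotient.mk M a = (l'.length : AlgInt ⧸ M) := by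
    intro l' hl'
    induction l' with
    | nil => exact ⟨0, by simp, by simp⟩
    | cons z t ih =>
      obtain ⟨a, ha, ha'⟩ := ih (fun w hw => hl' w (List.mem_cons_of_mem _ hw))
      have hz : z ^ p ^ j = 1 := by rw [← hj]; exact hl' z List.mem_cons_self
      have hzi : IsIntegral ℤ z := by
        refine IsIntegral.of_pow (n := p ^ j) (pow_pos hp.pos j) ?_
        rw [hz]; exact isIntegral_one
      let b : AlgInt := ⟨z, hzi⟩
      have hb : b ^ p ^ j = 1 := Subtype.ext (by simpa [b] using hz)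
      have hb1 : Ideal.Quotient.mk M b = 1 := by
        have h2 : (Ideal.Quotient.mk M b - 1) ^ p ^ j = 0 := by
          rw [sub_pow_char_pow, ← map_pow, hb]; simp
        exact sub_eq_zero.1 (pow_eq_zero_iff (pow_pos hp.pos j).ne' |>.1 h2)
      refine ⟨b + a, by simp [b, ha], ?_⟩
      rw [map_add, hb1, ha']; simp [add_comm]
  obtain ⟨a, ha, ha'⟩ := key l hl
  have ha0 : a = 0 := Subtype.ext (by rw [ha, hsum]; rfl)
  rw [ha0, map_zero] at ha'
  exact (CharP.cast_eq_zero_iff (AlgInt ⧸ M) p _).1 ha'.symm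

end Cfsg.Agent.S4558
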