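import Cfsg.Statements.S4586
import Mathlib.Tactic

set_option autoImplicit false
open Cfsg

namespace Cfsg.Agent.S4586

open scoped commutatorElement

theorem eq_top_of_mem {P : Type*} [Group P] {p : ℕ} (hp : p.Prime) (N : Subgroup P)
    (hN : N.index = p) (H : Subgroup P) (hNH : N ≤ H) {x : P} (hx : x ∉ N) (hxH : x ∈ H) :
    H = ⊤ := by
  have h1 := Subgroup.relIndex_mul_index hNH
  rw [hN] at h1
  have hd : H.index ∣ p := Dvd.intro_left _ h1
  rcases (Nat.dvd_prime hp).1 hd with h | h
  · exact Subgroup.index_eq_one.1 h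
  · rw [h] at h1
    have h2 : N.relIndex H = 1 := by
      have := hp.pos
      nlinarith
    rw [Subgroup.relIndex_eq_one] at h2
    exact absurd (h2 hxH) hx

/-- The key counting formula. -/
theorem key {P : Type*} [Group P] [Finite P] {p : ℕ} (hp : p.Prime) (N : Subgroup P) [hNn : N.Normal]
    (hN : N.index = p) {x : P} (hx : x ∉ N) :
    (commutator P).index * Nat.card (commutator N) =
      p * Nat.card {n : N // x * n * x⁻¹ * (n : P)⁻¹ ∈ (commutator N).map N.subtype} := by
  classical
  have hK : (commutator N).map N.subtype = ⁅N, N⁆ := by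
    rw [commutator_def, Subgroup.map_commutator]
    simp only [← MonoidHom.range_eq_map, Subgroup.range_subtype]
  set K : Subgroup P := ⁅N, N⁆ with hKdef
  have hKn : K.Normal := Subgroup.commutator_normal N N
  have hKN : K ≤ N := Subgroup.commutator_le_left N N
  have hcomm : ∀ a ∈ N, ∀ b ∈ N, (QuotientGroup.mk' K a) * (QuotientGroup.mk' K b) =
      (QuotientGroup.mk' K b) * (QuotientGroup.mk' K a) := by
    intro a ha b hb
    rw [← commutatorElement_eq_one_iff_mul_comm, ← map_commutatorElement]
    simp only [QuotientGroup.mk'_apply, QuotientGroup.eq_one_iff]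
    exact Subgroup.commutator_mem_commutator ha hb
  let f : N →* P ⧸ K := MonoidHom.mk' (fun n => QuotientGroup.mk' K (x * n * x⁻¹ * (n : P)⁻¹)) (by
    intro a b
    have h1 : (x * (b : P) * x⁻¹ * (b : P)⁻¹) ∈ N := N.mul_mem (hNn.conj_mem _ b.2 x) (N.inv_mem b.2)
    have h2 := hcomm _ h1 _ (N.inv_mem a.2)
    have e1 : x * ((a * b : N) : P) * x⁻¹ * ((a * b : N) : P)⁻¹ =
        (x * a * x⁻¹) * ((x * (b : P) * x⁻¹ * (b : P)⁻¹) * (a : P)⁻¹) := by
      simp only [Subgroup.coe_mul]; group
    rw [e1, map_mul, map_mul (QuotientGroup.mk' K) (x * (b : P) * x⁻¹ * (b : P)⁻¹), h2,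
      map_mul (QuotientGroup.mk' K) (x * (a : P) * x⁻¹) ((a : P)⁻¹)]
    simp only [mul_assoc])
  have hf : ∀ n : N, f n = QuotientGroup.mk' K (x * n * x⁻¹ * (n : P)⁻¹) := fun n => rfl
  have hker : Nat.card {n : N // x * n * x⁻¹ * (n : P)⁻¹ ∈ (commutator N).map N.subtype} =
      Nat.card f.ker := by
    refine Nat.card_congr (Equiv.subtypeEquivRight fun n => ?_)
    rw [hK, MonoidHom.mem_ker, hf]
    simp only [QuotientGroup.mk'_apply, QuotientGroup.eq_one_iff]
  -- the range
  set R : Subgroup P := f.range.comap (QuotientGroup.mk' K) with hR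
  have hKR : K ≤ R := by
    intro k hk
    rw [hR, Subgroup.mem_comap]
    have : QuotientGroup.mk' K k = 1 := by
      simpa only [QuotientGroup.mk'_apply, QuotientGroup.eq_one_iff] using hk
    rw [this]; exact Subgroup.one_mem _
  have hmemR : ∀ r, r ∈ R ↔ ∃ n ∈ N, ∃ k ∈ K, r = x * n * x⁻¹ * n⁻¹ * k := by
    intro r
    rw [hR, Subgroup.mem_comap, MonoidHom.mem_range]
    constructor
    · rintro ⟨n, hn⟩
      rw [hf, QuotientGroup.mk'_apply, QuotientGroup.mk'_apply, QuotientGroup.eq] at hn
      exact ⟨n, n.2, _, hn, by group⟩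
    · rintro ⟨n, hn, k, hk, rfl⟩
      refine ⟨⟨n, hn⟩, ?_⟩
      rw [hf, QuotientGroup.mk'_apply, QuotientGroup.mk'_apply, QuotientGroup.eq]
      have e : (x * ((⟨n, hn⟩ : N) : P) * x⁻¹ * ((⟨n, hn⟩ : N) : P)⁻¹)⁻¹ * (x * n * x⁻¹ * n⁻¹ * k) = k := by
        simp only []; group
      rw [e]; exact hk
  have hRN : R ≤ N := by
    intro r hr
    obtain ⟨n, hn, k, hk, rfl⟩ := (hmemR r).1 hr
    exact N.mul_mem (N.mul_mem (hNn.conj_mem _ hn x) (N.inv_mem hn)) (hKN hk)
  have hRP : R ≤ commutator P := by
    intro r hr
    obtain ⟨n, hn, k, hk, rfl⟩ := (hmemR r).1 hr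
    refine Subgroup.mul_mem _ ?_ (Subgroup.commutator_mono le_top le_top hk)
    exact Subgroup.commutator_mem_commutator (Subgroup.mem_top x) (Subgroup.mem_top n)
  have hRn : R.Normal := by
    rw [← Subgroup.normalizer_eq_top_iff]
    refine eq_top_of_mem hp N hN _ ?_ hx ?_
    · intro n hn
      refine Subgroup.mem_normalizer_fintype ?_
      intro r hr
      have h1 : ⁅n, r⁆ ∈ K := Subgroup.commutator_mem_commutator hn (hRN hr)
      have : n * r * n⁻¹ = ⁅n, r⁆ * r := by rw [commutatorElement_def]; group
      rw [this]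
      exact R.mul_mem (hKR h1) hr
    · refine Subgroup.mem_normalizer_fintype ?_
      intro r hr
      obtain ⟨n, hn, k, hk, rfl⟩ := (hmemR r).1 hr
      exact (hmemR _).2 ⟨x * n * x⁻¹, hNn.conj_mem _ hn x, x * k * x⁻¹, hKn.conj_mem _ hk x, by group⟩
  have hPR : commutator P ≤ R := by
    let π := QuotientGroup.mk' R
    have hxN : ∀ n ∈ N, π x * π n = π n * π x := by
      intro n hn
      rw [← commutatorElement_eq_one_iff_mul_comm, ← map_commutatorElement]
      simp only [π, QuotientGroup.mk'_apply, QuotientGroup.eq_one_iff]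
      exact (hmemR _).2 ⟨n, hn, 1, K.one_mem, by rw [commutatorElement_def]; group⟩
    have hNN : ∀ a ∈ N, ∀ b ∈ N, π a * π b = π b * π a := by
      intro a ha b hb
      rw [← commutatorElement_eq_one_iff_mul_comm, ← map_commutatorElement]
      simp only [π, QuotientGroup.mk'_apply, QuotientGroup.eq_one_iff]
      exact hKR (Subgroup.commutator_mem_commutator ha hb)
    have hcN : ∀ n ∈ N, ∀ g, π g * π n = π n * π g := by
      intro n hn g
      have : (Subgroup.centralizer ({π n} : Set (P ⧸ R))).comap π = ⊤ := by
        refine eq_top_of_mem hp N hN _ ?_ hx ?_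
        · intro m hm
          rw [Subgroup.mem_comap, Subgroup.mem_centralizer_singleton_iff]
          exact hNN m hm n hn
        · rw [Subgroup.mem_comap, Subgroup.mem_centralizer_singleton_iff]
          exact hxN n hn
      have h2 : g ∈ (Subgroup.centralizer ({π n} : Set (P ⧸ R))).comap π := by
        rw [this]; exact Subgroup.mem_top g
      rwa [Subgroup.mem_comap, Subgroup.mem_centralizer_singleton_iff] at h2
    have hall : ∀ a g, π g * π a = π a * π g := by
      intro a g
      have : (Subgroup.centralizer ({π a} : Set (P ⧸ R))).comap π = ⊤ := by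
        have hxa : π x * π a = π a * π x := by
          have : (Subgroup.centralizer ({π x} : Set (P ⧸ R))).comap π = ⊤ := by
            refine eq_top_of_mem hp N hN _ ?_ hx ?_
            · intro m hm
              rw [Subgroup.mem_comap, Subgroup.mem_centralizer_singleton_iff]
              exact (hxN m hm).symm
            · rw [Subgroup.mem_comap, Subgroup.mem_centralizer_singleton_iff]
          have h2 : a ∈ (Subgroup.centralizer ({π x} : Set (P ⧸ R))).comap π := by
            rw [this]; exact Subgroup.mem_top a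
          rw [Subgroup.mem_comap, Subgroup.mem_centralizer_singleton_iff] at h2
          exact h2.symm
        refine eq_top_of_mem hp N hN _ ?_ hx ?_
        · intro m hm
          rw [Subgroup.mem_comap, Subgroup.mem_centralizer_singleton_iff]
          exact (hcN m hm a).symm
        · rw [Subgroup.mem_comap, Subgroup.mem_centralizer_singleton_iff]
          exact hxa
      have h2 : g ∈ (Subgroup.centralizer ({π a} : Set (P ⧸ R))).comap π := by
        rw [this]; exact Subgroup.mem_top g
      rwa [Subgroup.mem_comap, Subgroup.mem_centralizer_singleton_iff] at h2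
    rw [commutator_def, Subgroup.commutator_le]
    intro a _ b _
    have : π ⁅a, b⁆ = 1 := by
      rw [map_commutatorElement, commutatorElement_eq_one_iff_mul_comm]
      exact hall b a
    simpa only [π, QuotientGroup.mk'_apply, QuotientGroup.eq_one_iff] using this
  have hRe : R = commutator P := le_antisymm hRP hPR
  have hidx : (commutator P).index = f.range.index := by
    rw [← hRe, hR, Subgroup.index_comap_of_surjective _ (QuotientGroup.mk'_surjective K)]
  have h1 : f.range.index * Nat.card f.range = K.index := by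
    rw [Subgroup.index_mul_card]; rfl
  have h2 : Nat.card f.range * Nat.card f.ker = Nat.card N := by
    rw [← Subgroup.index_ker, Subgroup.index_mul_card]
  have h3 : K.index * Nat.card K = Nat.card P := Subgroup.index_mul_card K
  have h4 : p * Nat.card N = Nat.card P := by rw [← hN]; exact Subgroup.index_mul_card N
  have h5 : Nat.card (commutator N) = Nat.card K := by
    rw [← hK, Subgroup.card_map_of_injective N.subtype_injective]
  rw [hker, hidx, h5]
  have hpos : 0 < Nat.card f.range := Nat.card_pos
  apply Nat.eq_of_mul_eq_mul_left hpos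
  calc Nat.card f.range * (f.range.index * Nat.card K)
      = (f.range.index * Nat.card f.range) * Nat.card K := by ring
    _ = Nat.card P := by rw [h1, h3]
    _ = p * (Nat.card f.range * Nat.card f.ker) := by rw [h2, h4]
    _ = _ := by ring


/-- Let p be a prime, P a finite p-group and N a normal subgroup of P of index p. For x ∈ P write c(x) for the number of elements n of N whose commutator x n x⁻¹ n⁻¹ lies in the derived subgroup N' (so c(x)/#N' is the order of the centralizer of x acting on N/N'). Then [P : P'] = p² if and only if c(x) = p·#N' for every x ∈ P outside N, and also if and only if c(x) = p·#N' for some x ∈ P outside N. -/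
theorem result {P : Type*} [Group P] [Finite P] (p : ℕ) [Fact p.Prime] (hP : IsPGroup p P) (N : Subgroup P) [N.Normal] (hN : N.index = p) :
    ((commutator P).index = p ^ 2 ↔ ∀ x : P, x ∉ N →
        Nat.card {n : N // x * n * x⁻¹ * (n : P)⁻¹ ∈ (commutator N).map N.subtype} = p * Nat.card (commutator N)) ∧
    ((commutator P).index = p ^ 2 ↔ ∃ x : P, x ∉ N ∧
        Nat.card {n : N // x * n * x⁻¹ * (n : P)⁻¹ ∈ (commutator N).map N.subtype} = p * Nat.card (commutator N)) := by
  have hp : p.Prime := Fact.out
  have hiff : ∀ x : P, x ∉ N → ((commutator P).index = p ^ 2 ↔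
      Nat.card {n : N // x * n * x⁻¹ * (n : P)⁻¹ ∈ (commutator N).map N.subtype} =
        p * Nat.card (commutator N)) := by
    intro x hx
    have h := key hp N hN hx
    have hpos : 0 < Nat.card (commutator N) := Nat.card_pos
    constructor
    · intro h1
      rw [h1] at h
      apply Nat.eq_of_mul_eq_mul_left hp.pos
      rw [← h]; ring
    · intro h1
      rw [h1] at h
      apply Nat.eq_of_mul_eq_mul_right hpos
      rw [h]; ring
  have hex : ∃ x : P, x ∉ N := by
    by_contra hc
    push Not at hc
    have : N = ⊤ := (Subgroup.eq_top_iff' N).2 hc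
    rw [this, Subgroup.index_top] at hN
    exact hp.one_lt.ne hN
  obtain ⟨x0, hx0⟩ := hex
  refine ⟨⟨fun h x hx => (hiff x hx).1 h, fun h => (hiff x0 hx0).2 (h x0 hx0)⟩,
    ⟨fun h => ⟨x0, hx0, (hiff x0 hx0).1 h⟩, fun ⟨x, hx, h⟩ => (hiff x hx).2 h⟩⟩

end Cfsg.Agent.S4586
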