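import Cfsg.Statements.S4587
import Mathlib
import Cfsg.Agent.S4172
import Cfsg.Agent.S4586
import Cfsg.Agent.BLK.SqComm
import Cfsg.Agent.FGS.MaxCl3
import Cfsg.Agent.TECH.Gamma
import Cfsg.Agent.FUS.GroupNormal
import Cfsg.Agent.PLOC.PFrattini

set_option autoImplicit false
open Cfsg

namespace Cfsg.Agent.S4587

open Subgroup CL CL.Comp CL.PComp CL.MSS Cfsg

section
variable {G : Type*} [Group G] [Finite G] {p : ℕ} [hp : Fact p.Prime]

theorem inf_sup_le {P H A B D : Subgroup G} (hP : SylIn p P H) (hA : A ≤ H) (hB : B ≤ H)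
    (nA : H ≤ normalizer (A : Set G)) (nB : H ≤ normalizer (B : Set G)) (h1 : P ⊓ A ≤ D)
    (h2 : P ⊓ B ≤ D) : P ⊓ (A ⊔ B) ≤ D := fun x hx => by
  have := (normal_subgroupOf_iff_le_normalizer hA).2 nA
  have h := SqC.eq_inf_sup_of_normal (B := A.subgroupOf H) (S := B.subgroupOf H)
    (R := (P ⊓ (A ⊔ B)).subgroupOf H) (subgroupOf_sup hA hB ▸ (hP.inf_normal_of_le
      (MSS.le_normalizer_sup nA nB) (sup_le hA hB)).subgroupOf (sup_le hA hB))
    ((hP.inf_normal_of_le nB hB).subgroupOf hB) (comap_mono (inf_le_inf_left _ le_sup_right))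
  exact (h.le.trans (sup_le (fun y hy => h1 ⟨hy.1.1, hy.2⟩) (comap_mono h2)) :
    _ ≤ D.subgroupOf H) (show (⟨x, hP.le hx.1⟩ : H) ∈ _ from hx)

theorem isCyclic_of_index_dvd {N : Subgroup G} [N.Normal] (hN : N ≤ frattini G)
    (h : N.index ∣ p) : IsCyclic G := by
  have : IsCyclic (G ⧸ N) := isCyclic_of_card_dvd_prime h
  exact PG.isCyclic_of_quotient_le_frattini hN

theorem card_cent (hG : IsPGroup p G) {Q : Subgroup G} [Q.Normal] [IsMulCommutative Q]
    (h1 : Q.index = p) (h2 : (commutator G).index = p ^ 2) {x : G} (hx : x ∉ Q) :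
    Nat.card (centralizer ({x} : Set G)) = p ^ 2 := by
  have h3 := (S4586.result p hG Q h1).1.1 h2 x hx
  have h4 : commutator Q = ⊥ := commutator_eq_bot_iff_le_centralizer.2 (le_centralizer _)
  rw [h4, Subgroup.map_bot, card_bot, mul_one] at h3
  have h5 : Nat.card (centralizer {x} ⊓ Q : Subgroup G) = p := h3 ▸ Nat.card_congr
    ⟨fun a => ⟨⟨a, a.2.2⟩, by simp [← mem_centralizer_singleton_iff.1 a.2.1]⟩,
      fun a => ⟨a.1, mem_centralizer_singleton_iff.2
        (mul_inv_eq_iff_eq_mul.1 (mul_inv_eq_one.1 (mem_bot.1 a.2))).symm, a.1.2⟩,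
      fun _ => rfl, fun _ => rfl⟩
  have h6 : centralizer {x} ⊔ Q = ⊤ := (Tr.isCoatom_of_index_prime (h1 ▸ hp.out)).2 _
    (lt_of_le_of_ne le_sup_right fun h => hx (h.ge (mem_sup_left
      (mem_centralizer_singleton_iff.2 rfl))))
  rw [← relIndex_top_right, ← h6, relIndex_sup_right, ← inf_relIndex_left] at h1
  have h7 := relIndex_mul_relIndex ⊥ _ _ bot_le
    (inf_le_left : centralizer {x} ⊓ Q ≤ centralizer {x})
  rw [h1, relIndex_bot_left, relIndex_bot_left, h5] at h7
  rw [← h7, sq]

theorem final (P : Sylow p G) {N : Subgroup G} [N.Normal]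
    [hc : IsMulCommutative ((P : Subgroup G) ⊓ N : Subgroup G)]
    (h1 : ((P : Subgroup G) ⊓ N).relIndex P = p) (h2 : (commutator P).index = p ^ 2) :
    ∃ x : G, (∃ k : ℕ, orderOf x = p ^ k) ∧
      (Nat.card (centralizer ({x} : Set G))).factorization p = 2 := by
  obtain ⟨t, ht, htN⟩ := SetLike.not_le_iff_exists.1 fun h : (P : Subgroup G) ≤ (P : Subgroup G) ⊓ N =>
    hp.out.one_lt.ne (relIndex_eq_one.2 h ▸ h1)
  have hz : IsPGroup p (zpowers t) := P.isPGroup'.to_le (zpowers_le.2 ht)
  obtain ⟨R, hR, htR⟩ := exists_sylIn_ge hz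
    (zpowers_le.2 (mem_centralizer_singleton_iff.2 rfl) : _ ≤ centralizer {t})
  obtain ⟨g, -, hg⟩ := (sylIn_top P).exists_conj_le hR.pgroup le_top
  have hx := hg (conj_mem_cj (g := g) (htR (mem_zpowers t)))
  have h3 := hR.cj g
  rw [cj_centralizer_singleton] at h3
  have h4 := h3.max _ (P.isPGroup'.to_le inf_le_left) (le_inf hg h3.le) inf_le_right
  obtain ⟨k, hk⟩ := IsPGroup.iff_orderOf.1 P.isPGroup' ⟨_, hx⟩
  refine ⟨_, ⟨k, (orderOf_coe _).trans hk⟩, Nat.pow_right_injective hp.out.two_le ?_⟩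
  have := (normal_subgroupOf_iff_le_normalizer (inf_le_left : (P : Subgroup G) ⊓ N ≤ P)).2
    (MSS.le_normalizer_inf le_normalizer le_normalizer_of_normal)
  have h5 := card_cent P.isPGroup' (Q := ((P : Subgroup G) ⊓ N).subgroupOf P) h1 h2 (x := ⟨_, hx⟩) fun h =>
    htN ⟨ht, by simpa [mul_assoc] using (inferInstance : N.Normal).conj_mem' _ h.2 g⟩
  refine h3.card_eq_pow_factorization.symm.trans (h4 ▸ Eq.trans (Nat.card_congr
    ⟨fun a => ⟨⟨a, a.2.1⟩, mem_centralizer_singleton_iff.2 (Subtype.ext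
      (mem_centralizer_singleton_iff.1 a.2.2))⟩, fun a => ⟨a.1, a.1.2,
      mem_centralizer_singleton_iff.2 (congrArg Subtype.val (mem_centralizer_singleton_iff.1 a.2))⟩,
      fun _ => rfl, fun _ => rfl⟩) h5)

end

/-- Let G be a finite group, p a prime and P a Sylow p-subgroup of order at least p². Assume that G has no nontrivial normal subgroup of order prime to p, that the derived subgroup P' of P contains no nontrivial normal subgroup of G, and that G is not almost simple (there is no non-abelian simple normal subgroup of G with trivial centralizer). Then [P : P'] = p² if and only if some p-element x of G has centralizer whose order has p-part exactly p². -/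
theorem result {G : Type*} [Group G] [Finite G] (p : ℕ) [Fact p.Prime] (P : Sylow p G) (hbig : p ^ 2 ∣ Nat.card G) (hcore : Cfsg.pPrimeCore p G = ⊥)
    (hcore' : (⁅(P : Subgroup G), (P : Subgroup G)⁆).normalCore = ⊥) (hnas : ¬ ∃ S : Subgroup G, S.Normal ∧ IsSimpleGroup S ∧ ¬ IsMulCommutative S ∧ Subgroup.centralizer (S : Set G) = ⊥) :
    (⁅(P : Subgroup G), (P : Subgroup G)⁆).relIndex (P : Subgroup G) = p ^ 2 ↔
      ∃ x : G, (∃ k : ℕ, orderOf x = p ^ k) ∧ (Nat.card (Subgroup.centralizer ({x} : Set G))).factorization p = 2 := by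
  have hp : p.Prime := Fact.out
  have := P.isPGroup'.isNilpotent
  have hD : (⁅(P : Subgroup G), (P : Subgroup G)⁆).relIndex P = (commutator P).index := by
    rw [relIndex, subgroupOf_commutator' le_rfl le_rfl, subgroupOf_self, commutator_def]
  have hΦ := commutator_le_frattini_of_isNilpotent (P : Subgroup G)
  rw [hD]
  refine ⟨fun h => ?_, fun ⟨x, ⟨k, hk⟩, hx⟩ => ?_⟩
  swap
  · obtain ⟨g, -, hg⟩ := (sylIn_top P).exists_conj_le (IsPGroup.of_card
      ((Nat.card_zpowers x).trans hk)) le_top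
    have hy := hg (conj_mem_cj (g := g) (mem_zpowers x))
    have h1 := MaxCl.index_commutator_le_of_centralizer P.isPGroup' (x := ⟨_, hy⟩) (by
      obtain ⟨R, hR⟩ := exists_sylIn p (centralizer ({g * x * g⁻¹} : Set G))
      rw [← hx, ← card_cj g, cj_centralizer_singleton, ← hR.card_eq_pow_factorization,
        ← card_map_of_injective (subtype_injective _)]
      refine hR.card_le ((P.isPGroup'.to_subgroup _).map _) ?_
      rintro _ ⟨a, ha, rfl⟩
      exact mem_centralizer_singleton_iff.2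
        (congrArg Subtype.val (mem_centralizer_singleton_iff.1 ha)))
    obtain ⟨j, hj⟩ := P.isPGroup'.index (commutator P)
    rw [hj] at h1 ⊢
    obtain h2 | h2 := ((Nat.pow_le_pow_iff_right hp.one_lt).1 h1).eq_or_lt
    · rw [h2]
    have := isCyclic_of_index_dvd hΦ (hj ▸ (pow_dvd_pow p (by omega : j ≤ 1)).trans (pow_one p).dvd)
    rw [show commutator P = ⊥ from commutator_eq_bot_iff_le_centralizer.2 (le_centralizer _),
      index_bot, P.card_eq_multiplicity] at hj
    have h3 := (hp.pow_dvd_iff_le_factorization Nat.card_pos.ne').1 hbig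
    have h4 := Nat.pow_right_injective hp.two_le hj
    omega
  by_cases hna : IsMulCommutative (P : Subgroup G)
  · rw [show commutator P = ⊥ from commutator_eq_bot_iff_le_centralizer.2 (le_centralizer _),
      index_bot, P.card_eq_multiplicity] at h
    refine ⟨1, ⟨0, by simp⟩, ?_⟩
    rw [centralizer_eq_top_iff_subset.2 (by simp), card_top]
    exact Nat.pow_right_injective hp.two_le h
  have hgen : (frattini P).index = p ^ 2 := by
    obtain ⟨j, hj, h1⟩ := (Nat.dvd_prime_pow hp).1 (h ▸ index_dvd_of_le hΦ)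
    refine by_contra fun h2 => hna ?_
    have := isCyclic_of_index_dvd le_rfl (h1 ▸ (pow_dvd_pow p (Nat.le_of_lt_succ
      (hj.lt_of_ne fun h => h2 (h ▸ h1)))).trans (pow_one p).dvd)
    infer_instance
  have hΦ' : (frattini P).map (P : Subgroup G).subtype = ⁅(P : Subgroup G), (P : Subgroup G)⁆ := by
    rw [← map_subtype_commutator, eq_of_le_of_card_ge hΦ]
    have h1 := card_mul_index (frattini P)
    rw [hgen, ← h, ← card_mul_index (commutator P)] at h1
    exact (Nat.eq_of_mul_eq_mul_right (Nat.pos_of_ne_zero FiniteIndex.index_ne_zero) h1).le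
  obtain ⟨⟨hF, hmin⟩, -, htr⟩ := S4172.result p P hna hgen hcore (hΦ' ▸ hcore')
  set D := ⁅(P : Subgroup G), (P : Subgroup G)⁆
  set F := generalizedFittingSubgroup G
  have hle : ∀ U ≤ (P : Subgroup G), (P : Subgroup G) ≤ normalizer (U : Set G) → ¬ U ≤ D →
      D ≤ U := fun U hU hn h1 => by
    obtain ⟨x, hx⟩ := S4172.exists_sup_zpowers hgen (A := U.subgroupOf P) fun h2 => h1 (by
      rw [← hΦ', ← map_subgroupOf_eq_of_le hU]; exact map_mono h2)
    have := congrArg (map (P : Subgroup G).subtype) hx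
    rw [Subgroup.map_sup, map_subgroupOf_eq_of_le hU, MonoidHom.map_zpowers,
      ← MonoidHom.range_eq_map, range_subtype] at this
    exact S4172.commutator_le_of_sup hn this
  have hQ : ¬ (P : Subgroup G) ⊓ F ≤ D := fun h1 => hF (le_bot_iff.1 (hcore' ▸ normal_le_normalCore.2 (by
    have h2 := S4172.isPGroup_of_hasNPC hcore (Normal.isSubnormal inferInstance)
      (Tr.hasNPC_of_normal_inf_le_frattini P F (hΦ' ▸ inf_comm F ↑P ▸ h1))
    exact (le_inf (h2.le_sylow_of_normal P) le_rfl).trans h1)))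
  have nQ : (P : Subgroup G) ≤ normalizer (((P : Subgroup G) ⊓ F : Subgroup G) : Set G) :=
    MSS.le_normalizer_inf le_normalizer le_normalizer_of_normal
  have hDQ := hle _ inf_le_left nQ hQ
  have hidx : ¬ (P : Subgroup G) ≤ F → D.relIndex ((P : Subgroup G) ⊓ F) = p ∧ ((P : Subgroup G) ⊓ F).relIndex P = p :=
    fun h1 => (hp.mul_eq_prime_sq_iff (mt relIndex_eq_one.1 hQ) (mt relIndex_eq_one.1
      fun h => h1 (h.trans inf_le_right))).1
      ((relIndex_mul_relIndex _ _ _ hDQ inf_le_left).trans (hD.trans h))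
  by_cases hc : IsMulCommutative F
  · have := isMulCommutative_of_le_centralizer ((inf_le_right.trans (le_centralizer F)).trans
      (centralizer_le (inf_le_right : (P : Subgroup G) ⊓ F ≤ F)))
    exact final P (hidx fun h1 => hna (isMulCommutative_of_le_centralizer
      ((h1.trans (le_centralizer F)).trans (centralizer_le h1)))).2 h
  have hC : F ⊓ centralizer (F : Set G) = ⊥ := by_contra fun h1 =>
    hc (isMulCommutative_of_le_centralizer ((hmin _ inferInstance h1).trans inf_le_right))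
  have hE : F = layer G := by
    have h1 : pCore p G = ⊥ := by_contra fun h1 => by
      have h2 := (pCore_isPGroup p).to_le (hmin _ inferInstance h1)
      exact inf_centralizer_ne_bot h2 h2 le_normalizer hF hC
    rw [← sup_bot_eq (layer G), ← h1]
    exact fstar_eq_layer_sup_pCore hcore
  have hK : ∀ K : Subgroup G, IsComponent K → ¬ (P : Subgroup G) ≤ normalizer (K : Set G) := fun K hK h1 => by
    have h2 : F = K := (hE.le.trans (layer_le_iff.2 fun L hL => by
      obtain ⟨x, hx, rfl⟩ := htr hc K L hK hL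
      exact (cj_eq_of_mem_normalizer (h1 hx)).le)).antisymm hK.le_fstar
    subst h2
    refine hnas ⟨F, inferInstance, hK.isQuasisimple.isSimpleGroup_of_center_eq_bot ?_, hc,
      (inf_eq_right.2 centralizer_fstar_le).symm.trans hC⟩
    exact (map_eq_bot_iff_of_injective _ (subtype_injective F)).1 ((map_center_subtype F).trans hC)
  obtain ⟨K, hK1, hK2⟩ : ∃ K : Subgroup G, IsComponent K ∧ ¬ (P : Subgroup G) ⊓ K ≤ D := by
    by_contra! h1
    obtain ⟨Y, hY, hm⟩ := (Set.toFinite {Y | Y ≤ F ∧ F ≤ normalizer (Y : Set G) ∧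
      (P : Subgroup G) ⊓ F ⊓ Y ≤ D}).exists_maximal ⟨⊥, bot_le, le_normalizer_of_normal, by simp⟩
    refine hQ (le_trans (le_inf le_rfl (inf_le_right.trans (hE.le.trans (layer_le_iff.2
      fun K hK => le_sup_right.trans (hm ⟨sup_le hY.1 hK.le_fstar, MSS.le_normalizer_sup hY.2.1
        (hE.le.trans hK.layer_le_normalizer), ?_⟩ le_sup_left))))) hY.2.2)
    exact inf_sup_le (sylIn_inf_normal P F) hY.1 hK.le_fstar hY.2.1
      (hE.le.trans hK.layer_le_normalizer) hY.2.2 ((inf_le_inf_right _ inf_le_left).trans (h1 K hK))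
  obtain ⟨a, ha, haD⟩ := SetLike.not_le_iff_exists.1 hK2
  have hFK := hE.le.trans hK1.layer_le_normalizer
  obtain ⟨h1, h2⟩ := hidx fun h => hK K hK1 (h.trans hFK)
  have h3 : (P : Subgroup G) ⊓ normalizer (K : Set G) = (P : Subgroup G) ⊓ F := (Misc.eq_or_eq_of_relIndex_prime (h2.symm ▸ hp)
    (inf_le_inf_left _ hFK) inf_le_left).resolve_right fun h => hK K hK1 (inf_eq_left.1 h)
  have haQ : ∀ x ∈ (P : Subgroup G), x * a * x⁻¹ ∈ (P : Subgroup G) ⊓ F := fun x hx =>
    conj_mem_of_normalizes nQ hx ⟨ha.1, hK1.le_fstar ha.2⟩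
  have hgn : ∀ V : Subgroup G, (∀ x ∈ (P : Subgroup G), x * a * x⁻¹ ∈ V) → (P : Subgroup G) ⊓ F ≤ V :=
    fun V hV => by
      have h4 : a ∈ ⨆ x : P, zpowers (x * a * (x : G)⁻¹) :=
        mem_iSup_of_mem 1 (by simpa using mem_zpowers a)
      have h5 : ⨆ x : P, zpowers (x * a * (x : G)⁻¹) ≤ (P : Subgroup G) ⊓ F :=
        iSup_le fun x => zpowers_le.2 (haQ x x.2)
      refine ((Misc.eq_or_eq_of_relIndex_prime (h1.symm ▸ hp) (hle _ (h5.trans inf_le_left)
        (le_normalizer_of_cj_le fun y hy => ?_) fun h => haD (h h4)) h5).resolve_left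
        fun h => haD (h ▸ h4)).ge.trans (iSup_le fun x => zpowers_le.2 (hV x x.2))
      rw [cj_iSup]
      refine iSup_le fun x => le_iSup_of_le (⟨y, hy⟩ * x) (le_of_eq ?_)
      rw [cj_zpowers]
      simp [mul_assoc]
  have h4 : (P : Subgroup G) ⊓ F ⊓ centralizer {a} = (P : Subgroup G) ⊓ F := Fus.eq_of_le_sup_commutator
    (P.isPGroup'.to_le inf_le_left) inf_le_left (hgn _ fun x hx => by
      by_cases h5 : x ∈ normalizer (K : Set G)
      · have h6 := haQ 1 (one_mem _)
        rw [one_mul, inv_one, mul_one] at h6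
        rw [← inv_mul_cancel_right (x * a * x⁻¹) a]
        exact mul_mem (mem_sup_right (commutator_mem_commutator (h3.le ⟨hx, h5⟩) h6))
          (mem_sup_left ⟨h6, mem_centralizer_singleton_iff.2 rfl⟩)
      · exact mem_sup_left ⟨haQ x hx, mem_centralizer_singleton_iff.2
          (commutator_eq_bot_iff_le_centralizer.1 (hK1.commutator_conj_eq_bot h5) ha.2 _
            (conj_mem_cj ha.2))⟩)
  have : IsMulCommutative ((P : Subgroup G) ⊓ F : Subgroup G) :=
    isMulCommutative_of_le_centralizer (hgn _ fun x hx y hy => by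
      have h5 := mem_centralizer_singleton_iff.1 (h4.ge (conj_mem_of_normalizes' nQ hx hy)).2
      rw [← mul_left_inj x, ← mul_right_inj x⁻¹]
      simpa [mul_assoc] using h5)
  exact final P h2 h

end Cfsg.Agent.S4587
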