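import Cfsg.Statements.S4931
import Cfsg.Agent.BLK.IsaacsSmith
import Cfsg.Agent.CHAR.FrobGroup
-- import your own Cfsg.Agent.* helpers here

set_option autoImplicit false
open Cfsg

namespace Cfsg.Agent.S4931

/-- Let G be a finite group, p a prime and P a Sylow p-subgroup of G with normalizer N. Then every irreducible complex character of N of degree not divisible by p is the restriction of an irreducible character of G if and only if there is a normal subgroup K of G with KN = G and K ∩ N = 1. -/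
theorem result {G : Type*} [Group G] [Finite G] (p : ℕ) [Fact p.Prime] (P : Sylow p G) :
    (∀ θ : Cfsg.IrrCharacter ↥(Subgroup.normalizer ((P : Subgroup G) : Set G)), ¬ p ∣ Cfsg.charDegree (θ : ↥(Subgroup.normalizer ((P : Subgroup G) : Set G)) → ℂ) →
        ∃ χ : Cfsg.IrrCharacter G, ∀ x : ↥(Subgroup.normalizer ((P : Subgroup G) : Set G)), (χ : G → ℂ) x = (θ : ↥(Subgroup.normalizer ((P : Subgroup G) : Set G)) → ℂ) x) ↔
      ∃ K : Subgroup G, K.Normal ∧ K ⊔ Subgroup.normalizer ((P : Subgroup G) : Set G) = ⊤ ∧ K ⊓ Subgroup.normalizer ((P : Subgroup G) : Set G) = ⊥ := by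
  constructor
  · intro h
    obtain ⟨L, hL, h1, -, h2, h3⟩ := CL.Blk.exists_normal_of_ext P ⊥
      (by rw [Subgroup.card_bot, Nat.dvd_one]; exact (Fact.out : p.Prime).ne_one)
      (fun θ hθ _ => h θ hθ)
    refine ⟨L, hL, h2, eq_bot_iff.2 fun x hx => ?_⟩
    rw [sup_bot_eq] at h3
    rw [← CL.inf_eq_bot_of_isPGroup_of_coprime P.isPGroup'
      ((Nat.Prime.coprime_iff_not_dvd Fact.out).2 h1).symm]
    exact ⟨h3 (x := ⟨x, hx.2⟩) hx.1, hx.1⟩
  · rintro ⟨K, hK, h1, h2⟩ θ -
    obtain ⟨χ, hχ, -, e⟩ := CL.Char.exists_irr_ext_of_complement h2 h1 θ.2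
    exact ⟨⟨χ, hχ⟩, e⟩

end Cfsg.Agent.S4931
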