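import Cfsg.Statements.S4930
import Cfsg.Agent.S4931
import Cfsg.Agent.BLK.NW
import Cfsg.Agent.BLK.GRoots
import Cfsg.Agent.BLK.RegCent

set_option autoImplicit false
open Cfsg

namespace Cfsg.Agent.S4930

open CL.Char CL.Blk

theorem fib {ι : Type*} (s : Finset ι) (d : ι → ℕ) (c : ℕ) (h : ∑ i ∈ s, d i ≤ c) :
    ∑ i ∈ s, d i ^ 2 ≤ c ^ 2 ∧ (∑ i ∈ s, d i ^ 2 = c ^ 2 → ∀ i ∈ s, 0 < d i → d i = c) := by
  classical
  have h0 : ∀ t : Finset ι, ∑ i ∈ t, d i ^ 2 ≤ (∑ i ∈ t, d i) ^ 2 := fun t =>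
    Finset.sum_sq_le_sq_sum_of_nonneg fun _ _ => Nat.zero_le _
  refine ⟨(h0 s).trans (Nat.pow_le_pow_left h 2), fun e i hi hp => ?_⟩
  have h1 := h0 (s.erase i)
  rw [← Finset.add_sum_erase _ _ hi] at h e
  generalize ∑ j ∈ s.erase i, d j = r at h h1
  generalize ∑ j ∈ s.erase i, d j ^ 2 = r2 at e h1
  obtain ⟨t, rfl⟩ : ∃ t, c = d i + r + t := ⟨c - (d i + r), by omega⟩
  by_contra hne
  have : 0 < r + t := by omega
  nlinarith [Nat.mul_pos hp this]

variable {G : Type*} [Group G] [Finite G] {p : ℕ}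

open Classical in
theorem main_le (hp : p.Prime) (N : Subgroup G) (hN : ¬ p ∣ N.index) :
    ∑ ψ : IrrCharacter N with ¬ p ∣ charDegree ψ.1, charDegree ψ.1 ^ 2 ≤
      ∑ χ : IrrCharacter G with ¬ p ∣ charDegree χ.1, charDegree χ.1 ^ 2 ∧
    (∑ ψ : IrrCharacter N with ¬ p ∣ charDegree ψ.1, charDegree ψ.1 ^ 2 =
      ∑ χ : IrrCharacter G with ¬ p ∣ charDegree χ.1, charDegree χ.1 ^ 2 →
      ∀ ψ : IrrCharacter N, ¬ p ∣ charDegree ψ.1 → ∃ χ : IrrCharacter G, ∀ x : N, χ.1 x = ψ.1 x) := by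
  have := Fintype.ofFinite N
  have hex : ∀ ψ : IrrCharacter N, ∃ χ : IrrCharacter G, ¬ p ∣ charDegree ψ.1 →
      ¬ p ∣ charDegree χ.1 ∧ classInner (fun x : N => χ.1 x) ψ.1 ≠ 0 := fun ψ => by
    by_cases h : p ∣ charDegree ψ.1
    · exact ⟨CL.Char.irrOne G, fun h' => absurd h h'⟩
    · obtain ⟨χ, h1, h2, h3⟩ := CL.NW.exists_over_not_dvd hp hN ψ.2 h
      exact ⟨⟨χ, h1⟩, fun _ => ⟨h2, h3⟩⟩
  choose f hf using hex
  set T := Finset.univ.filter fun ψ : IrrCharacter N => ¬ p ∣ charDegree ψ.1 with hT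
  set S := Finset.univ.filter fun χ : IrrCharacter G => ¬ p ∣ charDegree χ.1 with hS
  have hmap : ∀ ψ ∈ T, f ψ ∈ S := fun ψ h =>
    Finset.mem_filter.2 ⟨Finset.mem_univ _, (hf ψ (Finset.mem_filter.1 h).2).1⟩
  have hle : ∀ χ : IrrCharacter G, ∑ ψ ∈ T with f ψ = χ, charDegree ψ.1 ≤ charDegree χ.1 := by
    intro χ
    obtain ⟨n, hn, hs⟩ := (χ.2.isCharacter.res N).exists_nat_coeffs
    have h1 := congrFun hs 1
    rw [Finset.sum_apply] at h1
    have h2 : charDegree χ.1 = ∑ ψ : IrrCharacter N, n ψ * charDegree ψ.1 := by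
      refine Nat.cast_injective (R := ℂ) ?_
      push_cast
      rw [← irr_one_eq]
      refine h1.trans (Finset.sum_congr rfl fun ψ _ => ?_)
      rw [Pi.smul_apply, irr_one_eq, smul_eq_mul]
    rw [h2]
    refine le_trans (Finset.sum_le_sum fun ψ hψ => ?_) (Finset.sum_le_sum_of_subset
      (f := fun ψ : IrrCharacter N => n ψ * charDegree ψ.1) (Finset.subset_univ _))
    obtain ⟨h3, rfl⟩ := Finset.mem_filter.1 hψ
    have h4 := (hf ψ (Finset.mem_filter.1 h3).2).2
    rw [hn] at h4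
    exact Nat.le_mul_of_pos_left _ (Nat.pos_of_ne_zero (by simpa using h4))
  rw [← Finset.sum_fiberwise_of_maps_to hmap]
  have hle2 : ∀ χ ∈ S, ∑ ψ ∈ T with f ψ = χ, charDegree ψ.1 ^ 2 ≤ charDegree χ.1 ^ 2 :=
    fun χ _ => (fib _ _ _ (hle χ)).1
  refine ⟨Finset.sum_le_sum hle2, fun e ψ hψ => ⟨f ψ, ?_⟩⟩
  have hψT : ψ ∈ T := Finset.mem_filter.2 ⟨Finset.mem_univ _, hψ⟩
  have h5 := (fib _ _ _ (hle (f ψ))).2 ((Finset.sum_eq_sum_iff_of_le hle2).1 e _ (hmap ψ hψT)) ψ
    (Finset.mem_filter.2 ⟨hψT, rfl⟩) (charDegree_pos ψ)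
  refine congrFun (((f ψ).2.isCharacter.res N).eq_of_inner_ne_zero_of_degree ψ.2 (hf ψ hψ).2 ?_)
  rw [irr_one_eq ψ, h5, ← irr_one_eq]
  rfl

open Classical in
theorem sum_norm [hp : Fact p.Prime] (Q : Subgroup G) [Q.Normal] (hQ : IsPGroup p Q)
    (hi : ¬ p ∣ Q.index) :
    ∑ ψ : IrrCharacter G with ¬ p ∣ charDegree ψ.1, charDegree ψ.1 ^ 2 = (⁅Q, Q⁆ : Subgroup G).index := by
  refine Nat.cast_injective (R := ℂ) ?_
  rw [← sum_ker_degree_sq]
  push_cast
  refine Finset.sum_congr (Finset.filter_congr fun ψ _ => ⟨fun h => ?_, fun h hd =>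
    hi (hd.trans (charDegree_dvd_index_of_commutator_ker Q ψ.2 h))⟩) fun ψ _ => by
      rw [irr_one_eq]
  have := Fintype.ofFinite Q
  have := Fintype.ofFinite (⁅Q, Q⁆ : Subgroup G)
  obtain ⟨θ, hθ, hne⟩ := ψ.2.exists_under_res Q
  have h1 := degree_dvd_of_under ψ.2 hθ hne (irr_one_eq ψ) (irr_one_eq ⟨θ, hθ⟩)
  obtain ⟨k, hk⟩ := hQ.exists_card_eq
  obtain ⟨j, -, hj⟩ := (Nat.dvd_prime_pow hp.out).1 (hk ▸ charDegree_dvd_card ⟨θ, hθ⟩)
  have h2 : j = 0 := by
    by_contra h0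
    exact h ((hj ▸ dvd_pow_self p h0 : p ∣ _).trans h1)
  obtain ⟨l, rfl⟩ := hθ.isCharacter.exists_hom ((irr_one_eq ⟨θ, hθ⟩).trans (by
    rw [hj, h2, pow_zero, Nat.cast_one]))
  have hle : (⁅Q, Q⁆ : Subgroup G) ≤ Q := Subgroup.commutator_le_left _ _
  refine (inner_res_one_ne_zero_iff ψ.2).1 ?_
  refine inner_comp_ne_zero_of_constituent (Subgroup.inclusion hle) (ψ.2.isCharacter.res Q) hθ hne
    isCharacter_one ?_
  have : (fun x : (⁅Q, Q⁆ : Subgroup G) => ((l (Subgroup.inclusion hle x) : ℂˣ) : ℂ)) = fun _ => 1 := by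
    funext x
    have hx : x.1 ∈ (commutator Q).map Q.subtype := by
      rw [Subgroup.map_subtype_commutator]; exact x.2
    obtain ⟨y, hy, e⟩ := hx
    have : Subgroup.inclusion hle x = y := Subtype.ext e.symm
    rw [this, show l y = 1 from Abelianization.commutator_subset_ker l hy, Units.val_one]
  rw [this, isIrrCharacter_one.inner_self]
  exact one_ne_zero

theorem ker_of_fpf [hp : Fact p.Prime] (K P : Subgroup G) [hK : K.Normal] (hP : IsPGroup p P)
    (h : K ⊓ Subgroup.centralizer (P : Set G) = ⊥) (χ : IrrCharacter G)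
    (hd : ¬ p ∣ charDegree χ.1) : ∀ k ∈ K, χ.1 k = χ.1 1 := by
  classical
  by_contra hne
  have := Fintype.ofFinite K
  obtain ⟨M, hM⟩ := CL.Glb.exists_isPModular hp.out
  have h0 := χ.2.sum_coset_eq_zero K hne 1
  simp only [mul_one] at h0
  let : MulAction P K := MulAction.compHom K (MulAut.conjNormal.comp P.subtype : P →* MulAut K)
  have hsm : ∀ (u : P) (x : K), ((u • x : K) : G) = u * x * (u : G)⁻¹ := fun _ _ => rfl
  have h1 := sum_sub_sum_fixed_mem hM hP (fun x : K => χ.1 x) (fun x => irr_mem_V χ _)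
    (fun u x => by rw [hsm]; exact χ.2.isClassFunction _ _)
  have h2 : Finset.univ.filter (fun x : K => ∀ u : P, u • x = x) = {1} := by
    ext x
    simp only [Finset.mem_filter, Finset.mem_univ, true_and, Finset.mem_singleton]
    refine ⟨fun hx => Subtype.ext ?_, fun hx u => by rw [hx]; exact Subtype.ext (by simp [hsm])⟩
    refine (Subgroup.mem_bot).1 (h ▸ ⟨x.2, fun u hu => ?_⟩)
    have := congrArg Subtype.val (hx ⟨u, hu⟩)
    rw [hsm] at this
    exact mul_inv_eq_iff_eq_mul.1 this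
  rw [h0, h2, Finset.sum_singleton, zero_sub, neg_mem_iff, Subgroup.coe_one, irr_one_eq,
    natCast_mem_nonunits_iff hM] at h1
  exact hd h1

/-- Let G be a finite group, P a Sylow 2-subgroup of G with normalizer N, and P′ the commutator subgroup of P. Then the sum of the squares of the degrees of the irreducible complex characters of G of odd degree is at least the index of P′ in N (the order of N divided by the order of P′), and equality holds if and only if N has a normal complement in G: a normal subgroup K of G with K ∩ N = 1 and KN = G. -/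
theorem result {G : Type*} [Group G] [Finite G] (P : Sylow 2 G) :
    Nat.card (Subgroup.normalizer ((P : Subgroup G) : Set G)) ≤ Nat.card (commutator ↥P) * (∑ᶠ χ : {χ : Cfsg.IrrCharacter G // ¬ 2 ∣ Cfsg.charDegree (χ : G → ℂ)}, Cfsg.charDegree (χ.1 : G → ℂ) ^ 2) ∧
    (Nat.card (Subgroup.normalizer ((P : Subgroup G) : Set G)) = Nat.card (commutator ↥P) * (∑ᶠ χ : {χ : Cfsg.IrrCharacter G // ¬ 2 ∣ Cfsg.charDegree (χ : G → ℂ)}, Cfsg.charDegree (χ.1 : G → ℂ) ^ 2) ↔
      ∃ K : Subgroup G, K.Normal ∧ K ⊓ Subgroup.normalizer ((P : Subgroup G) : Set G) = ⊥ ∧ K ⊔ Subgroup.normalizer ((P : Subgroup G) : Set G) = ⊤) := by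
  classical
  have hS := Cfsg.Agent.S4931.result 2 P
  have hPN : (P : Subgroup G) ≤ Subgroup.normalizer ((P : Subgroup G) : Set G) :=
    Subgroup.le_normalizer
  have hCN : Subgroup.centralizer ((P : Subgroup G) : Set G) ≤
      Subgroup.normalizer ((P : Subgroup G) : Set G) := Subgroup.centralizer_le_normalizer _
  have hQn : ((P : Subgroup G).subgroupOf (Subgroup.normalizer ((P : Subgroup G) : Set G))).Normal :=
    Subgroup.normal_in_normalizer
  generalize Subgroup.normalizer ((P : Subgroup G) : Set G) = N at hS hPN hCN hQn ⊢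
  have hi : ¬ 2 ∣ N.index := fun h => P.not_dvd_index (h.trans (Subgroup.index_dvd_of_le hPN))
  have h1 := sum_norm (p := 2) ((P : Subgroup G).subgroupOf N)
    (P.isPGroup'.of_equiv (Subgroup.subgroupOfEquivOfLe hPN).symm)
    (fun h => P.not_dvd_index (h.trans (Subgroup.relIndex_dvd_index_of_le hPN)))
  have h2 : Nat.card (@commutator P (by infer_instance : Group P)) = Nat.card (⁅(P : Subgroup G).subgroupOf N,
      (P : Subgroup G).subgroupOf N⁆ : Subgroup N) := by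
    change Nat.card (commutator (P : Subgroup G)) = _
    rw [← Subgroup.card_map_of_injective (P : Subgroup G).subtype_injective,
      ← Subgroup.card_map_of_injective N.subtype_injective, Subgroup.map_commutator,
      Subgroup.map_subtype_commutator, Subgroup.subgroupOf_map_subtype, inf_eq_left.2 hPN]
  have h3 : (∑ᶠ χ : {χ : IrrCharacter G // ¬ 2 ∣ charDegree (χ : G → ℂ)},
      charDegree (χ.1 : G → ℂ) ^ 2) =
      ∑ χ : IrrCharacter G with ¬ 2 ∣ charDegree χ.1, charDegree χ.1 ^ 2 := by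
    rw [finsum_eq_sum_of_fintype]
    exact (Finset.sum_subtype _ (by simp) fun χ : IrrCharacter G => charDegree χ.1 ^ 2).symm
  obtain ⟨h4, h5⟩ := main_le Nat.prime_two N hi
  rw [h3]
  erw [h2]
  rw [← Subgroup.card_mul_index (⁅(P : Subgroup G).subgroupOf N,
      (P : Subgroup G).subgroupOf N⁆ : Subgroup N), ← h1]
  refine ⟨Nat.mul_le_mul_left _ h4, fun e => ?_, fun ⟨K, hK, e1, e2⟩ => ?_⟩
  · obtain ⟨K, hK, e1, e2⟩ := hS.1 (h5 (Nat.eq_of_mul_eq_mul_left Nat.card_pos e))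
    exact ⟨K, hK, e2, e1⟩
  · congr 1
    refine le_antisymm h4 ?_
    have hk := ker_of_fpf K P P.isPGroup' (eq_bot_iff.2 (e1 ▸ inf_le_inf_left _ hCN))
    let r : IrrCharacter G → IrrCharacter N := fun χ =>
      if h : 2 ∣ charDegree χ.1 then CL.Char.irrOne N else ⟨_, χ.2.res_irr_of_ker e2 (hk χ h)⟩
    have hr : ∀ χ, ¬ 2 ∣ charDegree χ.1 → ∀ x : N, χ.1 x = (r χ).1 x := fun χ h x => by
      simp only [r, dif_neg h]
    have hinj : Set.InjOn r (Finset.univ.filter fun χ : IrrCharacter G => ¬ 2 ∣ charDegree χ.1) := by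
      intro a ha b hb e
      have ha' := (Finset.mem_filter.1 ha).2
      have hb' := (Finset.mem_filter.1 hb).2
      refine Subtype.ext (funext fun g => ?_)
      obtain ⟨k, hkK, n, hn, rfl⟩ := Subgroup.mem_sup_of_normal_left.1
        (show g ∈ K ⊔ N by rw [e2]; trivial)
      rw [a.2.isCharacter.apply_ker_mul (hk a ha' k hkK),
        b.2.isCharacter.apply_ker_mul (hk b hb' k hkK), hr a ha' ⟨n, hn⟩, hr b hb' ⟨n, hn⟩, e]
    calc _ = ∑ χ : IrrCharacter G with ¬ 2 ∣ charDegree χ.1, charDegree (r χ).1 ^ 2 :=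
          Finset.sum_congr rfl fun χ h => by
            rw [charDegree_eq_of_ext (hr χ (Finset.mem_filter.1 h).2)]
      _ = _ := (Finset.sum_image (f := fun ψ : IrrCharacter N => charDegree ψ.1 ^ 2) hinj).symm
      _ ≤ _ := Finset.sum_le_sum_of_subset fun ψ hψ => by
          obtain ⟨χ, h, rfl⟩ := Finset.mem_image.1 hψ
          have h' := (Finset.mem_filter.1 h).2
          rw [charDegree_eq_of_ext (hr χ h')] at h'
          exact Finset.mem_filter.2 ⟨Finset.mem_univ _, h'⟩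

end Cfsg.Agent.S4930
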