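import Cfsg.Statements.S4591
import Cfsg.Agent.S4930
import Cfsg.Agent.PLOC.PFrattini

set_option autoImplicit false
open Cfsg

namespace Cfsg.Agent.S4591

open CL.Char CL.Blk

variable {G : Type*} [Group G] [Finite G] {p : ℕ}

theorem sum_ne [hp : Fact p.Prime] (P : Subgroup G) (hP : IsPGroup p P) (χ : IrrCharacter G)
    (hd : ¬ p ∣ charDegree χ.1) [Fintype (⁅P, P⁆ : Subgroup G)] :
    ∑ y : (⁅P, P⁆ : Subgroup G), χ.1 y ≠ 0 := by
  classical
  have := Fintype.ofFinite P
  obtain ⟨n, hn, hs⟩ := (χ.2.isCharacter.res P).exists_nat_coeffs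
  have h1 := congrFun hs 1
  rw [Finset.sum_apply] at h1
  have h2 : charDegree χ.1 = ∑ ψ : IrrCharacter P, n ψ * charDegree ψ.1 := by
    refine Nat.cast_injective (R := ℂ) ?_
    push_cast
    rw [← irr_one_eq]
    refine h1.trans (Finset.sum_congr rfl fun ψ _ => ?_)
    rw [Pi.smul_apply, irr_one_eq, smul_eq_mul]
  obtain ⟨θ, hθ⟩ : ∃ θ : IrrCharacter P, ¬ p ∣ n θ * charDegree θ.1 := by
    by_contra! h
    exact hd (h2 ▸ Finset.dvd_sum fun θ _ => h θ)
  have hne : classInner (fun x : P => χ.1 x) θ.1 ≠ 0 := by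
    rw [hn]
    intro h
    exact hθ (by rw [Nat.cast_eq_zero.1 h]; simp)
  obtain ⟨k, hk⟩ := hP.exists_card_eq
  obtain ⟨j, -, hj⟩ := (Nat.dvd_prime_pow hp.out).1 (hk ▸ charDegree_dvd_card θ)
  have h2 : j = 0 := by
    by_contra h0
    exact hθ ((hj ▸ dvd_pow_self p h0 : p ∣ _).mul_left _)
  obtain ⟨θ, hθi⟩ := θ
  obtain ⟨l, rfl⟩ := hθi.isCharacter.exists_hom ((irr_one_eq ⟨θ, hθi⟩).trans (by
    rw [hj, h2, pow_zero, Nat.cast_one]))
  have hle : (⁅P, P⁆ : Subgroup G) ≤ P := by
    rw [← Subgroup.map_subtype_commutator]; exact Subgroup.map_subtype_le _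
  have h3 := inner_comp_ne_zero_of_constituent (Subgroup.inclusion hle) (χ.2.isCharacter.res P)
    hθi hne isCharacter_one (by
      have : (fun x : (⁅P, P⁆ : Subgroup G) => ((l (Subgroup.inclusion hle x) : ℂˣ) : ℂ)) =
          fun _ => 1 := by
        funext x
        have hx : x.1 ∈ (commutator P).map P.subtype := by
          rw [Subgroup.map_subtype_commutator]; exact x.2
        obtain ⟨y, hy, e⟩ := hx
        have : Subgroup.inclusion hle x = y := Subtype.ext e.symm
        rw [this, show l y = 1 from Abelianization.commutator_subset_ker l hy, Units.val_one]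
      rw [this, isIrrCharacter_one.inner_self]
      exact one_ne_zero)
  intro h0
  apply h3
  simp only [classInner, map_one, mul_one]
  exact mul_eq_zero_of_right _ h0

theorem inf_norm [hp : Fact p.Prime] (P : Sylow p G) {x : G}
    (hx : ∀ χ : IrrCharacter G, ¬ p ∣ charDegree χ.1 → χ.1 x = χ.1 1)
    (hxN : x ∈ Subgroup.normalizer ((P : Subgroup G) : Set G)) :
    x ∈ ⁅(P : Subgroup G), (P : Subgroup G)⁆ := by
  have hPN : (P : Subgroup G) ≤ Subgroup.normalizer ((P : Subgroup G) : Set G) :=
    Subgroup.le_normalizer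
  have hQn : ((P : Subgroup G).subgroupOf (Subgroup.normalizer ((P : Subgroup G) : Set G))).Normal :=
    Subgroup.normal_in_normalizer
  generalize Subgroup.normalizer ((P : Subgroup G) : Set G) = N at hxN hPN hQn
  have := Fintype.ofFinite N
  have hi : ¬ p ∣ N.index := fun h => P.not_dvd_index (h.trans (Subgroup.index_dvd_of_le hPN))
  have h1 : (⟨x, hxN⟩ : N) ∈ ⁅(P : Subgroup G).subgroupOf N, (P : Subgroup G).subgroupOf N⁆ := by
    refine (mem_normal_iff_irr _).2 fun θ hθ hk => ?_
    obtain ⟨χ, h1, h2, h3⟩ := CL.NW.exists_over_not_dvd hp.out hi hθ fun hd =>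
      P.not_dvd_index ((hd.trans (charDegree_dvd_index_of_commutator_ker _ hθ hk)).trans
        (Subgroup.relIndex_dvd_index_of_le hPN))
    exact hθ.mem_charKer.1 ((h1.isCharacter.res N).charKer_le_of_inner_ne_zero hθ h3
      ((h1.isCharacter.res N).mem_charKer.2 (hx ⟨χ, h1⟩ h2)))
  have h2 := Subgroup.mem_map_of_mem N.subtype h1
  rwa [Subgroup.map_commutator, Subgroup.subgroupOf_map_subtype, inf_eq_left.2 hPN] at h2

/-- Let G be a finite group, p a prime and P a Sylow p-subgroup, and let N be the largest normal subgroup of G in which P has trivial centralizer (N is normal with C_N(P) = 1 and contains every normal subgroup with that property). Then the intersection of the kernels of the irreducible characters of G of degree prime to p is the normal core in G of the subgroup N·P' (P' the derived subgroup of P). In particular, when G has no nontrivial normal subgroup of order prime to p, that intersection is the normal core of P'. -/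
theorem result {G : Type*} [Group G] [Finite G] (p : ℕ) [Fact p.Prime] (P : Sylow p G) (N : Subgroup G) [N.Normal]
    (hN : N ⊓ Subgroup.centralizer ((P : Subgroup G) : Set G) = ⊥)
    (hmax : ∀ L : Subgroup G, L.Normal → L ⊓ Subgroup.centralizer ((P : Subgroup G) : Set G) = ⊥ → L ≤ N) :
    {g : G | ∀ χ : Cfsg.IrrCharacter G, ¬ p ∣ Cfsg.charDegree (χ : G → ℂ) → (χ : G → ℂ) g = (χ : G → ℂ) 1} =
      ((N ⊔ ⁅(P : Subgroup G), (P : Subgroup G)⁆).normalCore : Set G) := by
  classical
  have hp : p.Prime := Fact.out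
  have hPP : ⁅(P : Subgroup G), (P : Subgroup G)⁆ ≤ P := by
    rw [← Subgroup.map_subtype_commutator]; exact Subgroup.map_subtype_le _
  refine Set.Subset.antisymm (fun x hx => ?_) (fun x hx χ hχ => ?_)
  · set K := blockKerSub {χ : IrrCharacter G | ¬ p ∣ charDegree χ.1} with hK
    have hKn : K.Normal := inferInstance
    have hmem : ∀ g ∈ K, g ∈ Subgroup.normalizer ((P : Subgroup G) : Set G) →
        g ∈ ⁅(P : Subgroup G), (P : Subgroup G)⁆ := fun g hg h =>
      inf_norm P (mem_blockKerSub.1 hg) h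
    have h1 := CL.hasNPC_iff_not_dvd_card_pResidual.1 (CL.Tr.hasNPC_of_normal_inf_le_frattini P K
      fun g hg => CL.PG.commutator_le_frattini_map P.isPGroup'
        (hmem g hg.1 (Subgroup.le_normalizer hg.2)))
    set K0 := (pResidual p K).map K.subtype with hK0
    have hK0n : K0.Normal := inferInstance
    have hK0K : K0 ≤ K := Subgroup.map_subtype_le _
    have h2 : K0 ≤ N := by
      refine hmax K0 hK0n (eq_bot_iff.2 fun g hg => ?_)
      rw [← CL.inf_eq_bot_of_isPGroup_of_coprime (K := K0) P.isPGroup' (by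
        rw [hK0, Subgroup.card_map_of_injective K.subtype_injective]
        exact (hp.coprime_iff_not_dvd.2 h1).symm)]
      exact ⟨hPP (hmem g (hK0K hg.1) (Subgroup.centralizer_le_normalizer _ hg.2)), hg.1⟩
    obtain ⟨a, ha⟩ := CL.exists_pResidual_index (p := p) (G := K)
    have h3 : IsPGroup p (K.map (QuotientGroup.mk' K0)) := by
      rintro ⟨_, k, hk, rfl⟩
      refine ⟨a, Subtype.ext ?_⟩
      rw [Subgroup.coe_pow, ← map_pow, Subgroup.coe_one]
      refine (QuotientGroup.eq_one_iff _).2 ⟨⟨k, hk⟩ ^ p ^ a, ?_, rfl⟩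
      rw [← ha]
      exact Subgroup.pow_index_mem _ _
    have h4 : (K.map (QuotientGroup.mk' K0)).Normal := hKn.map _ (QuotientGroup.mk'_surjective _)
    have h5 := h3.le_sylow_of_normal (P.mapSurjective (QuotientGroup.mk'_surjective K0))
    refine (Subgroup.normal_le_normalCore (N := K)).2 (fun k hk => ?_) (mem_blockKerSub.2 hx)
    obtain ⟨y, hy, e⟩ := h5 (Subgroup.mem_map_of_mem _ hk)
    have h6 : y⁻¹ * k ∈ K0 := QuotientGroup.eq.1 e
    have h7 : y ∈ K := by
      have := mul_mem hk (inv_mem (hK0K h6))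
      simpa using this
    have := mul_mem (Subgroup.mem_sup_right (S := N) (hmem y h7 (Subgroup.le_normalizer hy)))
      (Subgroup.mem_sup_left (h2 h6))
    simpa using this
  · by_contra hne
    set L := (N ⊔ ⁅(P : Subgroup G), (P : Subgroup G)⁆).normalCore with hL
    have := Fintype.ofFinite L
    have := Fintype.ofFinite (⁅(P : Subgroup G), (P : Subgroup G)⁆ : Subgroup G)
    have h0 := χ.2.sum_coset_eq_zero L fun h => hne (h x hx)
    have h1 := Cfsg.Agent.S4930.ker_of_fpf N P P.isPGroup' hN χ hχ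
    have h2 : ∀ l : L, ∑ y : (⁅(P : Subgroup G), (P : Subgroup G)⁆ : Subgroup G), χ.1 (l * y) =
        ∑ y : (⁅(P : Subgroup G), (P : Subgroup G)⁆ : Subgroup G), χ.1 y := fun l => by
      obtain ⟨n, hn, z, hz, e⟩ := Subgroup.mem_sup_of_normal_left.1 (Subgroup.normalCore_le _ l.2)
      refine Fintype.sum_equiv (Equiv.mulLeft ⟨z, hz⟩) _ _ fun y => ?_
      rw [← e, mul_assoc, χ.2.isCharacter.apply_ker_mul (h1 n hn)]
      rfl
    have h3 : ∑ l : L, ∑ y : (⁅(P : Subgroup G), (P : Subgroup G)⁆ : Subgroup G), χ.1 (l * y) = 0 := by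
      rw [Finset.sum_comm]
      exact Finset.sum_eq_zero fun y _ => h0 y
    simp only [h2, Finset.sum_const, Finset.card_univ, nsmul_eq_mul, mul_eq_zero,
      Nat.cast_eq_zero, Fintype.card_ne_zero, false_or] at h3
    exact sum_ne (P : Subgroup G) P.isPGroup' χ hχ (by convert h3)

end Cfsg.Agent.S4591
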