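import Cfsg.Statements.S4724
import Cfsg.Agent.BLK.M1Ito2
import Cfsg.Agent.BLK.D1Three
import Cfsg.Agent.PERM.PrimeDeg3
import Cfsg.Agent.S4706
import Cfsg.Agent.S0806
import Cfsg.Agent.S0253

set_option autoImplicit false
open Cfsg

namespace Cfsg.Agent.S4724

open CL.M1 CL.D1T CL.Char CL.Blk Subgroup MulAction

/-- Let G be a transitive permutation group of prime degree p having exactly one irreducible character of degree p. Let P be a Sylow p-subgroup and suppose N_G(P) = P·E for a subgroup E with P ∩ E = 1, such that the normalizer of E has order 2·#E and E meets each of its conjugates by elements outside its normalizer trivially. Then p is 5, 7 or 11 and G is isomorphic to PSL(2, p). -/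
theorem result {α : Type*} [Fintype α] [DecidableEq α] {p : ℕ} [Fact p.Prime] (hα : Fintype.card α = p) (G : Subgroup (Equiv.Perm α)) [MulAction.IsPretransitive G α] (huniq : ∃! χ : Cfsg.IrrCharacter G, Cfsg.charDegree (χ : G → ℂ) = p) (P : Sylow p G) (E : Subgroup G) (hPE : (P : Subgroup G) ⊔ E = Subgroup.normalizer ((P : Subgroup G) : Set G)) (hPE' : (P : Subgroup G) ⊓ E = ⊥) (hNE : Nat.card (Subgroup.normalizer (E : Set G)) = 2 * Nat.card E) (hTI : ∀ g : G, g ∉ Subgroup.normalizer (E : Set G) → E ⊓ E.map (MulAut.conj g).toMonoidHom = ⊥) : (p = 5 ∨ p = 7 ∨ p = 11) ∧ ∃ (F : Type) (_ : Field F) (_ : Fintype F), Fintype.card F = p ∧ Nonempty (G ≃* Matrix.ProjectiveSpecialLinearGroup (Fin 2) F) := by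
  classical
  have hp : p.Prime := Fact.out
  have := Fintype.ofFinite G
  obtain ⟨hP, hC⟩ := CL.PermMod.sylow_prime_data hα P
  obtain ⟨x, h, hx⟩ := exists_P1 P hP
  obtain ⟨⟨ψ, hψ⟩, hd, hu⟩ := huniq
  replace hu : ∀ χ, IsIrrCharacter G χ → χ 1 = ψ 1 → χ = ψ := fun χ h1 h2 =>
    congrArg Subtype.val (hu ⟨χ, h1⟩ (by simpa [charDegree, h2] using hd))
  rw [hx, CL.Small.centralizer_zpowers_eq] at hC
  have h0 : ∀ g, p ∣ orderOf g → ψ g = 0 := fun g => hψ.eq_zero_of_defect_zero hp (k := 1) h.sq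
    (by rw [pow_one]; exact hd.symm.dvd)
  have hZ : PZ p x := ⟨h, fun g hg => by
    obtain ⟨j, rfl⟩ := mem_powers_iff_mem_zpowers.2
      (hC.le (CL.Small.mem_centralizer_singleton_iff'.2 hg))
    exact ⟨1, one_mem _, j, (one_mul _).symm⟩, fun hz => by
    obtain ⟨ω, c⟩ := exists_cen hψ
    simpa [hψ.one_ne_zero, h0 x⁻¹ (by simp [h.ord])] using c x hz x⁻¹⟩
  have hZ1 : ∀ z ∈ center G, z = 1 := fun z hz => by
    obtain ⟨j, rfl⟩ := mem_powers_iff_mem_zpowers.2 (hC.le (center_le_centralizer _ hz))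
    exact h.pow_eq_one_iff.2 (hZ.dvd_of_pow_mem hz)
  rw [hx] at hPE hPE'
  have hE : ¬ p ∣ Nat.card E := fun e => by
    obtain ⟨g, hg, e⟩ := CL.Small.exists_mem_orderOf_eq_prime _ p e
    have := hPE'.le ⟨h.mem_of_normalizer ⟨1, by rw [e, pow_one]⟩ (hPE.le (mem_sup_right hg)), hg⟩
    rw [mem_bot.1 this, orderOf_one] at e
    exact hp.one_lt.ne e
  obtain ⟨y, b, e, t, h1, hy⟩ : ∃ y b e t, Ex p x y b e t ∧ zpowers y = E := by
    obtain ⟨y, b, t, h1⟩ := exists_ex hZ
    obtain ⟨u, hu, v, hv, e⟩ := (coe_mul_of_right_le_normalizer_left _ _ (le_sup_right.trans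
      hPE.le)).le (hPE.ge h1.y_mem)
    obtain ⟨j, hj⟩ := mem_powers_iff_mem_zpowers.2 (inv_mem hu)
    obtain rfl : v = x ^ j * y := by rw [← e, show x ^ j = _ from hj]; simp
    have h2 := h1.of_mul j fun e => hE (e.trans (E.orderOf_dvd_natCard hv))
    refine ⟨_, _, _, _, h2, (zpowers_le.2 hv).antisymm fun g hg => ?_⟩
    obtain ⟨z, hz, i, k, rfl⟩ := h2.gen g (hPE.le (mem_sup_right hg))
    rw [hZ1 z hz, one_mul] at hg ⊢
    rw [mem_bot.1 (hPE'.le ⟨npow_mem_zpowers x k, (E.mul_mem_cancel_right (pow_mem hv i)).1 hg⟩),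
      one_mul]
    exact npow_mem_zpowers _ _
  have hye : y ^ e = 1 := hZ1 _ (h1.pow_mem_center dvd_rfl)
  have ho : orderOf y = e := Nat.dvd_antisymm (orderOf_dvd_of_pow_eq_one hye) h1.dvd_orderOf
  have he : e ≠ 1 := fun e1 => by
    rw [← hy, orderOf_eq_one_iff.1 (ho.trans e1), zpowers_one_eq_bot, normalizer_eq_top,
      card_top, card_bot] at hNE
    have := isCyclic_of_prime_card (p := 2) hNE
    exact hZ.nc (mem_center_iff.2 fun g => IsCyclic.isMulCommutative.is_comm.comm g x)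
  have he0 := h1.e_pos
  have hte := h1.te
  obtain ⟨μ, m1, m2, m3⟩ := h1.deg_p hψ hd
  have hG : commutator G = ⊤ := commutator_eq_top_iff_hom.2 fun lam => by
    obtain ⟨Q, hQ⟩ := h.exists_sylow
    have e1 := h1.apply_eq_one he lam
    have e2 := congrFun (hu _ (hψ.hom_mul lam) (by simp)) (y ^ 1)
    rw [mul_eq_right₀ (by
      rw [m2 1 (by simpa), pow_one]
      exact fun e => by simp [e, (orderOf_pos y).ne'] at m1), pow_one, Units.val_eq_one] at e2
    rw [← MonoidHom.ker_eq_top_iff, ← Q.normalizer_sup_eq_top' (N := lam.ker) (hQ ▸ zpowers_le.2 e1),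
      eq_comm, sup_eq_right]
    intro n hn
    obtain ⟨z, hz, i, j, rfl⟩ := h1.gen n (hQ ▸ hn)
    simp [hZ1 z hz, e1, e2]
  have hα' : Nat.card α = p := by rw [Nat.card_eq_fintype_card, hα]
  obtain ⟨a⟩ : Nonempty α := Fintype.card_pos_iff.1 (hα ▸ hp.pos)
  have : Nonempty α := ⟨a⟩
  have : IsPreprimitive G α := .of_prime_card (hα' ▸ hp)
  have : Nontrivial G := ⟨⟨x, 1, h.ne_one⟩⟩
  have hs : IsSimpleGroup G := ⟨fun K hKn => by
    by_cases h1 : p ∣ Nat.card K
    · exact Or.inr (eq_top_iff.2 (hG ▸ SelfCent.commutator_le ⟨h.ord, hC⟩ K h1))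
    · exact Or.inl (eq_bot_of_primitive α hα'.symm.dvd K hKn h1)⟩
  have hn : ¬ (zpowers x).Normal := fun e1 => by
    rcases e1.eq_bot_or_eq_top with e2 | e2
    · exact h.ne_one (mem_bot.1 (e2.le (mem_zpowers x)))
    · exact hZ.nc (mem_center_iff.2 fun g => ((hC.trans e2).ge (mem_top g) x rfl).symm)
  have hi : (stabilizer G a).index = p := (index_stabilizer_of_transitive G a).trans hα'
  have hK : ∀ a : α, ¬ p ∣ Nat.card (stabilizer G a) := fun a e => h.sq (by
    rw [← (stabilizer G a).card_mul_index, index_stabilizer_of_transitive, hα', sq]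
    exact Nat.mul_dvd_mul_right e _)
  have ht : Even t := by
    by_contra ht
    have h2 : Even e := by_contra fun h2 => by
      rcases hp.eq_two_or_odd' with h3 | h3
      · have := Nat.eq_one_of_mul_eq_one_left (show t * e = 1 by omega); omega
      · exact (Nat.not_even_iff_odd.2 h3) (hte ▸ ((Nat.not_even_iff_odd.1 ht).mul
          (Nat.not_even_iff_odd.1 h2)).add_one)
    have h3 := detChar_of_vanish (isCharacter_perm_sub_one (G := G) α) (g := y) (b := t) (by
      simp [ho, hα, ← hte]) (fun g hg hg1 => by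
        obtain ⟨i, rfl⟩ := mem_powers_iff_mem_zpowers.2 hg
        have hb : ∀ ω : α, Function.Bijective fun j : ZMod p => x ^ j.val • ω := fun ω =>
          (Fintype.bijective_iff_injective_and_card _).2 ⟨fun j k e => by_contra fun e1 => hK ω
            (h.orderOf_pow (P1.not_dvd_val (neg_add_eq_zero.not.2 e1)) ▸ orderOf_dvd_natCard _ (by
              rw [mem_stabilizer_iff, h.pow_val_add, mul_smul, ← show x ^ j.val • ω = x ^ k.val • ω from e,
                ← mul_smul, ← h.pow_val_add]; simp)), by simp [hα]⟩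
        have h3 : ∀ g : G, (Nat.card (fixedBy α g) : ℂ) = ∑ ω : α, if g • ω = ω then 1 else 0 :=
          fun g => by simp [Fintype.card_subtype]
        have h4 := Finset.sum_congr rfl fun (j : ZMod p) (_ : j ∈ Finset.univ) =>
          (isCharacter_perm (G := G) (X := α)).isClassFunction.eq_of_isConj (h1.isConj_mul (i := i)
            (fun e => hg1 (orderOf_dvd_iff_pow_eq_one.1 (ho ▸ e))) j.val)
        simp only [h3 (x ^ _ * _), mul_smul] at h4
        rw [Finset.sum_comm, Finset.sum_congr rfl fun ω _ =>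
          (hb _).sum_comp fun a => if a = ω then (1 : ℂ) else 0] at h4
        simpa [hα, sub_eq_zero, hp.ne_zero] using h4) (ho ▸ h2)
    rw [← detHom_apply, commutator_eq_top_iff_hom.1 hG (detHom _),
      (Nat.not_even_iff_odd.1 ht).neg_one_pow] at h3
    norm_num at h3
  have h2t : 2 ≤ t := by obtain ⟨m, rfl⟩ := ht; rcases m with _ | m <;> simp_all; omega
  have h2e := Nat.mul_le_mul_right e h2t
  by_cases he2 : e = 2
  · subst he2
    obtain h2 | ⟨n, F, _, _, h2, h3, ⟨f⟩⟩ := Cfsg.Agent.S4706.result (by omega) hα G P (by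
      rw [hx, h.card_normalizer, h1.cardA, hC, h.card])
    · exact absurd (hx ▸ h2) hn
    have h4 : (2 : F) = 0 := CL.GL2.two_eq_zero_of_even (h3 ▸ dvd_pow_self 2 (by rintro rfl; omega))
    have h5 := (Nat.card_congr f.toEquiv).trans CL.SL.card_SL_two
    rw [Nat.card_eq_fintype_card (α := F), h3] at h5
    have : Fact (Nat.Prime 2) := ⟨Nat.prime_two⟩
    obtain ⟨S, hS⟩ := (isPGroup_zpowers_of_pElt (p := 2) ⟨1, ho⟩).exists_le_sylow
    have h6 : ∀ g ∈ S, g * g = 1 := fun g hg => by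
      obtain ⟨k, hk⟩ := S.2 ⟨g, hg⟩
      simpa using congrArg f.symm (sq_eq_one_sl h4 k (f g) (by
        rw [← map_pow, show g ^ 2 ^ k = 1 from congrArg Subtype.val hk, map_one]))
    have h7 := card_le_of_le (H := S) (K := normalizer (E : Set G)) fun g hg => hy ▸
      P1.cent_le_norm y (CL.Small.mem_centralizer_singleton_iff'.2 (by
        have hy := hS (mem_zpowers y)
        rw [eq_inv_of_mul_eq_one_left (h6 _ (S.1.mul_mem hy hg)), mul_inv_rev,
          inv_eq_of_mul_eq_one_right (h6 _ hg), inv_eq_of_mul_eq_one_right (h6 _ hy)]))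
    have h8 := Nat.le_of_dvd Nat.card_pos ((S.pow_dvd_card_of_pow_dvd_card (n := n)) ⟨_, h5⟩)
    rw [hNE, ← hy, Nat.card_zpowers, ho] at h7
    obtain ⟨g⟩ := Cfsg.Agent.S0494.result (h5.trans (by rw [show 2 ^ n = 4 by omega]; rfl))
    obtain ⟨g'⟩ := Cfsg.Agent.S0253.result (F := ZMod p) (by rw [ZMod.card]; omega)
    exact ⟨by omega, ZMod p, inferInstance, inferInstance, ZMod.card p, ⟨g.trans g'.symm⟩⟩
  have hTI' : ∀ g, g ∉ normalizer (E : Set G) → ∀ k ∈ E, g * k * g⁻¹ ∈ E → k = 1 :=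
    fun g hg k hk hk' => conj_eq_one_iff.1 (mem_bot.1 ((hTI g hg).le ⟨hk', k, hk, rfl⟩))
  have hidx : E.relIndex (normalizer (E : Set G)) = 2 := by
    have := (E.subgroupOf (normalizer (E : Set G))).card_mul_index
    rw [hNE, Nat.card_congr (subgroupOfEquivOfLe le_normalizer).toEquiv, mul_comm 2] at this
    exact Nat.eq_of_mul_eq_mul_left Nat.card_pos this
  have hy2 : y ^ 2 ≠ 1 := fun e => by
    have := Nat.le_of_dvd two_pos (ho ▸ orderOf_dvd_of_pow_eq_one e); omega
  have hyE : y ∈ E := hy.le (mem_zpowers y)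
  have : IsCyclic E := hy ▸ inferInstance
  obtain ⟨lam, hl⟩ := @CommGroup.exists_apply_ne_one_of_hasEnoughRootsOfUnity E ℂ
    IsCyclic.commGroup _ _ _ (⟨y, hyE⟩ ^ 2) fun e => hy2 (congrArg Subtype.val e)
  obtain ⟨θ, a1, a2, a3, a4⟩ := exists_succ le_normalizer hidx lam hTI' (fun w hw hw' k hk =>
    inv_of_ti hy le_rfl hidx hTI' (fun e1 => by
      rcases (normalizer_eq_top_iff.1 e1).eq_bot_or_eq_top with e2 | e2
      · exact hy2 (by rw [mem_bot.1 (e2.le hyE), one_pow])
      · exact hE (e2 ▸ card_top (G := G) ▸ h.dvd)) le_normalizer hw hw' hk)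
    ⟨⟨y, hyE⟩, by rwa [← map_pow]⟩ hψ (fun e => by simpa [e] using h0 x h.ord.symm.dvd)
    (fun g => (hψ.isCharacter.apply_inv g).trans (congrFun (hu _ hψ.conj (by
      simp [hψ.apply_one_eq_charDegree])) g)) fun k hk hk1 => by
      obtain ⟨i, rfl⟩ := mem_powers_iff_mem_zpowers.2 (hy.ge hk)
      exact (m2 i fun e => hk1 (orderOf_dvd_iff_pow_eq_one.1 (ho ▸ e))).trans
        (by rw [m3 hG hye ht, one_pow])
  have hd' : charDegree θ = p + 1 := by
    rw [a1.apply_one_eq_charDegree, hψ.apply_one_eq_charDegree, show charDegree ψ = p from hd] at a2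
    exact_mod_cast a2
  obtain ⟨M, hM⟩ := CL.BS.exists_isPModular p hp
  have := charP_F hM
  have := isAlgClosed_F (M := M)
  obtain ⟨π, hπ⟩ := h1.exists_pgl_succ hye hG (by omega) ht hM a1 hd' a3 (hK a) (by
      by_contra h2
      have := (isIrrCharacter_one.isCharacter.ind (H := stabilizer G a)).degree_le_of_inner_ne_zero
        a1 (by
          rw [classInner_indFun_left _ _ a1.isClassFunction, classInner_def]
          exact mul_ne_zero (inv_ne_zero (card_ne_zero _)) (by simpa [← map_sum] using h2)) (m := p) (by simp [indFun_one, hi])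
        a1.apply_one_eq_charDegree
      omega) (c := lam (⟨y, hyE⟩ ^ 2)) (by
      rw [← Units.val_pow_eq_pow_val, ← map_pow, pow_right_comm,
        show (⟨y, hyE⟩ : E) ^ e = 1 from Subtype.ext hye]; simp) (by simpa using hl)
    (a4 (⟨y, hyE⟩ ^ 2) fun e => hy2 (congrArg Subtype.val e))
  obtain ⟨-, ⟨f⟩⟩ := (h.dickson (ρ := π) (π.ker_eq_bot_iff.1 (π.normal_ker.eq_bot_or_eq_top.resolve_right
    fun e => hπ (e.ge (mem_top x)))) hn
    (by omega)).resolve_left (by rw [h1.cardA]; omega)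
  refine ⟨by_contra fun h2 => ?_, ZMod p, inferInstance, inferInstance, ZMod.card p, ⟨f⟩⟩
  have := (Cfsg.Agent.S0806.result (ZMod.card p) (by
    have : p ≠ 9 := by rintro rfl; norm_num at hp
    simp; omega)).1 ((stabilizer G a).map f.toMonoidHom) fun e => by
      have := (index_map_equiv (stabilizer G a) f).symm.trans ((congrArg index e).trans index_top)
      omega
  rw [show ((stabilizer G a).map f.toMonoidHom).index = _ from index_map_equiv _ f] at this
  omega

end Cfsg.Agent.S4724
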