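import Cfsg.Statements.S4753
import Cfsg.Agent.FGS.Acd3
import Cfsg.Agent.TECH.S2L.Minimal
import Cfsg.Agent.S0494
import Cfsg.Agent.CLAS.SLBasic

set_option autoImplicit false
open Cfsg

namespace Cfsg.Agent.S4753

open Subgroup CL CL.Acd CL.GL2
open scoped MatrixGroups

theorem sixty {S : Type*} [Group S] [Finite S] [IsSimpleGroup S] (h : Nat.card S = 60) (F : Type)
    [Field F] [Fintype F] (hF : Fintype.card F = 4 ∨ Fintype.card F = 5) :
    Nonempty (S ≃* PSL(2, F)) := by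
  classical
  obtain ⟨a, ha, ha'⟩ := SL.exists_sq_ne_one_of_four_le_card (F := F)
    (by rw [Nat.card_eq_fintype_card]; omega)
  have : IsSimpleGroup PSL(2, F) :=
    SL.psl_isSimpleGroup_of_perfect (SL.commutator_eq_top_of_sq_ne_one ha ha')
  have h1 := gcd_mul_card_PSL2 (F := F)
  obtain ⟨e⟩ := S0494.result h
  obtain ⟨e'⟩ := S0494.result (G := PSL(2, F)) (by
    generalize Nat.card PSL(2, F) = n at h1
    rcases hF with hF | hF <;> rw [hF] at h1 <;> norm_num at h1 <;> omega)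
  exact ⟨e.trans e'.symm⟩

theorem list {S : Type*} [Group S] [Finite S] [IsSimpleGroup S] (h : S2L.MinList S) (hQ : Q S) :
    ∃ (F : Type) (_ : Field F) (_ : Fintype F), Nonempty (S ≃* PSL(2, F)) ∧
      (Fintype.card F = 7 ∨ ∃ r : ℕ, r.Prime ∧ Fintype.card F = 2 ^ r) := by
  classical
  rcases h with ⟨F, i1, i2, h, ⟨e⟩⟩ | ⟨F, _, _, h, ⟨e⟩⟩ | ⟨F, _, _, m, hm, -, hF, e⟩
  · have := e.symm.isSimpleGroup
    have h9 := fun h : ¬ 2 ∣ Fintype.card F => (hQ.of_surjective e.toMonoidHom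
      e.surjective).card_le_nine fun e => h (two_dvd_card_of_two_eq_zero e)
    rcases h with h | ⟨r, hr, h2, h⟩ | ⟨h1, h2, h3⟩ | h
    · exact ⟨F, _, _, ⟨e⟩, Or.inr h⟩
    · have := h9 (h ▸ (Odd.pow (by decide)).not_two_dvd_nat)
      have := Nat.pow_le_pow_right three_pos (show 3 ≤ r from hr.two_le.lt_of_ne' h2)
      omega
    · have := h9 (h1.odd_of_ne_two (by omega)).not_two_dvd_nat
      refine ⟨F, i1, i2, ⟨e⟩, Or.inl ?_⟩
      have : Fintype.card F ≠ 8 := fun h => by rw [h] at h1; norm_num at h1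
      omega
    · have := Fintype.ofFinite (GaloisField 2 2)
      have h4 : Fintype.card (GaloisField 2 2) = 2 ^ 2 := by
        rw [← Nat.card_eq_fintype_card, GaloisField.card 2 2 two_ne_zero]
      have h1 := gcd_mul_card_PSL2 (F := F)
      rw [h, ← Nat.card_congr e.toEquiv, show Nat.gcd 2 (5 - 1) = 2 from rfl] at h1
      exact ⟨_, _, _, sixty (by omega) _ (Or.inl h4), Or.inr ⟨2, Nat.prime_two, h4⟩⟩
  · exact absurd hQ (not_Q_psl33 h e)
  · exact absurd hQ (not_Q_sz ⟨F, _, _, m, hm, hF, e⟩)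

/-- Suppose every proper subgroup H of the finite group G has average irreducible character degree at most 2: the sum of the degrees of the irreducible characters of H is at most twice their number. Then G is solvable, or G is isomorphic to PSL₂(7), to PSL₂(2^q) for a prime q, or to SL₂(5). -/
theorem result {G : Type*} [Group G] [Finite G] (hSAD : ∀ H : Subgroup G, H ≠ ⊤ → (∑ᶠ χ : Cfsg.IrrCharacter ↥H, Cfsg.charDegree (χ : ↥H → ℂ)) ≤ 2 * Nat.card (Cfsg.IrrCharacter ↥H)) : Group.IsSolvable G ∨ Nonempty (G ≃* Matrix.ProjectiveSpecialLinearGroup (Fin 2) (ZMod 7)) ∨ (∃ (F : Type) (_ : Field F) (_ : Fintype F) (q : ℕ), q.Prime ∧ Fintype.card F = 2 ^ q ∧ Nonempty (G ≃* Matrix.ProjectiveSpecialLinearGroup (Fin 2) F)) ∨ Nonempty (G ≃* Matrix.SpecialLinearGroup (Fin 2) (ZMod 5)) := by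
  classical
  have hQ : Q G := fun H hH => of_le (hSAD H hH)
  refine or_iff_not_imp_left.2 fun hG => ?_
  obtain ⟨H, h1, h2, h3⟩ := S2L.exists_section hG
  have := h2.1
  obtain rfl : H = ⊤ := by
    by_contra h
    exact not_P (S4F.not_isSolvable_of_simple h2.2.1)
      ((hQ H h).of_surjective _ (QuotientGroup.mk'_surjective _))
  have hs := (QuotientGroup.mk'_surjective (frattini (⊤ : Subgroup G))).comp topEquiv.symm.surjective
  have hperf : Group.IsPerfect G := ⟨by
    by_contra h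
    have := h1 ((commutator G).subgroupOf ⊤) (mt subgroupOf_eq_top.1 (mt top_le_iff.1 h))
    have := isSolvable_of_mulEquiv (subgroupOfEquivOfLe (le_top (a := commutator G)))
    exact hG (Group.isSolvable_of_ker_le_range (commutator G).subtype (Abelianization.of)
      (by simp [Abelianization.ker_of]))⟩
  have key : ∀ (F : Type) [Field F] [Fintype F],
      ((⊤ : Subgroup G) ⧸ frattini (⊤ : Subgroup G) ≃* PSL(2, F)) →
      (∀ (G : Type u_1) [Group G] [Finite G] (π : G →* PSL(2, F)) p M, ¬ Cfg π p M) →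
      ∃ π : G →* PSL(2, F), Schur.IsCentralExt π := fun F _ _ e h => by
    have := e.symm.isSimpleGroup
    refine ⟨e.toMonoidHom.comp ((QuotientGroup.mk' _).comp (topEquiv (G := G)).symm.toMonoidHom),
      e.surjective.comp hs, ker_le_center h _ G _ rfl hQ hperf.commutator_eq_top
        (e.surjective.comp hs) ?_⟩
    have := frattini_nilpotent (G := (⊤ : Subgroup G))
    refine isNilpotent_of_le (isNilpotent_map (frattini (⊤ : Subgroup G)) (⊤ : Subgroup G).subtype)
      fun x hx => ⟨⟨x, trivial⟩, (QuotientGroup.eq_one_iff _).1 (e.map_eq_one_iff.1 hx), rfl⟩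
  have iso : ∀ {S : Type} [Group S] (π : G →* S), Schur.IsCentralExt π → Nat.card π.ker ≤ 1 →
      Nonempty (G ≃* S) := fun π h h1 => ⟨MulEquiv.ofBijective π
        ⟨(MonoidHom.ker_eq_bot_iff π).1 (eq_bot_of_card_le _ h1), h.surj⟩⟩
  obtain ⟨F, _, _, ⟨e⟩, h4⟩ := list h3 (hQ.of_surjective
    ((QuotientGroup.mk' _).comp (topEquiv (G := G)).symm.toMonoidHom) hs)
  have := e.symm.isSimpleGroup
  have hc : ¬ IsMulCommutative PSL(2, F) := fun h => h2.2.1
    ⟨⟨fun a b => e.injective (by rw [map_mul, map_mul, h.1.1])⟩⟩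
  rcases h4 with h4 | ⟨r, hr, h4⟩
  · obtain ⟨π, h⟩ := key F e fun _ _ _ _ _ _ => not_cfg_seven hc h4
    obtain ⟨f⟩ := iso π h (card_eq_one.2 (ker_eq_bot_seven hQ hperf h h4)).le
    exact Or.inl ⟨f.trans (Graph.pslCongr (ZMod.ringEquivOfPrime F (by norm_num) h4).symm)⟩
  obtain ⟨π, h⟩ := key F e fun _ _ _ _ _ _ => not_cfg_even hc hr.two_le h4
  refine Or.inr (or_iff_not_imp_left.2 fun h5 => ?_)
  replace h5 : ¬ Nat.card π.ker ≤ 1 := fun h6 => h5 ⟨F, _, _, r, hr, h4, iso π h h6⟩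
  have h6 : 2 ∣ Fintype.card F := h4 ▸ dvd_pow_self 2 hr.ne_zero
  obtain rfl : r = 2 := by
    by_contra h7
    have := Nat.pow_le_pow_right two_pos (show 3 ≤ r from hr.two_le.lt_of_ne' h7)
    exact h5 ((card_ker_le hperf h (by omega) (by omega)).1.trans
      (gcd_even (two_eq_zero_of_even h6)).le)
  have h7 := gcd_mul_card_PSL2 (F := F)
  rw [h4, show Nat.gcd 2 (2 ^ 2 - 1) = 1 from rfl, one_mul] at h7
  have : Fact (Nat.Prime 5) := ⟨by norm_num⟩
  obtain ⟨f⟩ := sixty h7 (ZMod 5) (Or.inr (ZMod.card 5))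
  have h8 : (f.toMonoidHom.comp π).ker = π.ker := Subgroup.ext fun x => f.map_eq_one_iff
  obtain ⟨h9, h10⟩ := card_ker_le (π := f.toMonoidHom.comp π) hperf
    ⟨f.surjective.comp h.surj, h8 ▸ h.central⟩ (by simp) (by simp)
  rw [h8, ZMod.card] at h9 h10
  exact h10 (le_antisymm h9 (not_le.1 h5))

end Cfsg.Agent.S4753
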