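import Cfsg.Statements.S4779
import Cfsg.Agent.ORD.RelDeg2

set_option autoImplicit false
open Cfsg

open CL.Ord.RD
namespace Cfsg.Agent.S4779

/-- Let N be a solvable normal subgroup of the finite group G contained in the derived subgroup of G, and consider the common-divisor graph on the relative degree set cd(G|N) (degrees of irreducible complex characters of G whose kernel does not contain N, two distinct degrees adjacent when not coprime). If this graph has two vertices that are not joined by any path, then there is a vertex a₀ such that any two distinct vertices in the component of a₀ are adjacent, and any two distinct vertices outside that component are adjacent or have a common neighbour (one component is complete, the other has diameter at most 2). -/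
theorem result {G : Type*} [Group G] [Finite G] (N : Subgroup G) [N.Normal] [Group.IsSolvable N] (hNG : N ≤ commutator G) (hdisc : ¬ (Cfsg.commonDivisorGraph.induce (Cfsg.relCharDegrees N)).Preconnected) : ∃ a₀ : ↥(Cfsg.relCharDegrees N), (∀ b c : ↥(Cfsg.relCharDegrees N), (Cfsg.commonDivisorGraph.induce (Cfsg.relCharDegrees N)).Reachable a₀ b → (Cfsg.commonDivisorGraph.induce (Cfsg.relCharDegrees N)).Reachable a₀ c → b ≠ c → (Cfsg.commonDivisorGraph.induce (Cfsg.relCharDegrees N)).Adj b c) ∧ (∀ b c : ↥(Cfsg.relCharDegrees N), ¬ (Cfsg.commonDivisorGraph.induce (Cfsg.relCharDegrees N)).Reachable a₀ b → ¬ (Cfsg.commonDivisorGraph.induce (Cfsg.relCharDegrees N)).Reachable a₀ c → b ≠ c → (Cfsg.commonDivisorGraph.induce (Cfsg.relCharDegrees N)).Adj b c ∨ ∃ d : ↥(Cfsg.relCharDegrees N), (Cfsg.commonDivisorGraph.induce (Cfsg.relCharDegrees N)).Adj b d ∧ (Cfsg.commonDivisorGraph.induce (Cfsg.relCharDegrees N)).Adj d c) := by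
  simp only [SimpleGraph.Preconnected, not_forall] at hdisc
  obtain ⟨x, y, hxy⟩ := hdisc
  have hlt : ⁅N, N⁆ < N := by
    have : Nontrivial N := (Subgroup.nontrivial_iff_ne_bot N).2 (by
      rintro rfl
      obtain ⟨χ, ⟨y, hy, h⟩, -⟩ := x.2
      exact h (by rw [Subgroup.mem_bot.1 hy]))
    rw [← N.range_subtype, MonoidHom.range_eq_map, ← Subgroup.map_commutator,
      Subgroup.map_subtype_lt_map_subtype]
    exact Group.IsSolvable.commutator_lt_top_of_nontrivial N
  obtain ⟨h1, h⟩ := split hNG hlt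
  obtain ⟨p, hp, hd⟩ := Nat.exists_prime_and_dvd h1.ne'
  obtain ⟨x, y, hxy, hy⟩ : ∃ x y : Cfsg.relCharDegrees N, ¬ R N x y ∧
      (y : ℕ).Coprime (commutator N).index := by
    rcases (h x x.2 y y.2).1 (fun r => hxy r.2.2) with k | k
    · exact ⟨y, x, fun r => hxy r.2.2.symm, k.1⟩
    · exact ⟨x, y, fun r => hxy r.2.2, k.1⟩
  have key : ∀ b : Cfsg.relCharDegrees N,
      (Cfsg.commonDivisorGraph.induce (Cfsg.relCharDegrees N)).Reachable x b → p ∣ b :=
    fun b hb => ((h b b.2 y y.2).1 fun r => hxy (R.trans ⟨x.2, b.2, hb⟩ r)).elim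
      (fun k => absurd hy (nc' hp.ne_one (k.2 p hp hd) hd)) fun k => k.2 p hp hd
  have adj : ∀ b c : Cfsg.relCharDegrees N, b ≠ c → ¬ (b : ℕ).Coprime c →
      (Cfsg.commonDivisorGraph.induce (Cfsg.relCharDegrees N)).Adj b c :=
    fun b c e k => ⟨fun e' => e (Subtype.ext e'), one_lt_gcd b.2 k⟩
  refine ⟨x, fun b c hb hc e => adj b c e (nc' hp.ne_one (key b hb) (key c hc)),
    fun b c hb hc e => ?_⟩
  have hb' : ¬ R N b x := fun r => hb r.2.2.symm
  rcases near _ N rfl inferInstance hNG b c x
    ((h b b.2 c c.2).2 x x.2 hb' fun r => hc r.2.2.symm) x.2 hb' with k | ⟨d, hd, k1, k2⟩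
  · exact Or.inl (adj b c e k)
  by_cases e1 : b = ⟨d, hd⟩
  · exact Or.inl (adj b c e (e1 ▸ k2))
  by_cases e2 : ⟨d, hd⟩ = c
  · exact Or.inl (adj b c e (e2 ▸ k1))
  exact Or.inr ⟨⟨d, hd⟩, adj _ _ e1 k1, adj _ _ e2 k2⟩

end Cfsg.Agent.S4779
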