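import Cfsg.Statements.S4818
import Cfsg.Agent.KGV.Core
import Cfsg.Agent.BLK.DefCard

set_option autoImplicit false
open Cfsg

namespace Cfsg.Agent.S4818

/-- Let p be a prime, G a finite p-solvable group, M a maximal ideal of the algebraic integers containing p, and B a p-block of G with defect group D. Then B contains at most as many irreducible characters as D has elements (Brauer's k(B) problem in the p-solvable case). -/
theorem result {G : Type*} [Group G] [Finite G] (p : ℕ) [Fact p.Prime] (hsolv : Cfsg.IsPSolvable p G) (M : Ideal Cfsg.AlgInt) (hM : Cfsg.IsPModular p M) (B : Set (Cfsg.IrrCharacter G)) (hB : Cfsg.IsPBlock M B) (D : Subgroup G) (hD : Cfsg.IsDefectGroup p M B D) : Nat.card B ≤ Nat.card D := by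
  rw [hD.card_eq_pow hM hB]
  clear hD
  refine CL.Blk.fong_induction hM (fun G _ _ B => Nat.card B ≤ p ^ blockDefect p B) ?_ ?_ G
    hsolv B hB
  · intro G _ _ _ _ θ _ B' B _ _ hfr ih
    rw [hfr.card, hfr.defect]
    exact ih
  · intro G _ _ _ hG θ hθ
    rw [CL.Blk.blockDefect_overSet hM (CL.IsPSolvable.isPConstrained hG) rfl hθ]
    have e : (Nat.card G).factorization p = (Nat.card (G ⧸ pPrimeCore p G)).factorization p := by
      rw [Subgroup.card_eq_card_quotient_mul_card_subgroup (pPrimeCore p G),
        Nat.factorization_mul Nat.card_pos.ne' Nat.card_pos.ne', Finsupp.add_apply,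
        Nat.factorization_eq_zero_of_not_dvd (CL.not_dvd_card_pPrimeCore p G), add_zero]
    rw [e]
    exact (CL.Ord.PC.card_overSet_le _ θ.2 hθ).trans
      (CL.KGV.k_le_of_core p _ _ (CL.IsPSolvable.quotient hG _) rfl
        (CL.pPrimeCore_quotient_pPrimeCore p G))

end Cfsg.Agent.S4818
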