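import Cfsg.Statements.S4848
import Cfsg.Agent.S4456
import Cfsg.Agent.S4558
import Cfsg.Agent.FGS.VanP
import Cfsg.Agent.FGS.ConjCover
import Cfsg.Agent.BLK.GCount
import Cfsg.Agent.CHAR.Galois

set_option autoImplicit false
open Cfsg

namespace Cfsg.Agent.S4848

open CL.Char CL.VanP Subgroup
open scoped commutatorElement Pointwise

universe u

/-- non-central elements of a `p`-group are vanishing -/
theorem van_p (p : ℕ) [Fact p.Prime] : ∀ (n : ℕ) (X : Type u) [Group X] [Finite X], IsPGroup p X → Nat.card X = n →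
    ∀ x : X, x ∉ center X → Van x := by
  intro n
  induction n using Nat.strong_induction_on with
  | _ n ih =>
  intro X _ _ hX hn x hx
  by_cases c : (x : X ⧸ center X) ∈ center (X ⧸ center X)
  · obtain ⟨g, hg⟩ : ∃ g, ⁅g, x⁆ ≠ 1 := by
      by_contra! h
      exact hx (mem_center_iff.2 fun g => commutatorElement_eq_one_iff_mul_comm.1 (h g))
    have hz : ⁅g, x⁆ ∈ center X := by
      rw [← QuotientGroup.eq_one_iff]
      show QuotientGroup.mk' _ ⁅g, x⁆ = 1
      rw [map_commutatorElement, commutatorElement_eq_one_iff_mul_comm]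
      exact mem_center_iff.1 c _
    obtain ⟨χ, hχ, k⟩ := exists_irr_not_mem_charKer hg
    obtain ⟨c, -, hc⟩ := hχ.center_le_charCenter hz
    refine ⟨χ, hχ, by_contra fun h0 => k fun y => ?_⟩
    have e := hc x
    rw [show ⁅g, x⁆ * x = g * x * g⁻¹ by rw [commutatorElement_def]; group, hχ.isClassFunction] at e
    have : c = 1 := mul_right_cancel₀ h0 (by rw [← e, one_mul])
    rw [hc, this, one_mul]
  · have : Nontrivial X := ⟨x, 1, fun e => hx (e ▸ one_mem _)⟩
    have := hX.center_nontrivial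
    have h1 : 1 < Nat.card (center X) := Finite.one_lt_card
    have h2 := card_eq_card_quotient_mul_card_subgroup (center X)
    have h3 : 0 < Nat.card (X ⧸ center X) := Nat.card_pos
    exact Van.of_quot (ih _ (by nlinarith) _ (hX.to_quotient _) rfl _ c)

/-- Let p be a prime and G a finite non-commutative group in which every vanishing element (an element at which some irreducible character is zero) has order a positive power of p. Then either G is a p-group, or the centre of G equals O_p(G) and G/Z(G) is a Frobenius group with a Frobenius complement of p-power order. -/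
theorem result {G : Type*} [Group G] [Finite G] (hna : ¬ IsMulCommutative G) (p : ℕ) [Fact p.Prime] (hvan : ∀ g : G, (∃ χ : Cfsg.IrrCharacter G, (χ : G → ℂ) g = 0) → ∃ m : ℕ, 1 ≤ m ∧ orderOf g = p ^ m) :
    IsPGroup p G ∨ (Subgroup.center G = Cfsg.pCore p G ∧ ∃ H : Subgroup (G ⧸ Subgroup.center G), Cfsg.IsFrobeniusComplement H ∧ IsPGroup p H) := by
  have hp : p.Prime := Fact.out
  have hv : ∀ g : G, Van g → ∃ m, g ^ p ^ m = 1 := fun g ⟨χ, hχ, h0⟩ => by
    obtain ⟨m, -, e⟩ := hvan g ⟨⟨χ, hχ⟩, h0⟩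
    exact ⟨m, by rw [← e, pow_orderOf_eq_one]⟩
  obtain ⟨N, hN, cop, k, hk⟩ := S4456.result (G := G) p hp fun χ h1 => by
    obtain ⟨g, h0⟩ := χ.2.exists_apply_eq_zero (by rw [χ.2.apply_one_eq_charDegree]; exact_mod_cast h1)
    obtain ⟨m, -, e⟩ := hvan g ⟨χ, h0⟩
    exact S4558.result p χ χ.2.isCharacter g ⟨m, e⟩ h0
  have pq : IsPGroup p (G ⧸ N) := IsPGroup.of_card hk
  by_cases h0 : N = ⊥
  · exact .inl (IsPGroup.of_card (by rw [← hk, h0, index_bot]))
  right
  obtain ⟨g, vg, gz⟩ : ∃ g : G, Van g ∧ g ∉ center G := by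
    obtain ⟨a, b, hab⟩ : ∃ a b : G, ⁅a, b⁆ ≠ 1 := by
      by_contra! h
      exact hna ⟨⟨fun a b => commutatorElement_eq_one_iff_mul_comm.1 (h a b)⟩⟩
    obtain ⟨χ, hχ, k⟩ := exists_irr_not_mem_charKer hab
    obtain ⟨g, hg⟩ := hχ.exists_apply_eq_zero fun e =>
      k (hχ.commutator_le_charKer_iff.2 e (commutator_mem_commutator (mem_top a) (mem_top b)))
    refine ⟨g, ⟨χ, hχ, hg⟩, fun c => ?_⟩
    obtain ⟨c, c1, hc⟩ := hχ.center_le_charCenter c
    have e := hc 1
    rw [mul_one, hg] at e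
    rcases mul_eq_zero.1 e.symm with e | e
    · rw [e] at c1; simp at c1
    · exact hχ.one_ne_zero e
  obtain ⟨P, gP⟩ : ∃ P : Sylow p G, g ∈ (P : Subgroup G) := by
    obtain ⟨m, e⟩ := hv g vg
    obtain ⟨j, -, ej⟩ := (Nat.dvd_prime_pow hp).1 (orderOf_dvd_of_pow_eq_one e)
    obtain ⟨P, hP⟩ := (IsPGroup.of_card (G := zpowers g) (by rw [Nat.card_zpowers, ej])).exists_le_sylow
    exact ⟨P, hP (mem_zpowers g)⟩
  have pw : ∀ a ∈ (P : Subgroup G), ∃ j, a ^ p ^ j = 1 := fun a ha =>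
    (P.isPGroup' ⟨a, ha⟩).imp fun _ e => congrArg Subtype.val e
  have PN : ∀ a ∈ (P : Subgroup G), a ∈ N → a = 1 := fun a ha hn =>
    (pw a ha).elim fun _ e => eq_one_of_pow cop hn e
  have dec : ∀ x : G, ∃ a ∈ N, ∃ y ∈ (P : Subgroup G), a * y = x := fun x => by
    have e := (P.mapSurjective (QuotientGroup.mk'_surjective N)).is_maximal' (pq.to_subgroup ⊤) le_top
    obtain ⟨y, hy, e⟩ : QuotientGroup.mk' N x ∈ (P : Subgroup G).map (QuotientGroup.mk' N) := e.le (mem_top _)
    refine ⟨x * y⁻¹, ?_, y, hy, by simp⟩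
    rw [← QuotientGroup.eq_one_iff]
    show QuotientGroup.mk' N (x * y⁻¹) = 1
    rw [map_mul, map_inv, e, mul_inv_cancel]
  have cN : ∀ a ∈ N, ∀ y : G, ⁅a, y⁆ ∈ N := fun a ha y => by
    rw [commutatorElement_def, mul_assoc, mul_assoc, ← mul_assoc y]
    exact mul_mem ha (hN.conj_mem _ (inv_mem ha) y)
  have key : ∀ y ∈ (P : Subgroup G), ∀ n ∈ N, n ≠ 1 → n * y = y * n → y ∈ center G := by
    intro y hy n hn n1 c
    obtain ⟨j, ej⟩ := pw y hy
    have nv : ¬ Van (n * y) := fun h => by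
      obtain ⟨m, e⟩ := hv _ h
      have a : (n * y) ^ p ^ (m + j) = 1 := by rw [pow_add, pow_mul, e, one_pow]
      have b : y ^ p ^ (m + j) = 1 := by rw [pow_add, mul_comm, pow_mul, ej, one_pow]
      rw [(show Commute n y from c).mul_pow, b, mul_one] at a
      exact n1 (eq_one_of_pow cop hn a)
    have q0 : (y : G ⧸ N) ∈ center (G ⧸ N) := by
      by_contra h
      refine nv (Van.of_quot (N := N) ?_)
      rw [QuotientGroup.mk_mul, (QuotientGroup.eq_one_iff n).2 hn, one_mul]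
      exact van_p p _ _ pq rfl _ h
    have q1 : ∀ x : G, ⁅x, y⁆ ∈ N := fun x => by
      rw [← QuotientGroup.eq_one_iff]
      show QuotientGroup.mk' _ ⁅x, y⁆ = 1
      rw [map_commutatorElement, commutatorElement_eq_one_iff_mul_comm]
      exact mem_center_iff.1 q0 _
    have q2 : ∀ θ : N → ℂ, IsIrrCharacter N θ → y ∈ inertia N θ := fun θ hθ => by
      by_contra h
      refine nv (van_of_inertia hθ fun x hx => h ?_)
      have : y = (x⁻¹ * n * x⁻¹⁻¹ * ⁅x⁻¹, y⁆)⁻¹ * (x⁻¹ * (n * y) * x) := by rw [commutatorElement_def]; group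
      rw [this]
      exact mul_mem (inv_mem (le_inertia hθ.isClassFunction (mul_mem (hN.conj_mem _ hn _) (q1 _)))) hx
    have q3 : (centralizer (zpowers y : Set G)).subgroupOf N = ⊤ := by
      by_contra hC
      obtain ⟨a, ha⟩ := CL.exists_forall_conj_notMem hC
      obtain ⟨i, -, ei⟩ := (Nat.dvd_prime_pow hp).1 (orderOf_dvd_of_pow_eq_one ej)
      obtain ⟨b, ab, hb⟩ := CL.Glb.exists_isConj_centralizer (S := zpowers y) (G := N)
        (by rw [normalizer_eq_top]; exact le_top) (by rw [Nat.card_zpowers, ei]; exact cop.pow_right _)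
        (Or.inl inferInstance) (g := a) fun s hs g' e => isConj_of_irr_eq fun θ hθ => by
          rw [← mem_inertia.1 (zpowers_le.2 (q2 θ hθ) hs) a]
          exact congrArg θ (Subtype.ext e.symm)
      obtain ⟨u, hu⟩ := isConj_iff.1 ab
      exact ha u⁻¹ (by rw [inv_inv, hu]; exact hb)
    refine mem_center_iff.2 fun w => ?_
    obtain ⟨a, ha, x, hx, rfl⟩ := dec w
    have e1 : x * y = y * x := commutatorElement_eq_one_iff_mul_comm.1 (PN _
      (mul_mem (mul_mem (mul_mem hx hy) (inv_mem hx)) (inv_mem hy)) (q1 x))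
    have e2 : y * a = a * y := (q3.ge (mem_top ⟨a, ha⟩) :) y (mem_zpowers y)
    rw [mul_assoc, e1, ← mul_assoc, ← e2, mul_assoc]
  obtain ⟨⟨n, hn⟩, n1⟩ := ne_bot_iff_exists_ne_one.1 h0
  have n1 : n ≠ 1 := fun e => n1 (Subtype.ext e)
  have pz : IsPGroup p (center G) := fun z => by
    obtain ⟨j, e⟩ := pq (z.1 : G ⧸ N)
    refine ⟨j, Subtype.ext (by_contra fun c => gz (key g gP (z.1 ^ p ^ j) ?_ c
      (mem_center_iff.1 (pow_mem z.2 _) g).symm))⟩
    rwa [← QuotientGroup.eq_one_iff, QuotientGroup.mk_pow]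
  have oP : pCore p G ≤ P := (CL.isPGroup_pCore p G).le_sylow_of_normal P
  have zP : center G ≤ P := pz.le_sylow_of_normal P
  have hm : ∀ a : G, QuotientGroup.mk' (center G) a ∈ (P : Subgroup G).map (QuotientGroup.mk' (center G)) ↔
      a ∈ (P : Subgroup G) := fun a => by
    rw [← mem_comap, comap_map_eq_self (by rwa [QuotientGroup.ker_mk'])]
  refine ⟨le_antisymm (CL.le_pCore pz) fun y hy => key y (oP hy) n hn n1
    (commutatorElement_eq_one_iff_mul_comm.1 (PN _ (oP ?_) (cN n hn y))), (P : Subgroup G).map (QuotientGroup.mk' _),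
    ⟨fun e => gz ?_, fun e => n1 (PN n ((hm n).1 (e.ge (mem_top _))) hn), fun w hw => eq_bot_iff.2 fun v hv => ?_⟩,
    P.isPGroup'.map _⟩
  · exact mul_mem ((inferInstance : (pCore p G).Normal).conj_mem _ hy n) (inv_mem hy)
  · exact (QuotientGroup.eq_one_iff g).1 (e.le ((hm g).2 gP))
  · obtain ⟨w, rfl⟩ := QuotientGroup.mk'_surjective _ w
    obtain ⟨y, rfl⟩ := QuotientGroup.mk'_surjective _ v
    obtain ⟨a, ha, x, hx, rfl⟩ := dec w
    have hy := (hm y).1 hv.1
    have h2 : (a * x)⁻¹ * y * (a * x) ∈ (P : Subgroup G) := (hm _).1 (by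
      simpa [mul_assoc] using mem_pointwise_smul_iff_inv_smul_mem.1 hv.2)
    have h3 : ⁅a⁻¹, y⁆ ∈ (P : Subgroup G) := by
      rw [show ⁅a⁻¹, y⁆ = x * ((a * x)⁻¹ * y * (a * x)) * x⁻¹ * y⁻¹ by rw [commutatorElement_def]; group]
      exact mul_mem (mul_mem (mul_mem hx h2) (inv_mem hx)) (inv_mem hy)
    refine (QuotientGroup.eq_one_iff y).2 (key y hy a⁻¹ (inv_mem ha) (fun e => hw ((hm _).2 ?_))
      (commutatorElement_eq_one_iff_mul_comm.1 (PN _ h3 (cN _ (inv_mem ha) y))))
    rwa [inv_eq_one.1 e, one_mul]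

end Cfsg.Agent.S4848
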