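import Cfsg.Statements.S4878
import Cfsg.Agent.BLK.KT.Reg
import Cfsg.Agent.INV.EqOrd.Aff
import Cfsg.Agent.SOLV.Frobenius
import Cfsg.Agent.S2325
import Cfsg.Agent.PERM.SmallPres

set_option autoImplicit false
open Cfsg

namespace Cfsg.Agent.S4878

theorem low {X : Type*} [Group X] [Finite X] {p : ℕ} [Fact p.Prime] {V H : Subgroup X} [V.Normal]
    (hE : IsElementaryAbelian p V) (hV : V ≠ ⊥) (hC : Subgroup.centralizer (V : Set X) ≤ V)
    (hH : V.IsComplement' H) (hp : ¬ p ∣ Nat.card H)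
    (ht : ∀ v ∈ V, ∀ w ∈ V, v ≠ 1 → w ≠ 1 → ∃ g ∈ H, g * v * g⁻¹ = w) :
    (Module.finrank (ZMod p) (CL.Abelem.V hE) = 1 ∧ Nat.card H = p - 1 ∧
      p - 1 ≤ Nat.card (ConjClasses H)) ∨ p ≤ Nat.card (ConjClasses H) ∨
      (p = 11 ∧ Nat.card V = 121 ∧ (∀ h ∈ H, h ≠ 1 → V ⊓ Subgroup.centralizer {h} = ⊥) ∧
        Nonempty (H ≃* Matrix.SpecialLinearGroup (Fin 2) (ZMod 5))) := by
  have := (CL.Abelem.nontrivial_V_iff (hE := hE)).mpr hV
  have hA : H ≤ Subgroup.normalizer (V : Set X) := Subgroup.le_normalizer_of_normal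
  have hρ : Function.Injective (CL.Abelem.rep hE hA) := CL.Abelem.rep_injective_iff.mpr
    (eq_bot_iff.mpr ((inf_le_inf_left _ hC).trans hH.disjoint.symm.le_bot))
  have hT : CL.RegLin.Trans (CL.Abelem.rep hE hA) := fun v w hv hw => by
    obtain ⟨g, hg, h⟩ := ht v.val v.mem w.val w.mem (mt CL.Abelem.V.val_eq_one_iff.mp hv)
      (mt CL.Abelem.V.val_eq_one_iff.mp hw)
    exact ⟨⟨g, hg⟩, CL.Abelem.V.ext h⟩
  refine (CL.KT.low hρ hT hp).imp_right fun h => h.imp_right fun ⟨h1, h2, h3, h4⟩ =>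
    ⟨h1, CL.Abelem.card_V.symm.trans h2, fun g hg hg1 => (Subgroup.eq_bot_iff_forall _).mpr
      fun v hv => ?_, h4⟩
  exact CL.Abelem.V.val_eq_one_iff.mpr (h3 ⟨g, hg⟩ (fun e => hg1 (congrArg Subtype.val e)) ⟨v, hv.1⟩
    (CL.Abelem.V.ext (mul_inv_eq_iff_eq_mul.mpr
      (Subgroup.mem_centralizer_singleton_iff.mp hv.2).symm)))

/-- Let p be a prime and G a finite p-solvable group of order divisible by p in which all non-identity p-elements are conjugate. Then G has at least p conjugacy classes of p-regular elements; or G has exactly p − 1 of them and is isomorphic to the one-dimensional affine group over the field with p elements; or p = 11, G has exactly 9 of them, G has order 121·120 and G is a Frobenius group whose complement is isomorphic to SL(2,5). -/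
theorem result {G : Type*} [Group G] [Finite G] (p : ℕ) [Fact p.Prime] (hsolv : Cfsg.IsPSolvable p G) (hdiv : p ∣ Nat.card G) (hconj : ∀ x y : G, x ≠ 1 → y ≠ 1 → (∃ k : ℕ, orderOf x = p ^ k) → (∃ k : ℕ, orderOf y = p ^ k) → IsConj x y) : p ≤ Nat.card {c : ConjClasses G // ∃ g : G, ConjClasses.mk g = c ∧ ¬ p ∣ orderOf g} ∨ (Nat.card {c : ConjClasses G // ∃ g : G, ConjClasses.mk g = c ∧ ¬ p ∣ orderOf g} = p - 1 ∧ Nonempty (G ≃* ↥(Cfsg.affineGroup (ZMod p)))) ∨ (p = 11 ∧ Nat.card {c : ConjClasses G // ∃ g : G, ConjClasses.mk g = c ∧ ¬ p ∣ orderOf g} = 9 ∧ (Nat.card G = 121 * 120 ∧ ∃ H : Subgroup G, Cfsg.IsFrobeniusComplement H ∧ Nonempty (↥H ≃* Matrix.SpecialLinearGroup (Fin 2) (ZMod 5)))) := by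
  classical
  have hp := (Fact.out : p.Prime)
  have hS : Nat.card (Matrix.SpecialLinearGroup (Fin 2) (ZMod 5)) = 120 := CL.TC.card_sl25
  have hk : Nat.card (ConjClasses (Matrix.SpecialLinearGroup (Fin 2) (ZMod 5))) = 9 :=
    have : Fact (Nat.Prime 5) := ⟨by norm_num⟩
    Cfsg.Agent.S2325.result (F := ZMod 5) (by rw [ZMod.card]; decide)
  change p ≤ Nat.card (CL.KT.Reg p G) ∨ (Nat.card (CL.KT.Reg p G) = p - 1 ∧ _) ∨
    (_ ∧ Nat.card (CL.KT.Reg p G) = 9 ∧ _)
  by_cases h0 : pPrimeCore p G = ⊥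
  · obtain ⟨V, H, _, hE, hV, hC, hH, hp', ht⟩ := CL.KT.PConj.exists_data hconj hsolv h0 hdiv
    have h1 := Nat.card_le_card_of_surjective _ (CL.KT.Reg.surj
      (f := hH.symm.QuotientMulEquiv.toMonoidHom.comp (QuotientGroup.mk' V))
      (hH.symm.QuotientMulEquiv.surjective.comp (QuotientGroup.mk'_surjective V)) hp')
    rcases low hE hV hC hH hp' ht with ⟨h2, h3, h4⟩ | h2 | ⟨rfl, h2, h3, ⟨e⟩⟩
    · by_cases h5 : p ≤ Nat.card (CL.KT.Reg p G)
      · exact Or.inl h5
      refine Or.inr (Or.inl ⟨by omega, ?_⟩)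
      have hV' : Nat.card V = p := by rw [CL.Abelem.card_eq_pow_finrank (hE := hE), h2, pow_one]
      let e : CL.Abelem.V hE ≃ₗ[ZMod p] ZMod p :=
        LinearEquiv.ofFinrankEq _ _ (by rw [h2, Module.finrank_self])
      obtain ⟨φ, hφ, -⟩ := CL.EqOrd.exists_embedding hE (by
        rw [hV', hH.symm.index_eq_card]
        exact hp.coprime_iff_not_dvd.mpr hp') hC e.toAddEquiv fun g => by
          obtain ⟨c, hc, -⟩ := LinearMap.existsUnique_eq_smul_id_of_finrank_eq_one h2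
            (CL.Abelem.conjLin hE g (CL.EqOrd.le_normalizer_of_normal' V g))
          exact ⟨c, RingEquiv.refl _, fun v => by rw [hc]; simp⟩
      have h6 : semiaffineGroup (ZMod p) = affineGroup (ZMod p) :=
        le_antisymm (fun s ⟨a, b, σ, h⟩ => ⟨a, b, fun x => by
          rw [h, show σ x = x from RingHom.congr_fun (RingHom.ext_zmod σ.toRingHom (RingHom.id _)) x]⟩)
          CL.EqOrd.affine_le
      refine ⟨(MulEquiv.ofBijective φ (hφ.bijective_of_nat_card_le ?_)).trans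
        (MulEquiv.subgroupCongr h6)⟩
      rw [h6, CL.EqOrd.card_affine, ZMod.card, ← hH.card_mul_card, hV', h3, mul_comm]
    · exact Or.inl (h2.trans h1)
    · rw [CL.KT.card_conjClasses_equiv e, hk] at h1
      have hH1 : H ≠ ⊥ := fun h => by
        have := Nat.card_congr e.toEquiv
        rw [hS, h, Subgroup.card_bot] at this
        omega
      refine Or.inr (Or.inr ⟨rfl, le_antisymm ?_ h1, ?_, H,
        CL.Frob.isFrobeniusComplement_of_fpf hH hV hH1 h3, ⟨e⟩⟩)
      · rw [← hk, ← CL.KT.card_conjClasses_equiv e]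
        refine Nat.card_le_card_of_surjective (fun c => ⟨ConjClasses.map H.subtype c, ?_⟩) ?_
        · obtain ⟨x, rfl⟩ := ConjClasses.mk_surjective c
          exact ⟨x, rfl, fun h => hp' (h.trans (H.orderOf_dvd_natCard x.2))⟩
        rintro ⟨_, x, rfl, hx⟩
        obtain ⟨⟨⟨v, hv⟩, ⟨g, hg⟩⟩, rfl⟩ := hH.2 x
        refine ⟨ConjClasses.mk ⟨g, hg⟩, Subtype.ext (ConjClasses.mk_eq_mk_iff_isConj.mpr ?_)⟩
        by_cases hg1 : g = 1
        · subst hg1
          have : v = 1 := by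
            by_contra h
            exact hx (by simp [orderOf_eq_prime (hE.2 v hv) h])
          simp [this]
        let c : V → V := fun w => ⟨w * (g * w⁻¹ * g⁻¹), V.mul_mem w.2
          (Subgroup.Normal.conj_mem inferInstance _ (V.inv_mem w.2) g)⟩
        have hc : Function.Injective c := fun a b h => by
          have h4 : (a : G) * (g * a⁻¹ * g⁻¹) = b * (g * b⁻¹ * g⁻¹) := congrArg Subtype.val h
          have h5 : ((b⁻¹ * a : V) : G) ∈ V ⊓ Subgroup.centralizer {g} :=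
            ⟨(b⁻¹ * a).2, Subgroup.mem_centralizer_singleton_iff.mpr (by
              simp only [Subgroup.coe_mul, Subgroup.coe_inv] at h4 ⊢
              calc _ = (b : G)⁻¹ * (a * (g * (a : G)⁻¹ * g⁻¹)) * g * a := by group
                _ = _ := by rw [h4]; group)⟩
          rw [h3 g hg hg1, Subgroup.mem_bot] at h5
          exact (inv_mul_eq_one.mp (Subtype.ext h5)).symm
        obtain ⟨w, hw⟩ := Finite.surjective_of_injective hc ⟨v, hv⟩
        have h4 : (w : G) * (g * w⁻¹ * g⁻¹) = v := congrArg Subtype.val hw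
        exact isConj_iff.mpr ⟨w, by simp [← h4, mul_assoc]⟩
      · rw [← hH.card_mul_card, h2, Nat.card_congr e.toEquiv, hS]
  left
  set N := pPrimeCore p G
  have hN := CL.not_dvd_card_pPrimeCore p G
  obtain ⟨V, H, _, hE, hV, hC, hH, hp', ht⟩ := CL.KT.PConj.exists_data
    (CL.KT.PConj.map hconj (QuotientGroup.mk'_surjective N)) (CL.IsPSolvable.quotient hsolv N)
    (CL.pPrimeCore_quotient_pPrimeCore p G)
    (((Nat.Prime.dvd_mul hp).mp (N.card_mul_index ▸ hdiv)).resolve_left hN)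
  let f := (hH.symm.QuotientMulEquiv.toMonoidHom.comp (QuotientGroup.mk' V)).comp
    (QuotientGroup.mk' N)
  have hf : Function.Surjective f := (hH.symm.QuotientMulEquiv.surjective.comp
    (QuotientGroup.mk'_surjective V)).comp (QuotientGroup.mk'_surjective N)
  have hfN : ∀ n ∈ N, f n = 1 := fun n hn =>
    (congrArg (hH.symm.QuotientMulEquiv.toMonoidHom.comp (QuotientGroup.mk' V))
      ((QuotientGroup.eq_one_iff n).mpr hn)).trans (map_one _)
  obtain ⟨⟨n, hn⟩, hn1⟩ := Subgroup.ne_bot_iff_exists_ne_one.mp h0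
  have h1 := CL.KT.Reg.succ_le hf hp' (fun e => hn1 (Subtype.ext e))
    (fun h => hN (h.trans (N.orderOf_dvd_natCard hn))) (hfN n hn)
  rcases low hE hV hC hH hp' ht with ⟨-, -, h4⟩ | h2 | ⟨rfl, h2, -, ⟨e⟩⟩
  · omega
  · omega
  refine CL.KT.exc N h0 hN ?_ (f := e.toMonoidHom.comp f) (e.surjective.comp hf)
    (fun n hn => by simp [hfN n hn]) (fun x hx h => ?_) hS hk
  · rw [Subgroup.index_eq_card, ← hH.card_mul_card, h2, Nat.card_congr e.toEquiv, hS]
  · have h3 : (x : G ⧸ N) ∈ V := (QuotientGroup.eq_one_iff _).mp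
      (hH.symm.QuotientMulEquiv.map_eq_one_iff.mp (e.map_eq_one_iff.mp h))
    by_contra h4
    exact hx ((orderOf_eq_prime (hE.2 _ h3) fun e => h4 ((QuotientGroup.eq_one_iff x).mp e)) ▸
      orderOf_map_dvd (QuotientGroup.mk' N) x)

end Cfsg.Agent.S4878
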