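import Cfsg.Statements.S4923
import Mathlib
import Cfsg.Agent.S4587
import Cfsg.Agent.CHAR.Galois
import Cfsg.Agent.INV.OddAut
import Cfsg.Agent.SOLV.MaxClass

set_option autoImplicit false
open Cfsg

namespace Cfsg.Agent.S4923

open Subgroup CL CL.Char CL.MSS Cfsg IntermediateField

section
variable {G : Type*} [Group G] [Finite G]

theorem exists_conj {R : Subgroup G} (hR : SylIn 2 R ⊤) {g : G} (hg : IsPGroup 2 (zpowers g))
    (hn : R ≤ normalizer (zpowers g : Set G)) {x : G} (hx : x * g * x⁻¹ ∈ zpowers g) :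
    ∃ y ∈ R, y * g * y⁻¹ = x * g * x⁻¹ := by
  have hx' : x ∈ normalizer (zpowers g : Set G) :=
    mem_normalizer_of_cj_le ((cj_zpowers x g).trans_le (zpowers_le.2 hx))
  have h := (((hR.of_le hn le_top).subgroupOf le_rfl).map (zpowers g).normalizerMonoidHom
    ).eq_of_isPGroup ((OddAut.isPGroup_mulAut_of_isCyclic hg).to_subgroup _)
  obtain ⟨y, hy, h1⟩ := h.ge ⟨⟨x, hx'⟩, hx', rfl⟩
  exact ⟨y, hy, congrArg (fun f : MulAut (zpowers g) => (f ⟨g, mem_zpowers g⟩ : G)) h1⟩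

theorem fld {g : G} {N : ℕ} (hN : N ≠ 0) (hg : g ^ N = 1) {ζ s : ℂ} (hζ : ζ ^ N = 1)
    (hs : s = 1 ∨ s = -1) :
    adjoin ℚ {z : ℂ | ∃ χ : IrrCharacter G, χ.1 g = z} = adjoin ℚ {ζ + s * ζ⁻¹} ↔
      ∀ k : ℕ, k.Coprime N → (IsConj (g ^ k) g ↔ ζ ^ k = ζ ∨ ζ ^ k = s * ζ⁻¹) := by
  have h0 : ζ ≠ 0 := fun h => by simp [h, hN] at hζ
  have h1 : ∀ (σ : ℂ ≃+* ℂ) (k : ℕ), (∀ z : ℂ, z ^ N = 1 → σ z = z ^ k) →
      ((∀ z ∈ {z : ℂ | ∃ χ : IrrCharacter G, χ.1 g = z}, σ z = z) ↔ IsConj (g ^ k) g) ∧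
      ((∀ z ∈ ({ζ + s * ζ⁻¹} : Set ℂ), σ z = z) ↔ ζ ^ k = ζ ∨ ζ ^ k = s * ζ⁻¹) := fun σ k hσ => by
    have h2 : ∀ χ, IsIrrCharacter G χ → σ (χ g) = χ (g ^ k) := fun χ hχ =>
      hχ.isCharacter.gal_apply (σ := σ) hσ hg
    refine ⟨⟨fun h => isConj_of_irr_eq fun χ hχ => (h2 χ hχ).symm.trans (h _ ⟨⟨χ, hχ⟩, rfl⟩), ?_⟩,
      ?_⟩
    · rintro h _ ⟨χ, rfl⟩
      exact (h2 _ χ.2).trans (χ.2.isClassFunction.eq_of_isConj h)
    have h3 : σ s = s := by rcases hs with rfl | rfl <;> simp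
    have h4 := pow_ne_zero k h0
    simp only [Set.mem_singleton_iff, forall_eq]
    rw [map_add, map_mul, map_inv₀, hσ ζ hζ, h3, ← sub_eq_zero,
      ← sub_eq_zero (a := ζ ^ k), ← sub_eq_zero (a := ζ ^ k), ← mul_eq_zero, ← mul_eq_zero_iff_left h4]
    congr! 1
    field_simp
    ring
  refine ⟨fun h k hk => ?_, fun h => ?_⟩
  · obtain ⟨σ, hσ⟩ := exists_ringEquiv_pow hN hk
    rw [← (h1 σ k hσ).1, ← (h1 σ k hσ).2]
    exact ⟨fun h2 z hz => apply_eq_of_mem_adjoin σ h2 (h.ge (subset_adjoin _ _ hz)),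
      fun h2 z hz => apply_eq_of_mem_adjoin σ h2 (h.le (subset_adjoin _ _ hz))⟩
  have h2 : ∀ σ : ℂ ≃+* ℂ, (∀ z ∈ {z : ℂ | ∃ χ : IrrCharacter G, χ.1 g = z}, σ z = z) ↔
      ∀ z ∈ ({ζ + s * ζ⁻¹} : Set ℂ), σ z = z := fun σ => by
    obtain ⟨k, hk, hσ⟩ := exists_coprime_apply_eq_pow hN (σ : ℂ →+* ℂ)
    rw [(h1 σ k hσ).1, (h1 σ k hσ).2, h k hk]
  have h3 : IsAlgebraic ℚ ζ := (IsIntegral.of_pow (Nat.pos_of_ne_zero hN)
    (hζ ▸ isIntegral_one)).isAlgebraic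
  refine le_antisymm (adjoin_le_iff.2 fun z hz => mem_adjoin_of_fixed _ ?_ fun σ h =>
    (h2 σ).2 h z hz) (adjoin_le_iff.2 fun z hz => mem_adjoin_of_fixed _ ?_ fun σ h =>
    (h2 σ).1 h z hz)
  · obtain ⟨χ, rfl⟩ := hz
    exact χ.2.isCharacter.isGen.isAlgebraic g
  · rcases hs with rfl | rfl
    · exact hz ▸ h3.add (isAlgebraic_one.mul h3.inv)
    · exact hz ▸ h3.add (isAlgebraic_one.neg.mul h3.inv)

end

/-- Let G be a finite group with Sylow 2-subgroup P of order 2^n ≥ 8, and let ζ be a primitive 2^(n−1)-th root of unity in ℂ. Then the commutator subgroup of P has index 4 in P if and only if there is an element g of P whose conjugacy class in G has even size and such that the field generated over ℚ by the values at g of all irreducible complex characters of G equals ℚ(ζ + ζ⁻¹) or ℚ(ζ − ζ⁻¹). -/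
theorem result {G : Type*} [Group G] [Finite G] (P : Sylow 2 G) (n : ℕ) (hn : 3 ≤ n) (hP : Nat.card P = 2 ^ n) (ζ : ℂ) (hζ : IsPrimitiveRoot ζ (2 ^ (n - 1))) :
    (commutator ↥P).index = 4 ↔
      ∃ g : G, g ∈ (P : Subgroup G) ∧ 2 ∣ (Subgroup.centralizer ({g} : Set G)).index ∧
        (IntermediateField.adjoin ℚ {z : ℂ | ∃ χ : Cfsg.IrrCharacter G, (χ : G → ℂ) g = z} = IntermediateField.adjoin ℚ ({ζ + ζ⁻¹} : Set ℂ) ∨
          IntermediateField.adjoin ℚ {z : ℂ | ∃ χ : Cfsg.IrrCharacter G, (χ : G → ℂ) g = z} = IntermediateField.adjoin ℚ ({ζ - ζ⁻¹} : Set ℂ)) := by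
  obtain ⟨n, rfl⟩ := Nat.exists_eq_add_of_le' hn
  change IsPrimitiveRoot ζ (2 ^ (n + 2)) at hζ
  change (commutator (P : Subgroup G)).index = 4 ↔ _
  have h0 : ζ ≠ 0 := hζ.ne_zero (by positivity)
  have hh : ζ ^ 2 ^ (n + 1) = -1 :=
    (hζ.pow (by positivity) (pow_succ 2 (n + 1))).eq_neg_one_of_two_right
  have he1 : ζ ^ (2 * (2 ^ (n + 1) - 1) + 1) = 1 * ζ⁻¹ := by
    rw [eq_mul_inv_iff_mul_eq₀ h0, ← pow_succ, ← hζ.pow_eq_one]
    congr 1
    have := Nat.one_le_two_pow (n := n + 1)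
    rw [pow_succ 2 (n + 1)]
    omega
  have he2 : ζ ^ (2 * (2 ^ n - 1) + 1) = -1 * ζ⁻¹ := by
    rw [eq_mul_inv_iff_mul_eq₀ h0, ← pow_succ, ← hh]
    congr 1
    have := Nat.one_le_two_pow (n := n)
    omega
  have hnorm : ∀ g : (P : Subgroup G), orderOf g = 2 ^ (n + 2) → (P : Subgroup G) ≤
      normalizer (zpowers (g : G) : Set G) := fun g hg => by
    have h1 := card_mul_index (zpowers g)
    rw [Nat.card_zpowers, hg, hP, pow_succ 2 (n + 2)] at h1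
    have := normal_of_index_eq_two (Nat.eq_of_mul_eq_mul_left (by positivity) h1)
    refine le_normalizer_of_cj_le fun x hx => (cj_zpowers _ _).trans_le (zpowers_le.2 ?_)
    obtain ⟨k, hk⟩ := this.conj_mem g (mem_zpowers g) ⟨x, hx⟩
    exact ⟨k, congrArg Subtype.val hk⟩
  have hz : ∀ g : (P : Subgroup G), IsPGroup 2 (zpowers (g : G)) := fun g =>
    P.isPGroup'.to_le (zpowers_le.2 g.2)
  rw [show ζ + ζ⁻¹ = ζ + 1 * ζ⁻¹ by ring, show ζ - ζ⁻¹ = ζ + -1 * ζ⁻¹ by ring]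
  refine ⟨fun h => ?_, fun ⟨g, hg, h2, hf⟩ => ?_⟩
  · obtain ⟨a, b, hab⟩ := PCyc.exists_isDQS_of_index_commutator hP h.le
    have ha := hab.orderOf_eq
    have hp : ∀ i j, ζ ^ i = ζ ^ j ↔ a ^ i = a ^ j := fun i j => by
      rw [pow_eq_pow_iff_modEq, (hζ.isOfFinOrder (by positivity)).pow_eq_pow_iff_modEq, ha,
        ← hζ.eq_orderOf]
    obtain ⟨e, s, hs, h1, h2⟩ : ∃ (e : ℕ) (s : ℂ), (s = 1 ∨ s = -1) ∧ ζ ^ e = s * ζ⁻¹ ∧
        b * a * b⁻¹ = a ^ e := by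
      have h3 : a⁻¹ = a ^ (2 * (2 ^ (n + 1) - 1) + 1) := by
        rw [inv_eq_iff_mul_eq_one, ← pow_succ', ← pow_orderOf_eq_one a, ha]
        congr 1
        have := Nat.one_le_two_pow (n := n + 1)
        rw [pow_succ 2 (n + 1)]
        omega
      rcases hab.rel with h | h | h
      · exact ⟨_, 1, Or.inl rfl, he1, h.2.trans h3⟩
      · exact ⟨_, 1, Or.inl rfl, he1, h.2.trans h3⟩
      · refine ⟨_, -1, Or.inr rfl, he2, h.2.2.trans ?_⟩
        congr 1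
        have := Nat.one_le_two_pow (n := n)
        rw [show n + 2 - 1 = n + 1 from rfl]
        omega
    have h2' : (b : G) * a * (b : G)⁻¹ = a ^ e := congrArg Subtype.val h2
    have h3 := (fld (g := (a : G)) (by positivity) (orderOf_dvd_iff_pow_eq_one.1
      ((orderOf_coe a).trans ha).dvd) hζ.pow_eq_one hs).2 fun k hk => by
      rw [← h1]
      nth_rewrite 2 [← pow_one ζ]
      rw [hp, hp, pow_one]
      refine ⟨fun h => ?_, ?_⟩
      · obtain ⟨x, hx⟩ := isConj_iff.1 h.symm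
        obtain ⟨y, hy, h4⟩ := exists_conj (sylIn_top P) (hz a) (hnorm a ha)
          (hx ▸ pow_mem (mem_zpowers _) k)
        have h5 : (⟨y, hy⟩ * a * ⟨y, hy⟩⁻¹ : (P : Subgroup G)) = a ^ k := Subtype.ext (h4.trans hx)
        by_cases h6 : (⟨y, hy⟩ : (P : Subgroup G)) ∈ zpowers a
        · obtain ⟨i, hi⟩ := h6
          exact Or.inl (by rw [← h5, ← hi]; group)
        · obtain ⟨_, ⟨i, rfl⟩, hi⟩ := hab.exists_eq_mul h6
          refine Or.inr ?_
          rw [← h5, hi, show ∀ u : (P : Subgroup G), u * b * a * (u * b)⁻¹ = u * (b * a * b⁻¹) * u⁻¹ from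
            fun u => by group, h2]
          group
      · rintro (h | h)
        · rw [← coe_pow, h]
        · rw [← coe_pow, h, coe_pow, ← h2']
          exact (isConj_iff.2 ⟨_, rfl⟩).symm
    refine ⟨a, a.2, by_contra fun h4 => ?_, by
      rcases hs with rfl | rfl
      exacts [Or.inl h3, Or.inr h3]⟩
    obtain ⟨R, hR⟩ := exists_sylIn 2 (centralizer ({(a : G)} : Set G))
    obtain ⟨y, hy, h5⟩ := exists_conj (sylIn_of_not_dvd_relIndex hR.pgroup le_top (by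
      rw [relIndex_top_right, ← relIndex_mul_index hR.le]
      exact Nat.prime_two.prime.not_dvd_mul hR.not_dvd_relIndex h4)) (hz a)
      (hR.le.trans ((zpowers_eq_closure (a : G) ▸ (centralizer_closure _).ge :
        _ ≤ centralizer (zpowers (a : G) : Set G)).trans (centralizer_le_normalizer _)))
      (h2' ▸ pow_mem (mem_zpowers _) e)
    rw [mem_centralizer_singleton_iff.1 (hR.le hy), mul_inv_cancel_right] at h5
    have h6 := orderOf_dvd_of_mem_zpowers (hab.mem_zpowers_of_commute hab.notMem (mem_zpowers a)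
      (Subtype.ext (eq_mul_inv_iff_mul_eq.1 h5)))
    have h7 := Nat.le_of_dvd two_pos (h6.trans (orderOf_dvd_of_pow_eq_one (n := 2) (by
      rw [← pow_mul, ← pow_orderOf_eq_one a, ha]; rfl)))
    rw [ha, pow_add] at h7
    have := Nat.one_le_two_pow (n := n)
    omega
  have hna : ¬ IsMulCommutative (P : Subgroup G) := fun h => P.not_dvd_index (h2.trans (index_dvd_of_le
    ((le_centralizer (P : Subgroup G)).trans (centralizer_le (Set.singleton_subset_iff.2 hg)))))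
  have := P.isPGroup'.isNilpotent
  have hc := card_mul_index (commutator (P : Subgroup G))
  suffices h : 2 ^ (n + 1) ≤ Nat.card (commutator (P : Subgroup G)) by
    obtain ⟨j, hj⟩ := P.isPGroup'.index (commutator (P : Subgroup G))
    have h3 := (Nat.mul_le_mul_right _ h).trans_eq (hc.trans hP)
    rw [hj, ← pow_add, Nat.pow_le_pow_iff_right one_lt_two] at h3
    rw [hj]
    obtain rfl | h4 := (by omega : j = 2 ∨ j ≤ 1)
    · rfl
    have := S4587.isCyclic_of_index_dvd (p := 2) (commutator_le_frattini_of_isNilpotent P)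
      (hj ▸ pow_dvd_pow 2 h4)
    exact (hna inferInstance).elim
  obtain rfl | hn := n.eq_zero_or_pos
  · exact one_lt_card_iff_ne_bot _ |>.2 fun h => hna ⟨⟨fun a b =>
      commutatorElement_eq_one_iff_mul_comm.1 (mem_bot.1 (h.le
        (commutator_mem_commutator (mem_top a) (mem_top b))))⟩⟩
  obtain ⟨s, u, hs, hu, h3, hf⟩ : ∃ (s : ℂ) (u : ℕ), (s = 1 ∨ s = -1) ∧ Odd u ∧
      ζ ^ (2 * u + 1) = s * ζ⁻¹ ∧ adjoin ℚ {z : ℂ | ∃ χ : IrrCharacter G, χ.1 g = z} =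
        adjoin ℚ {ζ + s * ζ⁻¹} := by
    have h4 : ∀ m, 0 < m → Odd (2 ^ m - 1) := fun m hm => Nat.Even.sub_odd Nat.one_le_two_pow
      (even_two.pow_of_ne_zero hm.ne') odd_one
    exact hf.elim (fun h => ⟨_, _, Or.inl rfl, h4 _ n.succ_pos, he1, h⟩)
      fun h => ⟨_, _, Or.inr rfl, h4 _ hn, he2, h⟩
  rw [fld (N := 2 ^ (n + 3)) (by positivity) (orderOf_dvd_iff_pow_eq_one.1
    (hP ▸ orderOf_dvd_natCard _ hg)) (by rw [pow_succ, pow_mul, hζ.pow_eq_one, one_pow]) hs] at hf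
  have hco : ∀ k, (2 * k + 1).Coprime (2 ^ (n + 3)) := fun k =>
    (Nat.coprime_two_right.2 (odd_two_mul_add_one k)).pow_right _
  obtain ⟨j, hj, h4⟩ := (Nat.dvd_prime_pow Nat.prime_two).1
    (hP ▸ orderOf_dvd_natCard (⟨g, hg⟩ : (P : Subgroup G)))
  obtain rfl | rfl | h5 := (by omega : j = n + 3 ∨ j = n + 2 ∨ j ≤ n + 1)
  · have := isCyclic_of_orderOf_eq_card _ (h4.trans hP.symm)
    exact (hna inferInstance).elim
  · obtain ⟨x, hx⟩ := isConj_iff.1 ((hf _ (hco u)).2 (Or.inr h3)).symm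
    obtain ⟨y, hy, h5⟩ := exists_conj (sylIn_top P) (hz ⟨g, hg⟩) (hnorm _ h4)
      (hx ▸ pow_mem (mem_zpowers _) _)
    have h6 : ((⟨g, hg⟩ : (P : Subgroup G)) ^ 2) ^ u ∈ commutator (P : Subgroup G) := by
      rw [show ((⟨g, hg⟩ : (P : Subgroup G)) ^ 2) ^ u = ⟨y, hy⟩ * ⟨g, hg⟩ * ⟨y, hy⟩⁻¹ * ⟨g, hg⟩⁻¹ from
        Subtype.ext (eq_mul_inv_of_mul_eq (by simpa [pow_succ, pow_mul] using (h5.trans hx).symm))]
      exact commutator_mem_commutator (mem_top _) (mem_top _)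
    have h7 : orderOf ((⟨g, hg⟩ : (P : Subgroup G)) ^ 2) = 2 ^ (n + 1) := by
      rw [orderOf_pow_of_dvd two_ne_zero (h4 ▸ dvd_pow_self 2 (by omega)), h4, pow_succ,
        Nat.mul_div_cancel _ two_pos]
    have h8 := orderOf_dvd_natCard _ h6
    rw [Nat.Coprime.orderOf_pow (h7 ▸ (Nat.coprime_two_left.2 hu).pow_left _), h7] at h8
    exact Nat.le_of_dvd Nat.card_pos h8
  have h6 := (hf _ (hco (2 ^ n))).1 (by
    rw [pow_succ, ← pow_succ', orderOf_dvd_iff_pow_eq_one.1 ((orderOf_coe (⟨g, hg⟩ : (P : Subgroup G))).trans h4 ▸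
      pow_dvd_pow 2 h5), one_mul])
  rw [pow_succ, ← pow_succ', hh] at h6
  have h7 : ζ ^ 4 = 1 := by
    rcases h6 with h6 | h6
    · exact absurd (by linear_combination -h6 / 2) h0
    · rw [eq_mul_inv_iff_mul_eq₀ h0] at h6
      rcases hs with rfl | rfl
      · linear_combination (1 - ζ ^ 2) * h6
      · linear_combination (-1 - ζ ^ 2) * h6
  have h8 := Nat.le_of_dvd four_pos (hζ.dvd_of_pow_eq_one 4 h7)
  have h9 := Nat.pow_le_pow_right two_pos (by omega : 3 ≤ n + 2)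
  omega

end Cfsg.Agent.S4923
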