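import Cfsg.Statements.S4990
import Cfsg.Agent.ORD.BlkCls

set_option autoImplicit false
open Cfsg

namespace Cfsg.Agent.S4990

/-- Let G be a finite solvable group, p a prime, M a maximal ideal of the algebraic integers containing p, and B a p-block of G of positive defect d. Then B contains at most 3^{d−1}·p^d irreducible complex characters. -/
theorem result {G : Type*} [Group G] [Finite G] (hsolv : Group.IsSolvable G) (p : ℕ) [Fact p.Prime] (M : Ideal Cfsg.AlgInt) (hM : Cfsg.IsPModular p M) (B : Set (Cfsg.IrrCharacter G)) (hB : Cfsg.IsPBlock M B) (hd : 0 < Cfsg.blockDefect p B) : Set.ncard B ≤ 3 ^ (Cfsg.blockDefect p B - 1) * p ^ Cfsg.blockDefect p B := by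
  clear hd
  refine CL.Blk.fong_induction hM (fun G _ _ B => Group.IsSolvable G →
    Nat.card B ≤ 3 ^ (blockDefect p B - 1) * p ^ blockDefect p B) ?_ ?_ G
    (CL.isPSolvable_of_isSolvable p G) B hB hsolv
  · intro G _ _ _ _ θ _ B' B _ _ hfr ih hs
    rw [hfr.card, hfr.defect]
    exact ih inferInstance
  · intro G _ _ _ hG θ hθ hs
    rw [CL.Blk.blockDefect_overSet hM (CL.IsPSolvable.isPConstrained hG) rfl hθ]
    have e : (Nat.card G).factorization p = (Nat.card (G ⧸ pPrimeCore p G)).factorization p := by
      rw [Subgroup.card_eq_card_quotient_mul_card_subgroup (pPrimeCore p G),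
        Nat.factorization_mul Nat.card_pos.ne' Nat.card_pos.ne', Finsupp.add_apply,
        Nat.factorization_eq_zero_of_not_dvd (CL.not_dvd_card_pPrimeCore p G), add_zero]
    rw [e]
    exact (CL.Ord.PC.card_overSet_le _ θ.2 hθ).trans
      (CL.Ord.PC.k_le_of_core p _ _ rfl (CL.pPrimeCore_quotient_pPrimeCore p G))

end Cfsg.Agent.S4990
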