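import Mathlib
import Cfsg.Statements.S4997
import Cfsg.Agent.FGS.VanP

set_option autoImplicit false
open Cfsg

namespace Cfsg.Agent.S4997

/-- Let p be an odd prime and G a finite solvable group with exactly one conjugacy class consisting of vanishing elements (elements at which some irreducible complex character is zero) of order divisible by p. Let P be a Sylow p-subgroup of G. Then the order of P is at most p times the order of the largest normal p-subgroup of G. -/
theorem result {G : Type*} [Group G] [Finite G] (hsolv : Group.IsSolvable G) (p : ℕ) [Fact p.Prime] (hp : p ≠ 2) (h1 : Set.ncard {C : ConjClasses G | (∀ g ∈ C.carrier, ∃ χ : Cfsg.IrrCharacter G, (χ : G → ℂ) g = 0) ∧ ∃ g ∈ C.carrier, p ∣ orderOf g} = 1) (P : Sylow p G) : Nat.card ↥(P : Subgroup G) ≤ p * Nat.card ↥(Cfsg.pCore p G) := by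
  obtain ⟨C0, hC0⟩ := Set.ncard_eq_one.mp h1
  have key : ∀ x : G, CL.VanP.Van x → p ∣ orderOf x → ConjClasses.mk x = C0 := by
    rintro x ⟨χ, hχ, h0⟩ hpx
    rw [← Set.mem_singleton_iff, ← hC0]
    refine ⟨fun g hg => ⟨⟨χ, hχ⟩, ?_⟩, x, ConjClasses.mem_carrier_mk, hpx⟩
    rw [ConjClasses.mem_carrier_iff_mk_eq, ConjClasses.mk_eq_mk_iff_isConj, isConj_comm] at hg
    obtain ⟨c, rfl⟩ := isConj_iff.mp hg
    show χ (c * x * c⁻¹) = 0
    rw [hχ.isClassFunction, h0]
  have hd := CL.VanP.card_map_dvd p (G := G) (fun x y hx hy hpx hpy => by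
    have := (key x hx hpx).trans (key y hy hpy).symm
    rw [ConjClasses.mk_eq_mk_iff_isConj] at this
    obtain ⟨c, rfl⟩ := isConj_iff.mp this
    exact ((MulAut.conj c).orderOf_eq x).symm) P
  have h2 : Nat.card ((P : Subgroup G).map (QuotientGroup.mk' (Cfsg.pCore p G))) =
      (Cfsg.pCore p G).relIndex P := by
    rw [← Subgroup.relIndex_ker, QuotientGroup.ker_mk']
  have h3 := Subgroup.index_mul_card ((Cfsg.pCore p G).subgroupOf (P : Subgroup G))
  have h4 : Nat.card ((Cfsg.pCore p G).subgroupOf (P : Subgroup G)) ≤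
      Nat.card (Cfsg.pCore p G) :=
    Nat.card_le_card_of_injective (fun x => ⟨x.1.1, x.2⟩)
      (fun x y h => Subtype.ext (Subtype.ext (Subtype.mk.inj h)))
  rw [← h3]
  rw [h2] at hd
  exact Nat.mul_le_mul (Nat.le_of_dvd (Fact.out : p.Prime).pos hd) h4

end Cfsg.Agent.S4997
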