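import Cfsg.Statements.S5094
import Cfsg.Agent.INV.ZStarElt

set_option autoImplicit false
open Cfsg

namespace Cfsg.Agent.S5094

open CL.MSS CL.Iso in

/-- Glauberman's Z*-Theorem in fusion language: for a finite group G with Sylow 2-subgroup S, the centre of the fusion system of G on S is the set of elements of S whose image in G/O(G) is central, O(G) being the largest normal subgroup of odd order. -/
theorem result {G : Type*} [Group G] [Finite G] (S : Sylow 2 G) : (Cfsg.groupFusionSystem (S : Subgroup G)).center = (S : Subgroup G) ⊓ (Subgroup.center (G ⧸ Cfsg.oddCore G)).comap (QuotientGroup.mk' (Cfsg.oddCore G)) := by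
  apply le_antisymm
  · apply sSup_le
    intro Q hQ x hx
    have hxS : x ∈ (S : Subgroup G) := hQ.1 hx
    obtain ⟨k, hk⟩ := isPGroup_iff_forall_mem.mp S.2 x hxS
    refine ⟨hxS, zstar_elt_mk hk (isolated_of_sylow S hk fun g hg => ?_)⟩
    obtain ⟨ψ, -, h1, h2⟩ := hQ.2 (Subgroup.zpowers x) (Cfsg.conjHom _ g)
      ⟨Subgroup.zpowers_le.mpr hxS, fun y => by
        have : g •ᶜ Subgroup.zpowers x ≤ S := by
          rw [cj_zpowers]
          exact Subgroup.zpowers_le.mpr hg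
        exact this (conj_mem_cj y.2), g, fun _ => rfl⟩
    exact (h1 ⟨x, Subgroup.mem_zpowers x⟩).symm.trans (h2 ⟨x, hx⟩)
  · rintro x ⟨hxS, hx⟩
    obtain ⟨k, hk⟩ := isPGroup_iff_forall_mem.mp S.2 x hxS
    have hiso := isolated_of_mk_center hk hx
    have hc : ∀ y ∈ (S : Subgroup G), Commute x y := fun y hy =>
      isolated_commute_of_pgroup hk hiso S.2 hxS hy
    refine (le_sSup (s := {Q : Subgroup G | (Cfsg.groupFusionSystem (S : Subgroup G)).IsCentral Q})
      (a := Subgroup.zpowers x) ⟨Subgroup.zpowers_le.mpr hxS, ?_⟩) (Subgroup.mem_zpowers x)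
    rintro P φ ⟨hPS, hφ, g, hg⟩
    obtain ⟨h, hh, hhx⟩ := isolated_conj_in hk hiso (H := Subgroup.centralizer (P : Set G))
      (fun y hy => (hc y (hPS hy)).symm.eq) (g := g⁻¹) (fun y hy => by
        have h1 := hc _ (hφ ⟨y, hy⟩)
        rw [hg] at h1
        have h2 := h1.map (MulAut.conj g⁻¹).toMonoidHom
        simpa [mul_assoc] using h2.symm.eq)
    have e1 : ∀ y ∈ P, (h * g⁻¹)⁻¹ * y * (h * g⁻¹)⁻¹⁻¹ = g * y * g⁻¹ := by
      intro y hy
      calc (h * g⁻¹)⁻¹ * y * (h * g⁻¹)⁻¹⁻¹ = g * (h⁻¹ * (y * h)) * g⁻¹ := by group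
        _ = g * y * g⁻¹ := by rw [hh y hy]; group
    have e2 : ∀ y ∈ Subgroup.zpowers x, (h * g⁻¹)⁻¹ * y * (h * g⁻¹)⁻¹⁻¹ = y := by
      rintro _ ⟨n, rfl⟩
      rw [(hhx.inv_left.zpow_right n).eq]
      group
    refine ⟨Cfsg.conjHom _ (h * g⁻¹)⁻¹, ⟨sup_le hPS (Subgroup.zpowers_le.mpr hxS), fun y => ?_,
      _, fun _ => rfl⟩, fun y => (e1 y y.2).trans (hg y).symm, fun y => e2 y y.2⟩
    have : (h * g⁻¹)⁻¹ •ᶜ (P ⊔ Subgroup.zpowers x) ≤ S := by
      rw [cj_sup]
      apply sup_le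
      · rintro _ ⟨y, hy, rfl⟩
        have := hφ ⟨y, hy⟩
        rw [hg, ← e1 y hy] at this
        exact this
      · rintro _ ⟨y, hy, rfl⟩
        have := Subgroup.zpowers_le.mpr hxS hy
        rw [← e2 y hy] at this
        exact this
    exact this (conj_mem_cj y.2)

end Cfsg.Agent.S5094
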