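import Cfsg.Statements.S5178
import Cfsg.Agent.FUS.SuperSol
import Cfsg.Agent.S5265

set_option autoImplicit false
universe u
open Cfsg

namespace Cfsg.Agent.S5178

open CL CL.Fus
open scoped commutatorElement

/-- Let p be an odd prime, S a finite p-group containing an extraspecial subgroup Q of index p, and F a saturated fusion system over S whose largest subgroup normal in F is trivial. Then the centre of S equals the centre of Q. -/
theorem result {Ω : Type u} [Group Ω] {S : Subgroup Ω} [Finite S] (p : ℕ) [Fact p.Prime] (hp : Odd p) (hS : IsPGroup p S)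
    (Q : Subgroup Ω) (hQS : Q ≤ S) (hQ : Cfsg.IsExtraspecial p ↥Q) (hQi : (Q.subgroupOf S).index = p)
    (F : Cfsg.FusionSystem S) (hF : F.IsSaturated p) (hO : F.core = ⊥) :
    S ⊓ Subgroup.centralizer (S : Set Ω) = Q ⊓ Subgroup.centralizer (Q : Set Ω) := by
  haveI := Fus.finite_of_le hQS
  have h : GenES p Q := ⟨hQ.1.1, hQ.1.2.1.trans hQ.1.2.2.symm, hQ.1.2.2 ▸ hQ.2⟩
  have hQQ : ⁅Q, Q⁆ ≤ Q := (Subgroup.commutator_le_sup Q Q).trans (sup_idem Q).le
  have hcard : Nat.card (⁅Q, Q⁆ : Subgroup Ω) = p := by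
    rw [← Subgroup.map_subtype_commutator, Subgroup.card_map_of_injective Q.subtype_injective, h.card]
  have hZ : ∀ z ∈ Q, z ∈ Subgroup.centralizer (Q : Set Ω) → z ∈ ⁅Q, Q⁆ := fun z hz h1 => by
    rw [← Subgroup.map_subtype_commutator, hQ.1.2.2]
    exact ⟨⟨z, hz⟩, Subgroup.mem_center_iff.2 fun y => Subtype.ext (h1 y y.2), rfl⟩
  haveI := PG.normal_of_index_eq hS hQi
  haveI : Finite (⁅Q, Q⁆ : Subgroup Ω) := Fus.finite_of_le hQQ
  have hn : S ≤ Subgroup.normalizer (Q : Set Ω) := (Subgroup.normal_subgroupOf_iff_le_normalizer hQS).1 inferInstance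
  have hc : S ≤ Subgroup.centralizer ((⁅Q, Q⁆ : Subgroup Ω) : Set Ω) := le_centralizer_of_card_dvd hS (hQQ.trans hQS)
    (fun s hs => mem_normalizer_of_cj_mem fun y hy => (Subgroup.map_le_iff_le_comap.1 (show
      ⁅Q, Q⁆.map (MulAut.conj s : Ω →* Ω) ≤ ⁅Q, Q⁆ by
        rw [Subgroup.map_commutator, Subgroup.mem_normalizer_iff_map_conj_eq.1 (hn hs)])) hy) hcard.dvd
  refine le_antisymm (fun z hz => ?_) fun z hz => ⟨hQS hz.1, Subgroup.le_centralizer_iff.1 hc (hZ z hz.1 hz.2)⟩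
  refine ⟨by_contra fun hzQ => ?_, fun y hy => hz.2 y (hQS hy)⟩
  have h1 : ∀ s ∈ S, ∃ q ∈ Q, ∃ n : ℤ, s = q * z ^ n := fun s hs => by
    have := (PG.isCoatom_of_index_eq_prime Fact.out hQi).2 (Q.subgroupOf S ⊔ Subgroup.zpowers ⟨z, hz.1⟩)
      (lt_of_le_of_ne le_sup_left fun e => hzQ (e.ge (Subgroup.mem_sup_right (Subgroup.mem_zpowers _))))
    obtain ⟨q, hq, _, ⟨n, rfl⟩, e⟩ := Subgroup.mem_sup_of_normal_left.1 (this.ge (Subgroup.mem_top ⟨s, hs⟩))
    exact ⟨q, hq, n, (congrArg Subtype.val e).symm⟩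
  have hzc : ∀ s ∈ S, ∀ n : ℤ, Commute (z ^ n) s := fun s hs n => (Commute.symm (hz.2 s hs)).zpow_left n
  have h2 : ⁅S, S⁆ = ⁅Q, Q⁆ := le_antisymm (Subgroup.commutator_le.2 fun a ha b hb => by
    obtain ⟨q, hq, n, rfl⟩ := h1 a ha
    obtain ⟨q', hq', m, rfl⟩ := h1 b hb
    have e : ⁅q * z ^ n, q' * z ^ m⁆ = ⁅q, q'⁆ := by
      rw [commutatorElement_def, commutatorElement_def, mul_assoc q, (hzc _ hb n).eq, mul_inv_rev, mul_inv_rev]
      have := (hzc _ (inv_mem (hQS hq)) m).eq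
      calc _ = q * q' * (z ^ m * q⁻¹) * (z ^ m)⁻¹ * q'⁻¹ := by group
        _ = _ := by rw [this]; group
    exact e ▸ Subgroup.commutator_mem_commutator hq hq') (Subgroup.commutator_mono hQS hQS)
  have h3 : GenES p S := by
    refine ⟨hS, le_antisymm (PG.frattini_le_of_commutator_le_of_pow_mem (p := p) le_rfl fun g =>
      (Subgroup.mem_map_iff_mem S.subtype_injective).1 ?_) (PG.commutator_le_frattini hS), ?_⟩
    · obtain ⟨q, hq, n, e⟩ := h1 g g.2
      rw [Subgroup.map_subtype_commutator, h2, map_pow, Subgroup.subtype_apply, e, (hzc q (hQS hq) n).symm.mul_pow,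
        ← zpow_natCast (z ^ n), ← zpow_mul, mul_comm n, zpow_mul, zpow_natCast]
      refine mul_mem ?_ (zpow_mem (hZ _ ?_ (pow_mem (show z ∈ Subgroup.centralizer (Q : Set Ω) from fun y hy => hz.2 y (hQS hy)) p)) n)
      · exact Subgroup.map_subtype_commutator Q ▸ Subgroup.mem_map_of_mem Q.subtype (h.pow_mem ⟨q, hq⟩)
      · exact hQi ▸ Subgroup.pow_index_mem (H := Q.subgroupOf S) ⟨z, hz.1⟩
    · rw [← Subgroup.card_map_of_injective S.subtype_injective, Subgroup.map_subtype_commutator, h2, hcard]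
  have hne : S ≠ ⊥ := fun e => hzQ (Subgroup.mem_bot.1 (e.le hz.1) ▸ one_mem Q)
  rcases normal_or_exists_of_genES hS hF (sc_top F) h3 with h4 | ⟨b, hb, hE, -⟩
  · exact hne (le_bot_iff.1 (hO ▸ le_core h4))
  have hA : AbIdx p (Subgroup.centralizer ({b} : Set S)) := ⟨hS, h3.na, hE.1, h3.index_centralizer hb⟩
  obtain ⟨e, F', h4, -⟩ := exists_corr_top F
  have h5 := (S5265.Hyp.odd ⟨hS, h4.isSaturated hF, h4.core_eq_bot_iff.2 hO, h3.na, by
    rw [← Subgroup.relIndex_mul_index hA.center_le, h3.relIndex_center hA, hA.idx, sq]⟩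
    (by rintro rfl; exact absurd hp (by decide))).2.1
  rw [← (Q.subgroupOf S).card_mul_index, hQi, Nat.card_congr (Subgroup.subgroupOfEquivOfLe hQS).toEquiv,
    pow_succ] at h5
  exact h.na (IsPGroup.isMulCommutative_of_card_eq_prime_sq (Nat.eq_of_mul_eq_mul_right (Fact.out : p.Prime).pos h5))

end Cfsg.Agent.S5178
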