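import Cfsg.Statements.S5180
import Cfsg.Agent.FUS.SR3Fus

set_option autoImplicit false
universe u
open Cfsg

namespace Cfsg.Agent.S5180

/-- Let p ≥ 5 be a prime, S a finite p-group of sectional p-rank exactly 3, and F a saturated fusion system over S. Then every essential subgroup E of F that needs three generators (the Frattini quotient E/Φ(E) has order p³) is normal in S. -/
theorem result {Ω : Type u} [Group Ω] {S : Subgroup Ω} [Finite S] (p : ℕ) [Fact p.Prime] (hp : 5 ≤ p) (hS : IsPGroup p S) (hsr : Cfsg.SectionalPRankLE p 3 ↥S ∧ ¬ Cfsg.SectionalPRankLE p 2 ↥S)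
    (F : Cfsg.FusionSystem S) (hF : F.IsSaturated p) (E : Subgroup Ω) (hE : F.IsEssential p E)
    (hrk : (frattini ↥E).index = p ^ 3) : S ≤ Subgroup.normalizer (E : Set Ω) := by
  obtain ⟨e, F', hc, he⟩ := CL.Fus.exists_corr_top F
  have hE' := CL.Fus.img_eq_subgroupOf he hE.1.1 ▸ hc.isEssential hE
  have hs := CL.SR3.SR.of_sectional hsr.1
  by_contra h
  obtain ⟨E', N, L, h1, h2⟩ := CL.SR3.exists_NN hS hs (hc.isSaturated hF)
    ((Fact.out : p.Prime).odd_of_ne_two (by omega)) hE' fun e => h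
      ((Subgroup.normal_subgroupOf_iff_le_normalizer hE.1.1).1 (Subgroup.normalizer_eq_top_iff.1 e))
  refine h1.not_rank_three hS hs (hc.isSaturated hF) hp (h2.trans ?_)
  rw [CL.SR3.Ph_subgroupOf hS hE.1.1, Subgroup.relIndex_subgroupOf hE.1.1, CL.SR3.relIndex_Ph, hrk]

end Cfsg.Agent.S5180
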