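import Cfsg.Statements.S5181
import Cfsg.Agent.FUS.SR3Sp

set_option autoImplicit false
universe u
open Cfsg

namespace Cfsg.Agent.S5181

/-- Let p be an odd prime, S a finite p-group of sectional p-rank exactly 3, and F a saturated fusion system over S whose largest subgroup normal in F is trivial. Then either S is isomorphic to a Sylow p-subgroup of Sp(4,p), or some essential subgroup of F is not normal in S. -/
theorem result {Ω : Type u} [Group Ω] {S : Subgroup Ω} [Finite S] (p : ℕ) [Fact p.Prime] (hp : Odd p) (hS : IsPGroup p S) (hsr : Cfsg.SectionalPRankLE p 3 ↥S ∧ ¬ Cfsg.SectionalPRankLE p 2 ↥S)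
    (F : Cfsg.FusionSystem S) (hF : F.IsSaturated p) (hO : F.core = ⊥) :
    (∃ P : Sylow p ↥(Matrix.symplecticGroup (Fin 2) (ZMod p)),
        Nonempty (↥S ≃* ↥(P : Subgroup ↥(Matrix.symplecticGroup (Fin 2) (ZMod p))))) ∨
      ∃ E : Subgroup Ω, F.IsEssential p E ∧ ¬ S ≤ Subgroup.normalizer (E : Set Ω) := by
  obtain ⟨e, F', hc, he⟩ := CL.Fus.exists_corr_top F
  have hs := CL.SR3.SR.of_sectional hsr.1
  have hF' := hc.isSaturated hF
  refine or_iff_not_imp_right.2 fun h => ?_
  have hn : ∀ E, F'.IsEssential p E → Subgroup.normalizer (E : Set S) = ⊤ := fun E hE => by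
    have h1 := CL.Fus.img_val E ▸ hc.symm.isEssential hE
    have h2 := (Subgroup.normal_subgroupOf_iff_le_normalizer h1.1.1).2 (by_contra fun e => h ⟨_, h1, e⟩)
    rw [Subgroup.subgroupOf, Subgroup.comap_map_eq_self_of_injective S.subtype_injective] at h2
    exact Subgroup.normalizer_eq_top E
  obtain ⟨E, R, hE, hR, hne, h⟩ := CL.SR3.exists_X2 hS hs hF' hp (hc.core_eq_bot_iff.2 hO)
    (CL.SR3.not_center_index hS hp hF' (hc.core_eq_bot_iff.2 hO) hsr.2) hn
  exact h.sylow hp (CL.SR3.locE_top hS hs hF' hE (hn E hE)) (CL.SR3.locE_top hS hs hF' hR (hn R hR)).index hne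

end Cfsg.Agent.S5181
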