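import Cfsg.Statements.S5182
import Cfsg.Agent.FUS.SR3Fus

set_option autoImplicit false
universe u
open Cfsg

namespace Cfsg.Agent.S5182

/-- Let p ≥ 5 be a prime, S a finite p-group of sectional p-rank exactly 3, and F a saturated fusion system over S whose largest subgroup normal in F is trivial. Then F has an essential subgroup that is either elementary abelian of order p² or extraspecial of order p³ and exponent p. -/
theorem result {Ω : Type u} [Group Ω] {S : Subgroup Ω} [Finite S] (p : ℕ) [Fact p.Prime] (hp : 5 ≤ p) (hS : IsPGroup p S) (hsr : Cfsg.SectionalPRankLE p 3 ↥S ∧ ¬ Cfsg.SectionalPRankLE p 2 ↥S)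
    (F : Cfsg.FusionSystem S) (hF : F.IsSaturated p) (hO : F.core = ⊥) :
    ∃ E : Subgroup Ω, (F.IsEssential p E ∧ ((Cfsg.IsElementaryAbelian p E ∧ Nat.card E = p ^ 2) ∨
        (Cfsg.IsExtraspecial p ↥E ∧ Nat.card E = p ^ 3 ∧ ∀ x ∈ E, x ^ p = 1))) := by
  obtain ⟨e, F', hc, he⟩ := CL.Fus.exists_corr_top F
  have hs := CL.SR3.SR.of_sectional hsr.1
  have hF' := hc.isSaturated hF
  have hp2 : Odd p := (Fact.out : p.Prime).odd_of_ne_two (by omega)
  suffices h : ∃ E : Subgroup S, F'.IsEssential p E ∧ ((Cfsg.IsElementaryAbelian p E ∧ Nat.card E = p ^ 2) ∨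
      (Cfsg.IsExtraspecial p E ∧ Nat.card E = p ^ 3 ∧ ∀ x ∈ E, x ^ p = 1)) by
    obtain ⟨E, h1, h2⟩ := h
    have φ := E.equivMapOfInjective S.subtype S.subtype_injective
    have c := Nat.card_congr φ.toEquiv
    have k : (∀ x ∈ E, x ^ p = 1) → ∀ x ∈ E.map S.subtype, x ^ p = 1 := by
      rintro h _ ⟨x, hx, rfl⟩
      exact congrArg Subtype.val (h x hx)
    refine ⟨E.map S.subtype, CL.Fus.img_val E ▸ hc.symm.isEssential h1, h2.imp (fun h => ⟨⟨?_, k h.1.2⟩, c ▸ h.2⟩)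
      fun h => ⟨CL.EssSm.isExtraspecial_congr φ h.1, c ▸ h.2.1, k h.2.2⟩⟩
    have := h.1.1
    infer_instance
  by_cases hn : ∀ E, F'.IsEssential p E → Subgroup.normalizer (E : Set S) = ⊤
  · obtain ⟨E, R, -, hR, -, h⟩ := CL.SR3.exists_X2 hS hs hF' hp2 (hc.core_eq_bot_iff.2 hO)
      (CL.SR3.not_center_index hS hp2 hF' (hc.core_eq_bot_iff.2 hO) hsr.2) hn
    exact ⟨R, hR, .inr ⟨h.2.2.2.1, h.card' (CL.SR3.locE_top hS hs hF' hR (hn R hR)).index, h.2.2.2.2.1⟩⟩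
  push Not at hn
  obtain ⟨E, hE, hn⟩ := hn
  obtain ⟨E', N, L, h1, -⟩ := CL.SR3.exists_NN hS hs hF' hp2 hE hn
  refine ⟨E', h1.ess, h1.pearl ?_⟩
  obtain ⟨k, hk⟩ := CL.SR3.relIndex_pow hS (CL.SR3.Ph E') E'
  have h2 := hs.relIndex_Ph (hS.to_subgroup E')
  have h3 := h1.not_rank_three hS hs hF' hp
  have h4 : k ≠ 3 := fun e => h3 (e ▸ hk)
  rw [hk, Nat.pow_le_pow_iff_right (Fact.out : p.Prime).one_lt] at h2 ⊢
  omega

end Cfsg.Agent.S5182
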