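import Cfsg.Statements.S5187
import Cfsg.Agent.FUS.EssSmall

set_option autoImplicit false
universe u
open Cfsg

namespace Cfsg.Agent.S5187

/-- Let F be a saturated fusion system over a finite p-group S and H an abelian essential subgroup that can be generated by two elements (its Frattini quotient has order at most p²). Then H is elementary abelian of order p², or p ≤ 3 and H is homocyclic of rank two, that is isomorphic to C_{pᵏ} × C_{pᵏ} for some k. -/
theorem result {Ω : Type u} [Group Ω] {S : Subgroup Ω} [Finite S] (p : ℕ) [Fact p.Prime] (hS : IsPGroup p S)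
    (F : Cfsg.FusionSystem S) (hF : F.IsSaturated p) (H : Subgroup Ω) (hH : F.IsEssential p H) (hab : IsMulCommutative ↥H) (hrk : (frattini ↥H).index ≤ p ^ 2) :
    (Cfsg.IsElementaryAbelian p H ∧ Nat.card H = p ^ 2) ∨
      (p ≤ 3 ∧ ∃ k : ℕ, Nonempty (↥H ≃* Multiplicative (ZMod (p ^ k) × ZMod (p ^ k)))) := by
  have := CL.Fus.finite_of_le hH.1.1
  obtain ⟨u, h⟩ := CL.EssSm.exists_rad_of_essential hS hF hH
  obtain ⟨n, hn⟩ := IsPGroup.index h.pg (frattini H)
  rw [hn, Nat.pow_le_pow_iff_right (Fact.out : p.Prime).one_lt] at hrk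
  rcases h.rank_two hab (hn ▸ pow_dvd_pow p hrk) with ⟨h1, h2⟩ | h1
  · exact Or.inl ⟨⟨hab, fun a ha => congrArg Subtype.val (h1 ⟨a, ha⟩)⟩, h2⟩
  · exact Or.inr h1

end Cfsg.Agent.S5187
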