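import Cfsg.Statements.S5189
import Cfsg.Agent.FUS.SR3Sp

set_option autoImplicit false
universe u
open Cfsg

namespace Cfsg.Agent.S5189

/-- Let p be an odd prime, S a finite p-group of sectional p-rank exactly 3, and F a saturated fusion system over S whose largest subgroup normal in F is trivial. Suppose S has two distinct essential subgroups E₁, E₂ each of which is invariant under every F-automorphism of S. Then S is isomorphic to a Sylow p-subgroup of Sp(4,p), and one of E₁, E₂ is extraspecial of order p³ and exponent p while the other is elementary abelian of order p³. -/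
theorem result {Ω : Type u} [Group Ω] {S : Subgroup Ω} [Finite S] (p : ℕ) [Fact p.Prime] (hp : Odd p) (hS : IsPGroup p S)
    (hsr : Cfsg.SectionalPRankLE p 3 ↥S ∧ ¬ Cfsg.SectionalPRankLE p 2 ↥S)
    (F : Cfsg.FusionSystem S) (hF : F.IsSaturated p) (hO : F.core = ⊥)
    (E₁ E₂ : Subgroup Ω) (hne : E₁ ≠ E₂) (hE₁ : F.IsEssential p E₁) (hE₂ : F.IsEssential p E₂)
    (hc₁ : (∀ φ : MulAut ↥S, φ ∈ F.autGroup S → (E₁.subgroupOf S).map φ.toMonoidHom = E₁.subgroupOf S))
    (hc₂ : (∀ φ : MulAut ↥S, φ ∈ F.autGroup S → (E₂.subgroupOf S).map φ.toMonoidHom = E₂.subgroupOf S)) :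
    (∃ P : Sylow p ↥(Matrix.symplecticGroup (Fin 2) (ZMod p)),
        Nonempty (↥S ≃* ↥(P : Subgroup ↥(Matrix.symplecticGroup (Fin 2) (ZMod p))))) ∧
      ((Cfsg.IsExtraspecial p ↥E₁ ∧ Nat.card E₁ = p ^ 3 ∧ (∀ x ∈ E₁, x ^ p = 1) ∧
          Cfsg.IsElementaryAbelian p E₂ ∧ Nat.card E₂ = p ^ 3) ∨
        (Cfsg.IsExtraspecial p ↥E₂ ∧ Nat.card E₂ = p ^ 3 ∧ (∀ x ∈ E₂, x ^ p = 1) ∧
          Cfsg.IsElementaryAbelian p E₁ ∧ Nat.card E₁ = p ^ 3)) := by
  obtain ⟨e, F', hc, he⟩ := CL.Fus.exists_corr_top F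
  have hs := CL.SR3.SR.of_sectional hsr.1
  have hF' := hc.isSaturated hF
  let E : Bool → Subgroup Ω := fun b => cond b E₁ E₂
  have hE : ∀ b, F.IsEssential p (E b) := fun b => by cases b <;> assumption
  have hE' : ∀ b, F'.IsEssential p ((E b).subgroupOf S) := fun b =>
    CL.Fus.img_eq_subgroupOf he (hE b).1.1 ▸ hc.isEssential (hE b)
  have inj : Function.Injective fun b => (E b).subgroupOf S := fun i j h => by
    have := (Subgroup.map_subgroupOf_eq_of_le (hE i).1.1).symm.trans ((congrArg (Subgroup.map S.subtype) h).trans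
      (Subgroup.map_subgroupOf_eq_of_le (hE j).1.1))
    cases i <;> cases j
    exacts [rfl, absurd this.symm hne, absurd this hne, rfl]
  have hi : ∀ b g, CL.Fus.Mor F' ⊤ g → CL.Fus.img g ((E b).subgroupOf S) = (E b).subgroupOf S := fun b g hg => by
    have hm := hc.mor' hg
    rw [hc.iso.symm.img_eq] at hm
    obtain ⟨φ, hφ, e1⟩ := hm.exists_aut hm.img_top
    have e2 : g = φ.toMonoidHom := funext fun x => Subtype.ext (by
      have := e1 x.2
      rw [CL.Fus.autFun_coe, Function.comp_apply, Function.comp_apply, he] at this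
      exact this.symm)
    rw [e2, CL.Fus.img_monoidHom]
    cases b
    exacts [hc₂ φ hφ, hc₁ φ hφ]
  have loc := fun i => CL.SR3.locE_top hS hs hF' (hE' i) (top_le_iff.1 fun g _ => CL.Fus.mem_normalizer_iff_img_cj.2
    (hi i _ (CL.Fus.mor_cj F' le_rfl trivial)))
  obtain ⟨i, j, hij, h⟩ := CL.SR3.X2_of_two hS hs hF' hp
    (CL.SR3.not_center_index hS hp hF' (hc.core_eq_bot_iff.2 hO) hsr.2) _ inj hE' hi
  refine ⟨h.sylow hp (loc i) (loc j).index (inj.ne hij), ?_⟩
  have φ := fun b => Subgroup.subgroupOfEquivOfLe (hE b).1.1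
  have c := fun b => Nat.card_congr (φ b).toEquiv
  have k : Cfsg.IsExtraspecial p (E j) ∧ Nat.card (E j) = p ^ 3 ∧ (∀ x ∈ E j, x ^ p = 1) ∧
      Cfsg.IsElementaryAbelian p (E i) ∧ Nat.card (E i) = p ^ 3 :=
    ⟨CL.EssSm.isExtraspecial_congr (φ j) h.2.2.2.1, c j ▸ h.card' (loc j).index,
      fun x hx => congrArg Subtype.val (h.2.2.2.2.1 ⟨x, (hE j).1.1 hx⟩ hx),
      ⟨Function.Surjective.mul_comm (f := (φ i).toMulHom) (φ i).surjective h.2.2.1.1,
        fun x hx => congrArg Subtype.val (h.2.2.1.2 ⟨x, (hE i).1.1 hx⟩ hx)⟩, c i ▸ h.card (loc i)⟩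
  cases i <;> cases j
  exacts [absurd rfl hij, .inl k, .inr k, absurd rfl hij]

end Cfsg.Agent.S5189
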