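import Cfsg.Statements.S5213
import Cfsg.Agent.INV.RankTwo2

set_option autoImplicit false
open Cfsg

namespace Cfsg.Agent.S5213


/-- Let S be a finite 2-group of 2-rank 2 (it has an elementary abelian subgroup of order 4 and none of order 8) and F a saturated fusion system over S with trivial centre. Then S is dihedral, semidihedral, wreathed, homocyclic abelian (a direct product of cyclic groups of one common order), or isomorphic to a Sylow 2-subgroup of the projective special unitary group PSU₃(4) (realised over the field with 16 elements). -/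
theorem result {Ω : Type*} [Group Ω] {S : Subgroup Ω} [Finite S] (hS : IsPGroup 2 S) (F : Cfsg.FusionSystem S) (hF : F.IsSaturated 2) (hr : Cfsg.PRankAtLeast 2 2 ↥S ∧ ¬ Cfsg.PRankAtLeast 2 3 ↥S) (hZ : F.center = ⊥) {K : Type*} [Field K] [Fintype K] (hK : Fintype.card K = 16) : (∃ m : ℕ, Nonempty (↥S ≃* DihedralGroup m)) ∨ Cfsg.IsQuasiDihedral ↥S ∨ Cfsg.IsWreathed ↥S ∨ (∃ n k : ℕ, Nonempty (↥S ≃* Multiplicative (Fin k → ZMod (2 ^ n)))) ∨ ∃ T : Sylow 2 (Cfsg.PSU 3 K 4), Nonempty (↥S ≃* ↥(T : Subgroup (Cfsg.PSU 3 K 4))) := by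
  have hK' : Fintype.card K = 4 ^ 2 := hK
  have : CharP K 2 := CL.U3.charP_two (n := 2) two_ne_zero hK'
  have h2 : Cfsg.PRankLE 2 2 S := fun A h1 h2 => by
    by_contra hlt
    obtain ⟨k, hk⟩ := IsPGroup.iff_card.1 (hS.to_subgroup A)
    refine hr.2 ⟨A, h1, h2, ?_⟩
    rw [hk] at hlt ⊢
    exact Nat.pow_le_pow_right two_pos
      ((Nat.pow_lt_pow_iff_right one_lt_two).1 (not_le.1 hlt))
  have h1 : ¬ Cfsg.PRankLE 2 1 S := fun h => by
    obtain ⟨A, h1, h2, h3⟩ := hr.1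
    have := h A h1 h2
    omega
  rcases CL.Three.rkTwo_fusionSystem hK' hS F hF h2 h1 (fun z hz _ => by rwa [hZ] at hz) with
    ⟨m, -, h⟩ | h | h | ⟨n, -, ⟨e⟩⟩ | ⟨⟨e⟩⟩
  · exact Or.inl ⟨m, h⟩
  · exact Or.inr (Or.inl h)
  · exact Or.inr (Or.inr (Or.inl h))
  · exact Or.inr (Or.inr (Or.inr (Or.inl ⟨n, 2, ⟨e.trans
      (AddEquiv.toMultiplicative (LinearEquiv.finTwoArrow ℤ (ZMod (2 ^ n))).toAddEquiv.symm)⟩⟩)))
  · have : Finite (Cfsg.PSU 3 K 4) := inferInstance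
    obtain ⟨P⟩ : Nonempty (Sylow 2 (Cfsg.PSU 3 K 4)) := inferInstance
    obtain ⟨e'⟩ := CL.U3.nonempty_sylow_PSU hK' 2 P
    exact Or.inr (Or.inr (Or.inr (Or.inr ⟨P, ⟨e.trans e'.symm⟩⟩)))

end Cfsg.Agent.S5213
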