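import Cfsg.Statements.S5217
import Cfsg.Agent.FUS.Iso
import Cfsg.Agent.FUS.BC.Loc
import Cfsg.Agent.FUS.BC.KB
import Cfsg.Agent.FUS.BC.GH
import Cfsg.Agent.FUS.BC.GC
import Cfsg.Agent.FUS.BC.Sat
import Cfsg.Agent.FUS.BC.Cfg
import Cfsg.Agent.FUS.BC.StA
import Cfsg.Agent.FUS.BC.StB

set_option autoImplicit false
open Cfsg

namespace Cfsg.Agent.S5217

open Subgroup CL CL.Fus CL.Bic CL.BC

section

theorem eq_one_of_odd {Ω : Type*} [Group Ω] {G : Subgroup Ω} [Finite G] (hG : IsPGroup 2 G) {x y : G} (hb : BicOn ⊤ x y) (hm : ¬ IsMetacyclic G)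
    {α : MulAut G} (hα : (orderOf α).Coprime 2) : α = 1 := by
  obtain ⟨T, hT, hTc, -⟩ := hb.exists_third hG hm
  have h1 : frattini G ≤ T := PG.frattini_le_of_commutator_le_of_pow_mem (p := 2)
    (by
      have := normal_of_index_eq_two hT
      rw [commutator_def, commutator_le]
      intro a _ b _
      rw [commutatorElement_def, mul_mem_iff_of_index_two hT, mul_mem_iff_of_index_two hT,
        mul_mem_iff_of_index_two hT, inv_mem_iff, inv_mem_iff]
      tauto)
    fun g => by rw [sq, mul_mem_iff_of_index_two hT]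
  have h2 := hb.gen2.relIndex_le (B := frattini G) le_top fun m _ => by
    rw [← sq]; exact PG.pow_mem_frattini hG m
  have h3 := relIndex_mul_index h1
  rw [relIndex_top_right] at h2
  have h4 : (frattini G).index ≠ 0 := index_ne_zero_of_finite
  refine PowOrComm.eq_one_of_flag hG ⟨T, hTc, h1, hT.dvd, ?_⟩ (powOrComm_two (mem_top α)) hα
  have : (frattini G).relIndex T = 1 ∨ (frattini G).relIndex T = 2 := by
    rw [hT] at h3; omega
  rcases this with e | e <;> simp [e]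

variable {G : Type*} [Group G] [Finite G]

theorem cyclic_of_sat (hG : IsPGroup 2 G) {x y : G} (hb : BicOn ⊤ x y) (hm : ¬ IsMetacyclic G)
    {F : FusionSystem (⊤ : Subgroup G)} (hF : F.IsSaturated 2) (hne : F ≠ innerFusionSystem ⊤) :
    IsCyclic (commutator G) := by
  by_contra hc
  have hS : IsPGroup 2 (⊤ : Subgroup G) := hG.to_subgroup ⊤
  obtain ⟨Q, hQ⟩ : ∃ Q, F.IsEssential 2 Q := by
    by_contra hn
    refine hne (eq_inner_of_coprime hS hF fun R hR α _ hα => ?_)
    obtain rfl := hR.resolve_right fun h => hn ⟨R, h⟩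
    exact eq_one_of_odd hS (x := ⟨x, mem_top x⟩) (y := ⟨y, mem_top y⟩) ⟨mem_top _, mem_top _, fun g _ =>
      (hb.eq g (mem_top _)).imp fun i hi => hi.imp fun j hj => Subtype.ext hj⟩
      (fun h => hm (MC.metacyclic_of_surjective h (topEquiv (G := G)).toMonoidHom (topEquiv (G := G)).surjective)) hα
  obtain ⟨M, hxM, hM⟩ := exists_index_two hG (A := zpowers x) fun e => hm (R2.metacyclic_of_pair (x := x) (y := x)
    (by rw [e]; infer_instance) (by rw [Set.pair_eq_singleton, ← zpowers_eq_closure, e]))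
  have hmM := hb.metacyclic_max hG hm hM (hxM (mem_zpowers x))
  obtain ⟨A, U, hA⟩ := exists_amb hG hb hm hc
  obtain ⟨t, α, h3⟩ := exists_S3 hG hF hQ hM hmM
  obtain ⟨c, R, hR, ⟨a, b, hq⟩ | ⟨K, u, v, hk, ⟨k, rfl⟩, ⟨l, rfl⟩⟩⟩ := exists_K hG h3 hM hmM
  · by_cases ha : a ∈ A
    · by_cases h2 : a ^ 2 = 1
      · refine false_of_HM hA h3.n hR (hq.hm h2) ha ?_
        have : b = a⁻¹ * (t * a * t⁻¹) := by rw [hq.ta, inv_mul_cancel_left]
        rw [this]
        exact hA.W_le (by simpa [commutator_def, commutatorElement_def, mul_assoc] using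
          commutator_mem_commutator (mem_top a⁻¹) (mem_top t))
      · exact false_of_Q8_mem hA hq ha h2
    · exact false_of_Q8_not_mem hA h3.n hq ha
  · exact false_of_HM hA h3.n hR hk (hA.sq k) (hA.sq l)

theorem sat_of_cyclic (hG : IsPGroup 2 G) {x y : G} (hb : BicOn ⊤ x y) (hm : ¬ IsMetacyclic G)
    (hc : IsCyclic (commutator G)) :
    ∃ F : FusionSystem (⊤ : Subgroup G), F.IsSaturated 2 ∧ F ≠ innerFusionSystem ⊤ := by
  obtain ⟨a, x, hg, ha⟩ := exists_ax hG hb hm hc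
  obtain ⟨a, x, w, c, n, h⟩ := exists_ST hG hm hc hg ha
  obtain ⟨Q, t, a, b, c, hq, tc, hn, hd⟩ := exists_Q8 h
  obtain ⟨α, h3, hmin⟩ := exists_S3_of_Q8 hq tc hn hd
  exact exists_sat hG h3 hmin

end

/-- Let S be a finite bicyclic 2-group (S = ⟨x⟩⟨y⟩) that is not metacyclic. Then S supports a saturated fusion system other than its inner fusion system if and only if the commutator subgroup of S is cyclic. -/
theorem result {Ω : Type*} [Group Ω] {S : Subgroup Ω} [Finite S] (hS : IsPGroup 2 S) (hb : ∃ x y : ↥S, ∀ g : ↥S, ∃ i j : ℤ, g = x ^ i * y ^ j) (hm : ¬ Cfsg.IsMetacyclic ↥S) : (∃ F : Cfsg.FusionSystem S, F.IsSaturated 2 ∧ ¬ ∀ P : Subgroup Ω, F.Hom P = (Cfsg.innerFusionSystem S).Hom P) ↔ IsCyclic ↥(commutator ↥S) := by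
  obtain ⟨x, y, hxy⟩ := hb
  have hb : BicOn (⊤ : Subgroup S) x y := ⟨mem_top x, mem_top y, fun g _ => hxy g⟩
  obtain ⟨e, e', he, -⟩ := exists_isoOn_of_equiv (S := S) (S' := (⊤ : Subgroup S)) topEquiv.symm
  constructor
  · rintro ⟨F, hF, hne⟩
    obtain ⟨F', h⟩ := he.exists_corr F
    exact cyclic_of_sat hS hb hm (h.isSaturated hF) fun e => hne fun P => by rw [h.eq_inner_iff.1 e]
  · intro hc
    obtain ⟨F', hF', hne⟩ := sat_of_cyclic hS hb hm hc
    obtain ⟨F, h⟩ := he.symm.exists_corr F'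
    exact ⟨F, h.isSaturated hF', fun e => hne (h.eq_inner_iff.1 (FusionSystem_ext e))⟩

end Cfsg.Agent.S5217
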