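import Cfsg.Statements.S5227
import Cfsg.Agent.FUS.C1.Main

set_option autoImplicit false
open Cfsg

namespace Cfsg.Agent.S5227

/-- Let S be a finite 3-group isomorphic to a Sylow 3-subgroup of the Conway group Co₁ and F a saturated fusion system over S with no nontrivial normal subgroup (O₃(F) = 1). Then F is realizable: it is the fusion system of a finite group on a Sylow 3-subgroup. -/
theorem result {Ω : Type*} [Group Ω] {S : Subgroup Ω} [Finite S] (hS : IsPGroup 3 S) (F : Cfsg.FusionSystem S) (hF : F.IsSaturated 3) [Fact (Nat.Prime 3)] (T : Sylow 3 Cfsg.Spor.Co1) (e : ↥S ≃* ↥(T : Subgroup Cfsg.Spor.Co1)) (hcore : F.core = ⊥) : F.IsRealizable 3 := by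
  obtain ⟨ι, M, -⟩ := CL.C1F.exists_co
  have : Finite Co0 := Nat.finite_of_card_ne_zero (by rw [CL.Leech.card_Co0]; norm_num)
  let κ : CL.C1F.U →* Cfsg.Spor.Co1 := (QuotientGroup.mk' _).comp ι
  have hκ : Function.Injective κ := (injective_iff_map_eq_one κ).2 fun x hx => by
    have h1 : ι x ∈ Subgroup.center Co0 := (QuotientGroup.eq_one_iff _).1 hx
    have h2 : ι x ^ 2 = 1 := by
      rcases CL.Leech.mem_center_iff.1 h1 with k | k
      · rw [k, one_pow]
      · rw [k, sq, CL.Leech.neg1_mul_self]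
    obtain ⟨n, hn⟩ := CL.C1F.pgU x
    have h3 : x ^ 2 = 1 := M.inj (by rw [map_pow, h2, map_one])
    have h4 := pow_gcd_eq_one.2 ⟨h3, hn⟩
    rwa [Nat.Coprime.gcd_eq_one (Nat.Coprime.pow_right n (by norm_num)), pow_one] at h4
  have hp : IsPGroup 3 κ.range := CL.C1F.pgU.of_surjective _ κ.rangeRestrict_surjective
  let P : Sylow 3 Cfsg.Spor.Co1 := hp.toSylow fun k => M.idx (k.trans (by
    rw [MonoidHom.range_comp]
    exact Subgroup.index_map_dvd _ (QuotientGroup.mk'_surjective _)))
  obtain ⟨e₁, e', h, -⟩ := CL.Fus.exists_isoOn_of_equiv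
    (((e.trans (T.equiv P)).trans (MonoidHom.ofInjective hκ).symm).trans Subgroup.topEquiv.symm)
  obtain ⟨F', hF'⟩ := h.exists_corr F
  exact hF'.symm.isRealizable (CL.C1F.main (hF'.isSaturated hF) (hF'.core_eq_bot_iff.2 hcore))

end Cfsg.Agent.S5227
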