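import Cfsg.Statements.S5248
import Cfsg.Agent.FUS.Rk2Main

set_option autoImplicit false
open Cfsg

namespace Cfsg.Agent.S5248


/-- Let S be a finite 2-group that is dihedral of order at least 8, generalized quaternion of order at least 8, semidihedral, or wreathed, and let F be a saturated fusion system over S. Then F has at most two F-conjugacy classes of F-essential subgroups (among any three essential subgroups two are joined by a map of F), and F is realizable: it is the fusion system of a finite group on a Sylow 2-subgroup. -/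
theorem result {Ω : Type*} [Group Ω] {S : Subgroup Ω} [Finite S] (hS : IsPGroup 2 S) (F : Cfsg.FusionSystem S) (hF : F.IsSaturated 2) (hshape : ((∃ m : ℕ, 4 ≤ m ∧ Nonempty (↥S ≃* DihedralGroup m)) ∨ (∃ m : ℕ, 2 ≤ m ∧ Nonempty (↥S ≃* QuaternionGroup m)) ∨ Cfsg.IsQuasiDihedral ↥S ∨ Cfsg.IsWreathed ↥S)) : (∀ E₁ E₂ E₃ : Subgroup Ω, F.IsEssential 2 E₁ → F.IsEssential 2 E₂ → F.IsEssential 2 E₃ → (∃ φ ∈ F.Hom E₁, φ.range = E₂) ∨ (∃ φ ∈ F.Hom E₁, φ.range = E₃) ∨ (∃ φ ∈ F.Hom E₂, φ.range = E₃)) ∧ F.IsRealizable 2 := by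
  rcases hshape with ⟨m, hm, ⟨e⟩⟩ | ⟨m, hm, ⟨e⟩⟩ | h | h
  · obtain ⟨n, hn, ⟨c⟩⟩ := CL.Rk2.exists_dih_coord hS hm e
    have key : ∀ k E E', (∃ j, CL.Z2.hh n * j = CL.Z2.hh n * k ∧ c.IsSub E 2 j) →
        (∃ j, CL.Z2.hh n * j = CL.Z2.hh n * k ∧ c.IsSub E' 2 j) → F.IsConj E E' := by
      rintro k E E' ⟨j, hj, h⟩ ⟨j', hj', h'⟩
      obtain ⟨t, rfl⟩ := h.exists_conj h' (hj.trans hj'.symm)
      exact CL.Rk2.isConj_map h.1 (c.r_mem t)
    exact ⟨fun _ _ _ h1 h2 h3 => CL.Rk2.two_classes (key 0) (key 1) (c.essential_cases hF h1)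
      (c.essential_cases hF h2) (c.essential_cases hF h3), CL.Rk2.dih_realizable c hn hF⟩
  · obtain ⟨n, ⟨c⟩⟩ := CL.Quat.exists_coord hS hm e
    have key : ∀ k E E', (∃ j, CL.Z2.hh n * j = CL.Z2.hh n * k ∧ c.IsSub E 4 j) →
        (∃ j, CL.Z2.hh n * j = CL.Z2.hh n * k ∧ c.IsSub E' 4 j) → F.IsConj E E' := by
      rintro k E E' ⟨j, hj, h⟩ ⟨j', hj', h'⟩
      obtain ⟨t, rfl⟩ := h.exists_conj h' (hj.trans hj'.symm)
      exact CL.Rk2.isConj_map h.1 (c.r_mem t)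
    exact ⟨fun _ _ _ h1 h2 h3 => CL.Rk2.two_classes (key 0) (key 1) (c.essential_cases hF h1)
      (c.essential_cases hF h2) (c.essential_cases hF h3), CL.Rk2.quat_realizable c hF⟩
  · obtain ⟨n, ⟨c⟩⟩ := CL.QD.exists_coord h
    have key : ∀ d k E E', (∃ j, CL.Z2.hh n * j = k ∧ c.IsSub E d j) →
        (∃ j, CL.Z2.hh n * j = k ∧ c.IsSub E' d j) → F.IsConj E E' := by
      rintro d k E E' ⟨j, hj, h⟩ ⟨j', hj', h'⟩
      obtain ⟨t, rfl⟩ := h.exists_conj h' (hj.trans hj'.symm)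
      exact CL.Rk2.isConj_map h.1 (c.r_mem t)
    exact ⟨fun _ _ _ h1 h2 h3 => CL.Rk2.two_classes (key 2 0) (key 4 _) (c.essential_cases hF h1)
      (c.essential_cases hF h2) (c.essential_cases hF h3), CL.Rk2.qd_realizable c hF⟩
  · obtain ⟨n, ⟨c⟩⟩ := CL.Wr.exists_coord h
    have key : ∀ E E', (∃ j, CL.Z2.hh n * j = 0 ∧ c.IsOver E 2 j) →
        (∃ j, CL.Z2.hh n * j = 0 ∧ c.IsOver E' 2 j) → F.IsConj E E' := by
      rintro E E' ⟨j, hj, h⟩ ⟨j', hj', h'⟩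
      obtain ⟨t, rfl⟩ := h.exists_conj h' (hj.trans hj'.symm)
      exact CL.Rk2.isConj_map h.1 (c.u_mem t 0)
    have key' : ∀ E E', E = c.base → E' = c.base → F.IsConj E E' := by
      rintro _ _ rfl rfl
      exact CL.Fus.isConj_refl F c.base_le
    exact ⟨fun _ _ _ h1 h2 h3 => CL.Rk2.two_classes key' key (c.essential_cases hF h1)
      (c.essential_cases hF h2) (c.essential_cases hF h3), CL.Rk2.wr_realizable c hF⟩

end Cfsg.Agent.S5248
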