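import Cfsg.Statements.S5258
import Cfsg.Agent.FUS.U5.Main

set_option autoImplicit false
open Cfsg

namespace Cfsg.Agent.S5258

/-- Let p be a prime, K a finite field with q² elements where q = pⁿ (n ≥ 1), and S a finite p-group isomorphic to a Sylow p-subgroup of the projective special unitary group PSU₅(q) realised over K. Then every saturated fusion system over S is realizable: it is the fusion system of a finite group on a Sylow p-subgroup. -/
theorem result {Ω : Type*} [Group Ω] {S : Subgroup Ω} [Finite S] (p : ℕ) [Fact p.Prime] (hS : IsPGroup p S) (F : Cfsg.FusionSystem S) (hF : F.IsSaturated p) {K : Type*} [Field K] [Fintype K] [CharP K p] (n : ℕ) (hn : 1 ≤ n) (hK : Fintype.card K = (p ^ n) ^ 2) (T : Sylow p (Cfsg.PSU 5 K (p ^ n))) (e : ↥S ≃* ↥(T : Subgroup (Cfsg.PSU 5 K (p ^ n)))) : F.IsRealizable p := by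
  have : CL.U5.Un (CL.Uni.sig hK) := ⟨CL.Uni.sig_sig hK, by
    by_contra! k
    exact CL.Uni.sig_ne_id hK (RingHom.ext k), fun c hc =>
      let ⟨x, hx⟩ := CL.SqField.exists_norm_eq hK (μ := c) hc; ⟨x, by rw [CL.Uni.sig_apply, ← pow_succ', hx]⟩⟩
  obtain ⟨G, ⟨M⟩, u, hu, ho⟩ := CL.U5.exists_Md hK p
  let P : Sylow p (Cfsg.PSU 5 K (p ^ n)) := ((CL.U5.isPGroup_U p).of_surjective _ u.rangeRestrict_surjective).toSylow ho
  obtain ⟨e₁, e', h, -⟩ := CL.Fus.exists_isoOn_of_equiv
    (((e.trans (T.equiv P)).trans (MonoidHom.ofInjective hu).symm).trans Subgroup.topEquiv.symm)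
  obtain ⟨F', hF'⟩ := h.exists_corr F
  exact hF'.symm.isRealizable (CL.U5.main M (hF'.isSaturated hF))

end Cfsg.Agent.S5258
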