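import Cfsg.Statements.S5261
import Cfsg.Agent.FUS.D3.Main
import Cfsg.Agent.FUS.D3.Model

set_option autoImplicit false
open Cfsg

namespace Cfsg.Agent.S5261

/-- Let p be a prime, q = pⁿ (n ≥ 1), K a finite field with q³ elements, and S a finite p-group isomorphic to a Sylow p-subgroup of the twisted group ³D₄(q) realised over K. Then every saturated fusion system over S is realizable: it is the fusion system of a finite group on a Sylow p-subgroup. -/
theorem result {Ω : Type*} [Group Ω] {S : Subgroup Ω} [Finite S] (p : ℕ) [Fact p.Prime] (hS : IsPGroup p S) (F : Cfsg.FusionSystem S) (hF : F.IsSaturated p) {K : Type*} [Field K] [Fintype K] [CharP K p] (n : ℕ) (hn : 1 ≤ n) (hK : Fintype.card K = (p ^ n) ^ 3) (T : Sylow p ↥(Cfsg.Lie.twistedD4 K (p ^ n))) (e : ↥S ≃* ↥(T : Subgroup ↥(Cfsg.Lie.twistedD4 K (p ^ n)))) : F.IsRealizable p := by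
  obtain ⟨σ, _, ⟨R⟩⟩ := CL.D3.exists_RD K p hn hK
  let P : Sylow p ↥(Cfsg.Lie.twistedD4 K (p ^ n)) :=
    ((CL.D3.isPGroup_U p).of_surjective _ R.ι.rangeRestrict_surjective).toSylow R.idx
  obtain ⟨e₁, e', h, -⟩ := CL.Fus.exists_isoOn_of_equiv
    (((e.trans (T.equiv P)).trans (MonoidHom.ofInjective R.inj).symm).trans Subgroup.topEquiv.symm)
  obtain ⟨F', hF'⟩ := h.exists_corr F
  exact hF'.symm.isRealizable (CL.D3.main R (hF'.isSaturated hF))

end Cfsg.Agent.S5261
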