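import Cfsg.Statements.S5262
import Cfsg.Agent.FUS.RF4.Main
import Cfsg.Agent.INV.RF.Model

set_option autoImplicit false
open Cfsg

namespace Cfsg.Agent.S5262

/-- Let m ≥ 0, K a finite field with 2^(2m+1) elements, and S a finite 2-group isomorphic to a Sylow 2-subgroup of the Ree group ²F₄(2^(2m+1)) realised over K (its defining field endomorphism being t ↦ t^(2^m); m = 0 gives ²F₄(2)). Then every saturated fusion system over S is realizable: it is the fusion system of a finite group on a Sylow 2-subgroup. -/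
theorem result {Ω : Type*} [Group Ω] {S : Subgroup Ω} [Finite S] (hS : IsPGroup 2 S) (F : Cfsg.FusionSystem S) (hF : F.IsSaturated 2) {K : Type*} [Field K] [Fintype K] (m : ℕ) (hK : Fintype.card K = 2 ^ (2 * m + 1)) (T : Sylow 2 ↥(Cfsg.Lie.twistedF4 K (2 ^ m))) (e : ↥S ≃* ↥(T : Subgroup ↥(Cfsg.Lie.twistedF4 K (2 ^ m)))) : F.IsRealizable 2 := by
  obtain ⟨σ, _, r, A, hA, ho⟩ := CL.RF.exists_OS (K := K) (m := m) (by rw [Nat.card_eq_fintype_card, hK])
  have hp : IsPGroup 2 A.S := CL.RF4.isPGroup_U.of_surjective _ A.u.rangeRestrict_surjective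
  let P : Sylow 2 ↥(Cfsg.Lie.twistedF4 K (2 ^ m)) := hp.toSylow (by rw [← even_iff_two_dvd, Nat.not_even_iff_odd]; exact ho)
  obtain ⟨e₁, e', h, -⟩ := CL.Fus.exists_isoOn_of_equiv
    (((e.trans (T.equiv P)).trans (MonoidHom.ofInjective A.inj).symm).trans Subgroup.topEquiv.symm)
  obtain ⟨F', hF'⟩ := h.exists_corr F
  exact hF'.symm.isRealizable (CL.RF4.main A hA ho (hF'.isSaturated hF))

end Cfsg.Agent.S5262
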