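import Mathlib
import Cfsg.Statements.S5267
import Cfsg.Agent.FUS.MD.Main
import Cfsg.Agent.PLOC.ESForm

set_option autoImplicit false
open Cfsg

namespace Cfsg.Agent.S5267

/-- Let p be a prime and S a finite p-group of maximal class of order p^n with n ≥ 4 (nilpotency class n − 1: the term γ_{n−1}(S) of its lower central series, reached from S after n − 2 commutator steps, is nontrivial), F a saturated fusion system over S and E an F-essential subgroup. Write Γ₁ for the two-step centralizer C_S([S,S]/γ₄(S)) (the elements of S whose commutators with [S,S] lie in the fourth term γ₄(S) of the lower central series) and Z₂(S) for the second centre. Then E is a pearl — elementary abelian of order p², or extraspecial of order p³ of exponent p (p odd) or quaternion of order 8 (p = 2) — or E = Γ₁, or E = C_S(Z₂(S)). Moreover, if Γ₁ ≠ C_S(Z₂(S)) then every pearl of F is elementary abelian of order p². -/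
theorem result {Ω : Type*} [Group Ω] {S : Subgroup Ω} [Finite S] (p : ℕ) [Fact p.Prime] (hS : IsPGroup p ↥S) (n : ℕ) (hn : Nat.card S = p ^ n) (h4 : 4 ≤ n) (hmax : Subgroup.lowerCentralSeries S (n - 2) ≠ ⊥) (F : Cfsg.FusionSystem S) (hF : F.IsSaturated p) (Γ₁ : Subgroup Ω) (hΓ₁ : ∀ x : Ω, x ∈ Γ₁ ↔ x ∈ S ∧ ∀ y ∈ Subgroup.lowerCentralSeries S 1, x * y * x⁻¹ * y⁻¹ ∈ Subgroup.lowerCentralSeries S 3) : (∀ E : Subgroup Ω, F.IsEssential p E → (Nat.card ↥E = p ^ 2 ∧ Cfsg.IsElementaryAbelian p E) ∨ (Nat.card ↥E = p ^ 3 ∧ Cfsg.IsExtraspecial p ↥E ∧ (p ≠ 2 → Monoid.exponent ↥E = p) ∧ (p = 2 → Nonempty (↥E ≃* QuaternionGroup 2))) ∨ E = Γ₁ ∨ E = (S ⊓ Subgroup.centralizer (((Subgroup.upperCentralSeries ↥S 2).map S.subtype) : Set Ω))) ∧ (Γ₁ ≠ (S ⊓ Subgroup.centralizer (((Subgroup.upperCentralSeries ↥S 2).map S.subtype) : Set Ω)) → ∀ E : Subgroup Ω, F.IsEssential p E → (Nat.card ↥E = p ^ 3 ∧ Cfsg.IsExtraspecial p ↥E ∧ (p ≠ 2 → Monoid.exponent ↥E = p) ∧ (p = 2 →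 Nonempty (↥E ≃* QuaternionGroup 2))) → False) := by
  have h := CL.MaxCl.isMC_of_lcs hn (by omega) hmax
  obtain ⟨F', hs, he⟩ := CL.MCD.exists_top F p
  rw [CL.MCN.gamma_eq hΓ₁, CL.MCN.cent_eq h h4]
  refine ⟨fun E hE => ?_, fun hne E hE h3 => ?_⟩
  · have e : E = (E.subgroupOf S).map S.subtype := by rw [Subgroup.subgroupOf_map_subtype, inf_of_le_left hE.1.1]
    by_cases hu : ∃ s ∈ E.subgroupOf S, CL.MaxCl.Unif n s
    · obtain ⟨s, hsE, hu⟩ := hu
      exact (CL.MCN.pearl_of_unif h h4 hF hE hu hsE).imp_right Or.inl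
    push Not at hu
    refine Or.inr (Or.inr ?_)
    rcases CL.MCD.normal_of_essential h h4 (hs hF) (he E hE) hu with h1 | ⟨h5, hEn⟩
    · exact Or.inl (e.trans (by rw [h1]))
    have hi := CL.MCN.index_eq h h4 hF h5 hE hEn
    rcases CL.MCD.le_or_le hu with h1 | h1
    · exact Or.inl (e.trans (by rw [CL.MCN.eq_of_le_of_index h1 (by rw [hi, h.index_P' h4 (by omega), pow_one])]))
    · exact Or.inr (e.trans (by rw [CL.MCN.eq_of_le_of_index h1 (by rw [hi, h.index_C (by omega) (by omega)])]))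
  · have e := Subgroup.subgroupOfEquivOfLe hE.1.1
    refine CL.MCD.not_extraspecial' h h4 (fun e => hne (by rw [e])) (hs hF) (he E hE)
      ((Nat.card_congr e.toEquiv).trans h3.1) fun hc => CL.ES.not_isMulCommutative_of_isExtraspecial h3.2.1 ⟨⟨fun a b => ?_⟩⟩
    exact e.symm.injective (by rw [map_mul, map_mul, hc.is_comm.comm])

end Cfsg.Agent.S5267
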