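import Mathlib
import Cfsg.Statements.S5269
import Cfsg.Agent.FUS.MC.Main

set_option autoImplicit false
open Cfsg

namespace Cfsg.Agent.S5269

/-- Let p ≥ 5 be a prime, S a finite p-group of maximal class of order p^n with n ≥ 4, F a saturated fusion system over S, and E an F-essential subgroup that is normal in S. Then E has index p in S; moreover E is the two-step centralizer Γ₁ = C_S([S,S]/γ₄(S)) or E = C_S(Z₂(S)), unless S has order p^4 and E is extraspecial of order p³ and exponent p. -/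
theorem result {Ω : Type*} [Group Ω] {S : Subgroup Ω} [Finite S] (p : ℕ) [Fact p.Prime] (hS : IsPGroup p ↥S) (n : ℕ) (hn : Nat.card S = p ^ n) (h4 : 4 ≤ n) (hmax : Subgroup.lowerCentralSeries S (n - 2) ≠ ⊥) (F : Cfsg.FusionSystem S) (hF : F.IsSaturated p) (hp : 5 ≤ p) (Γ₁ : Subgroup Ω) (hΓ₁ : ∀ x : Ω, x ∈ Γ₁ ↔ x ∈ S ∧ ∀ y ∈ Subgroup.lowerCentralSeries S 1, x * y * x⁻¹ * y⁻¹ ∈ Subgroup.lowerCentralSeries S 3) (E : Subgroup Ω) (hE : F.IsEssential p E) (hEn : (E.subgroupOf S).Normal) : (E.subgroupOf S).index = p ∧ (E = Γ₁ ∨ E = (S ⊓ Subgroup.centralizer (((Subgroup.upperCentralSeries ↥S 2).map S.subtype) : Set Ω)) ∨ (n = 4 ∧ Nat.card ↥E = p ^ 3 ∧ Cfsg.IsExtraspecial p ↥E ∧ Monoid.exponent ↥E = p)) := by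
  have h := CL.MaxCl.isMC_of_lcs hn (by omega) hmax
  have hi := CL.MCN.index_eq h h4 hF hp hE hEn
  have e : E = (E.subgroupOf S).map S.subtype := by rw [Subgroup.subgroupOf_map_subtype, inf_of_le_left hE.1.1]
  refine ⟨hi, ?_⟩
  rw [CL.MCN.gamma_eq hΓ₁, CL.MCN.cent_eq h h4]
  by_cases h1 : E.subgroupOf S ≤ CL.MaxCl.P S 1
  · exact Or.inl (e.trans (by rw [CL.MCN.eq_of_le_of_index h1 (by rw [hi, h.index_P' h4 (by omega), pow_one])]))
  by_cases h2 : E.subgroupOf S ≤ CL.MaxCl.C S (n - 2)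
  · exact Or.inr (Or.inl (e.trans (by rw [CL.MCN.eq_of_le_of_index h2 (by rw [hi, h.index_C (by omega) (by omega)])])))
  obtain ⟨s, hs, h3⟩ := CL.MCN.exists_not_mem_two h1 h2
  have hc := (E.subgroupOf S).card_mul_index
  rw [hi, hn, Nat.card_congr (Subgroup.subgroupOfEquivOfLe hE.1.1).toEquiv] at hc
  have inj := Nat.pow_right_injective (show 2 ≤ p by omega)
  rcases CL.MCN.pearl_of_unif h h4 hF hE h3 hs with ⟨k1, -⟩ | ⟨k1, k2, k3, -⟩
  · rw [k1, ← pow_succ] at hc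
    have := inj hc
    omega
  · rw [k1, ← pow_succ] at hc
    exact Or.inr (Or.inr ⟨(inj hc).symm, k1, k2, k3 (by omega)⟩)

end Cfsg.Agent.S5269
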