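import Cfsg.Statements.S5270
import Cfsg.Agent.FUS.ResistRk2
import Cfsg.Agent.FGS.MaxCl3

set_option autoImplicit false
open Cfsg

namespace Cfsg.Agent.S5270

/-- Let p ≥ 5 be a prime, S a finite p-group of maximal class of order p^n with n ≥ 4, and F a saturated fusion system over S. If some map of F defined on the second centre Z₂(S) with image Z₂(S) does not carry Z(S) into itself, then the centralizer C_S(Z₂(S)) is an F-essential subgroup. -/
theorem result {Ω : Type*} [Group Ω] {S : Subgroup Ω} [Finite S] (p : ℕ) [Fact p.Prime] (hS : IsPGroup p ↥S) (n : ℕ) (hn : Nat.card S = p ^ n) (h4 : 4 ≤ n) (hmax : Subgroup.lowerCentralSeries S (n - 2) ≠ ⊥) (F : Cfsg.FusionSystem S) (hF : F.IsSaturated p) (hp : 5 ≤ p) (φ : ↥((Subgroup.upperCentralSeries ↥S 2).map S.subtype) →* Ω) (hφ : φ ∈ F.Hom ((Subgroup.upperCentralSeries ↥S 2).map S.subtype)) (hφZ : φ.range = ((Subgroup.upperCentralSeries ↥S 2).map S.subtype)) (hmove : ∃ (z : Ω) (hz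 : z ∈ ((Subgroup.upperCentralSeries ↥S 2).map S.subtype)), z ∈ ((Subgroup.center ↥S).map S.subtype) ∧ φ ⟨z, hz⟩ ∉ ((Subgroup.center ↥S).map S.subtype)) : F.IsEssential p (S ⊓ Subgroup.centralizer (((Subgroup.upperCentralSeries ↥S 2).map S.subtype) : Set Ω)) := by
  have h := CL.MaxCl.isMC_of_lcs hn (by omega) hmax
  let Z₂ := (Subgroup.upperCentralSeries ↥S 2).map S.subtype
  set Z := (Subgroup.center ↥S).map S.subtype with hZ
  have hZS : Z₂ ≤ S := Subgroup.map_subtype_le _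
  have hZm : ∀ z, z ∈ Z ↔ z ∈ S ∧ z ∈ Subgroup.centralizer (S : Set Ω) := fun z =>
    ⟨by rintro ⟨z, hz, rfl⟩
        exact ⟨z.2, fun y hy => congrArg Subtype.val (Subgroup.mem_center_iff.1 hz ⟨y, hy⟩)⟩,
      fun hz => ⟨⟨z, hz.1⟩, Subgroup.mem_center_iff.2 fun y => Subtype.ext (hz.2 y y.2), rfl⟩⟩
  have hZn : S ≤ Subgroup.normalizer (Z₂ : Set Ω) := Subgroup.le_normalizer.trans
    (CL.PG.normalizer_le_normalizer_map_of_characteristic S _)
  obtain ⟨z, hz, hzZ, hφz⟩ := hmove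
  change F.IsEssential p (Cfsg.FusionSystem.centralizerIn S Z₂)
  set C := Cfsg.FusionSystem.centralizerIn S Z₂ with hC
  have hCS : C ≤ S := inf_le_left
  have hCn : S ≤ Subgroup.normalizer (C : Set Ω) :=
    CL.Fus.le_normalizer_inf Subgroup.le_normalizer (CL.Fus.le_normalizer_centralizer hZn)
  have hφm : φ ⟨z, hz⟩ ∈ Z₂ := hφZ.le ⟨_, rfl⟩
  have hlt : C < S := lt_of_le_of_ne hCS fun e => hφz ((hZm _).2 ⟨hZS hφm, fun y hy =>
    ((e.ge hy).2 _ hφm).symm⟩)
  have hidx : (C.subgroupOf S).index ≤ p := by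
    have h1 : Nat.card (Subgroup.upperCentralSeries ↥S 2) ≤ p ^ 2 := by
      rw [h.upperCentralSeries_eq h4 2 h4, h.card_P (j := 2) (by omega) (by omega)]
    have h2 := CL.PG.index_centralizer_le hS _ h1
    convert h2 using 2
    ext x
    refine ⟨fun hx y hy => Subtype.ext (hx.2 y ⟨y, hy, rfl⟩), fun hx => ⟨x.2, ?_⟩⟩
    rintro _ ⟨y, hy, rfl⟩
    exact congrArg Subtype.val (hx y hy)
  have hmaxC : ∀ R, C < R → R ≤ S → R = S := fun R h1 h2 => by
    have h3 := CL.PCyc.mul_card_le_of_lt (hS.to_subgroup (R.subgroupOf S))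
      (show C.subgroupOf S < R.subgroupOf S from lt_of_le_not_ge (Subgroup.subgroupOf_mono S h1.le)
        fun e => h1.not_ge fun x hx => e (show (⟨x, h2 hx⟩ : S) ∈ R.subgroupOf S from hx))
    have h5 := (C.subgroupOf S).card_mul_index
    have h6 : R.subgroupOf S = ⊤ := Subgroup.eq_top_of_le_card _ (by
      rw [← h5, mul_comm]; exact (Nat.mul_le_mul_right _ hidx).trans h3)
    exact le_antisymm h2 (Subgroup.subgroupOf_eq_top.1 h6)
  rw [CL.Fus.isEssential_iff_extAut_ne hS hF hlt (CL.Fus.fullyNormalized_of_normal F hCS hCn)]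
  have hf := CL.Fus.mor_toFn hφ
  have himg : CL.Fus.img (CL.Fus.toFn φ) Z₂ = Z₂ := (CL.Fus.img_toFn φ).trans hφZ
  obtain ⟨g, hg, e⟩ := CL.Fus.exists_extend_centralizer_of_receptive
    (CL.Fus.receptive_of_fullyNormalized hS hF (CL.Fus.fullyNormalized_of_normal F hZS hZn)) hf himg
  have himg' : CL.Fus.img g Z₂ = Z₂ := (CL.Fus.img_congr e).trans himg
  have hgC : ∀ x ∈ C, g x ∈ C := fun x hx => by
    have := hg.map_mem_centralizerIn le_sup_left (Subgroup.mem_sup_right hx) hx.2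
    rwa [himg'] at this
  obtain ⟨α, hα, eα⟩ := (hg.mono le_sup_right).exists_aut_of_maps hgC
  have hZC : Z ≤ C := fun x hx => ⟨((hZm x).1 hx).1, fun y hy => ((hZm x).1 hx).2 y (hZS hy)⟩
  haveI := CL.Fus.finite_of_le (hZC.trans hCS)
  have hext : CL.Fus.extAut F C ≤ CL.Fus.stabAut C Z := CL.Fus.extAut_le_iff.2 fun R f β h1 h2 h3 => by
    obtain rfl := hmaxC R h1 h2.le
    refine CL.Fus.mem_stabAut_of_finite hZC fun x hx => ?_
    rw [← h3 (hZC hx)]
    have := h2.map_mem_centralizerIn le_rfl ((hZm x).1 hx).1 ((hZm x).1 hx).2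
    rw [h2.img_top] at this
    exact (hZm _).2 this
  intro hcon
  have h1 := (hext (hcon.ge hα) z (hZC hzZ)).2 hzZ
  rw [eα (hZC hzZ), e hz, CL.Fus.toFn_of_mem φ hz] at h1
  exact hφz h1

end Cfsg.Agent.S5270
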