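import Cfsg.Statements.S5296
import Cfsg.Agent.FUS.SmallExp

set_option autoImplicit false
universe u
open Cfsg

namespace Cfsg.Agent.S5296

open CL.Fus Cfsg.FusionSystem

/-- Small-exponent abelian subgroups of the hyperfocal subgroup control fusion. Let E and F be saturated fusion systems over the same finite p-group S with E contained in F. Suppose that E and F have the same maps between A and B for all subgroups A, B of the hyperfocal subgroup of F that are elementary abelian when p is odd, respectively abelian of exponent dividing 4 when p = 2. Then E = F. -/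
theorem result {Ω : Type u} [Group Ω] {S : Subgroup Ω} [Finite S] (p : ℕ) [Fact p.Prime] (hS : IsPGroup p S)
    (E F : Cfsg.FusionSystem S) (hE : E.IsSaturated p) (hF : F.IsSaturated p) (hEF : E.IsSubsystemOf F)
    (hodd : p ≠ 2 → ∀ A B : Subgroup Ω, A ≤ (F.hyperfocalSubgroup p) → B ≤ (F.hyperfocalSubgroup p) →
      Cfsg.IsElementaryAbelian p A → Cfsg.IsElementaryAbelian p B → E.homSet A B = F.homSet A B)
    (htwo : p = 2 → ∀ A B : Subgroup Ω, A ≤ (F.hyperfocalSubgroup p) → B ≤ (F.hyperfocalSubgroup p) →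
      IsMulCommutative ↥A → IsMulCommutative ↥B → (∀ a ∈ A, a ^ 4 = 1) → (∀ b ∈ B, b ^ 4 = 1) → E.homSet A B = F.homSet A B) :
    ∀ P : Subgroup Ω, E.Hom P = F.Hom P := by
  refine hom_eq_of_isSubsystemOf hEF (isSubsystemOf_of_small hS hF hE hEF fun A f hA hab hsm hf => ?_)
  have hB := sc_img_le (sc_hyperfocal hS hF) hf hA
  have h1 : IsMulCommutative A := ⟨⟨fun a b => Subtype.ext (hab _ a.2 _ b.2)⟩⟩
  have h2 : IsMulCommutative (img f A) := ⟨⟨fun a b => Subtype.ext (by
    obtain ⟨x, hx, e⟩ := hf.mem_img.1 a.2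
    obtain ⟨y, hy, e'⟩ := hf.mem_img.1 b.2
    rw [Subgroup.coe_mul, Subgroup.coe_mul, ← e, ← e']
    exact (hf.commute_iff hx hy).2 (hab x hx y hy))⟩⟩
  have h3 : ∀ y ∈ img f A, CL.PG.Small p y := fun y hy => by
    obtain ⟨x, hx, rfl⟩ := hf.mem_img.1 hy
    exact small_of_mor hf hx (hsm x hx)
  have h4 : E.homSet A (img f A) = F.homSet A (img f A) := by
    by_cases hp : p = 2
    · exact htwo hp A _ hA hB h1 h2 (fun a ha => CL.PG.small_two_iff.1 (hp ▸ hsm a ha))
        fun a ha => CL.PG.small_two_iff.1 (hp ▸ h3 a ha)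
    · exact hodd hp A _ hA hB ⟨h1, fun a ha => (CL.PG.small_odd_iff hp).1 (hsm a ha)⟩
        ⟨h2, fun a ha => (CL.PG.small_odd_iff hp).1 (h3 a ha)⟩
  exact ⟨_, (h4.ge ⟨hf.toHom_mem, fun x => mem_img_of_mem f x.2⟩).1, fun _ => rfl⟩

end Cfsg.Agent.S5296
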