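import Cfsg.Statements.S5287
import Cfsg.Agent.FUS.AbSSol
import Cfsg.Agent.FUS.Rk2Main
import Cfsg.Agent.S0638

set_option autoImplicit false
open Cfsg

namespace Cfsg.Agent.S5287

section

open Subgroup CL CL.Fus Cfsg.FusionSystem

variable {Ω : Type*} [Group Ω] {S : Subgroup Ω} [Finite S]

theorem not_ssol {G : Type*} [Group G] [Finite G] (h : ∀ H : Subgroup G, H.index ≠ 2) (P : Sylow 2 G) {e : Ω → G}
    {e' : G → Ω} (hi : IsoOn S P e e') (hS : IsPGroup 2 S) {n : ℕ} (hne : Nat.card P = 2 ^ (n + 1)) :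
    ¬ ∀ F : FusionSystem S, F.IsSaturated 2 → SSol F := fun H => by
  obtain ⟨F, hF⟩ := hi.symm.exists_corr (groupFusionSystem (P : Subgroup G))
  have hs := hF.isSaturated (isSaturated_group_of_sylIn (sylIn_top_iff.2 ⟨P, rfl⟩))
  have h1 := hF.eq_inner_iff.1 (eq_inner_of_normal_top hS hs ((H F hs).normal hS hs) fun α hα hc =>
    eq_one_of_isPGroup_of_coprime (isPGroup_inn hS) ((H F hs).mem_inn hS hs (powOrComm_two hα)) hc)
  have h2 : (P : Subgroup G) ≤ ⁅(P : Subgroup G), (P : Subgroup G)⁆ := by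
    refine (le_inf (le_commutator_of_no_index_two h P.isPGroup') le_rfl).trans ((focal_group P).ge.trans ?_)
    rw [h1]
    refine focal_le_iff.2 fun Q f hf x hx => ?_
    obtain ⟨hQ, g, hg, e⟩ := mor_inner_iff.1 hf
    rw [e hx]
    exact inv_mul_cj_mem le_rfl hg (hQ hx)
  haveI := P.isPGroup'.isNilpotent
  haveI : Nontrivial P := Finite.one_lt_card_iff_nontrivial.1 (hne ▸ Nat.one_lt_two_pow n.succ_ne_zero)
  refine (Group.IsSolvable.commutator_lt_top_of_nontrivial P).not_ge fun x _ => (mem_map_iff_mem (subtype_injective _)).1 ?_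
  rw [map_subtype_commutator]
  exact h2 x.2

theorem normal_odd {p : ℕ} [Fact p.Prime] (hp : p ≠ 2) (hS : IsPGroup p S) (hm : IsMetacyclic S) {F : FusionSystem S}
    (hF : F.IsSaturated p) : F.IsNormal S := by
  by_cases hc : IsCyclic S
  · haveI : IsMulCommutative S := IsCyclic.isMulCommutative
    exact isNormal_top_of_comm hS hF fun x hx y hy => setLike_mul_comm hx hy
  obtain ⟨h1, h2⟩ := S0638.result hp hS hm hc
  refine normal_of_sc_of_omega_le_sq hS hF hp (W := (omegaOne p ⊤).map S.subtype) (sc_top F) (fun x => ⟨?_, fun h =>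
    ⟨⟨x, h.1⟩, Th.mem_omegaOne_of (mem_top _) (Subtype.ext h.2), rfl⟩⟩)
    (by rw [card_map_of_injective S.subtype_injective, h2])
  rintro ⟨y, hy, rfl⟩
  exact ⟨y.2, congrArg Subtype.val (h1.2 y hy)⟩

theorem pcTriv_of_flag {p : ℕ} [Fact p.Prime] (hS : IsPGroup p S) (h : MC.Flag p S) : PCTriv p (MulAut S) :=
  fun _ hH _ hγ => hγ.eq_one_of_flag hS h (hH.coprime_dvd_left (orderOf_dvd_natCard _ hγ.mem))

end

open CL CL.Fus

/-- Let S be a finite metacyclic p-group (an extension of a cyclic group by a cyclic group). Every saturated fusion system over S is supersoluble (S has a chain of F-strongly closed subgroups from 1 to S with cyclic steps) if and only if S is not homocyclic of rank two (isomorphic to Z/p^n × Z/p^n with n ≥ 1) and, when p = 2, S is not dihedral of order at least 4, not quasi-dihedral (semidihedral) and not generalized quaternion of order at least 8. -/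
theorem result {Ω : Type*} [Group Ω] {S : Subgroup Ω} [Finite S] (p : ℕ) [Fact p.Prime] (hS : IsPGroup p ↥S) (hm : Cfsg.IsMetacyclic ↥S) : (∀ F : Cfsg.FusionSystem S, F.IsSaturated p → (∃ (m : ℕ) (c : Fin (m + 1) → Subgroup Ω), c 0 = ⊥ ∧ c (Fin.last m) = S ∧ (∀ i : Fin (m + 1), F.StronglyClosed (c i)) ∧ ∀ i : Fin m, c i.castSucc ≤ c i.succ ∧ ∃ x ∈ S, c i.succ = c i.castSucc ⊔ Subgroup.zpowers x)) ↔ ¬ ((∃ n : ℕ, 0 < n ∧ Nonempty (↥S ≃* Multiplicative (ZMod (p ^ n)) × Multiplicative (ZMod (p ^ n)))) ∨ (p = 2 ∧ ((∃ n : ℕ, 2 ≤ n ∧ Nonempty (↥S ≃* DihedralGroup n)) ∨ Cfsg.IsQuasiDihedral ↥S ∨ (∃ n : ℕ, 2 ≤ n ∧ Nonempty (↥S ≃* QuaternionGroup n))))) := by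
  change (∀ F : Cfsg.FusionSystem S, F.IsSaturated p → SSol F) ↔ _
  have hh : (∀ F : Cfsg.FusionSystem S, F.IsSaturated p → SSol F) → ∀ n : ℕ, 0 < n →
      ¬ Nonempty (↥S ≃* Multiplicative (ZMod (p ^ n)) × Multiplicative (ZMod (p ^ n))) := fun h n hn ⟨e⟩ => by
    haveI : Fact (1 < p ^ n) := ⟨Nat.one_lt_pow hn.ne' (Fact.out : p.Prime).one_lt⟩
    exact not_pcTriv_prod (IsPGroup.of_card (n := n) (by simp))
      (PCTriv.congr ((forall_ssol_iff hS).1 h).2 e)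
  refine ⟨fun h => ?_, fun h => (forall_ssol_iff hS).2 ?_⟩
  · rintro (⟨n, hn, e⟩ | ⟨rfl, ⟨n, hn, ⟨e⟩⟩ | e | ⟨n, hn, ⟨e⟩⟩⟩)
    · exact hh h n hn e
    · by_cases h4 : 4 ≤ n
      · obtain ⟨m, hm, ⟨c⟩⟩ := Rk2.exists_dih_coord hS h4 e
        obtain ⟨q, _, -, h1, h2⟩ := Rk2.exists_dih_loud hm
        obtain ⟨c'⟩ := h2 default
        obtain ⟨f, f', h3, -⟩ := c.exists_isoOn c'
        exact not_ssol h1 _ h3 hS c'.card h
      obtain rfl | rfl : n = 2 ∨ n = 3 := by omega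
      · obtain ⟨e'⟩ := IsKleinFour.nonempty_mulEquiv (G₁ := DihedralGroup 2) (G₂ := Multiplicative (ZMod 2 × ZMod 2))
        exact hh h 1 one_pos ⟨e.trans (e'.trans (MulEquiv.prodMultiplicative _ _))⟩
      · obtain ⟨k, hk⟩ := hS.exists_card_eq
        rw [Nat.card_congr e.toEquiv, DihedralGroup.nat_card] at hk
        exact absurd (Nat.Prime.dvd_of_dvd_pow Nat.prime_three (hk ▸ by norm_num : 3 ∣ 2 ^ k)) (by norm_num)
    · obtain ⟨m, ⟨c⟩⟩ := QD.exists_coord e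
      obtain ⟨q, _, -, h2⟩ := Rk2.exists_qd_psl3 c.hn
      obtain ⟨c'⟩ := h2 default
      obtain ⟨f, f', h3, -⟩ := c.exists_isoOn c'
      exact not_ssol (Rk2.psl3_no_index_two _) _ h3 hS c'.card h
    · obtain ⟨m, ⟨c⟩⟩ := Quat.exists_coord hS hn e
      obtain ⟨G, _, _, P, c', h1⟩ := Rk2.exists_quat_loud c.hn
      obtain ⟨f, f', h3, -⟩ := c.exists_isoOn c'
      exact not_ssol h1 _ h3 hS c'.card h
  rw [not_or] at h
  have hd : p = 2 → ∀ n a b, ¬ PCyc.IsDQS S n a b := fun e => not_isDQS (fun h' => h.2 ⟨e, Or.inl h'⟩)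
    (fun h' => h.2 ⟨e, Or.inr (Or.inr h')⟩) fun h' => h.2 ⟨e, Or.inr (Or.inl h')⟩
  refine ⟨fun F hF => ?_, ?_⟩
  · by_cases e : p = 2
    · subst e
      exact normal_of_sc_of_metacyclic hS hF (sc_top F) hm (hd rfl)
    · exact normal_odd e hS hm hF
  rcases MC.cases hS hm with h' | ⟨k, h'⟩ | ⟨e, n, a, b, h'⟩
  · exact pcTriv_of_flag hS h'
  · exact absurd ⟨k + 1, k.succ_pos, h'.nonempty_equiv hm⟩ h.1
  · exact absurd h' (hd e n a b)

end Cfsg.Agent.S5287
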