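import Cfsg.Statements.S5295
import Cfsg.Agent.FUS.NormMap
import Cfsg.Agent.S5193

set_option autoImplicit false
universe u
open Cfsg

namespace Cfsg.Agent.S5295

open CL.Fus Cfsg.FusionSystem

/-- Let F be a saturated fusion system over a finite p-group S with p odd. Then the centre Z(F) of F is a direct factor of Z(S): there is a subgroup K of Z(S) with Z(F) ∩ K = 1 and Z(F)K = Z(S). (At the prime 2 this can fail.) -/
theorem result {Ω : Type u} [Group Ω] {S : Subgroup Ω} [Finite S] (p : ℕ) [Fact p.Prime] (hp : p ≠ 2) (hS : IsPGroup p S)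
    (F : Cfsg.FusionSystem S) (hF : F.IsSaturated p) :
    ∃ K : Subgroup Ω, K ≤ (S ⊓ Subgroup.centralizer (S : Set Ω)) ∧ F.center ⊓ K = ⊥ ∧ F.center ⊔ K = (S ⊓ Subgroup.centralizer (S : Set Ω)) := by
  have hJ := CL.ThA.thompsonSubgroupAOf_le S
  have hn := CL.ThA.le_normalizer_thompsonSubgroupAOf S
  have hZ : S ⊓ Subgroup.centralizer (S : Set Ω) ≤ (normSys F _ hJ).core := fun z hz => le_core (normal_normSys hJ)
    ⟨⟨z, hz.1⟩, CL.ThA.thompsonSubgroupAOf_top.le (CL.ThA.center_le_thompsonSubgroupAOf ⊤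
      ⟨trivial, fun s _ => Subtype.ext (hz.2 s s.2)⟩), rfl⟩
  have hsat := normSys_saturated hS hF (fullyNormalized_of_normal F hJ hn)
  rw [← (Cfsg.Agent.S5193.result p hS F hF _ (isNormalizerSystem_normSys F hJ)).2 (.inl hp)]
  generalize normSys F _ hJ = N at hZ hsat
  have e : normalizerIn S (thompsonSubgroupAOf S) = S := inf_eq_left.2 hn
  generalize normalizerIn S (thompsonSubgroupAOf S) = T at N hZ hsat e
  subst e
  exact exists_center_complement hS hsat hZ

end Cfsg.Agent.S5295
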