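import Cfsg.Statements.S5309
import Mathlib
import Cfsg.Agent.FUS.Component

set_option autoImplicit false
open Cfsg

namespace Cfsg.Agent.S5309

open CL.Fus

/-- Self-centralizing property of the generalized Fitting subsystem. Let F be a saturated fusion system over a finite p-group S and D a generalized Fitting subsystem of F, over U. Then the centre of D is the largest subgroup Y of C_S(U) centralized by D in F, in the sense that every map of D extends to a map of F fixing Y elementwise: the centre of D is such a subgroup, and every such Y lies in the centre of D. -/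
theorem result {Ω : Type*} [Group Ω] {S : Subgroup Ω} [Finite S] (p : ℕ) [Fact p.Prime] (hS : IsPGroup p S) (F : Cfsg.FusionSystem S) (hF : F.IsSaturated p)
    {U : Subgroup Ω} (D : Cfsg.FusionSystem U) (hD : D.IsGeneralizedFittingOf F p) :
    (D.center ≤ Cfsg.FusionSystem.centralizerIn S U ∧ ∀ P : Subgroup Ω, D.Hom P ⊆ F.centralizerHom D.center P) ∧
      ∀ Y : Subgroup Ω, Y ≤ Cfsg.FusionSystem.centralizerIn S U →
        (∀ P : Subgroup Ω, D.Hom P ⊆ F.centralizerHom Y P) → Y ≤ D.center := by
  obtain ⟨T, E, h1, h2⟩ := isGeneralizedFittingOf_iff.1 hD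
  have hn := IsLayer.fitting_isNormalIn hS h1 h2
  have hU := hn.1.2.2.2.1.1
  have := finite_of_le hU
  have hZ := center_central D
  refine ⟨⟨fun x hx => ⟨hU (hZ.1 hx), D.center_le_centralizer hx⟩, subset_centralizerHom_iff.2 fun P f hf =>
    ((isCentral_iff_cMor.1 hZ).2 P f hf).of_subsystem hn.1.2.2.1⟩, fun Y k1 k2 => ?_⟩
  replace k2 := subset_centralizerHom_iff.1 k2
  refine le_center (central_of_fix (hS.to_le hU) hn.1.1
    ((le_cS hS hn k1 k2).trans ((IsLayer.cS_fitting_le hS h1 h2).trans h2.left_le)) fun P f hf x hx hx' => ?_)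
  obtain ⟨-, g, -, e1, e2⟩ := k2 P f hf
  rw [← e1 hx, e2 x hx']

end Cfsg.Agent.S5309
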