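import Cfsg.Statements.S5316
import Cfsg.Agent.KSG.McCube2

set_option autoImplicit false
open Cfsg

namespace Cfsg.Agent.S5316

/-- Let p ≥ 5 be a prime, S a finite p-group of maximal class of order p^n with n ≥ 5 (nilpotency class n − 1), F a saturated fusion system over S, and E an F-essential subgroup that is not a pearl (not elementary abelian of order p² and not extraspecial of order p³ and exponent p). Then E has order at least p⁴. -/
theorem result {Ω : Type*} [Group Ω] {S : Subgroup Ω} [Finite S] (p : ℕ) [Fact p.Prime] (hp : 5 ≤ p) (hS : IsPGroup p ↥S) (n : ℕ) (hn : Nat.card S = p ^ n) (h5 : 5 ≤ n)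
    (hmax : Subgroup.lowerCentralSeries S (n - 2) ≠ ⊥) (F : Cfsg.FusionSystem S) (hF : F.IsSaturated p)
    (E : Subgroup Ω) (hE : F.IsEssential p E)
    (hnp : ¬ ((Nat.card ↥E = p ^ 2 ∧ Cfsg.IsElementaryAbelian p E) ∨ (Nat.card ↥E = p ^ 3 ∧ Cfsg.IsExtraspecial p ↥E ∧ Monoid.exponent ↥E = p))) :
    p ^ 4 ≤ Nat.card ↥E := by
  have hp' : p.Prime := Fact.out
  have hES : E ≤ S := hE.1.1
  have := CL.Fus.finite_of_le hES
  obtain ⟨u, hu⟩ := CL.EssSm.exists_rad_of_essential hS hF hE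
  obtain ⟨k, hk⟩ := hu.pg.exists_card_eq
  rw [hk, Nat.pow_le_pow_iff_right hp'.one_lt]
  by_contra hlt
  rcases Nat.lt_or_ge k 3 with h3 | h3
  · have i2 : (frattini E).index ∣ p ^ 2 :=
      (Subgroup.index_dvd_card _).trans (hk ▸ pow_dvd_pow p (by omega))
    have h1 := Nat.le_of_dvd Nat.card_pos (Subgroup.index_dvd_card (frattini E))
    rw [hu.index_eq₀ i2, hk, Nat.pow_le_pow_iff_right hp'.one_lt] at h1
    obtain rfl : k = 2 := by omega
    have hc : IsMulCommutative E := ⟨⟨(IsPGroup.commGroupOfCardEqPrimeSq hk).mul_comm⟩⟩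
    rcases hu.rank_two hc i2 with h2 | h2
    · exact hnp (Or.inl ⟨hk, hc, fun a ha => congrArg Subtype.val (h2.1 ⟨a, ha⟩)⟩)
    · omega
  obtain rfl : k = 3 := by omega
  rcases hu.card_cube hk with ⟨hc, h2⟩ | ⟨-, h1, h2⟩ | ⟨h2, -⟩
  · obtain ⟨e, F', h, he⟩ := CL.Fus.exists_corr_top F
    have hE' := h.isEssential hE
    rw [CL.Fus.img_eq_subgroupOf he hES] at hE'
    refine CL.McCube.no_cube (CL.MaxCl.isMC_of_lcs hn (by omega) hmax) h5 (by omega)
      (h.isSaturated hF) hE' inferInstance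
      (fun x hx => Subtype.ext (congrArg (Subtype.val : E → Ω) (h2 ⟨x, hx⟩))) ?_
    rw [Nat.card_congr (Subgroup.subgroupOfEquivOfLe hES).toEquiv, hk]
  · refine hnp (Or.inr ⟨hk, h1, ?_⟩)
    have : Nontrivial E := Finite.one_lt_card_iff_nontrivial.1 (hk ▸ Nat.one_lt_pow (by omega) hp'.one_lt)
    refine ((Nat.dvd_prime hp').1 (Monoid.exponent_dvd_of_forall_pow_eq_one h2)).resolve_left ?_
    exact fun e => not_subsingleton E (Monoid.exp_eq_one_iff.1 e)
  · omega

end Cfsg.Agent.S5316
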