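import Cfsg.Statements.S5324
import Cfsg.Agent.FUS.LyFus
import Cfsg.Agent.S0454
import Cfsg.Agent.S1660

set_option autoImplicit false
open Cfsg

namespace Cfsg.Agent.S5324

/-- For a finite group G isomorphic to the Lyons group, the 2-fusion system of G on a Sylow 2-subgroup is simple: saturated, over a nontrivial 2-group, with no normal subsystem other than the trivial one and itself. -/
theorem result {G : Type*} [Group G] [Finite G] (hG : Cfsg.Spor.IsoLy G) (S : Sylow 2 G) : (Cfsg.groupFusionSystem (S : Subgroup G)).IsSimple 2 := by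
  obtain ⟨H, hH, -, -, t, ht, hc⟩ := Cfsg.Agent.S0454.result
  have := hH.1
  obtain ⟨e⟩ := Cfsg.Agent.S1660.result t ht hc
  obtain ⟨e'⟩ := hG
  let φ : H ≃* G := e.trans e'.symm
  obtain ⟨R⟩ : Nonempty (Sylow 2 H) := inferInstance
  have h1 := (CL.Fus.corr_group_mulEquiv φ (R : Subgroup H)).isSimple
    (CL.LyFus.isSimple_of_cent ht (by norm_num) hc R)
  obtain ⟨R', hR'⟩ := CL.Fus.exists_sylow_map_equiv φ ⟨R, rfl⟩
  rw [← hR'] at h1
  obtain ⟨g, h2⟩ := CL.Fus.exists_corr_sylow_sylow R' S
  exact h2.isSimple h1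

end Cfsg.Agent.S5324
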