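import Cfsg.Statements.S5379
import Cfsg.Agent.SPOR.A10.STop
-- import your own Cfsg.Agent.* helpers here

set_option autoImplicit false
open Cfsg

namespace Cfsg.Agent.S5379

/-- Let G be a finite group of Suzuki sporadic type: it has an involution z whose centralizer C has generalized Fitting subgroup Q extraspecial of order 2^7 with C/Q isomorphic to the commutator subgroup of the isometry group of the elliptic quadratic form in dimension 6 over the field with two elements, and some conjugate of z other than z lies in Q. Then G has exactly two conjugacy classes of involutions. -/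
theorem result {G : Type*} [Group G] [Finite G] (z : G) (hz : orderOf z = 2) (Q : Subgroup (Subgroup.centralizer ({z} : Set G))) [Q.Normal] (hF : Cfsg.generalizedFittingSubgroup (Subgroup.centralizer ({z} : Set G)) = Q) (hQ : Cfsg.IsExtraspecial 2 Q) (hcard : Nat.card Q = 2 ^ 7) (e : (Subgroup.centralizer ({z} : Set G)) ⧸ Q ≃* Cfsg.Omega (ZMod 2) (Cfsg.quadFormMinus 2 (ZMod 2) 1 1)) (hnwc : ∃ g : G, (∃ hq : g * z * g⁻¹ ∈ Subgroup.centralizer ({z} : Set G), (⟨g * z * g⁻¹, hq⟩ : Subgroup.centralizer ({z} : Set G)) ∈ Q) ∧ g * z * g⁻¹ ≠ z) : ∃ a b : G, orderOf a = 2 ∧ orderOf b = 2 ∧ ¬ IsConj a b ∧ ∀ x : G, orderOf x = 2 → IsConj x a ∨ IsConj x b := by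
  obtain ⟨φ, g, h, h', -⟩ := CL.SM.of_type hz hF hQ hcard e hnwc
  have a := CL.Inv.orderOf_eq_two_of h.lx.z_sq h.lx.z_ne
  have b : ∀ t : G, orderOf t = 2 → IsConj t (g 0) ∨
      IsConj t (g 7 * g 8 * CL.SM.ps h.pres CL.SM.u1) := fun t ht =>
    (h.invol' le_top trivial (Subgroup.card_top.trans h'.card) trivial ht).imp
      (fun ⟨n, _, e⟩ => (isConj_iff.2 ⟨n, e⟩).symm) fun ⟨n, _, e⟩ => (isConj_iff.2 ⟨n, e⟩).symm
  refine ⟨_, _, a, ?_, h.not_conj, b⟩
  have c : g 7 * g 8 * CL.SM.ps h.pres CL.SM.u1 = CL.CE.ev g [7, 8, 3, 5, 6] := by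
    rw [CL.SM.u1, CL.SM.ps_wd _ (by decide), CL.CE.ev_cons g 7, CL.CE.ev_cons g 8, mul_assoc]
  rw [c]
  exact CL.Inv.orderOf_eq_two_of ((CL.CE.ev_append g _ _).symm.trans (h'.lift.ev_eq h'.model.inj
    (CL.SM.valid.eq_of_chk (b := 11) (by norm_num)
      (es := [([7, 8, 3, 5, 6] ++ [7, 8, 3, 5, 6], [])]) (by decide +kernel)) _
    (List.mem_singleton_self _))) (h'.lift.ne_one CL.SM.valid 0 (by decide +kernel))

end Cfsg.Agent.S5379
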