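import Cfsg.Statements.S5389
import Cfsg.Agent.SPOR.Co1.Sz

set_option autoImplicit false
open Cfsg

namespace Cfsg.Agent.S5389


/-- A simple section of the automorphism group of the Leech lattice satisfying the Suzuki-sporadic-type hypothesis (the group so obtained is the sporadic Suzuki group; that identification is not part of this statement): there is a subgroup A of order 3 of that automorphism group such that the centralizer of A modulo the subgroup generated by A and the centre of the automorphism group is a non-abelian simple group satisfying the large extraspecial hypothesis of minus type in dimension 6 — an involution whose centralizer has extraspecial generalized Fitting subgroup of order 2^7 with quotient the commutator subgroup of the isometry group of the elliptic quadratic form in dimension 6 over the field with two elements, the involution not weakly closed in that extraspecial group. -/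
theorem result : ∃ A : Subgroup ↥Cfsg.Co0, Nat.card A = 3 ∧ ∃ (hn : ((A ⊔ Subgroup.center ↥Cfsg.Co0).subgroupOf (Subgroup.centralizer (A : Set ↥Cfsg.Co0))).Normal), ∃ (S : Type) (_ : Group S) (_ : Finite S), Nonempty (S ≃* ↥(Subgroup.centralizer (A : Set ↥Cfsg.Co0)) ⧸ (A ⊔ Subgroup.center ↥Cfsg.Co0).subgroupOf (Subgroup.centralizer (A : Set ↥Cfsg.Co0))) ∧ IsSimpleGroup S ∧ ¬ IsMulCommutative S ∧ ∃ z : S, orderOf z = 2 ∧ ∃ (Q : Subgroup (Subgroup.centralizer ({z} : Set S))) (_ : Q.Normal), Cfsg.generalizedFittingSubgroup (Subgroup.centralizer ({z} : Set S)) = Q ∧ Cfsg.IsExtraspecial 2 Q ∧ Nat.card Q = 2 ^ 7 ∧ Nonempty ((Subgroup.centralizer ({z} : Set S)) ⧸ Q ≃* Cfsg.Omega (ZMod 2) (Cfsg.quadFormMinus 2 (ZMod 2) 1 1)) ∧ ∃ g : S, (∃ hq : g * z * g⁻¹ ∈ Subgroup.centralizer ({z} : Set S), (⟨g * z * g⁻¹, hq⟩ : Subgroup.centralizer ({z} : Set S)) ∈ Q) ∧ g * z * g⁻¹ ≠ z := by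
  have : Fact (Nat.Prime 3) := ⟨Nat.prime_three⟩
  obtain ⟨π, P, u, k, h, h'⟩ := CL.Co1T.Sz.suz
  obtain ⟨A, h1, hn, e⟩ := CL.Co1T.co0_sec (by decide) CL.Co1T.Sz.ord_x0 h
  obtain ⟨c, -, d, -, hc⟩ := h'.lx.nonab
  obtain ⟨h2, -, h3, -⟩ := CL.FiA.simple_Omega2 (CL.Orth.QMinus_nondeg 2 (ZMod 2) CL.ES.aniso_two) (by simp)
  exact ⟨A, h1, hn, _, _, inferInstance, e, CL.Suz.isSimpleGroup, fun _ => hc (mul_comm' c d), u,
    @CL.Co1T.LH.hyp _ _ _ _ _ _ 2 25920 h' (by rw [(CL.A10.pin128 h'.lx h'.cP h'.cC).2]; norm_num) h2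
      CL.A10.card_omega6 (by norm_num) h3⟩

end Cfsg.Agent.S5389
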