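import Cfsg.Statements.S5403
import Cfsg.Agent.SPOR.Co1.HJ

set_option autoImplicit false
open Cfsg

namespace Cfsg.Agent.S5403


/-- A simple section of the automorphism group of the Leech lattice satisfying the Hall–Janko-type hypothesis (the group so obtained is the Hall–Janko group; that identification is not part of this statement): there is a subgroup A of order 5 of that automorphism group such that the centralizer of A modulo the subgroup generated by A and the centre of the automorphism group is a non-abelian simple group satisfying the large extraspecial hypothesis of minus type in dimension 4 — an involution whose centralizer has extraspecial generalized Fitting subgroup of order 32 with quotient the commutator subgroup of the isometry group of the elliptic quadratic form in dimension 4 over the field with two elements (the alternating group of degree 5), the involution not weakly closed in that extraspecial group. -/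
theorem result : ∃ A : Subgroup ↥Cfsg.Co0, Nat.card A = 5 ∧ ∃ (hn : ((A ⊔ Subgroup.center ↥Cfsg.Co0).subgroupOf (Subgroup.centralizer (A : Set ↥Cfsg.Co0))).Normal), ∃ (S : Type) (_ : Group S) (_ : Finite S), Nonempty (S ≃* ↥(Subgroup.centralizer (A : Set ↥Cfsg.Co0)) ⧸ (A ⊔ Subgroup.center ↥Cfsg.Co0).subgroupOf (Subgroup.centralizer (A : Set ↥Cfsg.Co0))) ∧ IsSimpleGroup S ∧ ¬ IsMulCommutative S ∧ ∃ z : S, orderOf z = 2 ∧ ∃ (Q : Subgroup (Subgroup.centralizer ({z} : Set S))) (_ : Q.Normal), Cfsg.generalizedFittingSubgroup (Subgroup.centralizer ({z} : Set S)) = Q ∧ Cfsg.IsExtraspecial 2 Q ∧ Nat.card Q = 2 ^ 5 ∧ Nonempty ((Subgroup.centralizer ({z} : Set S)) ⧸ Q ≃* Cfsg.Omega (ZMod 2) (Cfsg.quadFormMinus 1 (ZMod 2) 1 1)) ∧ ∃ g : S, (∃ hq : g * z * g⁻¹ ∈ Subgroup.centralizer ({z} : Set S), (⟨g * z * g⁻¹, hq⟩ : Subgroup.centralizer ({z} : Set S)) ∈ Q) ∧ g * z * g⁻¹ ≠ z := by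
  have : Fact (Nat.Prime 5) := ⟨by norm_num⟩
  have : Finite Cfsg.Spor.J2 := Nat.finite_of_card_ne_zero (by rw [CL.J2.card_J2]; norm_num)
  obtain ⟨π, P, u, k, h, h'⟩ := CL.Co1T.HJ.j2
  obtain ⟨A, h1, hn, e⟩ := CL.Co1T.co0_sec (by decide) CL.Co1T.HJ.ord_b0 h
  obtain ⟨c, -, d, -, hc⟩ := h'.lx.nonab
  obtain ⟨f⟩ := Cfsg.Agent.S0824.result (F := ZMod 2) (ZMod.card 2)
  have := alternatingGroup.isSimpleGroup (α := Fin 5) (by simp)
  have h2 := ((CL.OrthE.commutatorCongr f).trans (MulEquiv.subgroupCongr
    (alternatingGroup.commutator_perm_eq (by simp)))).isSimpleGroup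
  refine ⟨A, h1, hn, _, _, inferInstance, e, CL.J2.isSimpleGroup_J2, fun _ => hc (mul_comm' c d), u,
    @CL.Co1T.LH.hyp _ _ _ _ _ _ 1 60 h' ?_ h2 CL.A10.card_omega4 (by norm_num) ?_⟩
  · have h1 := CL.A10.card_cent_eq h'.lx
    rcases CL.A10.es_cases (m := 1) h'.lx.toES h'.cP with ⟨a, b⟩ | ⟨a, b⟩ <;>
      norm_num [Finset.prod_range_succ] at a b
    · rw [h'.cC, a] at h1; omega
    · simp; omega
  · have := (Omega (ZMod 2) (quadFormMinus 1 (ZMod 2) 1 1)).index_mul_card
    rw [CL.A10.card_omega4, Nat.card_congr f.toEquiv, Nat.card_perm, Nat.card_fin] at this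
    simp [Nat.factorial] at this
    omega

end Cfsg.Agent.S5403
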