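import Cfsg.Statements.S5425
import Cfsg.Agent.S5423
import Cfsg.Agent.S1554
import Cfsg.Agent.INV.ElemAbGL

set_option autoImplicit false
open Cfsg

namespace Cfsg.Agent.S5425

open scoped Pointwise
open Matrix CL CL.LXHol CL.LX CL.Golay MulAction Cfsg.Agent.S5423

theorem exists_psi {G : Type*} [Group G] [Finite G] (n : ℕ) (U M : Subgroup G) [U.Normal] (hU : IsElementaryAbelian 2 U)
    (hUcard : Nat.card U = 2 ^ (n + 1)) (hUM : U ⊓ M = ⊥) (hUM' : U ⊔ M = ⊤)
    (hfaith : ∀ m ∈ M, (∀ u ∈ U, m * u * m⁻¹ = u) → m = 1)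
    (hfull : ∀ φ : U ≃* U, ∃ m ∈ M, ∀ u : U, (φ u : G) = m * u * m⁻¹) {z : G} (hz : z ∈ U) (hz1 : z ≠ 1) :
    ∃ ψ : H n →* G, Function.Injective ψ ∧ ψ (z0 n) = z ∧ Subgroup.centralizer {z} ≤ ψ.range ∧ ∀ v, ψ (tr n v) ∈ U := by
  have := hU.1
  obtain ⟨e, he⟩ := exists_coord (U := U) (fun u => Subtype.ext (hU.2 _ u.2)) hUcard (z := ⟨z, hz⟩)
    fun h => hz1 (congrArg Subtype.val h)
  choose m hm hm' using hfull
  have uq : ∀ x ∈ M, ∀ φ : MulAut U, (∀ u : U, (φ u : G) = x * u * x⁻¹) → m φ = x := fun x hx φ h =>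
    inv_mul_eq_one.1 (hfaith _ (mul_mem (inv_mem (hm φ)) hx) fun u hu => by
      have := (h ⟨u, hu⟩).symm.trans (hm' φ ⟨u, hu⟩)
      rw [_root_.mul_inv_rev, inv_inv, ← mul_assoc, mul_assoc _ x, mul_assoc _ _ x⁻¹, this]
      group)
  let μ : H n →* G := (MonoidHom.mk' (M := MulAut U) m fun φ φ' => uq _ (mul_mem (hm _) (hm _)) _ fun u => by
    rw [MulAut.mul_apply, hm', hm']; group).comp ((MulAut.congr e).toMonoidHom.comp (MulDistribMulAction.toMulAut _ _))
  have hμ : ∀ x v, μ x * e v = e (x • v) * μ x := fun x v => by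
    rw [← mul_inv_eq_iff_eq_mul]
    exact (hm' _ _).symm.trans (by simp)
  let ψ : H n →* G := MonoidHom.mk' (fun x => e (.ofAdd (x.c, x.b)) * μ x) fun x y => by
    rw [mul_assoc, ← mul_assoc (μ x), hμ, map_mul, ← mul_assoc, ← mul_assoc, ← mul_assoc, ← Subgroup.coe_mul, ← map_mul]
    congr 4
    simp [mul_def, smul_def, add_assoc, ← ofAdd_add]
  have hz' : ψ (z0 n) = z := by
    change e _ * μ _ = _
    rw [show μ (z0 n) = 1 from uq 1 M.one_mem _ fun u => by simp [z0, smul_def], mul_one]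
    exact congrArg Subtype.val he
  have hi : Function.Injective ψ := (injective_iff_map_eq_one _).2 fun x hx => by
    have h1 : (e (.ofAdd (x.c, x.b)) : G) = 1 := Subgroup.mem_bot.1 (hUM ▸ ⟨Subtype.prop _,
      (eq_inv_of_mul_eq_one_left hx :) ▸ M.inv_mem (hm _)⟩)
    have h2 : μ x = 1 := by rw [← hx]; exact (one_mul _).symm.trans (congrArg (· * _) h1.symm)
    have h3 : ∀ b, x • Multiplicative.ofAdd ((0 : ZMod 2), b) = .ofAdd (0, b) := fun b =>
      e.injective (Subtype.ext (by simpa [h2] using (hμ x _).symm))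
    simp only [OneMemClass.coe_eq_one, EmbeddingLike.map_eq_one_iff, ofAdd_eq_one, Prod.mk_eq_zero] at h1
    simp only [smul_def, toAdd_ofAdd, zero_add, EmbeddingLike.apply_eq_iff_eq, Prod.mk.injEq] at h3
    exact H.ext (dotProduct_eq_zero _ fun b => (h3 b).1) h1.2 h1.1
      (Units.ext (ext_iff_mulVec.2 fun b => (h3 b).2.trans (one_mulVec b).symm))
  have hr : Subgroup.centralizer {z} ≤ ψ.range := fun g hg => by
    obtain ⟨u, hu, k, hk, rfl⟩ := Subgroup.mem_sup_of_normal_left.1 (hUM'.ge (Subgroup.mem_top g))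
    obtain ⟨v, hv⟩ := e.surjective ⟨u, hu⟩
    obtain ⟨x, h1, h2, h3⟩ := exists_smul ((MulAut.congr e).symm (MulAut.conjNormal k)) (e.injective (Subtype.ext (by
      have := hg z rfl
      rw [← mul_assoc, setLike_mul_comm hz hu, mul_assoc, mul_assoc,
        mul_right_inj] at this
      simp [he, mul_inv_eq_iff_eq_mul, this]))) v.toAdd.1 v.toAdd.2
    refine ⟨x, congrArg₂ _ (by rw [h1, h2]; exact congrArg Subtype.val hv) (uq k hk _ fun u => ?_)⟩
    simp [h3]
  exact ⟨ψ, hi, hz', hr, fun v => by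
    change e _ * μ _ ∈ U
    rw [show μ (tr n v) = 1 from uq 1 M.one_mem _ fun u => by simp [tr, smul_def], mul_one]
    exact Subtype.prop _⟩

theorem stab {o : Finset GolayPt} (ho : o ∈ octads) {b c : Equiv.Perm GolayPt} (hb : b ∈ Golay.Fix o) (h1 : b ≠ 1)
    (hc : c * b = b * c) : c • o = o := by
  have h : ∀ p, b p = p ↔ p ∈ o := fun p => ⟨fun e => by_contra fun hp => h1 (eq_one_of_fix (s := insert p o)
    (Fix_insert o p ▸ ⟨hb, e⟩) (by rw [Finset.card_insert_of_notMem hp, ho.2])), (mem_Fix.1 hb).2 p⟩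
  ext p
  rw [← Finset.inv_smul_mem_iff, ← h, ← h, Equiv.Perm.smul_def, Equiv.Perm.eq_inv_iff_eq, ← Equiv.Perm.mul_apply, hc]
  simp
/-- In the Mathieu group of degree 24 (the automorphism group of the length-24 binary Golay code, acting on the 24 coordinates), let z be an involution whose fixed points form an octad (the support of a code word of weight 8), and let Q be the largest normal 2-subgroup of the centralizer C of z. Then Q is extraspecial of order 2^7 with an elementary abelian subgroup of order 16 (plus type), Q is a large extraspecial 2-subgroup, and C is the split extension of Q by the special linear group of degree 3 over the field with two elements. -/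
theorem result (z : ↥Cfsg.M24) (hz : orderOf z = 2) (hfix : (Finset.univ.filter fun p : Cfsg.GolayPt => (z : Equiv.Perm Cfsg.GolayPt) p = p) ∈ Cfsg.octads) (Q : Subgroup ↥Cfsg.M24) (hQ : Q = (Cfsg.pCore 2 ↥(Subgroup.centralizer ({z} : Set ↥Cfsg.M24))).map (Subgroup.centralizer ({z} : Set ↥Cfsg.M24)).subtype) : Cfsg.IsExtraspecial 2 ↥Q ∧ Nat.card ↥Q = 2 ^ 7 ∧ (∃ E : Subgroup ↥Cfsg.M24, E ≤ Q ∧ Cfsg.IsElementaryAbelian 2 E ∧ Nat.card ↥E = 2 ^ 4) ∧ Cfsg.IsLargeExtraspecial Q ∧ ∃ K : Subgroup ↥Cfsg.M24, K ≤ Subgroup.centralizer ({z} : Set ↥Cfsg.M24) ∧ Q ⊓ K = ⊥ ∧ Q ⊔ K = Subgroup.centralizer ({z} : Set ↥Cfsg.M24) ∧ Nonempty (↥K ≃* Matrix.SpecialLinearGroup (Fin 3) (ZMod 2)) := by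
  set o := Finset.univ.filter fun p : GolayPt => (z : Equiv.Perm GolayPt) p = p
  obtain ⟨p, hp⟩ : ∃ p, p ∉ o := by
    by_contra! h
    simpa [hfix.2] using Finset.card_le_card fun p (_ : p ∈ Finset.univ) => h p
  obtain ⟨h1, h2, ⟨e⟩⟩ := Cfsg.Agent.S1554.result o hfix p hp
  set N := M24 ⊓ stabilizer (Equiv.Perm GolayPt) o
  have hU : Golay.Fix o ≤ N := fun g hg => (mem_Fix_iff_stab.1 hg).1
  have hn : ((Golay.Fix o).subgroupOf N).Normal := ⟨fun u hu g => mem_Fix.2 ⟨(g * u * g⁻¹).2.1, fun q hq => by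
    have := (mem_Fix.1 hu).2 (g.1⁻¹ q) (Finset.inv_smul_mem_iff.2 (g.2.2.symm ▸ hq :))
    exact (congrArg g.1 this).trans (g.1.apply_symm_apply q)⟩⟩
  have sq : ∀ u : (Golay.Fix o).subgroupOf N, u * u = 1 := fun u =>
    Subtype.ext (Subtype.ext (mul_self_of_mem_Fix_octad hfix u.2))
  have cm : ∀ u v : (Golay.Fix o).subgroupOf N, u * v = v * u := fun u v => by
    rw [← inv_eq_of_mul_eq_one_right (sq (u * v)), _root_.mul_inv_rev, inv_eq_of_mul_eq_one_right (sq u),
      inv_eq_of_mul_eq_one_right (sq v)]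
  have cU : Nat.card ((Golay.Fix o).subgroupOf N) = 2 ^ (3 + 1) :=
    (Nat.card_congr (Subgroup.subgroupOfEquivOfLe hU).toEquiv).trans (card_Fix_octad hfix)
  have hf : ∀ m ∈ (N ⊓ stabilizer (Equiv.Perm GolayPt) p).subgroupOf N,
      (∀ u ∈ (Golay.Fix o).subgroupOf N, m * u * m⁻¹ = u) → m = 1 := fun m hm h => Subtype.ext (eq_one_of_fix (s := oᶜ)
    (mem_Fix.2 ⟨m.2.1, fun q hq => by
      obtain ⟨u, rfl⟩ := (orbit_Fix_octad hfix hp).ge hq
      have := congrArg (fun g : N => g.1 p) (mul_inv_eq_iff_eq_mul.1 (h ⟨u, hU u.2⟩ u.2))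
      exact this.trans (congrArg u.1 hm.2)⟩) (by rw [Finset.card_compl, hfix.2]; decide))
  have zU : z.1 ∈ Golay.Fix o := mem_Fix.2 ⟨z.2, fun q hq => (Finset.mem_filter.1 hq).2⟩
  have z1 : z ≠ 1 := fun h => by simp [h] at hz
  obtain ⟨ψ, i1, i2, i3, i4⟩ := exists_psi 3 ((Golay.Fix o).subgroupOf N)
    ((N ⊓ stabilizer (Equiv.Perm GolayPt) p).subgroupOf N)
    ⟨⟨⟨cm⟩⟩, fun u hu => (pow_two u).trans (congrArg Subtype.val (sq ⟨u, hu⟩))⟩ cU
    ((Subgroup.comap_inf _ _ _).symm.trans ((congrArg _ h1).trans (Subgroup.bot_subgroupOf N)))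
    ((Subgroup.subgroupOf_sup hU inf_le_left).symm.trans ((congrArg (·.subgroupOf N) h2).trans N.subgroupOf_self)) hf
    (fun φ => by
      obtain ⟨f, hf'⟩ := CL.EAGL.exists_hom_gl (p := 2) (n := 4) cm (fun u => (pow_two u).trans (sq u)) cU.le
      obtain ⟨m, rfl⟩ := ((Nat.bijective_iff_injective_and_card ((MulAut.conjNormal (H := (Golay.Fix o).subgroupOf N)).comp
        ((N ⊓ stabilizer (Equiv.Perm GolayPt) p).subgroupOf N).subtype)).2 (by
          have hi := (injective_iff_map_eq_one ((MulAut.conjNormal (H := (Golay.Fix o).subgroupOf N)).comp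
            ((N ⊓ stabilizer (Equiv.Perm GolayPt) p).subgroupOf N).subtype)).2 fun m h => Subtype.ext (hf m m.2
              fun u hu => (congrArg Subtype.val (DFunLike.congr_fun h ⟨u, hu⟩) :))
          refine ⟨hi, (Nat.card_le_card_of_injective _ hi).antisymm ((Nat.card_le_card_of_injective f hf').trans ?_)⟩
          rw [Nat.card_congr (Subgroup.subgroupOfEquivOfLe inf_le_left).toEquiv, Nat.card_congr e.toEquiv,
            nat_card_alternatingGroup, Matrix.card_GL_field]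
          simp [Fin.prod_univ_succ, Nat.factorial])).2 φ
      exact ⟨m, m.2, fun u => rfl⟩) (z := ⟨z, hU zU⟩) zU fun h => z1 (Subtype.ext (congrArg Subtype.val h :))
  let ι := Subgroup.inclusion (inf_le_left : N ≤ M24)
  have j1 : Function.Injective (ι.comp ψ) := (Subgroup.inclusion_injective inf_le_left).comp i1
  have ez : ι.comp ψ (z0 3) = z := Subtype.ext (congrArg Subtype.val i2 :)
  obtain ⟨k1, k2, k3, k4, K, l1, l2, l3, ⟨l4⟩⟩ := main (by decide) (ι.comp ψ) j1 (by rw [ez]) (fun c hc => by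
    have hc := Subgroup.mem_centralizer_singleton_iff.1 hc
    obtain ⟨x, hx⟩ := i3 (x := ⟨c, c.2, stab hfix zU (fun h => z1 (Subtype.ext h)) (congrArg Subtype.val hc)⟩)
      (Subgroup.mem_centralizer_singleton_iff.2 (Subtype.ext (congrArg Subtype.val hc :)))
    exact ⟨x, congrArg ι hx⟩) hQ
  have b1 : ι.comp ψ (tr 3 (.ofAdd (0, Pi.single 0 1))) ≠ 1 := fun h => by
    simpa [tr, one_def] using congrFun (congrArg H.b (j1 (h.trans (ι.comp ψ).map_one.symm))) 0
  refine ⟨k1.isExtraspecial, k3, k4, k1.large_of (k2 _) b1 (fun h => ?_)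
    (Subtype.ext (mul_self_of_mem_Fix_octad hfix (i4 _))) (P := (Golay.Fix o).subgroupOf M24) (.of_card (n := 4)
      ((Nat.card_congr (Subgroup.subgroupOfEquivOfLe (Fix_le o)).toEquiv).trans (card_Fix_octad hfix))) (ez ▸ zU)
    fun c hc y hy => hn.1 ⟨y, hU hy⟩ hy ⟨c, c.2, stab hfix (i4 _) (fun h => b1 (Subtype.ext h))
      (congrArg Subtype.val hc)⟩, K, l1, l2, l3, ⟨l4.trans (MulEquiv.ofBijective Matrix.SpecialLinearGroup.toGL
    ⟨Matrix.SpecialLinearGroup.toGL_injective, fun A => ⟨⟨A.1, (by decide : ∀ x : ZMod 2, x ≠ 0 → x = 1) _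
      A.det_ne_zero⟩, Units.ext rfl⟩⟩).symm⟩⟩
  simpa [tr, z0] using congrArg H.c (j1 h)

end Cfsg.Agent.S5425
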