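import Cfsg.Statements.S5522
import Mathlib
import Cfsg.Agent.SPOR.M12b
import Cfsg.Agent.SPOR.SimpleOn

set_option autoImplicit false
open Cfsg

namespace Cfsg.Agent.S5522

open CL CL.K CL.Orb CL.Enc CL.Golay CL.M12 MulAction
open scoped Pointwise

/-- the test for one element: a fixed point outside the dodecad, or not of order 2, 3, 5, 11. -/
noncomputable def test (P : ℕ) : Bool :=
  Bool.rec (motive := fun _ => Bool)
    (force (comp24 P P) fun P2 => force (comp24 P2 P) fun P3 => force (comp24 P3 P2) fun P5 =>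
      !Nat.beq P2 one24 && !Nat.beq P3 one24 && !Nat.beq P5 one24 &&
        !Nat.beq (comp24 (comp24 P5 P5) P) one24) true
    (lany (fun i => Nat.beq (fld 5 31 P i) i) [5, 7, 10, 11, 14, 15, 17, 19, 20, 21, 22, 23])

/-- The Mathieu group M₁₁, realised as the stabiliser of one point of the dodecad of squares inside the stabiliser M₁₂ of that dodecad in M₂₄, acts on the twelve coordinate positions outside the dodecad of squares (its 3-transitive action of degree 12); in this action every element of prime order fixes a point, i.e. the action is elusive. -/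
theorem result (g : Equiv.Perm Cfsg.GolayPt) (hg : g ∈ Cfsg.Spor.M11) (hord : (orderOf g).Prime) :
    ∃ x : Cfsg.GolayPt, x ∉ Cfsg.Spor.squareDodecad ∧ g x = x := by
  rw [M11_eq] at hg
  obtain ⟨P, hP, h⟩ := forall_G11 (p := test) (by decide +kernel) g hg
  unfold test at h
  cases hb : lany (fun i => Nat.beq (fld 5 31 P i) i) [5, 7, 10, 11, 14, 15, 17, 19, 20, 21, 22, 23] with
  | true =>
    obtain ⟨i, hi, e⟩ := lany_iff.1 hb
    have : ∀ i ∈ [5, 7, 10, 11, 14, 15, 17, 19, 20, 21, 22, 23], i < 24 ∧ E.dec i ∉ E.setOf D0 := by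
      decide +kernel
    refine ⟨E.dec i, squareDodecad_eq ▸ (this i hi).2, ?_⟩
    rw [hP.apply_dec (this i hi).1, Nat.eq_of_beq_eq_true e]
  | false =>
    exfalso
    rw [hb] at h
    simp only [force_eq, Bool.and_eq_true, Bool.not_eq_true', ← Bool.not_eq_true, Nat.beq_eq] at h
    obtain ⟨⟨⟨h2, h3⟩, h5⟩, h11⟩ := h
    rw [R.comp24_eq_one_iff hP hP] at h2
    rw [R.comp24_eq_one_iff (hP.mul hP) hP] at h3
    rw [R.comp24_eq_one_iff ((hP.mul hP).mul hP) (hP.mul hP)] at h5
    rw [R.comp24_eq_one_iff ((((hP.mul hP).mul hP).mul (hP.mul hP)).mul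
      (((hP.mul hP).mul hP).mul (hP.mul hP))) hP] at h11
    have hd : orderOf g ∣ 2 ^ 4 * 3 ^ 2 * 5 * 11 := by
      have := orderOf_dvd_natCard (⟨g, hg⟩ : G11)
      rwa [card_G11, Subgroup.orderOf_mk] at this
    have h1 := pow_orderOf_eq_one g
    simp only [hord.dvd_mul] at hd
    rcases hd with ((hd | hd) | hd) | hd
    · rw [(Nat.prime_dvd_prime_iff_eq hord Nat.prime_two).1 (hord.dvd_of_dvd_pow hd)] at h1
      exact h2 (by rw [← h1]; simp only [pow_succ, pow_zero, one_mul, mul_assoc])
    · rw [(Nat.prime_dvd_prime_iff_eq hord Nat.prime_three).1 (hord.dvd_of_dvd_pow hd)] at h1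
      exact h3 (by rw [← h1]; simp only [pow_succ, pow_zero, one_mul, mul_assoc])
    · rw [(Nat.prime_dvd_prime_iff_eq hord Nat.prime_five).1 hd] at h1
      exact h5 (by rw [← h1]; simp only [pow_succ, pow_zero, one_mul, mul_assoc])
    · rw [(Nat.prime_dvd_prime_iff_eq hord Nat.prime_eleven).1 hd] at h1
      exact h11 (by rw [← h1]; simp only [pow_succ, pow_zero, one_mul, mul_assoc])

end Cfsg.Agent.S5522
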