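import Cfsg.Statements.S5528
import Cfsg.Agent.SPOR.MP.Deg
import Cfsg.Agent.SPOR.MP.RowBase

set_option autoImplicit false
open Cfsg

namespace Cfsg.Agent.S5528


theorem result (n : ℕ) (ρ : Cfsg.Spor.Monster →* GL (Fin n) ℂ) (hρ : Function.Injective ρ) : 196883 ≤ n := by
  have := CL.Deg.min_degree CL.MO.P0 (V := Fin n → ℂ)
    ((Matrix.toLinAlgEquiv' (R := ℂ) (n := Fin n)).toMonoidHom.comp
      ((Units.coeHom _).comp (ρ.comp CL.MP.isoM.symm.toMonoidHom)))
    ((Matrix.toLinAlgEquiv' (R := ℂ) (n := Fin n)).injective.comp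
      (Units.val_injective.comp (hρ.comp CL.MP.isoM.symm.injective)))
  simpa using this

end Cfsg.Agent.S5528
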