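import Cfsg.Statements.S5534
import Cfsg.Agent.SPOR.Y5.BIso
import Cfsg.Agent.SPOR.MP.RowBase

set_option autoImplicit false
open Cfsg

namespace Cfsg.Agent.S5534

/-- The Monster (realised inside the presented Bimonster) has an involution whose centralizer is a non-split double cover of the Baby Monster (the finitely presented group of the definitions): the centralizer has centre of order 2, its central quotient is isomorphic to the Baby Monster, and the centre has no complement. -/
theorem result : ∃ y : Cfsg.Spor.Monster, orderOf y = 2 ∧ Cfsg.IsNonsplitDoubleCover ↥(Subgroup.centralizer ({y} : Set Cfsg.Spor.Monster)) Cfsg.Spor.BabyMonster := by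
  have e := CL.MP.isoM
  have h := CL.MO.t0_mem (P := CL.MO.P0)
  refine ⟨e.symm (CL.MO.t0 _), ?_, CL.CE.IsNonsplitDoubleCover.congr (CL.Y5.cover_DD h)
    ((e.symm.subgroupMap _).trans (MulEquiv.subgroupCongr ?_)) (MulEquiv.refl _)⟩
  · rw [MulEquiv.orderOf_eq]
    exact orderOf_eq_prime ((pow_two _).trans (CL.MO.sq_of_mem_DD h)) (CL.MO.ne_one_of_mem_DD h)
  · ext x
    obtain ⟨x, rfl⟩ := e.symm.surjective x
    refine (Subgroup.mem_map_iff_mem e.symm.injective).trans ?_
    simp only [Subgroup.mem_centralizer_singleton_iff, ← map_mul, e.symm.injective.eq_iff]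

end Cfsg.Agent.S5534
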