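import Cfsg.Statements.S5540
import Cfsg.Agent.SPOR.MP.Nor
import Cfsg.Agent.SPOR.MP.RowBase

set_option autoImplicit false
open Cfsg

namespace Cfsg.Agent.S5540


theorem result : ∃ ρ : Representation ℝ Cfsg.Spor.Monster (Fin 196883 → ℝ), Function.Injective ρ ∧ (∀ W : Submodule ℝ (Fin 196883 → ℝ), (∀ g : Cfsg.Spor.Monster, W.map (ρ g) ≤ W) → W = ⊥ ∨ W = ⊤) ∧ (∃ B : LinearMap.BilinForm ℝ (Fin 196883 → ℝ), B ≠ 0 ∧ (∀ u v, B u v = B v u) ∧ ∀ (g : Cfsg.Spor.Monster) (u v : (Fin 196883 → ℝ)), B (ρ g u) (ρ g v) = B u v) ∧ ∃ m : (Fin 196883 → ℝ) →ₗ[ℝ] (Fin 196883 → ℝ) →ₗ[ℝ] (Fin 196883 → ℝ), m ≠ 0 ∧ (∀ u v, m u v = m v u) ∧ (∀ (g : Cfsg.Spor.Monster) (u v : (Fin 196883 → ℝ)), m (ρ g u) (ρ g v) = ρ g (m u v)) ∧ ∀ m' : (Fin 196883 → ℝ) →ₗ[ℝ] (Fin 196883 → ℝ) →ₗ[ℝ] (Fin 196883 → ℝ), (∀ (g : Cfsg.Spor.Monster)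 (u v : (Fin 196883 → ℝ)), m' (ρ g u) (ρ g v) = ρ g (m' u v)) → ∃ c : ℝ, m' = c • m := by
  obtain ⟨ρ, h1, ⟨B, b1, b2, b3⟩, m, m1, m2, m3, m4⟩ :=
    CL.Nor.norton (W := Fin 196883 → ℝ) CL.MO.P0 (Module.finrank_fin_fun ℝ)
  have s := CL.MP.isoM.surjective
  refine ⟨ρ.comp CL.MP.isoM.toMonoidHom, h1.comp CL.MP.isoM.injective, fun W hW =>
    CL.Nor.irr ρ h1 (Module.finrank_fin_fun ℝ) W (s.forall.2 fun g => Submodule.map_le_iff_le_comap.1 (hW g)),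
    ⟨B, b1, b2, fun g => b3 _⟩, m, m1, m2, fun g => m3 _, fun m' h => m4 m' (s.forall.2 h)⟩

end Cfsg.Agent.S5540
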