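import Cfsg.Statements.S5569
import Cfsg.Agent.SPOR.J4.Main
import Cfsg.Agent.SPOR.J4.MSConj

set_option autoImplicit false
open Cfsg

namespace Cfsg.Agent.S5569

/-- Let G be a finite non-abelian simple group of Janko-four type (an involution z whose centralizer H has an extraspecial largest normal 2-subgroup E of order 2^13 containing its centralizer in H, a normal subgroup N ≥ E of H with N/E of order 3 and H/N the automorphism group of M₂₂, and a subgroup P ≤ N of order 3 with C_E(P) = ⟨z⟩, N_H(P) ≠ C_H(P) and P ≤ C_H(P)′). Then the centralizer of an involution t of G that is not conjugate to z is a split extension of an elementary abelian normal subgroup of order 2^11 by a complement isomorphic to the automorphism group of M₂₂. -/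
theorem result {G : Type*} [Group G] [Finite G] [IsSimpleGroup G] (hG : ¬ IsMulCommutative G) (z : G) (hJ : Cfsg.IsOfJankoFourTypeAt z) (t : G) (ht : orderOf t = 2) (hnc : ¬ IsConj z t) :
    ∃ V K : Subgroup G, V ≤ Subgroup.centralizer ({t} : Set G) ∧ K ≤ Subgroup.centralizer ({t} : Set G) ∧
    Subgroup.centralizer ({t} : Set G) ≤ Subgroup.normalizer (V : Set G) ∧ Cfsg.IsElementaryAbelian 2 V ∧ Nat.card ↥V = 2 ^ 11 ∧
    K ⊓ V = ⊥ ∧ K ⊔ V = Subgroup.centralizer ({t} : Set G) ∧ Nonempty (↥K ≃* MulAut ↥Cfsg.Spor.M22) := by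
  obtain ⟨V₀, θ₀, χ₀, h₀⟩ := CL.J4.exists_js hJ
  obtain ⟨z', V, θ, χ, -, h, rfl⟩ := h₀.toMS.exists_of_not_conj ht hnc
  have hm := fun x => h.mem_cent_duad (x := x) CL.Golay.card_D2
  have hV : V ≤ Subgroup.centralizer {θ (CL.Golay.E.setOf CL.Golay.D2)} := fun v hv =>
    (hm v).2 ⟨v, hv, 1, one_mem _, by simp⟩
  have hK : (CL.MAut.Duad.subgroupOf M24).map χ ≤
      Subgroup.centralizer {θ (CL.Golay.E.setOf CL.Golay.D2)} := by
    rintro _ ⟨g, hg, rfl⟩
    exact (hm _).2 ⟨1, one_mem _, g, hg, by simp⟩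
  refine ⟨V, (CL.MAut.Duad.subgroupOf M24).map χ, hV, hK, h.cent_t, h.elemAb, h.card_V,
    eq_bot_iff.2 ((inf_le_inf_right _ (Subgroup.map_le_range _ _)).trans h.range_inf.le),
    le_antisymm (sup_le hK hV) fun m hm' => ?_,
    ⟨((Subgroup.equivMapOfInjective _ _ h.χ_inj).symm.trans
      (Subgroup.subgroupOfEquivOfLe inf_le_left)).trans CL.MAut.duadEquiv⟩⟩
  obtain ⟨w, hw, g, hg, rfl⟩ := (hm m).1 hm'
  exact mul_mem (Subgroup.mem_sup_right hw) (Subgroup.mem_sup_left ⟨g, hg, rfl⟩)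

end Cfsg.Agent.S5569
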