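import Cfsg.Statements.S5574
import Cfsg.Agent.SPOR.J4.Main
import Cfsg.Agent.SPOR.J4.Five

set_option autoImplicit false
open Cfsg

namespace Cfsg.Agent.S5574

/-- Let G be a finite non-abelian simple group of Janko-four type (an involution z whose centralizer H has an extraspecial largest normal 2-subgroup E of order 2^13 containing its centralizer in H, a normal subgroup N ≥ E of H with N/E of order 3 and H/N the automorphism group of M₂₂, and a subgroup P ≤ N of order 3 with C_E(P) = ⟨z⟩, N_H(P) ≠ C_H(P) and P ≤ C_H(P)′). Then G has a special 2-subgroup L of order 2^15 with centre of order 8 whose normalizer M satisfies: M/L is isomorphic to the direct product of the symmetric group of degree 5 and L₃(2); L has no complement in M; M nevertheless contains subgroups isomorphic to the symmetric group of degree 5 and to L₃(2); and M contains the normalizer of some Sylow 5-subgroup and of some Sylow 7-subgroup of G. -/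
theorem result {G : Type*} [Group G] [Finite G] [IsSimpleGroup G] (hG : ¬ IsMulCommutative G) (hJ : Cfsg.IsOfJankoFourType G) :
    ∃ L : Subgroup G, Cfsg.IsSpecial 2 ↥L ∧ Nat.card ↥L = 2 ^ 15 ∧ Nat.card ↥(Subgroup.center ↥L) = 8 ∧
    Nonempty (↥(Subgroup.normalizer (L : Set G)) ⧸ L.subgroupOf (Subgroup.normalizer (L : Set G)) ≃* Equiv.Perm (Fin 5) × Matrix.SpecialLinearGroup (Fin 3) (ZMod 2)) ∧
    (∀ K : Subgroup ↥(Subgroup.normalizer (L : Set G)), ¬ (L.subgroupOf (Subgroup.normalizer (L : Set G))).IsComplement' K) ∧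
    (∃ K₁ : Subgroup G, K₁ ≤ Subgroup.normalizer (L : Set G) ∧ Nonempty (↥K₁ ≃* Equiv.Perm (Fin 5))) ∧
    (∃ K₂ : Subgroup G, K₂ ≤ Subgroup.normalizer (L : Set G) ∧ Nonempty (↥K₂ ≃* Matrix.SpecialLinearGroup (Fin 3) (ZMod 2))) ∧
    (∃ Q : Sylow 5 G, Subgroup.normalizer ((Q : Subgroup G) : Set G) ≤ Subgroup.normalizer (L : Set G)) ∧
    (∃ S : Sylow 7 G, Subgroup.normalizer ((S : Subgroup G) : Set G) ≤ Subgroup.normalizer (L : Set G)) := by
  obtain ⟨z, hz⟩ := hJ
  obtain ⟨V, θ, χ, h⟩ := CL.J4.exists_js hz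
  obtain ⟨ι, Z, L, μ, φ, σ, ν, P⟩ := h.exists_pent
  obtain ⟨f, P'⟩ := P.exists_pen
  have syl : ∀ {p : ℕ} [Fact p.Prime], ¬ p ^ 2 ∣ Nat.card G → ∀ {a : G}, orderOf a = p →
      ∃ S : Sylow p G, (S : Subgroup G) = Subgroup.zpowers a := fun {p} _ hc a ha =>
    ⟨(IsPGroup.of_card (G := Subgroup.zpowers a) (n := 1)
      (by rw [Nat.card_zpowers, ha, pow_one])).toSylow fun e => hc (by
      rw [← (Subgroup.zpowers a).index_mul_card, Nat.card_zpowers, ha, sq]
      exact Nat.mul_dvd_mul_right e p), rfl⟩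
  have l1 : Subgroup.normalizer (Z : Set G) ≤ Subgroup.normalizer (L : Set G) := fun n hn =>
    Subgroup.mem_normalizer_fintype fun x hx => by
      obtain ⟨e1, e2⟩ := (P.ker ⟨x, P.le hx⟩).1 hx
      exact (P.ker (⟨n, hn⟩ * ⟨x, P.le hx⟩ * ⟨n, hn⟩⁻¹)).2 (by simp only [map_mul, map_inv, e1, e2,
        mul_one, mul_inv_cancel, and_self])
  have l2 : Subgroup.normalizer (L : Set G) ≤ Subgroup.normalizer (Z : Set G) := fun n hn =>
    Subgroup.mem_normalizer_fintype fun x hx => by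
      refine (P.center ⟨_, (hn x).1 (P.Z_le hx)⟩).1 (Subgroup.mem_center_iff.2 fun y => Subtype.ext ?_)
      have : (n⁻¹ * y * n⁻¹⁻¹) * x = x * (n⁻¹ * y * n⁻¹⁻¹) := congrArg Subtype.val
        (Subgroup.mem_center_iff.1 ((P.center ⟨x, P.Z_le hx⟩).2 hx) ⟨_, (inv_mem hn y).1 y.2⟩)
      rw [← CL.J4.comm_conj_iff (g := n), show n * (n⁻¹ * y * n⁻¹⁻¹) * n⁻¹ = y by group] at this
      exact this
  let ψ := (φ.prod μ).comp (Subgroup.inclusion l2)
  have ψs : Function.Surjective ψ := fun b => by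
    obtain ⟨n, hn⟩ := P.surj b
    exact ⟨⟨n, l1 n.2⟩, hn⟩
  have ψk : L.subgroupOf _ = ψ.ker := Subgroup.ext fun x => (P.ker ⟨x, l2 x.2⟩).trans
    (Prod.ext_iff (x := ψ x) (y := 1)).symm
  obtain ⟨e3⟩ := CL.J4.sl3_equiv
  obtain ⟨K, k1, ⟨eK⟩⟩ := P.sub
  have o := (P'.f_ord (finRotate 5)).trans CL.J4.orderOf_rot
  have : Fact (Nat.Prime 5) := ⟨by decide⟩
  have : Fact (Nat.Prime 7) := ⟨by decide⟩
  obtain ⟨Q, hQ⟩ := syl (by rw [h.card_G]; decide) o
  obtain ⟨S, hS⟩ := syl (by rw [h.card_G]; decide) P.σ_ord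
  refine ⟨L, P.special, P.card, (CL.Orb.card_of_mem_iff P.Z_le P.center).trans P'.card_Z,
    ⟨((QuotientGroup.quotientMulEquivOfEq ψk).trans (QuotientGroup.quotientKerEquivOfSurjective ψ ψs)).trans
      ((MulEquiv.refl _).prodCongr e3.symm)⟩, fun K hK => ?_,
    ⟨((Subgroup.subtype _).comp f).range, fun _ ⟨π, e⟩ => e ▸ l1 (f π).2, ⟨(MonoidHom.ofInjective
      (Subtype.val_injective.comp (Function.LeftInverse.injective P'.φf))).symm⟩⟩,
    ⟨K, k1.trans l1, ⟨eK.trans e3.symm⟩⟩,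
    ⟨Q, hQ ▸ (P'.norm5_le ((Subgroup.orderOf_coe _).symm.trans o) (P'.μf _) h).trans l1⟩,
    S, hS ▸ (P'.norm7_le h).trans l1⟩
  obtain ⟨s, hs⟩ := CL.J4.exists_section ψ ψs (ψk ▸ hK)
  let s' := (Subgroup.inclusion l2).comp s
  refine P'.nosplit (q := s' (finRotate 5, 1)) ?_ (congrArg Prod.snd (hs _)) h
    (s'.comp (MonoidHom.inr _ _)) (fun A => congrArg Prod.snd (hs (1, A)))
    (fun A => Commute.map (show Commute ((1, A) : CL.J4.S5 × CL.J4.G3) (finRotate 5, 1) from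
      Prod.ext (by simp) (by simp)) s') fun A => congrArg Prod.fst (hs (1, A))
  rw [orderOf_injective s' (Function.LeftInverse.injective (g := φ.prod μ) hs), Prod.orderOf_mk,
    CL.J4.orderOf_rot, orderOf_one, Nat.lcm_one_right]

end Cfsg.Agent.S5574
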