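import Cfsg.Statements.S5575
import Cfsg.Agent.SPOR.J4.Main
import Cfsg.Agent.SPOR.J4.Elev3

set_option autoImplicit false
open Cfsg

namespace Cfsg.Agent.S5575

/-- Let G be a finite non-abelian simple group of Janko-four type (an involution z whose centralizer H has an extraspecial largest normal 2-subgroup E of order 2^13 containing its centralizer in H, a normal subgroup N ≥ E of H with N/E of order 3 and H/N the automorphism group of M₂₂, and a subgroup P ≤ N of order 3 with C_E(P) = ⟨z⟩, N_H(P) ≠ C_H(P) and P ≤ C_H(P)′). Then a Sylow 11-subgroup of G is extraspecial of order 11^3 and exponent 11, and its normalizer has order 2^4·3·5·11^3 and contains a subgroup isomorphic to GL₂(3). -/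
theorem result {G : Type*} [Group G] [Finite G] [IsSimpleGroup G] (hG : ¬ IsMulCommutative G) (hJ : Cfsg.IsOfJankoFourType G) (U : Sylow 11 G) :
    Cfsg.IsExtraspecial 11 ↥(U : Subgroup G) ∧ Nat.card ↥(U : Subgroup G) = 11 ^ 3 ∧ Monoid.exponent ↥(U : Subgroup G) = 11 ∧
    Nat.card ↥(Subgroup.normalizer ((U : Subgroup G) : Set G)) = 2 ^ 4 * 3 * 5 * 11 ^ 3 ∧
    ∃ K : Subgroup G, K ≤ Subgroup.normalizer ((U : Subgroup G) : Set G) ∧ Nonempty (↥K ≃* GL (Fin 2) (ZMod 3)) := by
  obtain ⟨z, hz⟩ := hJ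
  obtain ⟨V, θ, χ, h⟩ := CL.J4.exists_js hz
  obtain ⟨c, φ, e⟩ := h.exists_ele
  have : Fact (Nat.Prime 11) := ⟨by decide⟩
  obtain ⟨cU, nc⟩ := e.noncomm h U
  obtain ⟨O, n1, c1, -⟩ := e.sylow h
  obtain ⟨g, rfl⟩ := MulAction.exists_smul_eq G O U
  have : Nontrivial ((g • O : Sylow 11 G) : Subgroup G) :=
    Finite.one_lt_card_iff_nontrivial.1 (by rw [cU]; decide)
  have k : Subgroup.normalizer (((g • O : Sylow 11 G) : Subgroup G) : Set G) =
      (Subgroup.normalizer ((O : Subgroup G) : Set G)).map (MulAut.conj g).toMonoidHom :=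
    (Subgroup.map_equiv_normalizer_eq _ _).symm
  refine ⟨(CL.BG.p3group_extraspecial cU nc).1, cU, (Monoid.exponent_eq_prime_iff (by decide)).2
    fun x hx => ?_, by rw [k, CL.J4.card_map_equiv, n1, c1],
    ((MulAut.conj g).toMonoidHom.comp φ).range, ?_,
    ⟨(MonoidHom.ofInjective ((MulAut.conj g).injective.comp e.inj)).symm⟩⟩
  · rw [← Subgroup.orderOf_coe]
    rcases e.classes h (fun e' => hx (Subtype.ext e'))
      ((g • O).2.to_le (Subgroup.zpowers_le.2 x.2)) with e' | e' <;>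
      obtain ⟨m, hm⟩ := isConj_iff.1 e' <;> rw [← CL.Inv.orderOf_conj' m, hm]
    exacts [e.ord, h.u_ord]
  · rintro _ ⟨a, rfl⟩
    exact k ▸ ⟨φ a, n1 ▸ e.φ_mem a, rfl⟩

end Cfsg.Agent.S5575
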