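import Cfsg.Statements.S5577
import Cfsg.Agent.SPOR.J4.Main
import Cfsg.Agent.SPOR.J4.Big

set_option autoImplicit false
open Cfsg

namespace Cfsg.Agent.S5577

/-- Let G be a finite non-abelian simple group of Janko-four type (an involution z whose centralizer H has an extraspecial largest normal 2-subgroup E of order 2^13 containing its centralizer in H, a normal subgroup N ≥ E of H with N/E of order 3 and H/N the automorphism group of M₂₂, and a subgroup P ≤ N of order 3 with C_E(P) = ⟨z⟩, N_H(P) ≠ C_H(P) and P ≤ C_H(P)′). Then for p = 23, 29, 31, 37 and 43 every Sylow p-subgroup of G is self-centralizing, with normalizer of order 23·22, 29·28, 31·10, 37·12 and 43·14 respectively. -/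
theorem result {G : Type*} [Group G] [Finite G] [IsSimpleGroup G] (hG : ¬ IsMulCommutative G) (hJ : Cfsg.IsOfJankoFourType G) :
    (∀ U : Sylow 23 G, Subgroup.centralizer ((U : Subgroup G) : Set G) = (U : Subgroup G) ∧ Nat.card ↥(Subgroup.normalizer ((U : Subgroup G) : Set G)) = 23 * 22) ∧
    (∀ U : Sylow 29 G, Subgroup.centralizer ((U : Subgroup G) : Set G) = (U : Subgroup G) ∧ Nat.card ↥(Subgroup.normalizer ((U : Subgroup G) : Set G)) = 29 * 28) ∧
    (∀ U : Sylow 31 G, Subgroup.centralizer ((U : Subgroup G) : Set G) = (U : Subgroup G) ∧ Nat.card ↥(Subgroup.normalizer ((U : Subgroup G) : Set G)) = 31 * 10) ∧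
    (∀ U : Sylow 37 G, Subgroup.centralizer ((U : Subgroup G) : Set G) = (U : Subgroup G) ∧ Nat.card ↥(Subgroup.normalizer ((U : Subgroup G) : Set G)) = 37 * 12) ∧
    (∀ U : Sylow 43 G, Subgroup.centralizer ((U : Subgroup G) : Set G) = (U : Subgroup G) ∧ Nat.card ↥(Subgroup.normalizer ((U : Subgroup G) : Set G)) = 43 * 14) := by
  obtain ⟨z, hz⟩ := hJ
  obtain ⟨V, θ, χ, h⟩ := CL.J4.exists_js hz
  have k : ∀ p : ℕ, p.Prime → p ∣ 86775571046077562880 → ∃ x : G, orderOf x = p := fun p hp e =>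
    have := Fact.mk hp
    exists_prime_orderOf_dvd_card' p (h.card_G ▸ e)
  have g : ∀ {p : ℕ}, p.Prime ∧ p ∣ 86775571046077562880 ∧ ¬ p ^ 2 ∣ 86775571046077562880 →
      ∀ U : Sylow p G, ∃ x, orderOf x = p ∧ (U : Subgroup G) = Subgroup.zpowers x := fun hp U =>
    have := Fact.mk hp.1
    CL.J4.sylow_gen (h.card_G ▸ hp.2.1) (h.card_G ▸ hp.2.2) U
  obtain ⟨a, ha⟩ := k 23 (by decide) (by decide)
  obtain ⟨b, hb⟩ := k 29 (by decide) (by decide)
  obtain ⟨c, hc⟩ := k 31 (by decide) (by decide)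
  obtain ⟨d, hd⟩ := k 37 (by decide) (by decide)
  obtain ⟨e, he⟩ := k 43 (by decide) (by decide)
  refine ⟨fun U => ?_, fun U => ?_, fun U => ?_, fun U => ?_, fun U => ?_⟩ <;>
    obtain ⟨x, hx, eU⟩ := g (by decide) U <;> rw [eU]
  · exact (h.big hx hb hc hd he).1.imp_left fun e' => CL.J4.cent_eq_of_card (e'.trans hx.symm)
  · exact (h.big ha hx hc hd he).2.1.imp_left fun e' => CL.J4.cent_eq_of_card (e'.trans hx.symm)
  · exact (h.big ha hb hx hd he).2.2.1.imp_left fun e' => CL.J4.cent_eq_of_card (e'.trans hx.symm)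
  · exact (h.big ha hb hc hx he).2.2.2.1.imp_left fun e' => CL.J4.cent_eq_of_card (e'.trans hx.symm)
  · exact (h.big ha hb hc hd hx).2.2.2.2.imp_left fun e' => CL.J4.cent_eq_of_card (e'.trans hx.symm)

end Cfsg.Agent.S5577
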