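import Cfsg.Statements.S5579
import Cfsg.Agent.S1703
import Cfsg.Agent.SPOR.J4.KcThree
import Cfsg.Agent.SPOR.J4.KcLow
import Cfsg.Agent.SPOR.J4.KcBig
import Cfsg.Agent.SPOR.J4.Main
import Cfsg.Agent.SPOR.J4.UMain

set_option autoImplicit false
open Cfsg

namespace Cfsg.Agent.S5579

open CL.J4 CL.J4.Uq CL.Golay Subgroup
open scoped Pointwise

theorem cover {G : Type*} [Group G] {S : Set G} {n : ℕ} (r q : Fin n → G) (h1 : ∀ g ∈ S, ∃ i, IsConj (r i) g)
    (h2 : ∀ i, q i ∈ S) (h3 : ∀ i j, IsConj (q i) (q j) → i = j) :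
    kc ⊤ S = n ∧ ∀ i j, IsConj (r i) (r j) → i = j := by
  choose f hf using fun i => h1 _ (h2 i)
  have h4 : Function.Surjective f := Finite.surjective_of_injective fun i j e =>
    h3 i j ((hf i).symm.trans (e ▸ hf j))
  refine ⟨kc_eq_of_reps q h2 (fun i j e => h3 i j e.isConj) fun g hg => ?_, fun i j e => ?_⟩
  · obtain ⟨i, e⟩ := h1 g hg
    obtain ⟨j, rfl⟩ := h4 i
    exact ⟨j, Cj.top.2 ((hf j).symm.trans e)⟩
  · obtain ⟨a, rfl⟩ := h4 i
    obtain ⟨b, rfl⟩ := h4 j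
    rw [h3 a b (((hf a).symm.trans e).trans (hf b))]

theorem step {G : Type*} [Group G] [Finite G] {p m : ℕ} (hp : p.Prime) (hm : p.Coprime m)
    (h2 : ∀ g : G, ¬ p ^ 2 ∣ orderOf g) {a : G} (ha : orderOf a = p)
    (h : ∀ y : G, orderOf y = p → IsConj a y) : kc ⊤ (Tm G m) = kc ⊤ (Tm G (p * m)) +
      kc (centralizer {a}) ((centralizer {a} : Set G) ∩ Tm G (p * m)) := by
  rw [kc_Tm hp, ← kc_fibre hp hm h2 ha]
  congr 2
  exact Set.ext fun g => ⟨fun hg => ⟨hg, Cj.top.2 (h _ (orderOf_pp hp h2 hg))⟩, And.left⟩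

theorem three {G : Type*} [Group G] [Finite G] [IsSimpleGroup G] {z : G} (hJ : IsOfJankoFourTypeAt z) :
    (∀ g : G, ¬ 3 ^ 2 ∣ orderOf g) ∧
      ∀ y : G, orderOf y = 3 → ∃ w, orderOf w = 2 ∧ centralizer {y} ≤ centralizer {w} := by
  have : Fact (Nat.Prime 3) := ⟨Nat.prime_three⟩
  obtain ⟨P, hP⟩ := hJ
  obtain ⟨κ, ρ, μ, x, S, -⟩ := exists_hs hP
  obtain ⟨σ, χ, F⟩ := S.exists_fs
  refine ⟨fun g hg => ?_, fun y hy => ?_⟩
  · obtain ⟨T, hT⟩ := S.exists_syl3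
    obtain ⟨R, rfl⟩ := F.sylow hT
    have h1 := orderOf_pow_orderOf_div (orderOf_pos g).ne' hg
    generalize g ^ (orderOf g / 3 ^ 2) = a at h1
    obtain ⟨k, hk⟩ := CL.exists_conj_le_of_not_dvd_index (P := zpowers a)
      (IsPGroup.of_card (n := 2) (by rw [Nat.card_zpowers, h1])) R.not_dvd_index
    have h2 : k * a * k⁻¹ ∈ (R : Subgroup G) :=
      hk (smul_mem_pointwise_smul a (MulAut.conj k) _ (mem_zpowers a))
    have h3 := orderOf_dvd_of_pow_eq_one (conj_eq_one_iff.1 (conj_pow.symm.trans ((hT.2 _).1 h2).2))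
    rw [h1] at h3
    exact absurd h3 (by decide)
  · obtain ⟨g, rfl⟩ := isConj_iff.1 (F.conj_x hy)
    refine ⟨g * z * g⁻¹, (CL.Inv.orderOf_conj' ..).trans S.orderOf_z, fun c hc => ?_⟩
    rw [mem_centralizer_singleton_iff] at hc ⊢
    have := mem_centralizer_singleton_iff.1 (F.cent_x (S.norm_of_comm (c := g⁻¹ * c * g) (by
      rw [← mul_left_cancel_iff (a := g), ← mul_right_cancel_iff (a := g⁻¹)]
      simpa [mul_assoc] using hc)))
    rw [← mul_left_cancel_iff (a := g), ← mul_right_cancel_iff (a := g⁻¹)] at this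
    simpa [mul_assoc] using this

theorem result {G : Type*} [Group G] [Finite G] [IsSimpleGroup G] (hG : ¬ IsMulCommutative G) (hJ : Cfsg.IsOfJankoFourType G) :
    Nat.card (ConjClasses G) = 62 := by
  have : Fact (Nat.Prime 2) := ⟨Nat.prime_two⟩
  have : Fact (Nat.Prime 3) := ⟨Nat.prime_three⟩
  obtain ⟨z, hJ⟩ := hJ
  obtain ⟨k1, k2⟩ := three hJ
  obtain ⟨V, θ, χ₀, h⟩ := exists_js hJ
  obtain ⟨e⟩ := h.isoJ4 Cfsg.Agent.S1703.result
  obtain ⟨χ, B, t, c⟩ := h.exists_cx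
  obtain ⟨q, q1, q2⟩ := CL.J4G.exists_ten
  have o3 : orderOf (χ (toM X3)) = 3 := by
    rw [orderOf_injective χ c.mw.χ_inj, ← orderOf_coe]
    exact R.orderOf_eq_prime (R_toM X3_in) (by decide +kernel)
  have h2 : ∀ g ∈ Tm G (3 * (5 * (7 * (11 * 32897107)))), IsPGroup 2 (zpowers g) := fun g hg => by
    have := (orderOf_dvd_natCard g).trans (h.card_G ▸ (by decide +kernel : 86775571046077562880 ∣
      2 ^ 21 * (3 * (5 * (7 * (11 * 32897107)))) ^ 3))
    obtain ⟨n, -, hn⟩ := (Nat.dvd_prime_pow Nat.prime_two).1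
      ((Nat.Coprime.pow_right 3 hg).dvd_of_dvd_mul_right this)
    exact IsPGroup.of_card ((Nat.card_zpowers g).trans hn)
  obtain ⟨h3, h4⟩ := cover (S := Tm G (3 * (5 * (7 * (11 * 32897107)))))
    (fun i : Fin 10 => evS θ χ (CL.K.lget GR i)) (fun i => e.symm (q i))
    (fun g hg => let ⟨i, hi, e⟩ := c.two_cover (h2 g hg); ⟨⟨i, hi⟩, e⟩)
    (fun i => Nat.Coprime.coprime_dvd_left (m := orderOf (e.symm (q i))) (k := 16)
      (by rw [MulEquiv.orderOf_eq]; exact q1 i) (by decide +kernel))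
    fun i j k => q2 i j (by simpa using e.toMonoidHom.map_isConj k)
  rw [← kc_top, ← Tm_univ (m := 1) (Nat.coprime_one_right _), h.kc_23, h.kc_11, h.kc_7, h.kc_5,
    step Nat.prime_three (by decide +kernel) k1 o3 fun y hy => h.three_conj _ y o3 hy, h3,
    c.kc_three (h.three _ o3) (by decide +kernel) h2 (k2 _ o3)
      fun i hi j hj k => congrArg Fin.val (h4 ⟨i, hi⟩ ⟨j, hj⟩ k)]

end Cfsg.Agent.S5579
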