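import Cfsg.Statements.S5582
import Cfsg.Agent.SPOR.J4.MxElf
import Cfsg.Agent.SPOR.J4.Ten2
import Cfsg.Agent.S5570
import Cfsg.Agent.S5574
import Cfsg.Agent.S0364

set_option autoImplicit false
open Cfsg

namespace Cfsg.Agent.S5582

/-- Let G be a finite non-abelian simple group of Janko-four type (Janko's involution-centralizer conditions; such a group is the fourth Janko group). Then the following subgroups are maximal: the centralizer of the involution z of the hypothesis; the normalizer of every elementary abelian subgroup of order 2^11; the normalizer of every self-centralizing elementary abelian subgroup of order 2^10; the normalizer of some special 2-subgroup of order 2^15 with centre of order 8; and the normalizer of every Sylow p-subgroup for p = 11, 29, 37 and 43. -/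
theorem result {G : Type*} [Group G] [Finite G] [IsSimpleGroup G] (hG : ¬ IsMulCommutative G) (z : G) (hJ : Cfsg.IsOfJankoFourTypeAt z) :
    IsCoatom (Subgroup.centralizer ({z} : Set G)) ∧
    (∀ V : Subgroup G, Cfsg.IsElementaryAbelian 2 V → Nat.card ↥V = 2 ^ 11 → IsCoatom (Subgroup.normalizer (V : Set G))) ∧
    (∀ A : Subgroup G, Cfsg.IsElementaryAbelian 2 A → Nat.card ↥A = 2 ^ 10 → Subgroup.centralizer (A : Set G) = A → IsCoatom (Subgroup.normalizer (A : Set G))) ∧
    (∃ L : Subgroup G, Cfsg.IsSpecial 2 ↥L ∧ Nat.card ↥L = 2 ^ 15 ∧ Nat.card ↥(Subgroup.center ↥L) = 8 ∧ IsCoatom (Subgroup.normalizer (L : Set G))) ∧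
    (∀ U : Sylow 11 G, IsCoatom (Subgroup.normalizer ((U : Subgroup G) : Set G))) ∧ (∀ U : Sylow 29 G, IsCoatom (Subgroup.normalizer ((U : Subgroup G) : Set G))) ∧
    (∀ U : Sylow 37 G, IsCoatom (Subgroup.normalizer ((U : Subgroup G) : Set G))) ∧ (∀ U : Sylow 43 G, IsCoatom (Subgroup.normalizer ((U : Subgroup G) : Set G))) := by
  open CL CL.J4 CL.J4.Mx Subgroup in
  obtain ⟨Q, c, U, g⟩ := exists_gd hG hJ
  obtain ⟨V, θ, χ, h⟩ := exists_js hJ
  have : Fact (Nat.Prime 5) := ⟨by decide⟩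
  have : Fact (Nat.Prime 7) := ⟨by decide⟩
  have : Fact (Nat.Prime 11) := ⟨by decide⟩
  have : Fact (Nat.Prime 29) := ⟨by decide⟩
  have : Fact (Nat.Prime 37) := ⟨by decide⟩
  have : Fact (Nat.Prime 43) := ⟨by decide⟩
  refine ⟨g.coatom g.cH (by decide) (by decide) sieveH fun K hK i hi k => ?_, fun V h1 h2 => ?_,
    fun A h1 h2 h3 => ?_, ?_, g.elf, g.big (by decide), g.big (by decide), g.big (by decide)⟩
  · obtain rfl := List.mem_singleton.1 hi
    obtain ⟨T, t1, t2⟩ := exists_le_card (p := 3) (n := 3) (K := centralizer {z})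
      (by rw [g.cH]; decide)
    have h0 : ¬ 3 ∣ T.index := fun e => by
      have := T.index_mul_card
      rw [t2, g.card, oG] at this
      omega
    have h1 := cnt_syl _ ((Cfsg.Agent.S5565.result hG z hJ ((IsPGroup.of_card t2).toSylow h0)
      t1).2.2.2.1.trans hK)
    rw [g.n3, k] at h1
    exact absurd h1 (by decide)
  · obtain ⟨-, K, k1, k2, k3, ⟨e⟩⟩ := Cfsg.Agent.S5567.result hG ⟨z, hJ⟩ V h1 h2
    refine g.coatom ?_ (by decide) (by decide) sieveM (by simp)
    rw [← k3, card_sup_of_disjoint k1 k2, h2, Nat.card_congr e.toEquiv, Cfsg.Agent.S0364.result,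
      mul_comm]
  · obtain ⟨⟨B, k1, k2, k3, ⟨e⟩⟩, k4⟩ := (Cfsg.Agent.S5570.result hG ⟨z, hJ⟩).2.2 A h1 h2 h3
    refine g.ten (fun hy _ => s5_of h hy) h2 h3 k4 ?_
    rw [← k3, card_sup_of_disjoint k1 k2, h2, Nat.card_congr e.toEquiv, card_SL5, mul_comm]
  obtain ⟨L, k1, k2, k3, ⟨e⟩, -, -, -, ⟨S, k4⟩, ⟨T, k5⟩⟩ := Cfsg.Agent.S5574.result hG ⟨z, hJ⟩
  have h1 : Nat.card (normalizer (L : Set G)) = 2 ^ 15 * (120 * 168) := by
    have := CL.SL.card_SL_mul (F := ZMod 2) 3 (by norm_num)
    rw [Fin.prod_univ_three, ZMod.card] at this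
    rw [card_eq_card_quotient_mul_card_subgroup (L.subgroupOf _), Nat.card_congr e.toEquiv,
      Nat.card_prod, (one_mul _).symm.trans this, Nat.card_congr (subgroupOfEquivOfLe
        le_normalizer).toEquiv, k2, Nat.card_eq_fintype_card, Fintype.card_perm]
    decide
  refine ⟨L, k1, k2, k3, g.coatom h1 (by decide) (by decide) sieveL fun K hK i hi k => ?_⟩
  have h2 := cnt_syl S (k4.trans hK)
  have h3 := cnt_syl T (k5.trans hK)
  have L5 : Loc G 5 4 1344 := g.loc (5, 4, 1344, 5376) (by decide) (by decide)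
  have L7 : Loc G 7 3 120 := g.loc (7, 3, 120, 360) (by decide) (by decide)
  obtain ⟨x, a1, a2⟩ := sylow_gen L5.dvd L5.sq S
  obtain ⟨y, b1, b2⟩ := sylow_gen L7.dvd L7.sq T
  rw [a2, L5.norm x a1, k] at h2
  rw [b2, L7.norm y b1, k] at h3
  revert h2 h3
  fin_cases hi <;> decide

end Cfsg.Agent.S5582
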