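import Cfsg.Statements.S5594
import Mathlib
import Cfsg.Agent.SPOR.LeechOrder

set_option autoImplicit false
open Cfsg

namespace Cfsg.Agent.S5594

open CL.Leech CL.K CL.Pack in
theorem exists_sqrt : ∃ g : Cfsg.Co0, g * g = neg1 := by
  obtain ⟨g, hg, h⟩ := okC_spec (q := fun M K => allLt (fun k =>
    Nat.beq (Nat.add (app M K (app M K (c8 k))) (c8 k)) (Nat.mul 16 ONES)) 24)
    (c := 0x421084210842108421084210842100421084210842108421084210842008421084210842100421084210842108421084210842108421004210842108421084210842108421084010842108421084210844108421084210842108421084210842108421084211042108421084210842108401084210842108421084210842108421084210802108421084010842108421084210842108421084210842108421080210842108422084210842108421084210842108421084210842108421084210844108421084211042108421084210842108421084210842108421084220842108421104210842108421084210842108421084210842208421084210842108421088210842108421084210842108421084210842108420084210842108421084200842108421084210842108421084210882108421084210842108421084210842108021084210842108441084210842108421084210842108821084210842108421084210842108)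
    (by decide +kernel)
  refine ⟨g, co_ext_e8 fun i => ?_⟩
  have h1 : app _ _ (app _ _ (c8 _)) + c8 _ = 16 * ONES :=
    Nat.eq_of_beq_eq_true (allLt_iff.1 h _ (CL.Golay.E.enc_lt i))
  have hn : Cfsg.sqNorm (e8 i : Cfsg.GolayPt → ℤ) ≤ 80 := by rw [sqNorm_e8]; norm_num
  rw [← enc_e8, hg _ hn] at h1
  have h2 := enc_neg (bd_of_sqNorm hn)
  rw [mul_smul, neg1_smul]
  refine hg.smul_eq (by rwa [sqNorm_smul]) (by rwa [AddSubgroup.coe_neg, sqNorm_neg]) ?_
  rw [AddSubgroup.coe_neg]
  omega

/-- The automorphism group of the Leech lattice contains the negation map, and the subgroup of order 2 it generates has no complement: the automorphism group is a non-split extension of its quotient by that subgroup (it is not the direct product of a group of order 2 with the first Conway group). -/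
theorem result :
    ∃ n : ↥Cfsg.Co0, (∀ v : ↥Cfsg.leechLattice, ((n • v : ↥Cfsg.leechLattice) : Cfsg.GolayPt → ℤ) = -(v : Cfsg.GolayPt → ℤ)) ∧
    ∀ K : Subgroup ↥Cfsg.Co0, ¬ (Subgroup.zpowers n).IsComplement' K := by
  refine ⟨CL.Leech.neg1, fun v => by rw [CL.Leech.neg1_smul]; rfl, fun K hK => ?_⟩
  obtain ⟨g, hg⟩ := exists_sqrt
  have h1 : orderOf CL.Leech.neg1 = 2 :=
    orderOf_eq_prime (by rw [sq, CL.Leech.neg1_mul_self]) CL.Leech.neg1_ne_one
  have h2 : K.index = 2 := by rw [hK.index_eq_card, Nat.card_zpowers, h1]
  have h3 := Subgroup.mul_self_mem_of_index_two h2 g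
  rw [hg] at h3
  exact CL.Leech.neg1_ne_one (Subgroup.disjoint_def.1 hK.disjoint (Subgroup.mem_zpowers _) h3)

end Cfsg.Agent.S5594
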