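import Cfsg.Statements.S5629
import Cfsg.Agent.S1703
import Cfsg.Agent.SPOR.J4C4
import Cfsg.Agent.SPOR.J4.Main
import Cfsg.Agent.SPOR.J4.MSConj
import Cfsg.Agent.SPOR.J4.UMain

set_option autoImplicit false
open Cfsg

namespace Cfsg.Agent.S5629

open CL.DCE MulAction in
theorem aux {A G H : Type*} [Group A] [Group G] [Group H] {π : A →* Equiv.Perm ℕ} {K : Subgroup A}
    {n r : ℕ} {ψ : A →* G} {t : G} {γ : ℕ → G} {τ : ℕ → ℕ → ℕ} (T : Table π K n ψ t γ r τ)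
    {sz : ℕ → ℕ} (ht : t ∉ ψ.range) (hS : Sep r (cntE n τ) sz) (e : G ≃* H) {N : Subgroup H}
    (hN : ψ.range.map e.toMonoidHom = N) : ∃ c : Fin r → H ⧸ N,
      (∀ i j, i ≠ j → orbit N (c i) ≠ orbit N (c j)) ∧ (∀ q, ∃ i, q ∈ orbit N (c i)) ∧
        ∀ i, (orbit N (c i)).ncard = sz i := by
  classical
  let ψ' := e.toMonoidHom.comp ψ
  have k : ∀ L : Subgroup H, ψ'.range ≤ L → ψ.range ≤ L.comap e.toMonoidHom := by
    rintro L h _ ⟨a, rfl⟩
    exact h ⟨a, rfl⟩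
  have T' : Table π K n ψ' (e t) (fun i => e (γ i)) r τ := ⟨T.model,
    fun k hk => (T.hK k hk).imp fun _ h => by simpa [ψ'] using congrArg e h,
    T.inv.imp fun _ h => h.imp fun _ h => by simpa [ψ'] using congrArg e h,
    fun L h1 h2 => eq_top_iff.2 fun x _ => by
      simpa using (T.top _ (k L h1) h2).ge (Subgroup.mem_top (e.symm x)),
    by rw [T.g0, map_one], by rw [T.g1], T.r1, fun i hi u => ⟨(T.cov i hi u).1,
      (T.cov i hi u).2.imp fun _ h => h.imp fun _ h => by simpa [ψ'] using congrArg e h⟩,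
    fun j h0 hj L h1 h2 => T.gen j h0 hj _ (k L h1) h2⟩
  have ht' : e t ∉ ψ'.range := fun ⟨a, h⟩ => ht ⟨a, e.injective h⟩
  obtain rfl : ψ'.range = N := (MonoidHom.map_range ..).symm.trans hN
  have := T'.finite
  have := Fintype.ofFinite (H ⧸ ψ'.range)
  have o : ∀ i x, x ∈ orbit ψ'.range ((e (γ i) : H) : H ⧸ ψ'.range) ↔
      Table.cls ψ' (fun i => e (γ i)) i x := fun i x =>
    ⟨fun ⟨⟨_, a, rfl⟩, h⟩ => ⟨a, h.symm⟩, fun ⟨a, h⟩ => ⟨⟨_, a, rfl⟩, h.symm⟩⟩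
  refine ⟨fun i => e (γ i), fun i j hij h => hij (Fin.ext (T'.sep ht' hS j.2 i i.2 _
    ((o _ _).1 (mem_orbit_self _)) ((o _ _).1 (h ▸ mem_orbit_self _)))), fun q => ?_, fun i => ?_⟩
  · obtain ⟨x, rfl⟩ := QuotientGroup.mk_surjective q
    obtain ⟨i, hi, h⟩ := T'.exists_rep x
    exact ⟨⟨i, hi⟩, (o _ _).2 (Table.cls_iff.2 h)⟩
  · rw [← T'.card_cls ht' hS i.2, ← Set.ncard_coe_finset]
    congr 1
    ext x
    simp [o]

theorem elem {G H : Type*} [Group G] [Group H] (φ : G ≃* H) {A : Subgroup G}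
    (h : IsElementaryAbelian 2 A) : IsElementaryAbelian 2 (A.map φ.toMonoidHom) := by
  refine ⟨⟨⟨?_⟩⟩, ?_⟩
  · rintro ⟨_, a, ha, rfl⟩ ⟨_, b, hb, rfl⟩
    have := congrArg Subtype.val (h.1.1.1 ⟨a, ha⟩ ⟨b, hb⟩)
    exact Subtype.ext (((map_mul φ a b).symm.trans (congrArg φ this)).trans (map_mul φ b a))
  · rintro _ ⟨a, ha, rfl⟩
    rw [← map_pow, h.2 a ha, map_one]

theorem result {G : Type*} [Group G] [Finite G] [IsSimpleGroup G] (hG : ¬ IsMulCommutative G) (z : G) (hJ : Cfsg.IsOfJankoFourTypeAt z) (V : Subgroup G) (hV : Cfsg.IsElementaryAbelian 2 V) (hcard : Nat.card ↥V = 2 ^ 11) : (Subgroup.normalizer (V : Set G)).index = 173067389 ∧ ∃ c : Fin 7 → G ⧸ Subgroup.normalizer (V : Set G), (∀ i j : Fin 7, i ≠ j → MulAction.orbit ↥(Subgroup.normalizer (V : Set G)) (c i) ≠ MulAction.orbit ↥(Subgroup.normalizer (V : Set G)) (c j)) ∧ (∀ q : G ⧸ Subgroup.normalizer (V : Set G), ∃ i : Fin 7, q ∈ MulAction.orbit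 ↥(Subgroup.normalizer (V : Set G)) (c i)) ∧ (List.ofFn fun i => (MulAction.orbit ↥(Subgroup.normalizer (V : Set G)) (c i)).ncard) = [1, 15180, 28336, 3400320, 32643072, 54405120, 82575360] := by
  obtain ⟨V₀, θ₀, χ₀, h₀⟩ := CL.J4.exists_js hJ
  obtain ⟨e⟩ := h₀.isoJ4 Cfsg.Agent.S1703.result
  obtain ⟨z', θ, χ, -, h⟩ := h₀.toMS.exists_of_elemAb hV hcard
  have w1 := CL.J4G.V_elem
  have w2 := CL.J4G.card_V
  have w3 := CL.J4G.range_le_normalizer_V
  generalize CL.J4G.V = W at w1 w2 w3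
  have m : ∀ (f : Spor.J4 ≃* G) (x : Spor.J4), x ∈ Subgroup.normalizer (W : Set Spor.J4) →
      f x ∈ Subgroup.normalizer (W.map f.toMonoidHom : Set G) := fun f x hx =>
    Subgroup.le_normalizer_map f.toMonoidHom ⟨x, hx, rfl⟩
  obtain ⟨g, hg⟩ := h.eq_conj (X := W.map e.symm.toMonoidHom) (elem e.symm w1)
    ((Nat.card_congr (e.symm.subgroupMap W).toEquiv).symm.trans w2)
  let f := e.symm.trans (MulAut.conj g⁻¹)
  have hf : W.map f.toMonoidHom = V := by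
    rw [show f.toMonoidHom = (MulAut.conj g⁻¹).toMonoidHom.comp e.symm.toMonoidHom from rfl,
      ← Subgroup.map_map, hg, Subgroup.map_map]
    convert Subgroup.map_id V
    ext x
    simp [mul_assoc]
  have hN : CL.J4G.ψ.range.map f.toMonoidHom = Subgroup.normalizer (V : Set G) :=
    Subgroup.eq_of_le_of_card_ge (by
      rintro _ ⟨x, hx, rfl⟩
      exact hf ▸ m f x (w3 hx)) (by
      rw [h.card_N, Subgroup.card_map_of_injective f.injective, CL.J4G.card_range]; norm_num)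
  obtain ⟨c, h1, h2, h3⟩ := aux CL.J4G.table CL.J4G.faithful.1 CL.J4G.sep f hN
  refine ⟨?_, c, h1, h2, by simp only [h3]; rfl⟩
  rw [← hN, Subgroup.index_map_of_bijective f.bijective, CL.J4G.index]

end Cfsg.Agent.S5629
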