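import Cfsg.Statements.S5726


set_option autoImplicit false
open Cfsg

namespace Cfsg.Agent.S5726

/-- If a finite group acts faithfully and transitively on a set with p^k elements, p a prime and k ≥ 1, then some element of order p fixes no point. -/
theorem result {G Ω : Type*} [Group G] [Finite G] [MulAction G Ω] [FaithfulSMul G Ω] [Fintype Ω] (htr : MulAction.IsPretransitive G Ω)
    (p k : ℕ) (hp : p.Prime) (hk : 1 ≤ k) (hΩ : Fintype.card Ω = p ^ k) :
    ∃ g : G, orderOf g = p ∧ ∀ ω : Ω, g • ω ≠ ω := by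
  have : Fact p.Prime := ⟨hp⟩
  have : Nonempty Ω := Fintype.card_pos_iff.1 (hΩ ▸ pow_pos hp.pos k)
  obtain ⟨ω⟩ := this
  obtain ⟨P⟩ : Nonempty (Sylow p G) := inferInstance
  have hidx : ∀ ω : Ω, (MulAction.stabilizer G ω).index = p ^ k := fun ω => by
    rw [MulAction.index_stabilizer_of_transitive, Nat.card_eq_fintype_card, hΩ]
  have hP : ∀ ω ω' : Ω, ∃ x ∈ (P : Subgroup G), x • ω = ω' := fun ω ω' => by
    have h1 : ((P : Subgroup G) ⊓ MulAction.stabilizer G ω).index = P.index * p ^ k := by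
      refine le_antisymm (hidx ω ▸ Subgroup.index_inf_le) (Nat.le_of_dvd
        (Nat.pos_of_ne_zero Subgroup.index_ne_zero_of_finite) (Nat.Coprime.mul_dvd_of_dvd_of_dvd
          (((hp.coprime_iff_not_dvd.2 P.not_dvd_index).symm).pow_right k)
          (Subgroup.index_dvd_of_le inf_le_left) (hidx ω ▸ Subgroup.index_dvd_of_le inf_le_right)))
    have h2 : (MulAction.stabilizer P ω).index = p ^ k := by
      have := Subgroup.relIndex_mul_index (inf_le_left (a := (P : Subgroup G))
        (b := MulAction.stabilizer G ω))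
      rw [h1, Subgroup.inf_relIndex_left, mul_comm] at this
      exact Nat.eq_of_mul_eq_mul_left (Nat.pos_of_ne_zero Subgroup.index_ne_zero_of_finite) this
    have h3 : MulAction.orbit P ω = Set.univ := by
      refine Set.eq_of_subset_of_ncard_le (Set.subset_univ _) ?_
      rw [← MulAction.index_stabilizer, h2, Set.ncard_univ, Nat.card_eq_fintype_card, hΩ]
    obtain ⟨x, hx⟩ : ω' ∈ MulAction.orbit P ω := h3 ▸ Set.mem_univ _
    exact ⟨x, x.2, hx⟩
  have : Nontrivial Ω := Fintype.one_lt_card_iff_nontrivial.1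
    (hΩ ▸ Nat.one_lt_pow (by omega) hp.one_lt)
  have : Nontrivial P := by
    obtain ⟨ω', h⟩ := exists_ne ω
    obtain ⟨x, hx, e⟩ := hP ω ω'
    exact ⟨⟨⟨x, hx⟩, 1, fun h1 => h (by rw [← e, show x = 1 from congrArg Subtype.val h1, one_smul])⟩⟩
  have := P.2.center_nontrivial
  obtain ⟨z, hz⟩ := exists_prime_orderOf_dvd_card' (G := Subgroup.center P) p
    ((P.2.to_subgroup _).card_eq_or_dvd.resolve_left Finite.one_lt_card.ne')
  have hz' : orderOf ((z : P) : G) = p := by rwa [Subgroup.orderOf_coe, Subgroup.orderOf_coe]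
  refine ⟨(z : P), hz', fun α hα => ?_⟩
  have h1 : ((z : P) : G) = 1 := FaithfulSMul.eq_of_smul_eq_smul fun β : Ω => by
    obtain ⟨x, hx, rfl⟩ := hP α β
    have := congrArg Subtype.val (Subgroup.mem_center_iff.1 z.2 ⟨x, hx⟩)
    simp only [Subgroup.coe_mul] at this
    rw [one_smul, ← mul_smul, ← this, mul_smul, hα]
  rw [h1, orderOf_one] at hz'
  exact hp.one_lt.ne hz'

end Cfsg.Agent.S5726
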