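import Cfsg.Statements.S5728
-- import your own Cfsg.Agent.* helpers here

set_option autoImplicit false
open Cfsg

namespace Cfsg.Agent.S5728

/-- An elusive transitive action. Let p = 2^s − 1 be a prime and let F be the field with p² elements. Inside the group of affine maps x ↦ a·x + b of F (a ≠ 0), consider the subgroup of maps with both coefficients in the prime field. Then every element of prime order of the affine group is conjugate, within the affine group, to an element of that subgroup; equivalently, in the transitive action of the affine group on the cosets of that subgroup (of degree p(p + 1)) every element of prime order fixes a point. -/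
theorem result (p s : ℕ) [Fact p.Prime] (hs : p = 2 ^ s - 1)
    (g : Equiv.Perm (GaloisField p 2)) (hg : g ∈ Cfsg.affineGroup (GaloisField p 2)) (hord : (orderOf g).Prime) :
    ∃ x ∈ Cfsg.affineGroup (GaloisField p 2), ∃ a b : ZMod p, a ≠ 0 ∧
      ∀ y : GaloisField p 2, (x * g * x⁻¹) y = algebraMap (ZMod p) (GaloisField p 2) a * y + algebraMap (ZMod p) (GaloisField p 2) b := by
  obtain ⟨a, b, hab⟩ := hg
  have hp : p.Prime := Fact.out
  by_cases ha : (a : GaloisField p 2) = 1
  · by_cases hb : b = 0
    · refine ⟨1, Subgroup.one_mem _, 1, 0, one_ne_zero, fun y => ?_⟩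
      simp [hab, ha, hb]
    · refine ⟨Equiv.mulLeft₀ b⁻¹ (inv_ne_zero hb), ⟨Units.mk0 b⁻¹ (inv_ne_zero hb), 0, fun x => by simp⟩,
        1, 1, one_ne_zero, fun y => ?_⟩
      simp only [Equiv.Perm.coe_mul, Function.comp_apply, hab, ha, Equiv.Perm.inv_def,
        Equiv.mulLeft₀_apply, Equiv.mulLeft₀_symm_apply, map_one]
      field_simp
  · have h1a : 1 - (a : GaloisField p 2) ≠ 0 := sub_ne_zero.mpr (Ne.symm ha)
    set c : GaloisField p 2 := b / (1 - a) with hc
    have hconj : ∀ y, (Equiv.addRight (-c) * g * (Equiv.addRight (-c))⁻¹) y = a * y := by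
      intro y
      simp only [Equiv.Perm.coe_mul, Function.comp_apply, hab, Equiv.Perm.inv_def,
        Equiv.addRight_symm, neg_neg, Equiv.coe_addRight, hc]
      field_simp
      ring
    set h := Equiv.addRight (-c) * g * (Equiv.addRight (-c))⁻¹ with hh
    have hpow : ∀ k : ℕ, ∀ y, (h ^ k) y = (a : GaloisField p 2) ^ k * y := by
      intro k
      induction k with
      | zero => simp
      | succ k ih => intro y; rw [pow_succ', Equiv.Perm.mul_apply, hconj, ih]; ring
    have hr : (a : GaloisField p 2) ^ orderOf g = 1 := by
      have h1 : h ^ orderOf g = 1 := by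
        rw [hh, conj_pow, pow_orderOf_eq_one, mul_one, mul_inv_cancel]
      have := hpow (orderOf g) 1
      rw [h1] at this
      simpa using this.symm
    have horda : orderOf (a : GaloisField p 2) = orderOf g := by
      have : Fact (orderOf g).Prime := ⟨hord⟩
      exact orderOf_eq_prime hr ha
    have hcard : Nat.card (GaloisField p 2) = p ^ 2 := GaloisField.card p 2 (by norm_num)
    have hdvd : orderOf g ∣ (p - 1) * (p + 1) := by
      rw [← horda, orderOf_units]
      have := orderOf_dvd_natCard a
      rw [Nat.card_units, hcard] at this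
      convert this using 1
      obtain ⟨k, rfl⟩ : ∃ k, p = k + 1 := ⟨p - 1, by have := hp.pos; omega⟩
      simp only [Nat.add_sub_cancel]
      symm
      apply Nat.sub_eq_of_eq_add
      ring
    have hmem : (a : GaloisField p 2) ∈ (algebraMap (ZMod p) (GaloisField p 2)).fieldRange := by
      have h3 : (a : GaloisField p 2) ^ (p - 1) = 1 ∨ (a : GaloisField p 2) ^ 2 = 1 := by
        rcases (Nat.Prime.dvd_mul hord).mp hdvd with h | h
        · left; rw [← orderOf_dvd_iff_pow_eq_one, horda]; exact h
        · right
          have h2 : p + 1 = 2 ^ s := by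
            have : 1 ≤ 2 ^ s := Nat.one_le_two_pow
            omega
          rw [h2] at h
          have := (Nat.prime_dvd_prime_iff_eq hord Nat.prime_two).mp (hord.dvd_of_dvd_pow h)
          rw [this] at hr; exact hr
      rcases h3 with h3 | h3
      · have hap : (a : GaloisField p 2) ^ p = a := by
          calc (a : GaloisField p 2) ^ p = a ^ (p - 1) * a := by
                rw [← pow_succ, Nat.sub_add_cancel hp.pos]
            _ = a := by rw [h3, one_mul]
        have hmem : (a : GaloisField p 2) ∈ (⊥ : Subfield (GaloisField p 2)) :=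
          (Subfield.mem_bot_iff_pow_eq_self (GaloisField p 2) p).mpr hap
        exact (bot_le : (⊥ : Subfield (GaloisField p 2)) ≤ _) hmem
      · rcases sq_eq_one_iff.mp h3 with h4 | h4
        · exact absurd h4 ha
        · rw [h4]; exact neg_mem (one_mem _)
    obtain ⟨a', ha'⟩ := hmem
    refine ⟨Equiv.addRight (-c), ⟨1, -c, fun x => by simp⟩, a', 0, ?_, fun y => ?_⟩
    · rintro rfl
      exact a.ne_zero (by simpa using ha'.symm)
    · rw [hconj, ha', map_zero, add_zero]

end Cfsg.Agent.S5728
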