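import Cfsg.Statements.S5740
import Cfsg.Agent.CHEV.E62Loc

set_option autoImplicit false
open Cfsg

namespace Cfsg.Agent.S5740

open CL.E62 CL.Chev Cfsg.Lie Subgroup

/-- the Weyl group element for the prime seven -/
def l7 : List I6 := ll [4, 5, 3, 4, 3, 2, 1, 3, 0, 2, 1, 0]

/-- the eight subgroups of order seven -/
def d7 : List (List ℤ × List ℤ × List ℕ × ℕ × ℕ) := [
  ([55, 33, 44, 55, 0, 11], [70, 14, 70, 7, 14, 14], [3, 2, 1, 3, 4, 2, 1, 3], 0, 45),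
  ([0, 55, 11, 11, 11, 0], [63, 42, 0, 7, 0, 49], [1], 0, 46),
  ([55, 11, 55, 66, 11, 11], [63, 56, 0, 0, 7, 21], [0, 2, 3, 2, 0], 0, 58),
  ([33, 44, 22, 44, 11, 22], [70, 70, 63, 0, 7, 14], [4, 0], 0, 47),
  ([11, 0, 66, 22, 11, 33], [70, 7, 7, 21, 28, 14], [2, 3], 0, 36),
  ([66, 33, 33, 0, 11, 44], [21, 0, 0, 7, 21, 7], [0, 2, 1, 3, 2, 1, 0], 1, 61),
  ([44, 66, 0, 55, 11, 55], [0, 21, 7, 7, 7, 0], [4, 5, 4, 0, 2, 0], 0, 57),
  ([22, 22, 44, 33, 11, 66], [0, 7, 28, 7, 14, 28], [2, 3, 0, 2, 1, 3, 4, 3, 2, 1, 3, 0, 2], 0, 67)]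

theorem c7 : ∀ e ∈ d7, OrdChk l7 77 7 (vv e.1) ∧ CycChk l7 77 (vv e.1) (vv e.2.1) (ll e.2.2.1) (rr e.2.2.2.1) (rr e.2.2.2.2) := by
  decide +kernel

theorem c7' : ∀ i < 7, ∀ j < 7, ∃ e ∈ d7, ∃ k < 7, ∀ x, ((77 : ℕ) : ℤ) ∣ (((k : ℕ) : ℤ) • vv e.1) x -
    (((i : ℕ) : ℤ) • vv [55, 33, 44, 55, 0, 11] + ((j : ℕ) : ℤ) • vv [0, 55, 11, 11, 11, 0]) x := by decide +kernel

theorem c49 : RegChk l7 77 (vv [55, 33, 44, 55, 0, 11]) (vv [63, 56, 0, 0, 7, 21]) (vv [0, 55, 11, 11, 11, 0])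
    (vv [0, 0, 7, 0, 0, 7]) 3 0 (-4) (ll [0, 2, 1, 3, 2, 1, 0]) (rr 2) (rr 46) 2 := by decide +kernel


/-- In the simple group ²E₆(2) (the twisted group of type E₆ over the field with 4 elements), for every prime p > 5 no p-local subgroup is maximal: the normaliser of a non-trivial p-subgroup is never a maximal subgroup. -/
theorem result {K : Type*} [Field K] [Fintype K] (hK : Fintype.card K = 4) (p : ℕ) (hp : p.Prime) (h5 : 5 < p)
    (P : Subgroup (Cfsg.Lie.twistedE6 K 2)) (hP : IsPGroup p P) (hP1 : P ≠ ⊥) :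
    ¬ IsCoatom (Subgroup.normalizer (P : Set (Cfsg.Lie.twistedE6 K 2))) := by
  have hc := card_eq hK
  have : Finite (twistedE6 K 2) := Nat.finite_of_card_ne_zero (by rw [hc]; norm_num)
  have := (Cfsg.Agent.S1070.result Nat.prime_two.isPrimePow hK).1
  have := Fact.mk hp
  have h1 : p ∣ Nat.card (twistedE6 K 2) :=
    (hP.card_eq_or_dvd.resolve_left (mt card_eq_one.1 hP1)).trans (card_subgroup_dvd_card P)
  have one' : ∀ (l : List I6) (n : ℕ) (a b : I6 → ℤ) (v : List I6) (r0 r : Rt chevE6), Odd n → OrdChk l n p a →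
      ¬ p ^ 2 ∣ Nat.card (twistedE6 K 2) → (CycChk l n a b v r0 r ∨ ∃ e f δ k, 1 ≤ k ∧ RegChk l n 0 0 a b e f δ v r0 r k) →
      ¬ IsCoatom (normalizer (P : Set (twistedE6 K 2))) := fun l n a b v r0 r hn c' hG c => by
    obtain ⟨φ, A, τ, G1, ψ, pr, h, hC⟩ := exists_model hK l
    obtain ⟨z, hz⟩ := exists_z A.frob.cast_eq_zero hn
    exact one A h hz hC hp (by omega) c' hG c hP hP1
  rw [hc] at h1 one'
  simp only [hp.dvd_mul, hp.prime.dvd_pow_iff_dvd, ne_eq, OfNat.ofNat_ne_zero, not_false_eq_true,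
    Nat.prime_dvd_prime_iff_eq hp, Nat.prime_two, Nat.prime_three, Nat.prime_five, Nat.prime_seven, Nat.prime_eleven,
    (by norm_num : Nat.Prime 13), (by norm_num : Nat.Prime 17), (by norm_num : Nat.Prime 19)] at h1
  rcases h1 with ((((((rfl | rfl) | rfl) | rfl) | rfl) | rfl) | rfl) | rfl
  iterate 3 omega
  · obtain ⟨φ, A, τ, G1, ψ, pr, h, hC⟩ := exists_model hK l7
    obtain ⟨z, hz⟩ := exists_z A.frob.cast_eq_zero (n := 77) (by decide)
    obtain ⟨T, a1, a2, a3, a4, a5⟩ := two A h hz hp (c7 _ (.head _)).1 (c7 _ (.tail _ (.head _))).1 (r := rr 3)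
      (by decide +kernel) (by decide +kernel)
    refine hC.not_isCoatom (a1.trans inf_le_right) hp (by decide) a2 (by rw [hc]; decide +kernel) le_rfl
      (reg A h hz hC hp (by decide) a1 le_rfl a2 a3 a4 le_rfl c49) (fun _ g hg ho => ?_) hP hP1
    obtain ⟨i, hi, j, hj, rfl⟩ := a5 g hg
    obtain ⟨e, he, k, -, hk⟩ := c7' i hi j hj
    rw [zpowers_eq hp (ord A h hz hp (c7 e he).1).2 ⟨k, by
      beta_reduce; rw [← map_zpow, ← tz_smul]; exact congrArg _ ((tz_eq_iff hz).2 hk)⟩ (fun e => by rw [e, orderOf_one] at ho; omega)]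
    exact cyc A h hz hC hp (by decide) (c7 e he).1 (c7 e he).2
  · exact one' (ll [2, 1, 3, 0]) 33 (vv [9, 30, 21, 3, 0, 0]) (vv [0, 0, 0, 0, 0, 11]) (ll [3, 0]) (rr 3) (rr 39) (by decide)
      (by decide +kernel) (by decide +kernel) (.inl (by decide +kernel))
  · exact one' (ll [5, 4, 3, 2, 1, 0]) 39 (vv [12, 18, 6, 9, 36, 3]) (vv [0, 0, 13, 0, 0, 13]) (ll [2, 1, 3, 4, 0, 2, 3, 0, 2])
      (rr 2) (rr 49) (by decide) (by decide +kernel) (by decide +kernel) (.inr ⟨6, 0, -4, 2, by decide +kernel⟩)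
  · exact one' (ll [4, 1, 3, 2, 0]) 51 (vv [30, 3, 15, 48, 3, 0]) (vv [34, 34, 17, 0, 0, 17]) (ll [0, 2, 3])
      (rr 0) (rr 56) (by decide) (by decide +kernel) (by decide +kernel) (.inr ⟨4, 0, -4, 1, by decide +kernel⟩)
  · exact one' (ll [5, 3, 4, 2, 3, 2, 1, 0]) 57 (vv [36, 45, 18, 51, 54, 3]) (vv [38, 38, 38, 19, 0, 19])
      (ll [2, 1, 3, 4, 3, 0, 2]) (rr 0) (rr 38) (by decide) (by decide +kernel) (by decide +kernel)
      (.inr ⟨1, 2, 0, 2, by decide +kernel⟩)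

end Cfsg.Agent.S5740
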