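import Cfsg.Statements.S5743
import Cfsg.Agent.CHEV.Fold
import Cfsg.Agent.CHEV.SimpCo
import Cfsg.Agent.CHEV.LieSyl

set_option autoImplicit false
open Cfsg

namespace Cfsg.Agent.S5743

set_option backward.isDefEq.respectTransparency false

open CL.Chev CL.MSS Cfsg.Lie in
theorem exists_emb {K : Type*} [Field K] [CharP K 2] : ∃ ψ : chevF4.group (ZMod 2) →* chevE6.group K, Function.Injective ψ ∧
    (∀ u ∈ (stG chevF4 (ZMod 2)).U, ψ u ∈ (stG chevE6 K).U ∧ ∀ k, ∃ t : ZMod 2, t.cast = (stG chevE6 K).co k (ψ u)) ∧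
    (∀ k, ∃ u ∈ (stG chevF4 (ZMod 2)).U, (stG chevE6 K).co k (ψ u) = 1) ∧
    ∀ M : Subgroup (chevE6.group K), (∀ a e, (rootSys chevE6).IsSgn e → ∀ t : K, t ^ 2 = t →
      ((nodeF4 a).map fun j => (stG chevE6 K).x (e j) t).prod ∈ M) → ψ.range ≤ M := by
  obtain ⟨φ, h1, -, h2⟩ := foldF4_ok.exists_hom (stG chevE6 K) stG_exact (by simp) stG_R3 stG_good
  let f := ZMod.castHom dvd_rfl K (n := 2)
  have h3 : ∀ r t, (φ.comp (fieldHom chevF4 f)) ((stG chevF4 (ZMod 2)).x r t) = _ := fun r t =>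
    (congrArg φ (fieldHom_x f r t)).trans (h2 r (f t))
  have h4 : ∀ r, (rootSys chevF4).IsPos r → ∀ t, (foldF4_ok.st (stG chevE6 K) stG_exact).x r t ∈ (stG chevE6 K).U :=
    fun r hr t => foldF4_ok.st_U_le _ _ (StData.x_mem_U _ hr t)
  refine ⟨φ.comp (fieldHom chevF4 f), h1.comp (fieldHom_injective f), fun u hu => ?_, fun k => ?_, fun M hM => ?_⟩
  · induction hu using StData.XS_induction with
    | h1 => exact ⟨by simp, fun k => ⟨0, by simp [stG_good.co_one]⟩⟩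
    | hs r hr t g hg ih =>
      rw [map_mul, h3]
      refine ⟨mul_mem (h4 r hr _) ih.1, fun k => ?_⟩
      change _ ∈ f.range
      rw [stG_good.co_mul (h4 r hr _) ih.1]
      refine add_mem ?_ (ih.2 k)
      have h5 : ∀ p ∈ foldF4.orb r, ∃ s : Rt chevE6, p.1 = s ∧ (rootSys chevE6).IsPos s := fun p hp => by
        have := List.all_eq_true.1 ((allLt_iff _ _).1 foldF4_ok.pos r r.2) p hp
        simp only [Bool.and_eq_true, Nat.blt_eq, beq_iff_eq] at this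
        refine ⟨⟨p.1, this.1⟩, rfl, ?_⟩
        simp only [Set.mem_setOf_eq, rootSys_isPos, pos_iff_le, ← Nat.ble_eq] at hr ⊢
        rw [← this.2, hr]
      rw [Fold.Ok.st_x, Fold.y, stG_good.co_prod fun p hp => by
        obtain ⟨s, e, hs⟩ := h5 p hp
        rw [e, xN_val]; exact StData.x_mem_U _ hs _]
      refine list_sum_mem fun c hc => ?_
      obtain ⟨p, hp, rfl⟩ := List.mem_map.1 hc
      obtain ⟨s, e, hs⟩ := h5 p hp
      rw [e, xN_val]
      by_cases e' : s = (rootSys chevE6).simple k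
      · rw [e', stG_good.co_simple]; exact mul_mem (intCast_mem _ _) ⟨t, rfl⟩
      · rw [stG_good.co_x_ne hs e']; exact zero_mem _
  · obtain ⟨a, ha⟩ : ∃ a, k ∈ nodeF4 a := by revert k; decide +kernel
    exact ⟨_, StData.x_mem_U _ ((rootSys chevF4).isPos_simple a) 1, by
      rw [h3, foldF4_ok.st_pos, stG_good.co_prod_simple (foldF4_ok.nodup a) ha, map_one]⟩
  · rw [MonoidHom.range_eq_map, Subgroup.map_le_iff_le_comap, ← stG_top, StData.grp, ← (rootSys chevF4).sub_univ]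
    refine StData.XS_sub_le _ fun a _ t => ?_
    have h5 : f t ^ 2 = f t := by rw [← map_pow, ZMod.pow_card]
    simp only [Subgroup.mem_comap, h3, foldF4_ok.st_pos, foldF4_ok.st_neg]
    exact ⟨hM a _ (rootSys chevE6).isSgn_pos _ h5, hM a _ (rootSys chevE6).isSgn_neg _ h5⟩

open CL.Chev CL.MSS Cfsg.Lie in

/-- The simple group ²E₆(2) (the twisted group of type E₆ over the field with 4 elements) contains at least three pairwise non-conjugate subgroups isomorphic to the Chevalley group F₄(2). -/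
theorem result {K : Type*} [Field K] [Fintype K] (hK : Fintype.card K = 4) :
    ∃ H : Fin 3 → Subgroup (Cfsg.Lie.twistedE6 K 2),
      (∀ i, Nonempty ((H i) ≃* Cfsg.Lie.chevF4.group (ZMod 2))) ∧
      (∀ i j, i ≠ j → ∀ g : (Cfsg.Lie.twistedE6 K 2), (H i).map (MulAut.conj g).toMonoidHom ≠ H j) := by

  have hK' : Nat.card K = 2 ^ 2 := by rw [Nat.card_eq_fintype_card, hK]; rfl
  have := charP_of_natCard Nat.prime_two hK'
  obtain ⟨T, h, hL⟩ := isLie_2E6 Nat.prime_two.isPrimePow hK'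
  obtain ⟨ψ, h1, h2, h3, h4⟩ := exists_emb (K := K)
  have hM := hL.isTw
  have h5 : ψ.range ≤ (jG chevE6 (e6Words K 2)).range := h4 _ fun a e he t ht => by
    obtain ⟨A, a1, a2⟩ := hM.exists_sgn hL.good he
    refine a2 ⟨list_prod_mem fun g hg => by obtain ⟨j, -, rfl⟩ := List.mem_map.1 hg; exact a1 _ _, ?_⟩
    have a3 : ∀ i, T.f i t = t := fun i => (h.f i t).trans ht
    fin_cases a
    · simpa [nodeF4, a3] using T.fix_two he (i := (0 : Fin 6)) (j := (5 : Fin 6)) (by decide) (h.A_eq _ _) (h.π _) (h.π _) (h.ff _ _) t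
    · simpa [nodeF4, a3] using T.fix_two he (i := (2 : Fin 6)) (j := (4 : Fin 6)) (by decide) (h.A_eq _ _) (h.π _) (h.π _) (h.ff _ _) t
    · simpa [nodeF4] using T.fix_one he (i := (3 : Fin 6)) (h.π _) (a3 _)
    · simpa [nodeF4] using T.fix_one he (i := (1 : Fin 6)) (h.π _) (a3 _)
  have hu : Nat.card Kˣ = 3 := by rw [Nat.card_units, hK']; rfl
  have : Fact (Nat.Prime 3) := ⟨Nat.prime_three⟩
  obtain ⟨ω, hω⟩ := exists_prime_orderOf_dvd_card' (G := Kˣ) 3 hu.symm.dvd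
  have h6 : ∀ x : Kˣ, x ^ 3 = 1 := fun x => hu ▸ pow_card_eq_one'
  let c : Fin 3 → Fin 6 → Kˣ := fun k => ![ω ^ k.1, 1, 1, 1, 1, (ω ^ k.1) ^ 2]
  have h7 : ∀ k, ∃ α, T.AmbP α (fun i => (c k i : K)) (RingEquiv.refl K) := fun k =>
    T.exists_ambP hL.hasDiag hL.hasFld (fun i => (c k i).ne_zero) (fun i : Fin 6 => by
      erw [h.π, h.f, ← Units.val_pow_eq_pow_val]
      fin_cases i <;> simp [c, -Units.val_pow_eq_pow_val]
      rw [← pow_mul, pow_succ, h6, one_mul]) _ fun _ _ => rfl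
  choose α hα using h7
  have h8 : ∀ k, ((α k).toMonoidHom.comp ψ).range ≤ (jG chevE6 (e6Words K 2)).range := by
    rintro k _ ⟨g, rfl⟩
    exact hM.amb_mem hL.good hL.top hL.gen (hα k).mem (h5 ⟨g, rfl⟩)
  refine ⟨fun k => ((α k).toMonoidHom.comp ψ).range.comap (jG chevE6 (e6Words K 2)), fun k => ⟨?_⟩, fun i j hij g e => ?_⟩
  · exact (((Subgroup.equivMapOfInjective _ _ hL.inj).trans (MulEquiv.subgroupCongr (Subgroup.map_comap_eq_self (h8 k)))).trans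
      (MonoidHom.ofInjective ((α k).injective.comp h1)).symm)
  have := (stG_good (D := chevF4) (F := ZMod 2)).finite stG_adjoint stG_top
  have hU : SylIn 2 (stG chevF4 (ZMod 2)).U ⊤ := (isLie_chev (ZMod 2) chevF4).sylIn
  set γ := jG chevE6 (e6Words K 2) g with hγ
  have h9 : ∀ u, ∃ v, α j (ψ v) = γ * α i (ψ u) * γ⁻¹ := fun u => by
    obtain ⟨y, hy⟩ := h8 i ⟨u, rfl⟩
    obtain ⟨v, hv⟩ := e.le (Subgroup.mem_map_of_mem _ (show y ∈ Subgroup.comap _ _ from ⟨u, hy.symm⟩))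
    exact ⟨v, hv.trans (by
      rw [show α i (ψ u) = jG chevE6 (e6Words K 2) y from hy.symm, hγ, ← map_inv, ← map_mul, ← map_mul]; rfl)⟩
  obtain ⟨m, -, hm⟩ := hU.exists_conj_le (R := ((stG chevF4 (ZMod 2)).U.map ((MulAut.conj γ).toMonoidHom.comp
    ((α i).toMonoidHom.comp ψ))).comap ((α j).toMonoidHom.comp ψ))
    ((hU.pgroup.map _).comap_of_injective _ ((α j).injective.comp h1)) le_top
  have h10 : ∀ u ∈ (stG chevF4 (ZMod 2)).U, ∃ v ∈ (stG chevF4 (ZMod 2)).U,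
      α j (ψ m) * γ * α i (ψ u) * (α j (ψ m) * γ)⁻¹ = α j (ψ v) := fun u hu => by
    obtain ⟨v, hv⟩ := h9 u
    refine ⟨m * v * m⁻¹, hm ⟨v, ⟨u, hu, hv.symm⟩, rfl⟩, ?_⟩
    rw [map_mul, map_mul, map_mul, map_mul, hv, map_inv, map_inv]; group
  have h11 := fun k g hg => stG_good.co_apin (hα k).pin (g := g) hg
  obtain ⟨u, hu, t, ht, e1⟩ := (StData.mem_B_iff _).1 (stG_good.mem_B_of_co (g := α j (ψ m) * γ) (by rw [stG_top]; trivial) fun k => by
    obtain ⟨y, hy, hy'⟩ := h3 k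
    obtain ⟨v, hv, e1⟩ := h10 y hy
    exact ⟨_, (h11 i _ (h2 y hy).1 k).1, by rw [(h11 i _ (h2 y hy).1 k).2, hy', mul_one]; exact (c i k).ne_zero,
      e1 ▸ StData.U_le_B _ (h11 j _ (h2 v hv).1 k).1⟩)
  have h12 : ∀ k, stG_good.chiH ⟨t, ht⟩ k * c i k = c j k := fun k => by
    obtain ⟨y, hy, hy'⟩ := h3 k
    obtain ⟨v, hv, e2⟩ := h10 y hy
    obtain ⟨s, hs⟩ := (h2 v hv).2 k
    have a1 := (h11 i _ (h2 y hy).1 k).1
    have a2 := congrArg ((stG chevE6 K).co k) e2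
    rw [e1, show u * t * α i (ψ y) * (u * t)⁻¹ = u * (t * α i (ψ y) * t⁻¹) * u⁻¹ by group,
      stG_good.co_conj hu ((StData.H_le_normalizer_XS _ _ ht _).1 a1), stG_good.co_conj_H ⟨t, ht⟩ a1,
      (h11 i _ (h2 y hy).1 k).2, (h11 j _ (h2 v hv).1 k).2, hy', ← hs, mul_one] at a2
    fin_cases s
    · exact absurd (a2.trans (mul_eq_zero_of_right _ ZMod.cast_zero)) (mul_ne_zero (Units.ne_zero _) (Units.ne_zero _))
    · exact Units.ext (a2.trans ((congrArg _ (ZMod.cast_one dvd_rfl)).trans (mul_one _)))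
  obtain ⟨s, hs⟩ : stG_good.chiH ⟨t, ht⟩ ∈ (matHom Kˣ (Matrix.of (rootSys chevE6).A)).range :=
    (stG_good (D := chevE6) (F := K)).range_chiH ▸ ⟨_, rfl⟩
  rw [← hs] at h12
  have a0 := h12 (0 : Fin 6)
  have a2 := h12 (2 : Fin 6)
  have a4 := h12 (4 : Fin 6)
  have a5 := h12 (5 : Fin 6)
  simp only [matHom_apply, Matrix.of_apply] at a0 a2 a4 a5
  erw [Fin.prod_univ_six] at a0 a2 a4 a5
  simp only [h.A_eq] at a0 a2 a4 a5
  simp [c] at a0 a2 a4 a5
  have b1 : (ω ^ i.1) ^ 5 * ((s (2 : Fin 6)) * (s (3 : Fin 6))⁻¹ * s (5 : Fin 6)) ^ 3 = (ω ^ j.1) ^ 5 := by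
    rw [show (ω ^ j.1) ^ 5 = ω ^ j.1 * 1 ^ 2 * 1 * ((ω ^ j.1) ^ 2) ^ 2 by simp [← pow_mul, ← pow_add]; congr 1; ring,
      ← a5]
    nth_rewrite 1 [← a0]
    nth_rewrite 1 [← a2]
    nth_rewrite 1 [← a4]
    ext; push_cast; field_simp
  rw [h6, mul_one, ← pow_mul, ← pow_mul, pow_eq_pow_iff_modEq, hω] at b1
  exact (by decide : ∀ i j : Fin 3, i.1 * 5 ≡ j.1 * 5 [MOD 3] → i = j) i j b1 |> hij

end Cfsg.Agent.S5743
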