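import Cfsg.Statements.S5744
import Cfsg.Agent.CHEV.E62Fi
import Cfsg.Agent.S1686
import Cfsg.Agent.S2604
import Cfsg.Agent.KSG.SchurOrth

set_option autoImplicit false
open Cfsg

namespace Cfsg.Agent.S5744

/-- The simple group ²E₆(2) (the twisted group of type E₆ over the field with 4 elements) contains at least three pairwise non-conjugate subgroups isomorphic to the orthogonal group Ω₇(3) (the commutator subgroup of the isometry group of x₀² + x₁y₁ + x₂y₂ + x₃y₃ over the field with 3 elements). -/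
theorem result {K : Type*} [Field K] [Fintype K] (hK : Fintype.card K = 4) :
    ∃ H : Fin 3 → Subgroup (Cfsg.Lie.twistedE6 K 2),
      (∀ i, Nonempty ((H i) ≃* Cfsg.Omega (ZMod 3) (Cfsg.quadFormOdd 3 (ZMod 3)))) ∧
      (∀ i j, i ≠ j → ∀ g : (Cfsg.Lie.twistedE6 K 2), (H i).map (MulAut.conj g).toMonoidHom ≠ H j) := by
---PROOF---
  obtain ⟨e⟩ := Cfsg.Agent.S1686.result
  obtain ⟨f⟩ := Cfsg.Agent.S2604.result (F := ZMod 3) (p := 3) (f := 1) (m := 3) le_rfl (by simp) (by decide) le_rfl
  obtain ⟨L, h1, h2⟩ := CL.E62.three_of_le hK _ (fun x hx => Subgroup.mem_map_of_mem _ (Subgroup.subset_closure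
    (by cases x <;> simp at hx ⊢))) (CL.E62.sq_out_congr e fun β => f.injective (by
      rw [map_pow, map_one]; generalize f β = y; revert y; decide))
  exact ⟨L, fun i => ⟨((h1 i).some.trans e).trans ((QuotientGroup.quotientMulEquivOfEq (Subgroup.card_eq_one.1
    (CL.SchurC.card_center_omegaOdd (by decide) (by decide)))).trans QuotientGroup.quotientBot)⟩, h2⟩

end Cfsg.Agent.S5744
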