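import Cfsg.Statements.S5748
import Cfsg.Agent.KSG.PSL2Basic
import Cfsg.Agent.FGS.PSL2Even

set_option autoImplicit false
open Cfsg CL.GL2 CL.Char

namespace Cfsg.Agent.S5748

/-- A finite non-abelian simple group in which commuting is a transitive relation on the non-identity elements (equivalently, every non-identity element has abelian centraliser) is isomorphic to PSL₂ over a field with 2^f elements for some f ≥ 2; conversely these groups have that property. -/
theorem result {G : Type*} [Group G] [Finite G] [IsSimpleGroup G] (hG : ¬ IsMulCommutative G) :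
    (∀ a b c : G, a ≠ 1 → b ≠ 1 → c ≠ 1 → Commute a b → Commute b c → Commute a c) ↔
    ∃ (F : Type) (_ : Field F) (_ : Fintype F) (f : ℕ), 2 ≤ f ∧ Fintype.card F = 2 ^ f ∧ Nonempty (G ≃* Matrix.ProjectiveSpecialLinearGroup (Fin 2) F) := by
  classical
  constructor
  · intro h
    have key : ∀ t : G, orderOf t = 2 → IsMulCommutative (Subgroup.centralizer ({t} : Set G)) := by
      refine fun t ht => ⟨⟨fun x y => Subtype.ext ?_⟩⟩
      have h1 : t ≠ 1 := fun e => by simp [e] at ht
      by_cases hx : x.1 = 1
      · simp [hx]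
      by_cases hy : y.1 = 1
      · simp [hy]
      exact h _ t _ hx h1 hy (Subgroup.mem_centralizer_singleton_iff.1 x.2)
        (Subgroup.mem_centralizer_singleton_iff.1 y.2).symm
    obtain ⟨n, hn, e⟩ := CL.PSL2E.exists_psl_of_simple hG key
    let _ := Fintype.ofFinite (GaloisField 2 n)
    exact ⟨GaloisField 2 n, inferInstance, inferInstance, n, hn,
      by rw [← Nat.card_eq_fintype_card, GaloisField.card 2 n (by omega)], e⟩
  · rintro ⟨F, _, _, f, hf, hF, ⟨e⟩⟩ a b c - hb - h1 h3
    have h2 : (2 : F) = 0 := two_eq_zero_of_even (hF ▸ dvd_pow_self 2 (by omega))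
    let e' := e.trans (pslEquivEven h2).symm
    have hs : ¬ IsScal ((e' b : Matrix.SpecialLinearGroup (Fin 2) F) : Matrix (Fin 2) (Fin 2) F) := fun h => by
      rcases isScal_SL_iff.1 h with h | h
      · exact hb (e'.map_eq_one_iff.1 h)
      · exact hb (e'.map_eq_one_iff.1 (h.trans (neg_SL_even h2 1)))
    refine e'.injective ?_
    rw [map_mul, map_mul]
    exact centSL_comm hs (mem_centSL_iff.2 (h1.map e').eq) (mem_centSL_iff.2 (h3.map e').eq.symm)

end Cfsg.Agent.S5748
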