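import Cfsg.Statements.S5752
import Cfsg.Agent.PERM.TW

set_option autoImplicit false
open Cfsg

namespace Cfsg.Agent.S5752

open Subgroup CL CL.TW CL.MSS CL.Comp

/-- A form of the Thompson–Wielandt Theorem on primitive permutation groups. Let G be a finite group and M₁, M₂ two distinct conjugate maximal subgroups of G with trivial core in G; define two descending sequences of subgroups by A₀ = M₁, B₀ = M₂ and, for every i, A_{i+1} = the core in M₁ of A_i ∩ B_i and B_{i+1} = the core in M₂ of A_i ∩ B_i (the core in M of a subgroup Y ≤ M is the largest normal subgroup of M contained in Y). If A₂ and B₂ are both non-trivial, then for some prime p the subgroup generated by A₂ and B₂ is a p-group, and for each j the generalized Fitting subgroups of M_j and of its first core (A₁, resp. B₁) are their largest normal p-subgroups. -/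
theorem result {G : Type*} [Group G] [Finite G] (M₁ M₂ : Subgroup G) (hmax : IsCoatom M₁) (g : G)
    (hconj : M₂ = M₁.map (MulAut.conj g).toMonoidHom) (hne : M₁ ≠ M₂) (hcore : M₁.normalCore = ⊥)
    (A B : ℕ → Subgroup G) (hA0 : A 0 = M₁) (hB0 : B 0 = M₂)
    (hA : ∀ i, A (i + 1) = ((A i ⊓ B i).subgroupOf M₁).normalCore.map M₁.subtype)
    (hB : ∀ i, B (i + 1) = ((A i ⊓ B i).subgroupOf M₂).normalCore.map M₂.subtype) (hA2 : A 2 ≠ ⊥) (hB2 : B 2 ≠ ⊥) :
    ∃ p : ℕ, p.Prime ∧ IsPGroup p ↥(A 2 ⊔ B 2) ∧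
      Cfsg.generalizedFittingSubgroup ↥M₁ = Cfsg.pCore p ↥M₁ ∧ Cfsg.generalizedFittingSubgroup ↥(A 1) = Cfsg.pCore p ↥(A 1) ∧
      Cfsg.generalizedFittingSubgroup ↥M₂ = Cfsg.pCore p ↥M₂ ∧ Cfsg.generalizedFittingSubgroup ↥(B 1) = Cfsg.pCore p ↥(B 1) := by
  have key : ∀ M : Subgroup G, IsCoatom M → M.normalCore = ⊥ → ∀ X : Subgroup G, X ≠ ⊥ → X ≤ M →
      M ≤ normalizer (X : Set G) → normalizer (X : Set G) ≤ M := by
    intro M hM hc X hX hle hn
    rcases hn.eq_or_lt with h | h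
    · exact h.ge
    · have := normalizer_eq_top_iff.mp (hM.2 _ h)
      exact absurd (eq_bot_iff.mpr (hc ▸ normal_le_normalCore.mpr hle)) hX
  have hconj' : M₂ = g •ᶜ M₁ := hconj
  have h : Pair M₁ M₂ := ⟨key M₁ hmax hcore, key M₂ (hconj' ▸ isCoatom_cj g hmax) (by
    rw [eq_bot_iff, ← hcore, normal_le_normalCore, ← cj_le_cj_iff g, ← hconj', cj_eq_of_normal]
    exact normalCore_le _), hne, g, hconj'⟩
  have hA1 : A 1 = K M₁ M₂ := by rw [hA, hA0, hB0, map_normalCore inf_le_left]; rfl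
  have hB1 : B 1 = K M₂ M₁ := by rw [hB, hA0, hB0, map_normalCore inf_le_right, inf_comm]; rfl
  have hA2' : A 2 = P M₁ M₂ := by
    rw [hA, hA1, hB1, map_normalCore (inf_le_left.trans K_le_left)]; rfl
  have hB2' : B 2 = P M₂ M₁ := by
    rw [hB, hA1, hB1, map_normalCore (inf_le_right.trans K_le_left), inf_comm]; rfl
  rw [hA2'] at hA2
  rw [hB2'] at hB2
  obtain ⟨p, hp, h1, h2, h3, h4⟩ := h.thompson_wielandt hA2 hB2
  have := Fact.mk hp
  rw [hA1, hB1, hA2', hB2']
  exact ⟨p, hp, isPGroup_sup_of_normalizes h1 h2 ((P_le_left.trans K_le_right).trans P_normal),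
    fstar_eq_pCore_iff_isPGroup_fstarOf.mpr h3,
    fstar_eq_pCore_iff_isPGroup_fstarOf.mpr (isPGroup_fstarOf_of_subnormalIn K_le_left
      (isSubnormal_subgroupOf_of_normalizes K_normal) h3),
    fstar_eq_pCore_iff_isPGroup_fstarOf.mpr h4,
    fstar_eq_pCore_iff_isPGroup_fstarOf.mpr (isPGroup_fstarOf_of_subnormalIn K_le_left
      (isSubnormal_subgroupOf_of_normalizes K_normal) h4)⟩

end Cfsg.Agent.S5752
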