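import Cfsg.Statements.S5753
import Cfsg.Agent.PERM.BinAff2
import Cfsg.Agent.PERM.DerClass

set_option autoImplicit false
open Cfsg

namespace Cfsg.Agent.S5753

open CL.BinAff MulAction
open scoped IsMulCommutative

theorem small {H V : Type*} [Group H] [AddCommGroup V] [DistribMulAction H V] [Finite H] [Finite V] [Nontrivial V]
    (B : Bin H V) (h : ∀ r : H, Rf V r → ∀ x : V, r • x = x → x = 0) : (Nat.card V).Prime ∧ Nat.card H ≤ 2 := by
  have h1 : ∀ g : H, g ≠ 1 → ∀ v : V, g • v = -v := fun g hg v => by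
    obtain ⟨t, ht, hle⟩ := exists_rf (V := V) hg
    have : Rf V g := ht.of_le hg fun x hx => h t ht x (mem_fx.1 hx) ▸ zero_mem _
    exact B.rf_neg this (Finite.surjective_of_injective ((injective_iff_map_eq_zero (dl V g)).2
      fun x hx => h g this x (mem_fx.1 hx)) v)
  refine ⟨AddCommGroup.is_simple_iff_prime_card.1 ⟨fun W _ => B.irr W fun g w hw => ?_⟩, ?_⟩
  · by_cases e : g = 1
    · simpa [e]
    · simpa [h1 g e]
  · classical
    refine (Nat.card_le_card_of_injective (fun g : H => decide (g = 1)) fun a b e => ?_).trans (by simp)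
    by_cases ha : a = 1
    · simp_all
    · exact inv_mul_eq_one.1 (B.faith _ fun v => by
        rw [mul_smul, inv_smul_eq_iff, h1 a ha, h1 b (by simpa [ha] using e)])

/-- The binary primitive permutation groups of affine type (the known proof uses the classification of the finite simple groups). Let a finite group G act faithfully and primitively on a finite set Ω, with a non-trivial abelian normal subgroup, and suppose the action is binary: for every n ≥ 2 and all n-tuples I, J of points, if for every pair of positions some element of G carries the corresponding pair of entries of I to those of J, then a single element carries I to J. Then either Ω has a prime number of points and every point stabilizer has order at most 2, or Ω can be identified with a field E that is a quadratic extension of a subfield F in such a way that the permutations induced by G are exactly the maps x ↦ a·φ(x) + b with a ∈ E of norm 1 over F, φ an automorphism of E over F and b ∈ E (the affine group of the anisotropic plane orthogonal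 group). -/
theorem result {G Ω : Type*} [Group G] [Finite G] [MulAction G Ω] [FaithfulSMul G Ω] [Fintype Ω]
    (hprim : MulAction.IsPreprimitive G Ω)
    (haff : ∃ N : Subgroup G, N.Normal ∧ N ≠ ⊥ ∧ IsMulCommutative ↥N)
    (hbin : ∀ (n : ℕ) (I J : Fin n → Ω), 2 ≤ n →
      (∀ i j : Fin n, i ≠ j → ∃ g : G, g • I i = J i ∧ g • I j = J j) → ∃ g : G, ∀ i, g • I i = J i) :
    ((Fintype.card Ω).Prime ∧ ∀ ω : Ω, Nat.card ↥(MulAction.stabilizer G ω) ≤ 2) ∨
    (∃ (F E : Type) (_ : Field F) (_ : Fintype F) (_ : Field E) (_ : Fintype E) (_ : Algebra F E) (e : Ω ≃ E),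
        Module.finrank F E = 2 ∧
        ∀ σ : Equiv.Perm Ω, σ ∈ (MulAction.toPermHom G Ω).range ↔
          ∃ (a b : E) (φ : E ≃ₐ[F] E), Algebra.norm F a = 1 ∧ ∀ ω : Ω, e (σ ω) = a * φ (e ω) + b) := by
  classical
  obtain ⟨N, hN, h0, hc⟩ := haff
  have tr := CL.Perm.isPretransitive_of_normal_of_ne_bot hprim N h0
  obtain ⟨ω⟩ : Nonempty Ω := by
    by_contra! h
    exact h0 ((Subgroup.eq_bot_iff_forall _).2 fun g _ => eq_of_smul_eq_smul (α := Ω) fun a => h.elim a)
  let _ : DistribMulAction (stabilizer G ω) (Additive N) :=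
    { smul h v := .ofMul (MulAut.conjNormal h.1 v.toMul)
      one_smul v := Subtype.ext (by change (1 : G) * _ * 1⁻¹ = _; simp; rfl)
      mul_smul a b v := congrArg Additive.ofMul (DFunLike.congr_fun (map_mul MulAut.conjNormal a.1 b.1) v.toMul)
      smul_zero h := congrArg Additive.ofMul (map_one (MulAut.conjNormal h.1))
      smul_add h v w := congrArg Additive.ofMul (map_mul (MulAut.conjNormal h.1) v.toMul w.toMul) }
  let e : Additive N ≃ Ω := .ofBijective (fun v => v.toMul.1 • ω) ⟨fun v w h => Subtype.ext (inv_mul_eq_one.1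
    (CL.ONS.regular_of_comm hprim N h0 hc (mul_mem (inv_mem v.toMul.2) w.toMul.2) (a := ω)
      (by rw [mul_smul, inv_smul_eq_iff]; exact h.symm))), fun a => tr.exists_smul_eq ω a⟩
  have e0 : e 0 = ω := one_smul G ω
  have e1 : ∀ (h : stabilizer G ω) v, e (h • v) = h.1 • e v := fun h v =>
    show (h.1 * v.toMul.1 * h.1⁻¹) • ω = h.1 • v.toMul.1 • ω by rw [mul_smul, mul_smul, mem_stabilizer_iff.1 (inv_mem h.2)]
  have e2 : ∀ a v, e (a + v) = a.toMul.1 • e v := fun a v => mul_smul _ _ ω
  have dec : ∀ g : G, ∃ (a : Additive N) (h : stabilizer G ω), g = a.toMul.1 * h := fun g => by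
    obtain ⟨a, ha⟩ := e.surjective (g • ω)
    exact ⟨a, ⟨a.toMul.1⁻¹ * g, by rw [mem_stabilizer_iff, mul_smul, inv_smul_eq_iff]; exact ha.symm⟩, by simp⟩
  have : Nontrivial N := (Subgroup.nontrivial_iff_ne_bot N).2 h0
  have B : Bin (stabilizer G ω) (Additive N) := by
    refine ⟨fun h hh => Subtype.ext (eq_of_smul_eq_smul (α := Ω) fun a => ?_), fun W hW => ?_, fun a => ?_⟩
    · obtain ⟨v, rfl⟩ := e.surjective a
      rw [← e1, hh]; exact (one_smul _ _).symm
    · have : ((AddSubgroup.toSubgroup' W).map N.subtype).Normal := ⟨by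
        rintro _ ⟨w, hw, rfl⟩ g
        obtain ⟨a, h, rfl⟩ := dec g
        refine ⟨_, hW h _ hw, ?_⟩
        have := congrArg Subtype.val (mul_inv_cancel_comm a.toMul (h • Additive.ofMul w).toMul)
        refine this.symm.trans ?_
        change a.toMul.1 * (h.1 * w * h.1⁻¹) * a.toMul.1⁻¹ = _ * w * _
        group⟩
      refine or_iff_not_imp_left.2 fun hb => eq_top_iff.2 fun v _ => ?_
      obtain ⟨⟨_, w, hw, rfl⟩, h⟩ := (CL.Perm.isPretransitive_of_normal_of_ne_bot hprim
        ((AddSubgroup.toSubgroup' W).map N.subtype) (by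
          rwa [Ne, Subgroup.map_eq_bot_iff_of_injective _ N.subtype_injective, map_eq_bot_iff])).exists_smul_eq
        ω (e v)
      exact e.injective (a₁ := .ofMul w) h ▸ hw
    · by_cases ha : a = 0
      · exact ⟨1, fun z _ _ => by simp [ha]⟩
      let P : Additive N → Prop := fun z => ∃ h : stabilizer G ω, h • z = z - a
      let f := (Finite.equivFin (Additive N)).symm
      obtain ⟨g, hg⟩ := hbin _ (fun i => e (if P (f i) then f i else 0)) (fun i => e (if P (f i) then f i - a else 0))
        Finite.one_lt_card fun i j _ => by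
          by_cases hi : P (f i) <;> by_cases hj : P (f j) <;> simp only [hi, hj, if_true, if_false]
          · exact ⟨(-a).toMul.1, by simp only [← e2, neg_add_eq_sub, and_self]⟩
          · obtain ⟨h, hi⟩ := hi; exact ⟨h, by simp only [← e1, hi, smul_zero, and_self]⟩
          · obtain ⟨h, hj⟩ := hj; exact ⟨h, by simp only [← e1, hj, smul_zero, and_self]⟩
          · exact ⟨1, by simp⟩
      have h1 := hg (f.symm 0)
      have h2 : ¬ P 0 := fun ⟨h, e⟩ => ha (by simpa using e)
      simp only [Equiv.apply_symm_apply, h2, if_false, e0] at h1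
      refine ⟨⟨g, h1⟩, fun z h hz => e.injective ((e1 _ _).trans ?_)⟩
      simpa only [Equiv.apply_symm_apply, show P z from ⟨h, hz⟩, if_true] using hg (f.symm z)
  by_cases h : ∀ r : stabilizer G ω, Rf (Additive N) r → ∀ x : Additive N, r • x = x → x = 0
  · obtain ⟨a, b⟩ := small B h
    refine .inl ⟨by rwa [← Nat.card_eq_fintype_card, ← Nat.card_congr e], fun ω' => ?_⟩
    obtain ⟨g, hg⟩ := hprim.exists_smul_eq ω ω'
    rwa [← Nat.card_congr (stabilizerEquivStabilizer hg.symm).toEquiv]
  push Not at h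
  obtain ⟨r, hr, x, hx, x0⟩ := h
  obtain ⟨F, E, _, _, _, _, _, ε, a, b, c⟩ := B.exists_field hr x0 hx
  refine .inr ⟨F, E, _, ‹_›, _, ‹_›, _, e.symm.trans ε, a, fun σ => ⟨?_, ?_⟩⟩
  · rintro ⟨g, rfl⟩
    obtain ⟨u, h, rfl⟩ := dec g
    obtain ⟨a, φ, h1, h2⟩ := b h
    refine ⟨a, ε u, φ, h1, fun y => ?_⟩
    obtain ⟨v, rfl⟩ := e.surjective y
    simp [mul_smul, ← e1, ← e2, h2, add_comm]
  · rintro ⟨a, b, φ, h1, h2⟩
    obtain ⟨h, h3⟩ := c a φ h1
    refine ⟨(ε.symm b).toMul.1 * h, Equiv.ext fun y => (e.symm.trans ε.toEquiv).injective ?_⟩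
    obtain ⟨v, rfl⟩ := e.surjective y
    refine .trans ?_ (h2 _).symm
    simp [mul_smul, ← e1, ← e2, h3, add_comm]

end Cfsg.Agent.S5753
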