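import Cfsg.Statements.S5756
import Cfsg.Agent.PERM.Oval8
import Cfsg.Agent.S3732
import Cfsg.Agent.S0483
import Cfsg.Agent.S0507

set_option autoImplicit false
open Cfsg

namespace Cfsg.Agent.S5756

/-- Let Π be a finite projective plane of odd order n (points P, lines L), and let G be a finite non-abelian simple group acting faithfully on the points, and on the lines compatibly with incidence (a collineation group). If G leaves invariant an oval of Π (a set of n + 1 points, no three of them on a common line), then G is isomorphic to PSL₂(F) for a finite field F of odd order. -/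
theorem result {P L : Type*} [Membership P L] [Fintype P] [Fintype L] [Configuration.ProjectivePlane P L]
    (hodd : Odd (Configuration.ProjectivePlane.order P L))
    {G : Type*} [Group G] [Finite G] [MulAction G P] [MulAction G L] [FaithfulSMul G P]
    (hcoll : ∀ (g : G) (p : P) (l : L), g • p ∈ g • l ↔ p ∈ l)
    [IsSimpleGroup G] (hG : ¬ IsMulCommutative G)
    (O : Finset P) (hcard : O.card = Configuration.ProjectivePlane.order P L + 1)
    (harc : ∀ l : L, ∀ p ∈ O, ∀ q ∈ O, ∀ r ∈ O, p ∈ l → q ∈ l → r ∈ l → p = q ∨ p = r ∨ q = r)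
    (hinv : ∀ g : G, ∀ p ∈ O, g • p ∈ O) :
    ∃ (F : Type) (_ : Field F) (_ : Fintype F), Odd (Fintype.card F) ∧
      Nonempty (G ≃* Matrix.ProjectiveSpecialLinearGroup (Fin 2) F) := by
  let π : CL.SymDes.Pl G P L :=
    { S3732.des P L with
      l1 := rfl
      k3 := by
        have := Configuration.ProjectivePlane.one_lt_order P L
        simp only [S3732.des]
        omega
      hI := hcoll
      faith := fun g hg => eq_of_smul_eq_smul (α := P) fun x => by rw [hg, one_smul] }
  have h : π.Oval (· ∈ O) :=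
    ⟨by rw [CL.SymDes.sum_ind_card]; simp [π, S3732.des, hcard],
      fun hx hy hz => harc _ _ hx _ hy _ hz, by
        obtain ⟨k, hk⟩ := hodd
        exact ⟨k + 1, by simp only [π, S3732.des, hk]; push_cast; ring⟩⟩
  have hO : ∀ (g : G) x, g • x ∈ O ↔ x ∈ O := fun g x =>
    ⟨fun e => by simpa using hinv g⁻¹ _ e, hinv g x⟩
  have k : ∀ {H : Type} [Group H], CL.OvalG.Bad H (· = 1) → (G ≃* H) → False := fun hH e =>
    h.not_bad hO hG (hH.map e.symm.toMonoidHom fun g hg => by simpa using hg)
  obtain ⟨S⟩ : Nonempty (Sylow 2 G) := inferInstance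
  rcases h.dq hO hG S with ⟨n, hn, hS⟩ | hS
  · have : Group.IsPerfect G := ⟨CL.SymDes.comm_top hG⟩
    have h1 : oddCore G = ⊥ := (inferInstance : (oddCore G).Normal).eq_bot_or_eq_top.resolve_right
      fun e => CL.not_dvd_card_pPrimeCore 2 G (by
        rw [show pPrimeCore 2 G = ⊤ from e, Subgroup.card_top]; exact CL.SymDes.two_dvd_card hG)
    let e : G ≃* G ⧸ oddCore G :=
      ((QuotientGroup.quotientMulEquivOfEq h1).trans QuotientGroup.quotientBot).symm
    rcases S0483.result S n hn hS with ⟨F, _, _, h2, -, ⟨f⟩⟩ | ⟨⟨f⟩⟩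
    · exact ⟨F, _, _, h2, ⟨e.trans f⟩⟩
    · exact (k CL.OvalG.bad_A7 (e.trans f)).elim
  · rcases S0507.result S hS with ⟨F, _, _, h2, ⟨f⟩⟩ | ⟨F, _, _, q, h2, h3, ⟨f⟩⟩ | h2
    · refine (k (CL.OvalG.bad_PSL (Ring.two_ne_zero fun e => ?_)) f).elim
      have := (FiniteField.even_card_iff_char_two).1 e
      omega
    · exact (k (CL.OvalG.bad_PSU h2 h3) f).elim
    · exact (k CL.OvalG.bad_M11 (CL.Ord.iso_M11 h2.2).some).elim

end Cfsg.Agent.S5756
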