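import Cfsg.Statements.S5770
import Cfsg.Agent.KSG.E72.L34
import Cfsg.Agent.KSG.E72.Sz8
import Cfsg.Agent.KSG.E72.U34
import Cfsg.Agent.KSG.E72.G24
import Cfsg.Agent.KSG.E72.L316
import Cfsg.Agent.S0815
import Cfsg.Agent.S0280
import Cfsg.Agent.S0283
import Cfsg.Agent.S2126
import Cfsg.Agent.S1162

set_option autoImplicit false
open Cfsg

namespace Cfsg.Agent.S5770

/-- The Chevalley group of type E₇ over the field with two elements (generated by its root elements in the adjoint representation; the simple group E₇(2)) has no maximal subgroup H whose generalized Fitting subgroup F*(H) is isomorphic to any of PSL₃(4), PSU₃(4), the Suzuki group Sz(8), the Chevalley group G₂(4) or PSL₃(16). Here F₄, F₈, F₁₆ denote fields with 4, 8 and 16 elements. -/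
theorem result {F₄ F₈ F₁₆ : Type*} [Field F₄] [Fintype F₄] (h4 : Fintype.card F₄ = 4) [Field F₈] [Fintype F₈] (h8 : Fintype.card F₈ = 8)
    [Field F₁₆] [Fintype F₁₆] (h16 : Fintype.card F₁₆ = 16) (H : Subgroup ↥(Cfsg.Lie.chevE7.group (ZMod 2))) (hH : IsCoatom H) :
    IsEmpty (↥(Cfsg.generalizedFittingSubgroup ↥H) ≃* Matrix.ProjectiveSpecialLinearGroup (Fin 3) F₄) ∧ IsEmpty (↥(Cfsg.generalizedFittingSubgroup ↥H) ≃* Cfsg.PSU 3 F₁₆ 4) ∧
    IsEmpty (↥(Cfsg.generalizedFittingSubgroup ↥H) ≃* ↥(Cfsg.Lie.Sz F₈ 4)) ∧ IsEmpty (↥(Cfsg.generalizedFittingSubgroup ↥H) ≃* ↥(Cfsg.Lie.chevG2.group F₄)) ∧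
    IsEmpty (↥(Cfsg.generalizedFittingSubgroup ↥H) ≃* Matrix.ProjectiveSpecialLinearGroup (Fin 3) F₁₆) := by
  refine ⟨⟨fun e => ?_⟩, ⟨fun e => ?_⟩, ⟨fun e => ?_⟩, ⟨fun e => ?_⟩, ⟨fun e => ?_⟩⟩ <;>
    obtain ⟨ρ, D, N⟩ := CL.E72.exists_rep12 hH e
  · have := CL.SL.psl_isSimpleGroup_of_three_le (ι := Fin 3) (F := F₄) (by simp)
    have h1 := Cfsg.Agent.S0243.result h4 3 (by norm_num)
    have h2 := Cfsg.Agent.S0242.result h4 3 (by norm_num)
    have h3 := Cfsg.Agent.S0813.result (F := F₄) 2 2 (by norm_num) h4 3 (by norm_num) (by norm_num)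
    rw [Cfsg.Agent.S0265.result] at h3
    norm_num [Fin.prod_univ_succ] at h1 h2 h3
    exact D.no255 (N 20160 241920 ⟨CL.E72.center_of_simple (n := 20160) (by omega) (by norm_num) (by norm_num), by omega,
      by omega⟩ (by norm_num)) (CL.E72.gen_L34 h4)
  · have := Cfsg.Agent.S0283.result (q := 4) h16 3 le_rfl (by norm_num)
    have h1 := Cfsg.Agent.S0280.result (q := 4) h16 3 (by norm_num)
    have h2 := Cfsg.Agent.S0815.result 2 2 (by norm_num) (q := 4) rfl h16 3 le_rfl (by norm_num)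
    norm_num [Finset.prod_range_succ, -Nat.card_eq_fintype_card] at h1 h2
    exact CL.E72.noU34 h16 D (N 62400 249600 ⟨CL.E72.center_of_simple (n := 62400) (by omega) (by norm_num) (by norm_num),
      by omega, by omega⟩ (by norm_num))
  · have : IsSimpleGroup (Cfsg.Lie.Sz F₈ 4) := Cfsg.Agent.S1162.result (m := 1) le_rfl h8
    have := CL.Sz.charP_two (m := 1) h8
    have h1 : Nat.card (Cfsg.Lie.Sz F₈ 4) = 29120 := by
      rw [show Nat.card (Cfsg.Lie.Sz F₈ 4) = _ from (CL.Sz.lieModel (m := 1) h8).card_G, Nat.card_eq_fintype_card, h8]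
      norm_num
    have h2 := CL.E72.center_of_simple h1 (by norm_num) (by norm_num)
    exact CL.E72.noSz8 h8 D (N 29120 87360 ⟨h2, h1, by
      rw [CL.KOut.card_aut h2, h1, show Nat.card (Cfsg.Out (Cfsg.Lie.Sz F₈ 4)) = _ from
        Cfsg.Agent.S2126.result (m := 1) le_rfl h8]⟩ (by norm_num))
  · exact CL.E72.noG24 h4 D
  · exact CL.E72.noL316 h16 D

end Cfsg.Agent.S5770
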