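import Cfsg.Statements.S5904
-- import your own Cfsg.Agent.* helpers here

set_option autoImplicit false
open scoped Pointwise
open Cfsg

namespace Cfsg.Agent.S5904

open MulAction in
/-- stabilizer of the partition `{O, Oᶜ}` -/
theorem exists_between {Ω : Type*} [Fintype Ω] [DecidableEq Ω] (hΩ : 2 < Fintype.card Ω)
    (O : Set Ω) (hO : Nat.card O = Nat.card ↥Oᶜ) :
    ∃ K : Subgroup (Equiv.Perm Ω), MulAction.stabilizer (Equiv.Perm Ω) O < K ∧ K ≠ ⊤ := by
  classical
  have hcard : Nat.card O + Nat.card ↥Oᶜ = Fintype.card Ω := by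
    rw [Nat.card_coe_set_eq, Nat.card_coe_set_eq, Set.ncard_add_ncard_compl, Nat.card_eq_fintype_card]
  have h2 : 2 ≤ Nat.card O := by omega
  obtain ⟨a, a', haa⟩ : ∃ a a' : O, a ≠ a' := by
    have : Nontrivial O := Finite.one_lt_card_iff_nontrivial.mp (by omega)
    exact exists_pair_ne O
  obtain ⟨b⟩ : Nonempty ↥Oᶜ := (Nat.card_pos_iff.mp (by omega)).1
  refine ⟨stabilizer (Equiv.Perm Ω) ({O, Oᶜ} : Set (Set Ω)), ?_, ?_⟩
  · rw [lt_iff_le_and_ne]
    constructor
    · intro g hg
      rw [mem_stabilizer_iff] at hg ⊢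
      rw [Set.smul_set_insert, Set.smul_set_singleton, Set.smul_set_compl, hg]
    · intro heq
      obtain ⟨e⟩ : Nonempty (O ≃ ↥Oᶜ) := Finite.card_eq.mp hO
      let g : Equiv.Perm Ω := (Equiv.Set.sumCompl O).symm.trans
        (((Equiv.sumComm _ _).trans (Equiv.sumCongr e.symm e)).trans (Equiv.Set.sumCompl O))
      have hg1 : ∀ x, x ∈ O → g x ∉ O := by
        intro x hx
        simp only [g, Equiv.trans_apply, Equiv.Set.sumCompl_symm_apply_of_mem hx, Equiv.sumComm_apply,
          Sum.swap_inl, Equiv.sumCongr_apply, Sum.map_inr, Equiv.Set.sumCompl_apply_inr]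
        exact (e ⟨x, hx⟩).2
      have hg2 : ∀ x, x ∉ O → g x ∈ O := by
        intro x hx
        simp only [g, Equiv.trans_apply, Equiv.Set.sumCompl_symm_apply_of_notMem hx,
          Equiv.sumComm_apply, Sum.swap_inr, Equiv.sumCongr_apply, Sum.map_inl,
          Equiv.Set.sumCompl_apply_inl]
        exact (e.symm ⟨x, hx⟩).2
      have hgO : g • O = Oᶜ := by
        ext x
        rw [Set.mem_smul_set_iff_inv_smul_mem, Set.mem_compl_iff]
        constructor
        · intro h
          have := hg1 _ h
          simpa using this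
        · intro h
          by_contra h'
          have := hg2 _ h'
          exact h (by simpa using this)
      have hg : g ∈ stabilizer (Equiv.Perm Ω) ({O, Oᶜ} : Set (Set Ω)) := by
        rw [mem_stabilizer_iff, Set.smul_set_insert, Set.smul_set_singleton, Set.smul_set_compl, hgO,
          compl_compl, Set.pair_comm]
      rw [← heq, mem_stabilizer_iff, hgO] at hg
      have : (a : Ω) ∈ Oᶜ := by rw [hg]; exact a.2
      exact this a.2
  · intro htop
    have hg : Equiv.swap (a : Ω) b ∈ stabilizer (Equiv.Perm Ω) ({O, Oᶜ} : Set (Set Ω)) :=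
      htop ▸ Subgroup.mem_top _
    rw [mem_stabilizer_iff] at hg
    have hmem : Equiv.swap (a : Ω) b • O ∈ ({O, Oᶜ} : Set (Set Ω)) := by
      rw [← hg]; exact Set.smul_mem_smul_set (by simp)
    have hb : (b : Ω) ∈ Equiv.swap (a : Ω) b • O := ⟨a, a.2, by simp⟩
    have hab : (a' : Ω) ≠ b := fun h => b.2 (h ▸ a'.2)
    have ha' : (a' : Ω) ∈ Equiv.swap (a : Ω) b • O := ⟨a', a'.2, by
      simp [Equiv.swap_apply_of_ne_of_ne (Subtype.coe_ne_coe.mpr haa.symm) hab]⟩
    rcases hmem with h | h
    · rw [h] at hb; exact b.2 hb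
    · rw [Set.mem_singleton_iff.mp h] at ha'; exact ha' a'.2


/-- Let Ω be a finite set with more than two elements and O ⊆ Ω a subset with exactly as many elements as its complement. Then the setwise stabilizer of O in the symmetric group on Ω is not a maximal subgroup (it is properly contained in the stabilizer of the partition {O, Ω ∖ O}, which is proper). -/
theorem result {Ω : Type*} [Fintype Ω] [DecidableEq Ω] (hΩ : 2 < Fintype.card Ω)
    (O : Set Ω) (hO : Nat.card O = Nat.card ↥Oᶜ) :
    ¬ IsCoatom (MulAction.stabilizer (Equiv.Perm Ω) O) := by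
  obtain ⟨K, hK, hne⟩ := exists_between hΩ O hO
  exact fun h => hne (h.2 K hK)

end Cfsg.Agent.S5904
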