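import Cfsg.Statements.S5894
import Cfsg.Agent.S5904

set_option autoImplicit false
open Cfsg
open scoped Pointwise

namespace Cfsg.Agent.S5894

/-- For every m ≥ 2 the symmetric group on 2m letters has a maximal subgroup M of index 2m together with a maximal subgroup H of M that is not second maximal: some maximal subgroup K of the symmetric group contains H without H being maximal in K. (One may take M the stabiliser of a letter, H ≅ S_m × S_{m−1} inside it, and K ≅ S_m ≀ S₂ the stabiliser of a partition into two m-sets, with H < S_m × S_m < K.) So the prime-index hypothesis in the second-maximality criterion cannot be relaxed to any even index ≥ 4. -/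
theorem result (m : ℕ) (hm : 2 ≤ m) :
    ∃ M H K : Subgroup (Equiv.Perm (Fin (2 * m))), IsCoatom M ∧ M.index = 2 * m ∧ H ≤ M ∧ IsCoatom (H.subgroupOf M) ∧
      IsCoatom K ∧ H ≤ K ∧ ¬ IsCoatom (H.subgroupOf K) := by
  classical
  let a₀ : Fin (2 * m) := ⟨0, by omega⟩
  let s : Set (Fin (2 * m)) := {a₀}ᶜ
  have hs : s.ncard = 2 * m - 1 := by
    have := Set.ncard_add_ncard_compl ({a₀} : Set (Fin (2 * m)))
    simp only [Set.ncard_singleton, Nat.card_eq_fintype_card, Fintype.card_fin] at this
    simp only [s]; omega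
  have hscard : Nat.card s = 2 * m - 1 := by rw [Nat.card_coe_set_eq, hs]
  obtain ⟨O', -, hO'⟩ := Set.exists_subset_card_eq (s := (Set.univ : Set s)) (n := m)
    (by rw [Set.ncard_univ, hscard]; omega)
  let O : Set (Fin (2 * m)) := Subtype.val '' O'
  have hO : O.ncard = m := by rw [Set.ncard_image_of_injective _ Subtype.val_injective, hO']
  have hOc : Oᶜ.ncard = m := by
    have := Set.ncard_add_ncard_compl O
    simp only [Nat.card_eq_fintype_card, Fintype.card_fin] at this
    omega
  have ha₀ : a₀ ∉ O := by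
    rintro ⟨x, -, hx⟩
    exact x.2 hx
  let M := MulAction.stabilizer (Equiv.Perm (Fin (2 * m))) s
  have hMa : M = MulAction.stabilizer (Equiv.Perm (Fin (2 * m))) a₀ := by
    simp only [M, s]
    rw [stabilizer_compl, MulAction.stabilizer_singleton]
  let φ : M →* Equiv.Perm s := MulAction.toPermHom M s
  have hφ : Function.Surjective φ := Equiv.Perm.stabilizer.surjective_toPerm s
  let H : Subgroup (Equiv.Perm (Fin (2 * m))) :=
    ((MulAction.stabilizer (Equiv.Perm s) O').comap φ).map M.subtype
  obtain ⟨K₀, hK₀, hK₀ne⟩ := Cfsg.Agent.S5904.exists_between (Ω := Fin (2 * m)) (by simp; omega) O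
    (by rw [Nat.card_coe_set_eq, Nat.card_coe_set_eq, hO, hOc])
  obtain h | ⟨K, hK, hle⟩ := eq_top_or_exists_le_coatom K₀
  · exact absurd h hK₀ne
  have hHO : H ≤ MulAction.stabilizer (Equiv.Perm (Fin (2 * m))) O := by
    rintro _ ⟨g, hg, rfl⟩
    have hg' : φ g • O' = O' := hg
    rw [MulAction.mem_stabilizer_iff]
    ext x
    constructor
    · rintro ⟨_, ⟨y, hy, rfl⟩, rfl⟩
      refine ⟨φ g y, ?_, rfl⟩
      rw [← hg']; exact ⟨y, hy, rfl⟩
    · rintro ⟨y, hy, rfl⟩
      rw [← hg'] at hy
      obtain ⟨z, hz, rfl⟩ := hy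
      exact ⟨z, ⟨z, hz, rfl⟩, rfl⟩
  have hHM : H ≤ M := Subgroup.map_subtype_le _
  have hHlt : H < MulAction.stabilizer (Equiv.Perm (Fin (2 * m))) O := by
    refine lt_of_le_of_ne hHO fun heq => ?_
    obtain ⟨b, hb, hba⟩ : ∃ b ∈ Oᶜ, b ≠ a₀ := Set.exists_ne_of_one_lt_ncard (by omega) a₀
    have h1 : Equiv.swap a₀ b ∈ MulAction.stabilizer (Equiv.Perm (Fin (2 * m))) O := by
      rw [← stabilizer_compl]
      exact Equiv.Perm.swap_mem_stabilizer ha₀ hb
    rw [← heq] at h1
    have h2 := hHM h1
    rw [hMa, MulAction.mem_stabilizer_iff] at h2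
    exact hba (by simpa using h2)
  refine ⟨M, H, K, ?_, ?_, hHM, ?_, hK, hHO.trans (hK₀.le.trans hle), ?_⟩
  · apply Equiv.Perm.isCoatom_stabilizer
    · rw [← Set.ncard_pos]; omega
    · simp [s]
    · rw [hs]; simp; omega
  · rw [hMa, MulAction.index_stabilizer_of_transitive]; simp
  · have : H.subgroupOf M = (MulAction.stabilizer (Equiv.Perm s) O').comap φ :=
      Subgroup.comap_map_eq_self_of_injective M.subtype_injective _
    rw [this]
    apply Subgroup.isCoatom_comap_of_surjective hφ
    have := Set.ncard_add_ncard_compl O'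
    apply Equiv.Perm.isCoatom_stabilizer
    · rw [← Set.ncard_pos]; omega
    · rw [← Set.ncard_pos]; omega
    · omega
  · intro hc
    have hSK : MulAction.stabilizer (Equiv.Perm (Fin (2 * m))) O < K := lt_of_lt_of_le hK₀ hle
    have := hc.2 ((MulAction.stabilizer (Equiv.Perm (Fin (2 * m))) O).subgroupOf K) (by
      refine lt_of_le_of_ne (Subgroup.comap_mono hHO) fun heq => hHlt.ne ?_
      rw [Subgroup.subgroupOf_inj, inf_eq_left.mpr hSK.le,
        inf_eq_left.mpr (hHO.trans hSK.le)] at heq
      exact heq)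
    rw [Subgroup.subgroupOf_eq_top] at this
    exact hSK.not_ge this

end Cfsg.Agent.S5894
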