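import Cfsg.Statements.S5921
import Cfsg.Agent.KSG.E81.Cls
import Cfsg.Agent.KSG.E81.M1
import Cfsg.Agent.KSG.E81.M45
import Cfsg.Agent.KSG.E81.M6
import Cfsg.Agent.KSG.E81.N7

set_option autoImplicit false
open Cfsg

namespace Cfsg.Agent.S5921

/-- Let G be the Chevalley group of type E₈ over the field with three elements (generated by its root elements in the 248-dimensional adjoint representation; it is the simple group E₈(3)), let n ∈ {4, 5, 6, 7}, and let H be a subgroup of G whose generalized Fitting subgroup F*(H) is isomorphic to PSL₂(3ⁿ). Then H is not a maximal subgroup of G. Here F denotes a field with 3ⁿ elements. (The case n = 3 is not covered.) -/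
theorem result
    {F : Type*} [Field F] [Fintype F] (n : ℕ) (hn : n = 4 ∨ n = 5 ∨ n = 6 ∨ n = 7) (hF : Fintype.card F = 3 ^ n)
    (H : Subgroup ↥(Cfsg.Lie.chevE8.group (ZMod 3))) (hH : Nonempty (↥(Cfsg.generalizedFittingSubgroup ↥H) ≃* Matrix.ProjectiveSpecialLinearGroup (Fin 2) F)) :
    ¬ IsCoatom H := by
  intro hmax
  obtain ⟨e⟩ := hH
  have e' : ((Cfsg.generalizedFittingSubgroup ↥H).map H.subtype) ≃* Matrix.ProjectiveSpecialLinearGroup (Fin 2) F :=
    (Subgroup.equivMapOfInjective _ _ H.subtype_injective).symm.trans e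
  rcases hn with rfl | rfl | rfl | rfl
  · obtain ⟨D⟩ := CL.E81.exists_dt (F := F) hF
    obtain ⟨θ, E⟩ := CL.E81.exists_emb D H ⟨e⟩
    obtain ⟨a, S⟩ := CL.E81.exists_su D E hmax
    fin_cases a
    · exact S.not1 rfl
    · exact S.not23 (.inl rfl)
    · exact S.not23 (.inr rfl)
    · exact S.not4 rfl
    · exact S.not5 rfl
    · exact S.not6 rfl
  · exact (CL.E83.no243 hF _).false e'
  · exact (CL.E83.no729 hF _).false e'
  · exact (CL.E81.no2187 hF _).false e'

end Cfsg.Agent.S5921
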