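import Cfsg.Statements.S5935
import Cfsg.Agent.KSG.E72.A13
import Cfsg.Agent.KSG.E72.J2
import Cfsg.Agent.KSG.E72.G23
import Cfsg.Agent.KSG.E72.G28
import Cfsg.Agent.KSG.E72.L227
import Cfsg.Agent.KSG.E72.U43
import Cfsg.Agent.S0279

set_option autoImplicit false
open Cfsg

namespace Cfsg.Agent.S5935

/-- The Chevalley group of type E₇ over the field with two elements (generated by its root elements in the adjoint representation; the simple group E₇(2)) has no maximal subgroup H whose generalized Fitting subgroup F*(H) is isomorphic to any of: PSL₂(19), PSL₂(27), PSL₄(3), PSU₄(3), Ω₇(3) (commutator subgroup of the isometry group of a non-degenerate quadratic form in dimension 7 over the field with three elements), the Chevalley group G₂(3), the alternating group of degree 13, the Hall–Janko sporadic group J₂, or the Chevalley group G₂(8). Here F₁₉, F₂₇, F₉, F₈ denote fields with 19, 27, 9 and 8 elements (PSU₄(3)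 is realised over F₉). -/
theorem result
    {F₁₉ F₂₇ F₉ F₈ : Type*} [Field F₁₉] [Fintype F₁₉] (h19 : Fintype.card F₁₉ = 19) [Field F₂₇] [Fintype F₂₇] (h27 : Fintype.card F₂₇ = 27)
    [Field F₉] [Fintype F₉] (h9 : Fintype.card F₉ = 9) [Field F₈] [Fintype F₈] (h8 : Fintype.card F₈ = 8) (H : Subgroup ↥(Cfsg.Lie.chevE7.group (ZMod 2))) (hH : IsCoatom H) :
    IsEmpty (↥(Cfsg.generalizedFittingSubgroup ↥H) ≃* Matrix.ProjectiveSpecialLinearGroup (Fin 2) F₁₉) ∧ IsEmpty (↥(Cfsg.generalizedFittingSubgroup ↥H) ≃* Matrix.ProjectiveSpecialLinearGroup (Fin 2) F₂₇) ∧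
    IsEmpty (↥(Cfsg.generalizedFittingSubgroup ↥H) ≃* Matrix.ProjectiveSpecialLinearGroup (Fin 4) (ZMod 3)) ∧ IsEmpty (↥(Cfsg.generalizedFittingSubgroup ↥H) ≃* Cfsg.PSU 4 F₉ 3) ∧
    IsEmpty (↥(Cfsg.generalizedFittingSubgroup ↥H) ≃* ↥(Cfsg.Omega (ZMod 3) (Cfsg.quadFormOdd 3 (ZMod 3)))) ∧ IsEmpty (↥(Cfsg.generalizedFittingSubgroup ↥H) ≃* ↥(Cfsg.Lie.chevG2.group (ZMod 3))) ∧
    IsEmpty (↥(Cfsg.generalizedFittingSubgroup ↥H) ≃* ↥(alternatingGroup (Fin 13))) ∧ ¬ Cfsg.Spor.IsoJ2 ↥(Cfsg.generalizedFittingSubgroup ↥H) ∧ IsEmpty (↥(Cfsg.generalizedFittingSubgroup ↥H) ≃* ↥(Cfsg.Lie.chevG2.group F₈)) := by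
  refine ⟨⟨fun e => ?_⟩, ⟨fun e => ?_⟩, ⟨fun e => ?_⟩, ⟨fun e => ?_⟩, ⟨fun e => ?_⟩, ⟨fun e => ?_⟩, ⟨fun e => ?_⟩,
    fun ⟨e⟩ => ?_, ⟨fun e => ?_⟩⟩ <;> obtain ⟨ρ, D, N⟩ := CL.E72.exists_rep hH e
  · exact D.no255 (N _ _ (CL.E72.aut_L219 h19) (.inl (by norm_num))) (CL.E72.gen_L219 h19)
  · refine CL.E72.noL227 h27 (D.comp4 (j := QuotientGroup.mk' _) fun g hg => ?_)
      ((N _ _ (CL.E72.aut_L227 h27) (.inr (by norm_num))).comp (QuotientGroup.mk'_surjective _)) ?_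
    · obtain ⟨r, h1, h2⟩ := Matrix.SpecialLinearGroup.mem_center_iff.1 ((QuotientGroup.eq_one_iff g).1 hg)
      exact Subtype.ext (by
        rw [Matrix.SpecialLinearGroup.coe_pow, ← h2, ← map_pow, show 4 = Fintype.card (Fin 2) * 2 from rfl, pow_mul, h1,
          one_pow, map_one]; rfl)
    · refine (congrArg ρ ((QuotientGroup.eq_one_iff _).2 (Matrix.SpecialLinearGroup.mem_center_iff.2 ⟨-1, by simp, ?_⟩))).trans
        (map_one ρ)
      ext i j
      fin_cases i <;> fin_cases j <;> simp [CL.SL2Wt.dg, CL.SL2Wt.mk]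
  · exact D.no255 (N _ _ CL.E72.aut_L43 (.inl (by norm_num))) CL.E72.gen_L43
  · exact CL.E72.noU43 h9 (D.comp4 (j := QuotientGroup.mk' _) fun g hg => congrArg Subtype.val
      (Cfsg.Agent.S0279.result (q := 3) h9 4 (by norm_num) ▸
        pow_card_eq_one' (x := (⟨g, (QuotientGroup.eq_one_iff g).1 hg⟩ : Subgroup.center _)) :))
  · exact CL.E72.noO73 D
  · exact CL.E72.noG23 D
  · exact CL.E72.noA13 D (N _ _ CL.E72.aut_A13 (.inl (by norm_num)))
  · exact CL.E72.noJ2 D (N _ _ CL.E72.aut_J2 (.inl (by norm_num)))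
  · exact CL.E72.noG28 h8 D

end Cfsg.Agent.S5935
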